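import Groth.Agent.AlgSpDec.AffineBcDescent
import Groth.Agent.AlgSpDec.LimDescentRep
import Groth.Agent.AlgSpPts.OpenSub
import Groth.Agent.AlgSpPts.Imm
import Groth.Agent.AlgSpLib.LargestOpen
import Groth.Agent.AlgSpDec.LimOpen

/-!
# An affine open containing a whole fibre of a finite base change descends to a neighbourhood
-/

set_option backward.isDefEq.respectTransparency false
set_option backward.isDefEq.respectTransparency.types false

universe u

open CategoryTheory CategoryTheory.Limits AlgebraicGeometry Opposite AlgSp Groth.Agent.AlgSpLib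
  Groth.Agent.AlgSpDec.BcConn Groth.Agent.AlgSpDec.GeomRed Groth.Agent.AlgSpDec.AffineBc

namespace Groth.Agent.AlgSpDec.FibreAffine

variable {k : Type u} [Field k] {X : Sp (Spec (CommRingCat.of k))}

theorem isSeparatedSp_prod (hsep : IsSeparatedSp X) (U : Over (Spec (CommRingCat.of k))) [IsAffine U.left] :
    IsSeparatedSp (X ⨯ (yon _).obj U) := by
  let t := Groth.Agent.AlgSpPts.isTerminalYon (Spec (CommRingCat.of k))
  have sq : IsPullback (prod.fst : X ⨯ (yon _).obj U ⟶ X) prod.snd (t.from X)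
      ((yon _).map (Over.mkIdTerminal.from U)) :=
    ⟨⟨t.hom_ext _ _⟩, ⟨PullbackCone.IsLimit.mk _
      (fun s => prod.lift s.fst s.snd) (fun s => by simp) (fun s => by simp)
      (fun s m h1 h2 => by apply Limits.prod.hom_ext <;> simp [h1, h2])⟩⟩
  have hfst : RepWith @IsAffineHom (prod.fst : X ⨯ (yon _).obj U ⟶ X) :=
    repWith_of_isPullback sq.flip ((repWith_yon_map_iff _ _).2 (by
      haveI : IsAffine (Over.mk (𝟙 (Spec (CommRingCat.of k)))).left := inferInstanceAs (IsAffine (Spec _))
      exact isAffineHom_of_isAffine _))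
  unfold IsSeparatedSp at hsep ⊢
  rw [Groth.Agent.AlgSpPts.repWith_diag_iff] at hsep ⊢
  have e : t.from (X ⨯ (yon _).obj U) = prod.fst ≫ t.from X := t.hom_ext _ _
  change IsSeparatedMor (t.from (X ⨯ (yon _).obj U))
  rw [e]
  exact Groth.Agent.AlgSpPts.isSeparatedMor_comp (isSeparatedMor_of_repWith_affine hfst) hsep

/-- In a separated space the intersection of two affine opens is affine. -/
theorem exists_affine_inter {Y : Sp (Spec (CommRingCat.of k))} (hsep : IsSeparatedSp Y)
    {T₁ T₂ : Over (Spec (CommRingCat.of k))} [IsAffine T₁.left] [IsAffine T₂.left]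
    {a : (yon _).obj T₁ ⟶ Y} {b : (yon _).obj T₂ ⟶ Y} (ha : RepWith @IsOpenImmersion a)
    (hb : RepWith @IsOpenImmersion b) :
    ∃ (R : Over (Spec (CommRingCat.of k))) (c : (yon _).obj R ⟶ Y), IsAffine R.left ∧
      RepWith @IsOpenImmersion c ∧ Set.range (Points.map c) = Set.range (Points.map a) ∩ Set.range (Points.map b) := by
  let R := ha.rep.pullback b
  have sq := ha.rep.isPullback' b
  have sqd := Groth.Agent.AlgSpPts.isPullback_diag sq ((yon _).map prod.fst) ((yon _).map prod.snd)
    Groth.Agent.AlgSpPts.yon_prod_ext ((yon _).map (prod.lift (ha.rep.fst' b) (ha.rep.snd b)))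
    (by rw [← Functor.map_comp, prod.lift_fst]) (by rw [← Functor.map_comp, prod.lift_snd])
  have hcl : IsClosedImmersion (prod.lift (ha.rep.fst' b) (ha.rep.snd b)).left := hsep.property _ _ _ sqd
  haveI : IsAffine (T₁ ⨯ T₂).left := by
    haveI : IsAffine (pullback T₁.hom T₂.hom) := inferInstance
    exact IsAffine.of_isIso (Over.prodLeftIsoPullback T₁ T₂).hom
  have hR : IsAffine R.left := isAffine_of_isAffineHom (prod.lift (ha.rep.fst' b) (ha.rep.snd b)).left
  refine ⟨R, (yon _).map (ha.rep.snd b) ≫ b, hR,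
    repWith_comp ((repWith_yon_map_iff _ _).2 (ha.property_snd b)) hb, ?_⟩
  refine Set.Subset.antisymm ?_ ?_
  · rintro _ ⟨z, rfl⟩
    refine ⟨⟨Points.map ((yon _).map (ha.rep.fst' b)) z, ?_⟩, ⟨Points.map ((yon _).map (ha.rep.snd b)) z, ?_⟩⟩
    · rw [← Points.map_comp, sq.w]
    · rw [← Points.map_comp]
  · rintro y ⟨⟨z₁, hz₁⟩, ⟨z₂, hz₂⟩⟩
    obtain ⟨z, -, h2⟩ := exists_point_of_isPullback sq (hz₁.trans hz₂.symm)
    exact ⟨z, by rw [Points.map_comp, h2, hz₂]⟩

/-- An affine open of a finite base change containing the whole fibre over a point gives an affine open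
neighbourhood of the point. -/
theorem exists_affine_nhd (hX : IsAlgSpace X) (hsep : IsSeparatedSp X) {L : Type u} [Field L] [Algebra k L]
    [FiniteDimensional k L] {T : Over (Spec (CommRingCat.of k))} [IsAffine T.left]
    (jT : (yon _).obj T ⟶ X ⨯ (yon _).obj (ext (k := k) L)) (hjT : RepWith @IsOpenImmersion jT) (x : Points X)
    (hx : ∀ z, Points.map prod.fst z = x → z ∈ Set.range (Points.map jT)) :
    ∃ (Z : Over (Spec (CommRingCat.of k))) (j : (yon _).obj Z ⟶ X), IsAffine Z.left ∧
      RepWith @IsOpenImmersion j ∧ x ∈ Set.range (Points.map j) := by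
  classical
  let Kb := AlgebraicClosure k
  let Y := X ⨯ (yon _).obj (ext (k := k) Kb)
  haveI : IsAffine (ext (k := k) Kb).left := inferInstanceAs (IsAffine (Spec _))
  have hYs : IsSeparatedSp Y := isSeparatedSp_prod hsep _
  let c : (L →ₐ[k] Kb) → (Y ⟶ X ⨯ (yon _).obj (ext (k := k) L)) := fun ι => chg (specMapOver ι) X
  let W : (L →ₐ[k] Kb) → Set (Points Y) := fun ι => Points.map (c ι) ⁻¹' Set.range (Points.map jT)
  -- each conjugate is affine
  have hW : ∀ ι, ∃ (R : Over (Spec (CommRingCat.of k))) (a : (yon _).obj R ⟶ Y), IsAffine R.left ∧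
      RepWith @IsOpenImmersion a ∧ Set.range (Points.map a) = W ι := fun ι => by
    have hc : RepWith @IsAffineHom (c ι) := repWith_of_isPullback (BcConn.isPullback_prodMap X _)
      ((repWith_yon_map_iff _ _).2 (by
        haveI : IsAffine (ext (k := k) L).left := inferInstanceAs (IsAffine (Spec _))
        exact isAffineHom_of_isAffine _))
    haveI : IsAffineHom (hc.rep.snd jT).left := hc.property_snd jT
    refine ⟨_, hc.rep.fst jT, isAffine_of_isAffineHom (hc.rep.snd jT).left,
      repWith_of_isPullback (hc.rep.isPullback jT).flip hjT, ?_⟩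
    rw [range_map_snd_of_isPullback (hc.rep.isPullback jT).flip]
  have key : ∀ s : Finset (L →ₐ[k] Kb), s.Nonempty → ∃ (R : Over (Spec (CommRingCat.of k)))
      (a : (yon _).obj R ⟶ Y), IsAffine R.left ∧ RepWith @IsOpenImmersion a ∧
        Set.range (Points.map a) = ⋂ ι ∈ s, W ι := fun s hs => by
    induction hs using Finset.Nonempty.cons_induction with
    | singleton ι =>
      obtain ⟨R, a, h1, h2, h3⟩ := hW ι
      exact ⟨R, a, h1, h2, by simp [h3]⟩
    | cons ι s _ _ ih =>
      obtain ⟨R₁, a, h1, h2, h3⟩ := hW ι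
      obtain ⟨R₂, b, g1, g2, g3⟩ := ih
      obtain ⟨R, c', e1, e2, e3⟩ := exists_affine_inter hYs h2 g2
      exact ⟨R, c', e1, e2, by rw [e3, h3, g3]; simp⟩
  haveI : Nonempty (L →ₐ[k] Kb) := ⟨IsAlgClosed.lift⟩
  obtain ⟨R, a, hR, ha, hra⟩ := key Finset.univ Finset.univ_nonempty
  -- the neighbourhood
  let π : Y ⟶ X := prod.fst
  let O : Set (Points X) := (Points.map π '' (Set.range (Points.map a))ᶜ)ᶜ
  have hO : IsOpen O := (isClosedMap_fst (K := Kb) hX _
    (isOpen_range_openImm (Groth.Agent.AlgSpPts.isAlgSpace_prod hX (IsAlgSpace.yon_obj _)) ha).isClosed_compl).isOpen_compl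
  have hchg : ∀ (ι : L →ₐ[k] Kb) z, Points.map prod.fst (Points.map (c ι) z) = Points.map π z := fun ι z => by
    rw [← Points.map_comp, chg_fst]
  have hinv : ∀ z z', Points.map π z = Points.map π z' → z ∈ Set.range (Points.map a) →
      z' ∈ Set.range (Points.map a) := fun z z' hzz' hz => by
    obtain ⟨σ, -, rfl⟩ := exists_gal (toSelf Kb) (chg_eq_of_fst_eq hzz')
    rw [hra, Set.mem_iInter₂] at hz ⊢
    intro ι _
    have := hz ((σ : Kb →ₐ[k] Kb).comp ι) (Finset.mem_univ _)
    simp only [W, Set.mem_preimage] at this ⊢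
    rw [← Points.map_comp, show c ι = chg (specMapOver ι) X from rfl, BcConn.chg_comp]
    have e : galHom σ ≫ specMapOver ι = specMapOver ((σ : Kb →ₐ[k] Kb).comp ι) :=
      Over.OverMorphism.ext (Spec.map_comp _ _).symm
    rw [e]
    exact this
  have hpre : Points.map π ⁻¹' O = Set.range (Points.map a) := by
    ext z
    refine ⟨fun hz => by_contra fun h => hz ⟨z, h, rfl⟩, fun hz => ?_⟩
    rintro ⟨z', hz', he⟩
    exact hz' (hinv z z' he.symm hz)
  obtain ⟨X', j, hX', hj, hr⟩ := Groth.Agent.AlgSpPts.exists_open_subspace hX hO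
  -- the base change of the neighbourhood
  have hxO : x ∈ O := by
    rintro ⟨z, hz, he⟩
    refine hz ?_
    rw [hra, Set.mem_iInter₂]
    exact fun ι _ => hx _ ((hchg ι z).trans he)
  let jK := prod.map j (𝟙 ((yon _).obj (ext (k := k) Kb)))
  have sqj := BcConn.isPullback_prodMap' ((yon _).obj (ext (k := k) Kb)) j
  have hjK : RepWith @IsOpenImmersion jK := repWith_of_isPullback sqj hj
  have hrK : Set.range (Points.map jK) = Set.range (Points.map a) := by
    rw [range_map_snd_of_isPullback sqj, hr, hpre]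
  have hYA : IsAlgSpace Y := Groth.Agent.AlgSpPts.isAlgSpace_prod hX (IsAlgSpace.yon_obj _)
  have hX'A : IsAlgSpace (X' ⨯ (yon _).obj (ext (k := k) Kb)) :=
    Groth.Agent.AlgSpPts.isAlgSpace_prod hX' (IsAlgSpace.yon_obj _)
  obtain ⟨f, hf⟩ := exists_lift_openImmersion (IsAlgSpace.yon_obj R) hX'A hYA hjK a hrK.ge
  obtain ⟨g, hg⟩ := exists_lift_openImmersion hX'A (IsAlgSpace.yon_obj R) hYA ha jK hrK.le
  have := mono_of_openImm hjK
  have := mono_of_openImm ha
  let e : (yon _).obj R ≅ X' ⨯ (yon _).obj (ext (k := k) Kb) :=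
    { hom := f
      inv := g
      hom_inv_id := by rw [← cancel_mono a, Category.assoc, hg, hf, Category.id_comp]
      inv_hom_id := by rw [← cancel_mono jK, Category.assoc, hf, hg, Category.id_comp] }
  haveI := hR
  obtain ⟨Z, hZ, ⟨eZ⟩⟩ := exists_affine_iso_of_bc_affine Kb hX' e
  refine ⟨Z, eZ.hom ≫ j, hZ, MorphismProperty.RespectsIso.precomp _ eZ.hom j hj, ?_⟩
  obtain ⟨w, hw⟩ := (hr.symm ▸ hxO : x ∈ Set.range (Points.map j))
  exact ⟨Points.map eZ.inv w, by rw [← Points.map_comp, eZ.inv_hom_id_assoc]; exact hw⟩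

end Groth.Agent.AlgSpDec.FibreAffine
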