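import Groth.Agent.AlgSpDec.BcGalois
import Groth.Agent.AlgSpDec.LqfSplitZ
import Groth.Agent.AlgSpDec.LimDescent
import Groth.Agent.AlgSpLib.FpqcDescent
import Groth.Agent.AlgSpPts.Misc
import Groth.Agent.EtFound.Descent

/-!
# An algebraic space over a field which becomes affine after a field extension is affine
-/

set_option backward.isDefEq.respectTransparency false
set_option backward.isDefEq.respectTransparency.types false

universe u

open CategoryTheory CategoryTheory.Limits AlgebraicGeometry Opposite AlgSp Groth.Agent.AlgSpLib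
  Groth.Agent.AlgSpDec.GeomRed Groth.Agent.AlgSpDec.BcConn
open scoped TensorProduct

namespace Groth.Agent.AlgSpDec.AffineBc

variable {k : Type u} [Field k] {K : Type u} [Field K] [Algebra k K]

/-- The morphism of affine schemes over a field given by a map of algebras. -/
noncomputable def specMapOver {A B : Type u} [CommRing A] [Algebra k A] [CommRing B] [Algebra k B] (φ : A →ₐ[k] B) :
    specOver k B ⟶ specOver k A :=
  Over.homMk (Spec.map (CommRingCat.ofHom φ.toRingHom)) (by
    simp only [Over.mk_hom]
    rw [← Spec.map_comp, ← CommRingCat.ofHom_comp]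
    congr 2
    exact AlgHom.comp_algebraMap φ)

variable (K)

theorem specIso_natural_alg {A B : Type u} [CommRing A] [Algebra k A] [CommRing B] [Algebra k B] (φ : A →ₐ[k] B) :
    (specIso K B).inv ≫ (prod.map (specMapOver φ) (𝟙 (ext (k := k) K))).left =
      Spec.map (CommRingCat.ofHom (Algebra.TensorProduct.map φ (AlgHom.id k K)).toRingHom) ≫ (specIso K A).inv := by
  rw [← cancel_mono (Over.prodLeftIsoPullback (specOver k A) (ext (k := k) K)).hom]
  apply pullback.hom_ext
  · simp only [Category.assoc, Over.prodLeftIsoPullback_hom_fst, specIso, Iso.trans_inv, Iso.inv_hom_id_assoc]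
    rw [← Over.comp_left, prod.map_fst, Over.comp_left, Over.prodLeftIsoPullback_inv_fst_assoc,
      Over.prodLeftIsoPullback_inv_fst]
    erw [pullbackSpecIso_inv_fst_assoc, pullbackSpecIso_inv_fst]
    simp only [specMapOver, Over.homMk_left, ← Spec.map_comp, ← CommRingCat.ofHom_comp]
    congr 2
  · simp only [Category.assoc, Over.prodLeftIsoPullback_hom_snd, specIso, Iso.trans_inv, Iso.inv_hom_id_assoc]
    rw [← Over.comp_left, prod.map_snd, Category.comp_id, Over.prodLeftIsoPullback_inv_snd,
      Over.prodLeftIsoPullback_inv_snd]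
    erw [pullbackSpecIso_inv_snd, pullbackSpecIso_inv_snd]
    rw [← Spec.map_comp, ← CommRingCat.ofHom_comp]
    congr 2
    exact RingHom.ext fun x => by simp

/-- The global functions on the base change of an affine scheme. -/
noncomputable def bcΓ (A : Type u) [CommRing A] [Algebra k A] :
    CommRingCat.of (A ⊗[k] K) ≅ Γ((specOver k A ⨯ ext (k := k) K).left, ⊤) :=
  (Scheme.ΓSpecIso _).symm ≪≫ asIso (specIso K A).hom.appTop

theorem bcΓ_natural {A B : Type u} [CommRing A] [Algebra k A] [CommRing B] [Algebra k B] (φ : A →ₐ[k] B) :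
    (bcΓ K A).hom ≫ (prod.map (specMapOver φ) (𝟙 (ext (k := k) K))).left.appTop =
      CommRingCat.ofHom (Algebra.TensorProduct.map φ (AlgHom.id k K)).toRingHom ≫ (bcΓ K B).hom := by
  have h : (prod.map (specMapOver φ) (𝟙 (ext (k := k) K))).left ≫ (specIso K A).hom =
      (specIso K B).hom ≫ Spec.map (CommRingCat.ofHom (Algebra.TensorProduct.map φ (AlgHom.id k K)).toRingHom) := by
    rw [← Iso.inv_comp_eq, ← Category.assoc, specIso_natural_alg, Category.assoc, Iso.inv_hom_id, Category.comp_id]
  simp only [bcΓ, Iso.trans_hom, Iso.symm_hom, asIso_hom, Category.assoc]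
  rw [← Scheme.Hom.comp_appTop, h, Scheme.Hom.comp_appTop, ← Category.assoc, ← Category.assoc,
    Scheme.ΓSpecIso_inv_naturality, Category.assoc]

/-- A morphism of schemes over a field which is the base change of an affine scheme over it is affine. -/
theorem isAffine_of_bc {R : Over (Spec (CommRingCat.of k))} [IsAffine (R ⨯ ext (k := k) K).left] :
    IsAffine R.left := by
  have : IsAffine (ext (k := k) K).left := inferInstanceAs (IsAffine (Spec _))
  have h : IsAffineHom (pullback.snd R.hom (ext (k := k) K).hom) := by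
    have : IsAffine (pullback R.hom (ext (k := k) K).hom) :=
      IsAffine.of_isIso (Over.prodLeftIsoPullback R (ext (k := k) K)).inv
    exact isAffineHom_of_isAffine _
  have : Surjective (ext (k := k) K).hom := ⟨fun x => ⟨IsLocalRing.closedPoint K, Subsingleton.elim (α := PrimeSpectrum k) _ _⟩⟩
  have : Flat (ext (k := k) K).hom := by
    simp only [Over.mk_hom]
    exact (HasRingHomProperty.Spec_iff (P := @Flat)).2 (RingHom.flat_algebraMap_iff.2 inferInstance)
  have : QuasiCompact (ext (k := k) K).hom := inferInstanceAs (QuasiCompact (Spec.map _))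
  have := Groth.Agent.EtFound.fpqc_isAffineHom
  have := MorphismProperty.of_pullback_snd_of_descendsAlong (P := @IsAffineHom)
    (Q := @Surjective ⊓ @Flat ⊓ @QuasiCompact) (f := R.hom) (g := (ext (k := k) K).hom)
    ⟨⟨‹_›, ‹_›⟩, inferInstance⟩ h
  exact isAffine_of_isAffineHom R.hom

theorem flat_fst (T : Over (Spec (CommRingCat.of k))) : Flat (prod.fst : T ⨯ ext (k := k) K ⟶ T).left := by
  have : Flat (ext (k := k) K).hom := by
    simp only [Over.mk_hom]
    exact (HasRingHomProperty.Spec_iff (P := @Flat)).2 (RingHom.flat_algebraMap_iff.2 inferInstance)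
  rw [← Over.prodLeftIsoPullback_hom_fst]
  infer_instance

variable {X : Sp (Spec (CommRingCat.of k))}

theorem isPullback_bc {U R : Over (Spec (CommRingCat.of k))} {a : (yon _).obj U ⟶ X} {t s : R ⟶ U}
    (sq : IsPullback ((yon _).map t) ((yon _).map s) a a) :
    IsPullback ((yon _).map (prod.map t (𝟙 (ext (k := k) K)))) ((yon _).map (prod.map s (𝟙 (ext (k := k) K))))
      (bcChart K a) (bcChart K a) := by
  have P2 := ((BcConn.isPullback_prodMap' (ext (k := k) K) s).map (yon _)).paste_horiz sq
  have P1 := isPullback_bcChart K a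
  refine IsPullback.of_right (h₁₂ := (yon _).map (prod.fst : U ⨯ ext (k := k) K ⟶ U)) (h₂₂ := prod.fst)
    (v₁₃ := a) ?_ ?_ P1
  · convert P2 using 1
    · rw [← Functor.map_comp, ← Functor.map_comp, prod.map_fst]
    · rw [bcChart, prod.lift_fst]
  · apply Limits.prod.hom_ext
    · simp only [Category.assoc, bcChart, prod.lift_fst]
      rw [← Functor.map_comp_assoc, ← Functor.map_comp_assoc, prod.map_fst, prod.map_fst, Functor.map_comp,
        Functor.map_comp, Category.assoc, Category.assoc, sq.w]
    · simp only [Category.assoc, bcChart, prod.lift_snd]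
      rw [← Functor.map_comp, ← Functor.map_comp, prod.map_snd, prod.map_snd]

theorem isFpqcCover_fst (T : Over (Spec (CommRingCat.of k))) :
    IsFpqcCover (fun _ : PUnit.{u + 1} => (yon _).obj T ⨯ (yon _).obj (ext (k := k) K))
      (fun _ => (prod.fst : (yon _).obj T ⨯ (yon _).obj (ext (k := k) K) ⟶ (yon _).obj T)) := by
  refine ⟨fun _ => locP_of_repWith ?_, fun W hW m => ?_⟩
  · rw [show (prod.fst : (yon _).obj T ⨯ (yon _).obj (ext (k := k) K) ⟶ (yon _).obj T) =
      inv (prodComparison (yon _) T (ext (k := k) K)) ≫ (yon _).map prod.fst from (inv_prodComparison_map_fst _).symm]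
    exact MorphismProperty.RespectsIso.precomp _ (inv _) _ ((repWith_yon_map_iff _ _).2 (flat_fst K T))
  · obtain ⟨m, rfl⟩ := (yon _).map_surjective m
    have : IsAffine (W ⨯ ext (k := k) K).left := by
      have : IsAffine (ext (k := k) K).left := inferInstanceAs (IsAffine (Spec _))
      have : IsAffine (pullback W.hom (ext (k := k) K).hom) := inferInstance
      exact IsAffine.of_isIso (Over.prodLeftIsoPullback W (ext (k := k) K)).hom
    have hs : Surjective (ext (k := k) K).hom :=
      ⟨fun x => ⟨IsLocalRing.closedPoint K, Subsingleton.elim (α := PrimeSpectrum k) _ _⟩⟩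
    refine ⟨1, fun _ => W ⨯ ext (k := k) K, fun _ => prod.fst, fun _ => this, fun _ => flat_fst K W, fun z => ?_,
      fun _ => ⟨PUnit.unit, (yon _).map (prod.map m (𝟙 _)) ≫ prodComparison (yon _) T (ext (k := k) K), ?_⟩⟩
    · obtain ⟨y, hy⟩ := (pullback.fst W.hom (ext (k := k) K).hom).surjective z
      refine ⟨0, (Over.prodLeftIsoPullback W (ext (k := k) K)).inv y, ?_⟩
      rw [← Scheme.Hom.comp_apply, Over.prodLeftIsoPullback_inv_fst, hy]
    · rw [Category.assoc, prodComparison_fst, ← Functor.map_comp, prod.map_fst, Functor.map_comp]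

theorem exists_affine_iso_of_bc_affine (hX : IsAlgSpace X) {Z : Over (Spec (CommRingCat.of k))} [IsAffine Z.left]
    (e : (yon _).obj Z ≅ X ⨯ (yon _).obj (ext (k := k) K)) :
    ∃ T : Over (Spec (CommRingCat.of k)), IsAffine T.left ∧ Nonempty ((yon _).obj T ≅ X) := by
  -- an affine chart
  have : CompactSpace (Points X) := by
    obtain ⟨U, p, hp, hps⟩ := hX.atlas
    refine ⟨?_⟩
    have hc : CompactSpace (Points ((yon _).obj Z)) :=
      (Groth.Agent.AlgSpPts.isQuasiCompactSp_iff (IsAlgSpace.yon_obj Z)).1
        ((Groth.Agent.AlgSpPts.isQuasiCompactSp_yon_iff Z).2 inferInstance)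
    have hsurj : Function.Surjective (Points.map (e.hom ≫ prod.fst)) := by
      intro x
      obtain ⟨y, hy⟩ := GeomRed.surjective_fst K x hps
      exact ⟨Points.map e.inv y, by rw [← Points.map_comp, e.inv_hom_id_assoc, hy]⟩
    rw [← Set.image_univ_of_surjective hsurj]
    exact hc.isCompact_univ.image (Points.continuous_map _)
  obtain ⟨U₀, a₀, hU₀, ha₀, has₀⟩ :=
    exists_affine_atlas (Groth.Agent.AlgSpLib.isQuasiCompactSp_of_compactSpace hX)
  obtain ⟨φ, hφ⟩ := Spec.map_surjective (U₀.left.isoSpec.inv ≫ U₀.hom)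
  let B := Γ(U₀.left, ⊤)
  let iB : Algebra k B := φ.hom.toAlgebra
  let eU : specOver k B ≅ U₀ := Over.isoMk U₀.left.isoSpec.symm (by
    simp only [Over.mk_hom, Iso.symm_hom]
    rw [← hφ]; rfl)
  let a := (yon _).map eU.hom ≫ a₀
  have ha : RepWith @Etale a := MorphismProperty.RespectsIso.precomp _ ((yon _).map eU.hom) a₀ ha₀
  have has : RepWith @Surjective a := MorphismProperty.RespectsIso.precomp _ ((yon _).map eU.hom) a₀ has₀
  -- the chart of the base change
  obtain ⟨g, hg⟩ := (yon _).map_surjective (bcChart K a ≫ e.inv)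
  have hge : Etale g.left := (repWith_yon_map_iff _ g).1 (by
    rw [hg]; exact MorphismProperty.RespectsIso.postcomp _ _ _ (bcChart_etale K ha))
  have hgs : Surjective g.left := (repWith_yon_map_iff _ g).1 (by
    rw [hg]; exact MorphismProperty.RespectsIso.postcomp _ _ _ (bcChart_surjective K has))
  have : IsAffine (specOver k B ⨯ ext (k := k) K).left := IsAffine.of_isIso (specIso K B).hom
  -- the relation
  let R₀ := ha.rep.pullback a
  have sq₀ : IsPullback ((yon _).map (ha.rep.fst' a)) ((yon _).map (ha.rep.snd a)) a a := ha.rep.isPullback' a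
  have sqK := isPullback_bc K sq₀
  have sqg : IsPullback (prod.map (ha.rep.fst' a) (𝟙 (ext (k := k) K))) (prod.map (ha.rep.snd a) (𝟙 (ext (k := k) K)))
      g g := by
    refine IsPullback.of_map (yon _) ?_ ?_
    · apply (yon _).map_injective
      rw [Functor.map_comp, Functor.map_comp, hg, ← Category.assoc, ← Category.assoc, sqK.w]
    · rw [hg]
      exact sqK.of_iso (Iso.refl _) (Iso.refl _) (Iso.refl _) e.symm (by simp) (by simp) (by simp) (by simp)
  have : IsAffine (R₀ ⨯ ext (k := k) K).left := by
    have h := sqg.map (Over.forget _)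
    have : IsAffine (pullback ((Over.forget _).map g) ((Over.forget _).map g)) := inferInstanceAs (IsAffine (pullback g.left g.left))
    exact IsAffine.of_isIso h.isoPullback.hom
  have : IsAffine R₀.left := isAffine_of_bc K
  obtain ⟨ψ, hψ⟩ := Spec.map_surjective (R₀.left.isoSpec.inv ≫ R₀.hom)
  let C := Γ(R₀.left, ⊤)
  let iC : Algebra k C := ψ.hom.toAlgebra
  let eR : specOver k C ≅ R₀ := Over.isoMk R₀.left.isoSpec.symm (by
    simp only [Over.mk_hom, Iso.symm_hom]
    rw [← hψ]; rfl)
  have hmor : ∀ m : specOver k C ⟶ specOver k B, ∃ φ : B →ₐ[k] C, specMapOver φ = m := fun m => by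
    obtain ⟨q, hq⟩ := Spec.map_surjective m.left
    refine ⟨{ q.hom with commutes' := fun x => ?_ }, Over.OverMorphism.ext hq⟩
    have h := Over.w m
    rw [← hq] at h
    simp only [Over.mk_hom, ← Spec.map_comp] at h
    exact RingHom.congr_fun (congrArg CommRingCat.Hom.hom (Spec.map_injective h)) x
  obtain ⟨φ₁, hφ₁⟩ := hmor (eR.hom ≫ ha.rep.fst' a)
  obtain ⟨φ₂, hφ₂⟩ := hmor (eR.hom ≫ ha.rep.snd a)
  -- the affine scheme of invariants
  let A := AlgHom.equalizer φ₁ φ₂
  let T := specOver k A
  let p : specOver k B ⟶ T := specMapOver A.val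
  have hp : ha.rep.fst' a ≫ p = ha.rep.snd a ≫ p := by
    rw [← cancel_epi eR.hom, ← Category.assoc, ← Category.assoc, ← hφ₁, ← hφ₂]
    refine Over.OverMorphism.ext ?_
    simp only [p, specMapOver, Over.comp_left, Over.homMk_left, ← Spec.map_comp, ← CommRingCat.ofHom_comp]
    congr 2
    exact RingHom.ext fun x => x.2
  have := isLocallySurjective_of_etale_surjective ha has
  obtain ⟨f, hf⟩ := exists_desc_of_kernelPair sq₀ ((yon _).map p) (by rw [← Functor.map_comp, ← Functor.map_comp, hp])
  -- the map after base change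
  obtain ⟨h, hh⟩ := (yon _).map_surjective
    (e.hom ≫ prod.map f (𝟙 _) ≫ inv (prodComparison (yon _) T (ext (k := k) K)))
  have hgh : g ≫ h = prod.map p (𝟙 (ext (k := k) K)) := by
    apply (yon _).map_injective
    rw [Functor.map_comp, hg, hh, Category.assoc, e.inv_hom_id_assoc, ← Category.assoc, IsIso.comp_inv_eq]
    apply Limits.prod.hom_ext
    · simp only [Category.assoc, prod.map_fst, prodComparison_fst, bcChart, prod.lift_fst_assoc, hf,
        ← Functor.map_comp]
    · simp only [Category.assoc, prod.map_snd, prodComparison_snd, bcChart, prod.lift_snd, Category.comp_id,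
        ← Functor.map_comp]
  have : IsAffine (T ⨯ ext (k := k) K).left := IsAffine.of_isIso (specIso K A).hom
  -- functions
  have hginj : Function.Injective g.left.appTop :=
    RingHom.FaithfullyFlat.injective (Flat.flat_and_surjective_iff_faithfullyFlat_of_isAffine (f := g.left) |>.1
      ⟨inferInstance, hgs⟩)
  have hcomp : h.left.appTop ≫ g.left.appTop = (prod.map p (𝟙 (ext (k := k) K))).left.appTop := by
    rw [← Scheme.Hom.comp_appTop, ← Over.comp_left, hgh]
  let M : ∀ {D D' : Type u} [CommRing D] [Algebra k D] [CommRing D'] [Algebra k D'], (D →ₐ[k] D') →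
      (D ⊗[k] K →ₐ[k] D' ⊗[k] K) := fun φ => Algebra.TensorProduct.map φ (AlgHom.id k K)
  let L : B →ₗ[k] C := φ₁.toLinearMap - φ₂.toLinearMap
  have hL : ∀ x, L.rTensor K x = M φ₁ x - M φ₂ x := by
    intro x
    induction x using TensorProduct.induction_on with
    | zero => simp
    | add x y hx hy => simp only [map_add, hx, hy]; abel
    | tmul x y => simp [L, M, TensorProduct.sub_tmul]
  have hex : Function.Exact A.val.toLinearMap L := fun b => by
    constructor
    · intro h
      exact ⟨⟨b, sub_eq_zero.1 h⟩, rfl⟩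
    · rintro ⟨x, rfl⟩
      exact sub_eq_zero.2 x.2
  have hex' := Module.Flat.rTensor_exact K hex
  have hMinj : Function.Injective (M A.val) :=
    Module.Flat.rTensor_preserves_injective_linearMap (M := K) A.val.toLinearMap Subtype.val_injective
  have hpnat : ∀ x, (prod.map p (𝟙 (ext (k := k) K))).left.appTop ((bcΓ K A).hom x) = (bcΓ K B).hom (M A.val x) :=
    fun x => congrArg (fun w => w x) (bcΓ_natural K A.val)
  have hbij : Function.Bijective h.left.appTop := by
    refine ⟨fun x y hxy => ?_, fun z => ?_⟩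
    · have h1 : (prod.map p (𝟙 (ext (k := k) K))).left.appTop x = (prod.map p (𝟙 (ext (k := k) K))).left.appTop y := by
        rw [← hcomp]; exact congrArg g.left.appTop hxy
      obtain ⟨x, rfl⟩ := (ConcreteCategory.bijective_of_isIso (bcΓ K A).hom).2 x
      obtain ⟨y, rfl⟩ := (ConcreteCategory.bijective_of_isIso (bcΓ K A).hom).2 y
      rw [hpnat, hpnat] at h1
      exact congrArg _ (hMinj ((ConcreteCategory.bijective_of_isIso (bcΓ K B).hom).1 h1))
    · obtain ⟨u, hu⟩ := (ConcreteCategory.bijective_of_isIso (bcΓ K B).hom).2 (g.left.appTop z)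
      have key : ∀ (m : R₀ ⟶ specOver k B) (φ : B →ₐ[k] C), specMapOver φ = eR.hom ≫ m →
          (bcΓ K C).hom (M φ u) = (prod.map eR.hom (𝟙 (ext (k := k) K))).left.appTop
            ((prod.map m (𝟙 (ext (k := k) K))).left.appTop (g.left.appTop z)) := by
        intro m φ hm
        have h1 := congrArg (fun w => w u) (bcΓ_natural K φ)
        rw [hm, show prod.map (eR.hom ≫ m) (𝟙 (ext (k := k) K)) =
          prod.map eR.hom (𝟙 _) ≫ prod.map m (𝟙 _) by rw [prod.map_map, Category.comp_id]] at h1
        simp only [Over.comp_left, Scheme.Hom.comp_appTop] at h1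
        rw [← hu]
        exact h1.symm
      have hu0 : L.rTensor K u = 0 := by
        rw [hL, sub_eq_zero]
        apply (ConcreteCategory.bijective_of_isIso (bcΓ K C).hom).1
        rw [key _ φ₁ hφ₁, key _ φ₂ hφ₂]
        have := congrArg (fun w => w.left.appTop z) sqg.w
        simp only [Over.comp_left, Scheme.Hom.comp_appTop] at this
        exact congrArg _ this
      obtain ⟨v, hv⟩ := (hex' u).1 hu0
      refine ⟨(bcΓ K A).hom v, hginj ?_⟩
      have := hpnat v
      rw [← hcomp] at this
      refine this.trans ?_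
      rw [← hu]
      exact congrArg _ hv
  have : IsIso h.left := by
    have : IsIso h.left.appTop := (ConcreteCategory.isIso_iff_bijective _).2 hbij
    exact (MorphismProperty.isomorphisms.iff _).1
      ((MorphismProperty.arrow_mk_iso_iff (MorphismProperty.isomorphisms _) (arrowIsoSpecΓOfIsAffine h.left)).2
        (inferInstanceAs (IsIso (Spec.map h.left.appTop))))
  have : IsIso h := by
    have : IsIso ((Over.forget _).map h) := this
    exact isIso_of_reflects_iso h (Over.forget _)
  have hfK : IsIso (prod.map f (𝟙 ((yon _).obj (ext (k := k) K)))) := by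
    have : prod.map f (𝟙 ((yon _).obj (ext (k := k) K))) =
        e.inv ≫ (yon _).map h ≫ prodComparison (yon _) T (ext (k := k) K) := by
      rw [hh]; simp
    rw [this]; infer_instance
  -- descent
  have hc := isFpqcCover_fst K T
  have := isIso_of_fpqc (q := fun _ : PUnit.{u + 1} => (prod.fst : X ⨯ (yon _).obj (ext (k := k) K) ⟶ X))
    (p := fun _ => prod.map f (𝟙 _)) hX (IsAlgSpace.yon_obj T)
    (fun _ => Groth.Agent.AlgSpPts.isAlgSpace_prod (IsAlgSpace.yon_obj T) (IsAlgSpace.yon_obj _))
    (fun _ => Groth.Agent.AlgSpPts.isAlgSpace_prod hX (IsAlgSpace.yon_obj _)) hc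
    (fun _ => BcConn.isPullback_prodMap' ((yon _).obj (ext (k := k) K)) f) (fun _ => hfK)
  exact ⟨T, inferInstanceAs (IsAffine (Spec _)), ⟨(asIso f).symm⟩⟩

end Groth.Agent.AlgSpDec.AffineBc
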