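import Mathlib

/-!
# A closed point of a finitely generated parameter space avoiding a closed subset of a generic fibre
-/

universe u v w

open scoped TensorProduct

namespace Groth.Agent.AlgSpDec.SpreadAlg

/-- For a field `F` and a finitely generated domain `A` over `k` with `Spec (F ⊗ A)` irreducible and an
element `P` which is not nilpotent there is a maximal ideal `m` of `A` with `P` invertible on every point
of `Spec (F ⊗ A)` over `m`. -/
theorem exists_maximal_avoid {k : Type u} [Field k] {F : Type v} [Field F] [Algebra k F] {A : Type w} [CommRing A]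
    [IsDomain A] [Algebra k A] [Algebra.FiniteType k A] (hirr : (nilradical (F ⊗[k] A)).IsPrime)
    (P : F ⊗[k] A) (hP : ¬ IsNilpotent P) :
    ∃ m : Ideal A, m.IsMaximal ∧ FiniteDimensional k (A ⧸ m) ∧
      ∀ p : Ideal (F ⊗[k] A), p.IsPrime →
        p.comap (Algebra.TensorProduct.includeRight (R := k) (A := F) (B := A)).toRingHom = m → P ∉ p := by
  classical
  obtain ⟨s, hs⟩ := exists_isTranscendenceBasis k F
  let ι : MvPolynomial s k →ₐ[k] F := MvPolynomial.aeval ((↑) : s → F)
  have hι : Function.Injective ι := hs.1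
  let e := MvPolynomial.algebraTensorAlgEquiv k A (σ := s)
  -- polynomials with coefficients in `A`
  let φ : MvPolynomial s A →ₐ[k] F ⊗[k] A :=
    ((Algebra.TensorProduct.map ι (AlgHom.id k A)).comp
      (Algebra.TensorProduct.comm k A (MvPolynomial s k)).toAlgHom).comp (e.symm.toAlgHom.restrictScalars k)
  have hφ : Function.Injective φ := by
    have h1 : Function.Injective (Algebra.TensorProduct.map ι (AlgHom.id k A)) :=
      Module.Flat.rTensor_preserves_injective_linearMap (M := A) ι.toLinearMap hι
    exact (h1.comp (Algebra.TensorProduct.comm k A (MvPolynomial s k)).injective).comp e.symm.injective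
  have hφC : ∀ a, φ (MvPolynomial.C a) = (1 : F) ⊗ₜ a := by
    intro a
    have : e.symm (MvPolynomial.C a) = a ⊗ₜ (1 : MvPolynomial s k) := e.symm.commutes a
    simp [φ, this]
  have hφk : ∀ g : MvPolynomial s k, φ (MvPolynomial.map (algebraMap k A) g) = ι g ⊗ₜ (1 : A) := by
    intro g
    have : e ((1 : A) ⊗ₜ g) = MvPolynomial.map (algebraMap k A) g := by
      simp [e, MvPolynomial.algebraTensorAlgEquiv_tmul]
    simp [φ, ← this]
  let N := nilradical (F ⊗[k] A)
  let D := (F ⊗[k] A) ⧸ N
  let π : F ⊗[k] A →+* D := Ideal.Quotient.mk N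
  haveI : IsDomain D := Ideal.Quotient.isDomain N
  let ψ : MvPolynomial s A →+* D := π.comp φ.toRingHom
  have hψ : Function.Injective ψ := by
    rw [injective_iff_map_eq_zero]
    intro x hx
    have h1 : IsNilpotent (φ x) := mem_nilradical.1 (Ideal.Quotient.eq_zero_iff_mem.1 hx)
    exact ((IsNilpotent.map_iff hφ).1 h1).eq_zero
  let algD : Algebra (MvPolynomial s A) D := ψ.toAlgebra
  haveI : FaithfulSMul (MvPolynomial s A) D := (faithfulSMul_iff_algebraMap_injective _ _).2 hψ
  have halg : ∀ x, IsAlgebraic (MvPolynomial s A) (π x) := by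
    intro x
    induction x using TensorProduct.induction_on with
    | zero => rw [map_zero]; exact isAlgebraic_zero
    | add x y hx hy => rw [map_add]; exact hx.add hy
    | tmul f a =>
      have : π (f ⊗ₜ a) = π (f ⊗ₜ 1) * π (1 ⊗ₜ a) := by rw [← map_mul]; simp
      rw [this]
      refine IsAlgebraic.mul ?_ ?_
      · obtain ⟨g, hg0, hg⟩ := (hs.isAlgebraic.isAlgebraic f)
        let emb : Algebra.adjoin k (Set.range ((↑) : s → F)) →+* MvPolynomial s A :=
          (MvPolynomial.map (algebraMap k A)).comp hs.1.aevalEquiv.symm.toRingEquiv.toRingHom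
        have hemb : (algebraMap (MvPolynomial s A) D).comp emb =
            (π.comp (Algebra.TensorProduct.includeLeft (R := k) (S := k) (A := F) (B := A)).toRingHom).comp
              (algebraMap _ F) := by
          refine RingHom.ext fun z => ?_
          show π (φ (MvPolynomial.map (algebraMap k A) (hs.1.aevalEquiv.symm z))) = π ((z : F) ⊗ₜ 1)
          rw [hφk]
          congr 2
          exact congrArg Subtype.val (hs.1.aevalEquiv.apply_symm_apply z)
        refine ⟨g.map emb, Polynomial.map_ne_zero_iff ?_ |>.2 hg0, ?_⟩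
        · exact (MvPolynomial.map_injective _ (algebraMap k A).injective).comp hs.1.aevalEquiv.symm.injective
        · rw [Polynomial.aeval_def, Polynomial.eval₂_map, hemb]
          exact (Polynomial.hom_eval₂ g (algebraMap _ F)
            (π.comp (Algebra.TensorProduct.includeLeft (R := k) (S := k) (A := F) (B := A)).toRingHom) f).symm.trans
            (by rw [← Polynomial.aeval_def, hg, map_zero])
      · rw [show π (1 ⊗ₜ a) = algebraMap (MvPolynomial s A) D (MvPolynomial.C a) from congrArg π (hφC a).symm]
        exact isAlgebraic_algebraMap _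
  have hP0 : π P ≠ 0 := fun h => hP (mem_nilradical.1 (Ideal.Quotient.eq_zero_iff_mem.1 h))
  obtain ⟨r, hr0, y, hy⟩ := (halg P).exists_nonzero_dvd (mem_nonZeroDivisors_of_ne_zero hP0)
  obtain ⟨d, hd⟩ := MvPolynomial.ne_zero_iff.1 hr0
  haveI : IsJacobsonRing A := isJacobsonRing_of_finiteType (A := k)
  obtain ⟨m, hm, hdm⟩ : ∃ m : Ideal A, m.IsMaximal ∧ r.coeff d ∉ m := by
    by_contra h
    push Not at h
    have : r.coeff d ∈ (⊥ : Ideal A).jacobson :=
      Submodule.mem_sInf.2 fun m hm => h m hm.2
    rw [IsJacobsonRing.out' (⊥ : Ideal A) Ideal.isRadical_bot] at this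
    exact hd this
  haveI := hm
  haveI : FiniteDimensional k (A ⧸ m) := by
    letI := Ideal.Quotient.field m
    exact finite_of_finite_type_of_isJacobsonRing k (A ⧸ m)
  refine ⟨m, hm, inferInstance, fun p hp hpm hPp => ?_⟩
  haveI := hp
  -- contract to polynomials
  let q : Ideal (MvPolynomial s A) := p.comap φ.toRingHom
  have hrq : r ∈ q := by
    have h1 : π (φ r) = π P * y := hy
    obtain ⟨y', rfl⟩ := Ideal.Quotient.mk_surjective y
    rw [← map_mul, Ideal.Quotient.eq] at h1
    have h2 : φ r - P * y' ∈ p := nilradical_le_prime p h1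
    have := p.add_mem h2 (p.mul_mem_right y' hPp)
    simpa [q] using this
  have hqm : ∀ a ∈ m, MvPolynomial.C a ∈ q := fun a ha => by
    show φ (MvPolynomial.C a) ∈ p
    rw [hφC]
    rw [← hpm] at ha
    exact ha
  let L := A ⧸ m
  let mp : MvPolynomial s A →+* MvPolynomial s L := MvPolynomial.map (Ideal.Quotient.mk m)
  have hker : RingHom.ker mp ≤ q := by
    rw [MvPolynomial.ker_map, Ideal.mk_ker, Ideal.map_le_iff_le_comap]
    exact hqm
  have hsur : Function.Surjective mp := MvPolynomial.map_surjective _ Ideal.Quotient.mk_surjective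
  let q' : Ideal (MvPolynomial s L) := q.map mp
  haveI : q.IsPrime := inferInstance
  haveI : q'.IsPrime := Ideal.map_isPrime_of_surjective hsur hker
  have hq' : ∀ x, mp x ∈ q' → x ∈ q := fun x hx => by
    have h1 : x ∈ q'.comap mp := hx
    rw [Ideal.comap_map_of_surjective _ hsur] at h1
    exact sup_le le_rfl hker h1
  let alg : Algebra (MvPolynomial s k) (MvPolynomial s L) := (MvPolynomial.map (algebraMap k L)).toAlgebra
  haveI : Algebra.IsIntegral (MvPolynomial s k) (MvPolynomial s L) := ⟨fun x => by
    induction x using MvPolynomial.induction_on with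
    | C l =>
      obtain ⟨g, hgm, hg⟩ := Algebra.IsIntegral.isIntegral (R := k) l
      refine ⟨g.map MvPolynomial.C, hgm.map _, ?_⟩
      rw [Polynomial.eval₂_map]
      have : (algebraMap (MvPolynomial s k) (MvPolynomial s L)).comp MvPolynomial.C =
          MvPolynomial.C.comp (algebraMap k L) := RingHom.ext fun z => MvPolynomial.map_C _ _
      rw [this, ← Polynomial.hom_eval₂, hg, map_zero]
    | add p₁ p₂ h₁ h₂ => exact h₁.add h₂
    | mul_X p i hp =>
      refine hp.mul ?_
      have : algebraMap (MvPolynomial s k) (MvPolynomial s L) (MvPolynomial.X i) = MvPolynomial.X i :=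
        MvPolynomial.map_X _ _
      rw [← this]
      exact isIntegral_algebraMap⟩
  have h0 : q'.comap (algebraMap (MvPolynomial s k) (MvPolynomial s L)) = ⊥ := by
    rw [eq_bot_iff]
    intro g hg
    have h1 : mp (MvPolynomial.map (algebraMap k A) g) ∈ q' := by
      have : mp (MvPolynomial.map (algebraMap k A) g) = MvPolynomial.map (algebraMap k L) g := by
        rw [MvPolynomial.map_map]; rfl
      rw [this]; exact hg
    have h2 := hq' _ h1
    rw [Ideal.mem_comap] at h2
    change φ (MvPolynomial.map (algebraMap k A) g) ∈ p at h2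
    rw [hφk] at h2
    by_contra hg0
    refine hp.ne_top (Ideal.eq_top_of_isUnit_mem _ h2 ?_)
    exact ((isUnit_iff_ne_zero.2 fun h => hg0 (hι (h.trans (map_zero ι).symm))).map
      (Algebra.TensorProduct.includeLeft (R := k) (S := k) (A := F) (B := A)))
  have h3 : mp r ∈ q' := Ideal.mem_map_of_mem _ hrq
  rw [Ideal.eq_bot_of_comap_eq_bot h0, Ideal.mem_bot] at h3
  have h4 := congrArg (MvPolynomial.coeff d) h3
  rw [MvPolynomial.coeff_map, MvPolynomial.coeff_zero, Ideal.Quotient.eq_zero_iff_mem] at h4
  exact hdm h4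

end Groth.Agent.AlgSpDec.SpreadAlg
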