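import Groth.Agent.AlgSpDec.FgSystem
import Groth.Agent.AlgSpDec.SpreadAlg
import Groth.Agent.AlgSpDec.AffineBcDescent
import Groth.Agent.AlgSpDec.LimScheme
import Groth.Agent.AlgSpPts.OpenSub
import Groth.Agent.AlgSpLib.LargestOpen

/-!
# Spreading out affine opens of base changes by field extensions
-/

set_option backward.isDefEq.respectTransparency false
set_option backward.isDefEq.respectTransparency.types false

universe u

open CategoryTheory CategoryTheory.Limits AlgebraicGeometry Opposite AlgSp Groth.Agent.AlgSpLib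
  Groth.Agent.AlgSpDec.BcConn Groth.Agent.AlgSpDec.GeomRed Groth.Agent.AlgSpDec.AffineBc
open scoped TensorProduct

namespace Groth.Agent.AlgSpDec.SpreadOut

variable {k : Type u} [Field k]

section Psi

variable {X : Sp (Spec (CommRingCat.of k))} {F : Type u} [CommRing F] [Algebra k F]
  (ξ : (yon _).obj (specOver k F) ⟶ X) (R : Type u) [CommRing R] [Algebra k R]

/-- A point with values in `F ⊗ R` of the base change to `R`. -/
noncomputable def psi : (yon _).obj (specOver k (F ⊗[k] R)) ⟶ X ⨯ (yon _).obj (specOver k R) :=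
  prod.lift ((yon _).map (specMapOver (Algebra.TensorProduct.includeLeft : F →ₐ[k] F ⊗[k] R)) ≫ ξ)
    ((yon _).map (specMapOver (Algebra.TensorProduct.includeRight : R →ₐ[k] F ⊗[k] R)))

variable {R}

theorem specMapOver_comp {A B C : Type u} [CommRing A] [Algebra k A] [CommRing B] [Algebra k B] [CommRing C]
    [Algebra k C] (f : A →ₐ[k] B) (g : B →ₐ[k] C) : specMapOver g ≫ specMapOver f = specMapOver (g.comp f) :=
  Over.OverMorphism.ext (Spec.map_comp _ _).symm

theorem psi_natural {R' : Type u} [CommRing R'] [Algebra k R'] (φ : R →ₐ[k] R') :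
    psi ξ R' ≫ prod.map (𝟙 X) ((yon _).map (specMapOver φ)) =
      (yon _).map (specMapOver (Algebra.TensorProduct.map (AlgHom.id k F) φ)) ≫ psi ξ R := by
  apply Limits.prod.hom_ext
  · simp only [psi, Category.assoc, prod.map_fst, Category.comp_id, prod.lift_fst]
    rw [← Category.assoc ((yon _).map _), ← Functor.map_comp, specMapOver_comp]
    congr 3
    exact AlgHom.ext fun x => by simp
  · simp only [psi, Category.assoc, prod.map_snd, prod.lift_snd]
    rw [prod.lift_snd_assoc, ← Functor.map_comp, ← Functor.map_comp, specMapOver_comp, specMapOver_comp]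
    congr 2

end Psi

variable {X : Sp (Spec (CommRingCat.of k))} {F : Type u} [Field F] [Algebra k F]

/-- The points over a point given by a field valued point. -/
theorem exists_psi_point (ξ : (yon _).obj (specOver k F) ⟶ X) (L : Type u) [Field L] [Algebra k L]
    (z : Points (X ⨯ (yon _).obj (ext (k := k) L)))
    (hz : Points.map prod.fst z = Points.ofPt ξ (IsLocalRing.closedPoint F)) :
    ∃ p : PrimeSpectrum (F ⊗[k] L), Points.ofPt (psi ξ L) p = z := by
  obtain ⟨w, -, hw⟩ := exists_point_of_isPullback (isPullback_bcChart L ξ)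
    (x := Points.ofScheme _ (IsLocalRing.closedPoint F)) (y := z)
    ((Points.ofPt_eq_map_ofScheme ξ _).symm.trans hz.symm)
  obtain ⟨w, rfl⟩ := (Points.schemeHomeo _).surjective w
  refine ⟨(specIso L F).hom w, ?_⟩
  let i : specOver k (F ⊗[k] L) ⟶ specOver k F ⨯ ext (k := k) L :=
    prod.lift (specMapOver Algebra.TensorProduct.includeLeft) (specMapOver Algebra.TensorProduct.includeRight)
  have hi : (yon _).map i ≫ bcChart L ξ = psi ξ L := by
    apply Limits.prod.hom_ext
    · simp only [psi, bcChart, Category.assoc, prod.lift_fst]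
      rw [← Category.assoc ((yon _).map i), ← Functor.map_comp, prod.lift_fst]
    · simp only [psi, bcChart, Category.assoc, prod.lift_snd]
      rw [← Functor.map_comp, prod.lift_snd]
  have hil : i.left = (specIso L F).inv := by
    rw [← cancel_mono (Over.prodLeftIsoPullback (specOver k F) (ext (k := k) L)).hom]
    apply pullback.hom_ext
    · simp only [Category.assoc, Over.prodLeftIsoPullback_hom_fst, specIso, Iso.trans_inv, Iso.inv_hom_id_assoc]
      rw [← Over.comp_left, prod.lift_fst]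
      rw [Over.prodLeftIsoPullback_inv_fst]
      erw [pullbackSpecIso_inv_fst]
      rfl
    · simp only [Category.assoc, Over.prodLeftIsoPullback_hom_snd, specIso, Iso.trans_inv, Iso.inv_hom_id_assoc]
      rw [← Over.comp_left, prod.lift_snd]
      rw [Over.prodLeftIsoPullback_inv_snd]
      erw [pullbackSpecIso_inv_snd]
      rfl
  rw [← hi, ofPt_comp, hil]
  have : (specIso L F).inv ((specIso L F).hom w) = w := by
    rw [← Scheme.Hom.comp_apply, Iso.hom_inv_id]; rfl
  erw [this]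
  rw [← hw, Points.ofPt_eq_map_ofScheme]
  rfl

theorem isPullback_prod (X : Sp (Spec (CommRingCat.of k))) (U : Over (Spec (CommRingCat.of k))) :
    IsPullback (prod.fst : X ⨯ (yon _).obj U ⟶ X) prod.snd
      ((Groth.Agent.AlgSpPts.isTerminalYon _).from X) ((yon _).map (Over.mkIdTerminal.from U)) :=
  ⟨⟨(Groth.Agent.AlgSpPts.isTerminalYon _).hom_ext _ _⟩, ⟨PullbackCone.IsLimit.mk _
    (fun s => prod.lift s.fst s.snd) (fun s => by simp) (fun s => by simp)
    (fun s m h1 h2 => by apply Limits.prod.hom_ext <;> simp [h1, h2])⟩⟩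

theorem exists_qc_open (hX : IsAlgSpace X) {K : Set (Points X)} (hK : IsCompact K) :
    ∃ O : Set (Points X), IsOpen O ∧ IsCompact O ∧ K ⊆ O := by
  obtain ⟨U, a, ha, has⟩ := hX.atlas
  obtain ⟨s, hs⟩ := hK.elim_finite_subcover (fun V : U.left.affineOpens => Points.ofPt a '' (V.1 : Set U.left))
    (fun V => isOpenMap_ofPt ha _ V.1.2) fun x _ => by
      obtain ⟨v, rfl⟩ := surjective_ofPt has x
      obtain ⟨V, hV, hv, -⟩ := exists_isAffineOpen_mem_and_subset (x := v) (U := (⊤ : U.left.Opens)) trivial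
      exact Set.mem_iUnion.2 ⟨⟨V, hV⟩, v, hv, rfl⟩
  refine ⟨_, ?_, ?_, hs⟩
  · exact isOpen_biUnion fun V _ => isOpenMap_ofPt ha _ V.1.2
  · exact s.isCompact_biUnion fun V _ => V.2.isCompact.image (Points.continuous_ofPt a)

theorem isQuasiSeparatedSp_of_mono {F G : Sp (Spec (CommRingCat.of k))} (j : F ⟶ G) [Mono j]
    (h : IsQuasiSeparatedSp G) : IsQuasiSeparatedSp F := by
  rw [Groth.Agent.AlgSpPts.isQuasiSeparatedSp_iff_mor,
    (Groth.Agent.AlgSpPts.isTerminalYon _).hom_ext ((Groth.Agent.AlgSpPts.isTerminalYon _).from F)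
      (j ≫ (Groth.Agent.AlgSpPts.isTerminalYon _).from _)]
  exact Groth.Agent.AlgSpPts.isQuasiSeparatedMor_comp (repWith_of_isIso _ _) ((Groth.Agent.AlgSpPts.isQuasiSeparatedSp_iff_mor _).1 h)

/-- An affine open of a base change meeting the generic fibre over a point gives, over a finite extension, an
affine open containing the whole fibre over the point. -/
theorem exists_affine_of_spread (hX : IsAlgSpace X) (hqs : IsQuasiSeparatedSp X)
    (ξ : (yon _).obj (specOver k F) ⟶ X) {Ω : Type u} [Field Ω] [Algebra k Ω]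
    (hirr : (nilradical (F ⊗[k] Ω)).IsPrime)
    {W : Over (Spec (CommRingCat.of k))} [IsAffine W.left]
    (jW : (yon _).obj W ⟶ X ⨯ (yon _).obj (specOver k Ω)) (hjW : RepWith @IsOpenImmersion jW)
    (hq : Points.ofPt (psi ξ Ω) (⟨_, hirr⟩ : PrimeSpectrum (F ⊗[k] Ω)) ∈ Set.range (Points.map jW)) :
    ∃ (L : Type u) (_ : Field L) (_ : Algebra k L) (_ : FiniteDimensional k L)
      (T : Over (Spec (CommRingCat.of k))) (jT : (yon _).obj T ⟶ X ⨯ (yon _).obj (ext (k := k) L)),
      IsAffine T.left ∧ RepWith @IsOpenImmersion jT ∧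
      ∀ z, Points.map prod.fst z = Points.ofPt ξ (IsLocalRing.closedPoint F) → z ∈ Set.range (Points.map jT) := by
  haveI : Subsingleton ↥(specOver k F).left := inferInstanceAs (Subsingleton (PrimeSpectrum F))
  haveI : IsAffine (specOver k F).left := inferInstanceAs (IsAffine (Spec _))
  -- a quasi-compact open
  have hWc : CompactSpace (Points ((yon _).obj W)) :=
    (Groth.Agent.AlgSpPts.isQuasiCompactSp_iff (IsAlgSpace.yon_obj W)).1
      ((Groth.Agent.AlgSpPts.isQuasiCompactSp_yon_iff W).2 inferInstance)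
  obtain ⟨O, hO, hOc, hKO⟩ := exists_qc_open hX
    ((isCompact_range (f := Points.map (jW ≫ prod.fst)) (Points.continuous_map _)).union
      (isCompact_range (f := Points.ofPt ξ) (Points.continuous_ofPt ξ)))
  obtain ⟨X₀, j₀, hX₀, hj₀, hr₀⟩ := Groth.Agent.AlgSpPts.exists_open_subspace hX hO
  have := mono_of_openImm hj₀
  have hX₀c : IsQuasiCompactSp X₀ := by
    haveI : CompactSpace (Points X₀) := by
      refine ⟨(Groth.Agent.AlgSpPts.isEmbedding_map hX (repWith_mono (P := @IsOpenImmersion) (Q := @IsImmersion)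
        (fun _ _ g (_ : IsOpenImmersion g) => inferInstanceAs (IsImmersion g)) _ hj₀)).isCompact_iff.2 ?_⟩
      rwa [Set.image_univ, hr₀]
    exact isQuasiCompactSp_of_compactSpace hX₀
  have hX₀s : IsQuasiSeparatedSp X₀ := isQuasiSeparatedSp_of_mono j₀ hqs
  obtain ⟨ξ₀, hξ₀⟩ := exists_lift_openImmersion (IsAlgSpace.yon_obj _) hX₀ hX hj₀ ξ (by
    rintro _ ⟨z, rfl⟩
    obtain ⟨z, rfl⟩ := (Points.schemeHomeo _).surjective z
    exact hr₀.symm ▸ hKO (Or.inr ⟨z, Points.ofPt_eq_map_ofScheme ξ z⟩))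
  obtain ⟨g₀, hg₀⟩ := exists_lift_openImmersion (IsAlgSpace.yon_obj _) hX₀ hX hj₀ (jW ≫ prod.fst) (by
    rintro _ ⟨z, rfl⟩
    exact hr₀.symm ▸ hKO (Or.inl ⟨z, rfl⟩))
  -- the system
  let D := FgSys.spDiag Ω X₀
  have hD : ∀ B, IsAlgSpace (D.obj B) := fun B => Groth.Agent.AlgSpPts.isAlgSpace_prod hX₀ (IsAlgSpace.yon_obj _)
  have hDa : ∀ B B' (f : B ⟶ B'), IsAffineMor (D.map f) := fun B B' f => FgSys.isAffineMor_spDiag_map Ω X₀ f
  have hfst : ∀ B, RepWith @IsAffineHom (prod.fst : D.obj B ⟶ X₀) := fun B =>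
    repWith_of_isPullback (isPullback_prod X₀ _).flip
      ((repWith_yon_map_iff _ _).2 (by
        haveI : IsAffine ((FgSys.schDiag k Ω).obj B).left := inferInstanceAs (IsAffine (Spec _))
        haveI : IsAffine (Over.mk (𝟙 (Spec (CommRingCat.of k)))).left := inferInstanceAs (IsAffine (Spec _))
        exact isAffineHom_of_isAffine _))
  have hDqc : ∀ B, IsQuasiCompactSp (D.obj B) := fun B => isQuasiCompactSp_of_affine hX₀ _ (hfst B) hX₀c
  have hDqs : ∀ B, IsQuasiSeparatedSp (D.obj B) := fun B => isQuasiSeparatedSp_of_affine _ (hfst B) hX₀s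
  let c := FgSys.spCone Ω X₀
  have hc := FgSys.isLimit_spCone Ω X₀
  let jm := prod.map j₀ (𝟙 ((yon _).obj (specOver k Ω)))
  let jW₀ : (yon _).obj W ⟶ c.pt := prod.lift g₀ (jW ≫ prod.snd)
  have hjW₀ : jW₀ ≫ jm = jW := by
    apply Limits.prod.hom_ext <;> simp [jW₀, jm, hg₀]
  have : Mono jm := mono_of_openImm
    (repWith_of_isPullback (BcConn.isPullback_prodMap' ((yon _).obj (specOver k Ω)) j₀) hj₀)
  have hjW₀o : RepWith @IsOpenImmersion jW₀ := by
    refine repWith_of_isPullback (snd := jW₀) (fst := 𝟙 _) (f := jW) (g := jm) ?_ hjW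
    exact ⟨⟨by rw [Category.id_comp, hjW₀]⟩, ⟨PullbackCone.IsLimit.mk _ (fun s => s.fst)
      (fun s => Category.comp_id _)
      (fun s => by rw [← cancel_mono jm, Category.assoc, hjW₀, s.condition])
      (fun s m h1 h2 => by simpa using h1)⟩⟩
  -- descend the affine open
  obtain ⟨B₁⟩ : Nonempty (FgSys.Idx k Ω)ᵒᵖ := ⟨op ⟨⊥, Subalgebra.fg_bot⟩⟩
  obtain ⟨B, U, jU, qU, hjU, hUc, sqU⟩ := exists_quasiCompact_open_descends D hD hDa hDqs c hc B₁ (hDqc B₁)
    jW₀ hjW₀o ((Groth.Agent.AlgSpPts.isQuasiCompactSp_yon_iff W).2 inferInstance)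
  have := mono_of_openImm hjU
  obtain ⟨B', φ, T', ra, rb, hT', sqT⟩ := exists_affine_pullback_stage D hD hDa c hc
    (isAlgSpace_of_representable (hD B) jU hjU.rep) hUc (isQuasiSeparatedSp_of_mono jU (hDqs B)) jU
    sqU.flip (inferInstance : IsAffine W.left) (Iso.refl _)
  have hrb : RepWith @IsOpenImmersion rb := repWith_of_isPullback sqT hjU
  -- the generic fibre at this stage
  let A := B'.unop.1
  haveI : Algebra.FiniteType k A := (Subalgebra.fg_iff_finiteType A).1 B'.unop.2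
  let incl : F ⊗[k] A →ₐ[k] F ⊗[k] Ω := Algebra.TensorProduct.map (AlgHom.id k F) A.val
  have hincl : Function.Injective incl :=
    Module.Flat.lTensor_preserves_injective_linearMap (M := F) A.val.toLinearMap Subtype.val_injective
  have hnil : nilradical (F ⊗[k] A) = (nilradical (F ⊗[k] Ω)).comap incl.toRingHom := by
    ext x
    simp only [mem_nilradical, Ideal.mem_comap]
    exact (IsNilpotent.map_iff (f := incl) hincl).symm
  have hirrA : (nilradical (F ⊗[k] A)).IsPrime := hnil ▸ hirr.comap _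
  obtain ⟨w, hw⟩ := hq
  let qA : PrimeSpectrum (F ⊗[k] A) := ⟨_, hirrA⟩
  let V : (Spec (CommRingCat.of (F ⊗[k] A))).Opens :=
    ⟨Points.ofPt (psi ξ₀ A) ⁻¹' Set.range (Points.map rb),
      (isOpen_range_openImm (hD B') hrb).preimage (Points.continuous_ofPt (psi ξ₀ A))⟩
  have hqA : qA ∈ V := by
    have hψ : psi ξ₀ Ω ≫ jm = psi ξ Ω := by
      apply Limits.prod.hom_ext <;> simp [psi, jm, hξ₀]
    have h1 : Points.ofPt (psi ξ₀ Ω) (⟨_, hirr⟩ : PrimeSpectrum (F ⊗[k] Ω)) = Points.map jW₀ w := by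
      apply injective_points_map_of_mono jm
      rw [Points.map_ofPt, hψ, ← Points.map_comp, hjW₀, hw]
    have hfac : jW₀ ≫ c.π.app B = (qU ≫ jU) := sqU.w
    have h2 : Points.map (c.π.app B) (Points.map jW₀ w) = Points.map jU (Points.map qU w) := by
      rw [← Points.map_comp, hfac, Points.map_comp]
    rw [← c.w φ, Points.map_comp] at h2
    obtain ⟨t, -, ht⟩ := exists_point_of_isPullback sqT h2.symm
    refine ⟨t, ?_⟩
    rw [ht, ← h1]
    change Points.map (prod.map (𝟙 X₀) ((yon _).map (specMapOver A.val))) _ = _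
    rw [Points.map_ofPt, psi_natural, ofPt_comp]
    congr 1
    exact PrimeSpectrum.ext hnil.symm
  obtain ⟨_, ⟨P, rfl⟩, hPq, hPV⟩ := PrimeSpectrum.isTopologicalBasis_basic_opens.exists_subset_of_mem_open
    hqA V.2
  obtain ⟨m, hm, hfin, hav⟩ := SpreadAlg.exists_maximal_avoid hirrA P (fun h => hPq (mem_nilradical.2 h))
  -- specialise
  letI : Field (A ⧸ m) := Ideal.Quotient.field m
  let μ : A →ₐ[k] A ⧸ m := Ideal.Quotient.mkₐ k m
  let pr : X₀ ⨯ (yon _).obj (ext (k := k) (A ⧸ m)) ⟶ D.obj B' :=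
    prod.map (𝟙 X₀) ((yon _).map (specMapOver μ))
  have hpr : RepWith @IsAffineHom pr := repWith_of_isPullback (BcConn.isPullback_prodMap X₀ _)
    ((repWith_yon_map_iff _ _).2 (inferInstanceAs (IsAffineHom (Spec.map _))))
  let T := hpr.rep.pullback rb
  let a : (yon _).obj T ⟶ X₀ ⨯ (yon _).obj (ext (k := k) (A ⧸ m)) := hpr.rep.fst rb
  have ha : RepWith @IsOpenImmersion a := repWith_of_isPullback (hpr.rep.isPullback rb).flip hrb
  haveI : IsAffine T'.left := hT'
  haveI : IsAffineHom (hpr.rep.snd rb).left := hpr.property_snd rb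
  haveI : IsAffine T.left := isAffine_of_isAffineHom (hpr.rep.snd rb).left
  let jm' := prod.map j₀ (𝟙 ((yon _).obj (ext (k := k) (A ⧸ m))))
  have hjm' : RepWith @IsOpenImmersion jm' :=
    repWith_of_isPullback (BcConn.isPullback_prodMap' ((yon _).obj (ext (k := k) (A ⧸ m))) j₀) hj₀
  refine ⟨A ⧸ m, inferInstance, inferInstance, hfin, T, a ≫ jm', inferInstance, repWith_comp ha hjm',
    fun z hz => ?_⟩
  obtain ⟨p, rfl⟩ := exists_psi_point ξ (A ⧸ m) z hz
  have hψ : psi ξ₀ (A ⧸ m) ≫ jm' = psi ξ (A ⧸ m) := by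
    apply Limits.prod.hom_ext <;> simp [psi, jm', hξ₀]
  let tm : F ⊗[k] A →ₐ[k] F ⊗[k] (A ⧸ m) := Algebra.TensorProduct.map (AlgHom.id k F) μ
  have hcomap : (p.asIdeal.comap tm.toRingHom).comap
      (Algebra.TensorProduct.includeRight (R := k) (A := F) (B := A)).toRingHom = m := by
    refine (hm.eq_of_le (Ideal.IsPrime.ne_top inferInstance) fun x hx => ?_).symm
    rw [Ideal.mem_comap, Ideal.mem_comap]
    have : tm ((1 : F) ⊗ₜ x) = (1 : F) ⊗ₜ μ x := Algebra.TensorProduct.map_tmul _ _ _ _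
    change tm ((1 : F) ⊗ₜ x) ∈ p.asIdeal
    rw [this, show μ x = 0 from Ideal.Quotient.eq_zero_iff_mem.2 hx, TensorProduct.tmul_zero]
    exact zero_mem _
  have hV : (Spec.map (CommRingCat.ofHom tm.toRingHom)) p ∈ V :=
    hPV (hav _ (inferInstance : (p.asIdeal.comap tm.toRingHom).IsPrime) hcomap)
  obtain ⟨t, ht⟩ := hV
  have h3 : Points.map pr (Points.ofPt (psi ξ₀ (A ⧸ m)) p) = Points.map rb t := by
    rw [Points.map_ofPt, psi_natural, ofPt_comp, ht]
    rfl
  obtain ⟨z', hz', -⟩ := exists_point_of_isPullback (hpr.rep.isPullback rb) h3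
  refine ⟨z', ?_⟩
  rw [Points.map_comp, hz', Points.map_ofPt, hψ]

/-- An affine open of a base change descends to a finitely generated subalgebra, compatibly with a field valued
point. -/
theorem exists_stage_all (hX : IsAlgSpace X) (hqs : IsQuasiSeparatedSp X)
    (ξ : (yon _).obj (specOver k F) ⟶ X) {Ω : Type u} [Field Ω] [Algebra k Ω]
    {W : Over (Spec (CommRingCat.of k))} [IsAffine W.left]
    (jW : (yon _).obj W ⟶ X ⨯ (yon _).obj (specOver k Ω)) (hjW : RepWith @IsOpenImmersion jW) :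
    ∃ (A : Subalgebra k Ω) (_ : A.FG) (V : TopologicalSpace.Opens (PrimeSpectrum (F ⊗[k] A))),
      (∀ q : PrimeSpectrum (F ⊗[k] Ω), Points.ofPt (psi ξ Ω) q ∈ Set.range (Points.map jW) →
        PrimeSpectrum.comap (Algebra.TensorProduct.map (AlgHom.id k F) A.val).toRingHom q ∈ V) ∧
      ∀ (L : Type u) [Field L] [Algebra k L] (μ : A →ₐ[k] L),
        ∃ (T : Over (Spec (CommRingCat.of k))) (jT : (yon _).obj T ⟶ X ⨯ (yon _).obj (ext (k := k) L)),
          IsAffine T.left ∧ RepWith @IsOpenImmersion jT ∧ ∀ p : PrimeSpectrum (F ⊗[k] L),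
            PrimeSpectrum.comap (Algebra.TensorProduct.map (AlgHom.id k F) μ).toRingHom p ∈ V →
              Points.ofPt (psi ξ L) p ∈ Set.range (Points.map jT) := by
  haveI : Subsingleton ↥(specOver k F).left := inferInstanceAs (Subsingleton (PrimeSpectrum F))
  haveI : IsAffine (specOver k F).left := inferInstanceAs (IsAffine (Spec _))
  -- a quasi-compact open
  have hWc : CompactSpace (Points ((yon _).obj W)) :=
    (Groth.Agent.AlgSpPts.isQuasiCompactSp_iff (IsAlgSpace.yon_obj W)).1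
      ((Groth.Agent.AlgSpPts.isQuasiCompactSp_yon_iff W).2 inferInstance)
  obtain ⟨O, hO, hOc, hKO⟩ := exists_qc_open hX
    ((isCompact_range (f := Points.map (jW ≫ prod.fst)) (Points.continuous_map _)).union
      (isCompact_range (f := Points.ofPt ξ) (Points.continuous_ofPt ξ)))
  obtain ⟨X₀, j₀, hX₀, hj₀, hr₀⟩ := Groth.Agent.AlgSpPts.exists_open_subspace hX hO
  have := mono_of_openImm hj₀
  have hX₀c : IsQuasiCompactSp X₀ := by
    haveI : CompactSpace (Points X₀) := by
      refine ⟨(Groth.Agent.AlgSpPts.isEmbedding_map hX (repWith_mono (P := @IsOpenImmersion) (Q := @IsImmersion)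
        (fun _ _ g (_ : IsOpenImmersion g) => inferInstanceAs (IsImmersion g)) _ hj₀)).isCompact_iff.2 ?_⟩
      rwa [Set.image_univ, hr₀]
    exact isQuasiCompactSp_of_compactSpace hX₀
  have hX₀s : IsQuasiSeparatedSp X₀ := isQuasiSeparatedSp_of_mono j₀ hqs
  obtain ⟨ξ₀, hξ₀⟩ := exists_lift_openImmersion (IsAlgSpace.yon_obj _) hX₀ hX hj₀ ξ (by
    rintro _ ⟨z, rfl⟩
    obtain ⟨z, rfl⟩ := (Points.schemeHomeo _).surjective z
    exact hr₀.symm ▸ hKO (Or.inr ⟨z, Points.ofPt_eq_map_ofScheme ξ z⟩))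
  obtain ⟨g₀, hg₀⟩ := exists_lift_openImmersion (IsAlgSpace.yon_obj _) hX₀ hX hj₀ (jW ≫ prod.fst) (by
    rintro _ ⟨z, rfl⟩
    exact hr₀.symm ▸ hKO (Or.inl ⟨z, rfl⟩))
  -- the system
  let D := FgSys.spDiag Ω X₀
  have hD : ∀ B, IsAlgSpace (D.obj B) := fun B => Groth.Agent.AlgSpPts.isAlgSpace_prod hX₀ (IsAlgSpace.yon_obj _)
  have hDa : ∀ B B' (f : B ⟶ B'), IsAffineMor (D.map f) := fun B B' f => FgSys.isAffineMor_spDiag_map Ω X₀ f
  have hfst : ∀ B, RepWith @IsAffineHom (prod.fst : D.obj B ⟶ X₀) := fun B =>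
    repWith_of_isPullback (isPullback_prod X₀ _).flip
      ((repWith_yon_map_iff _ _).2 (by
        haveI : IsAffine ((FgSys.schDiag k Ω).obj B).left := inferInstanceAs (IsAffine (Spec _))
        haveI : IsAffine (Over.mk (𝟙 (Spec (CommRingCat.of k)))).left := inferInstanceAs (IsAffine (Spec _))
        exact isAffineHom_of_isAffine _))
  have hDqc : ∀ B, IsQuasiCompactSp (D.obj B) := fun B => isQuasiCompactSp_of_affine hX₀ _ (hfst B) hX₀c
  have hDqs : ∀ B, IsQuasiSeparatedSp (D.obj B) := fun B => isQuasiSeparatedSp_of_affine _ (hfst B) hX₀s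
  let c := FgSys.spCone Ω X₀
  have hc := FgSys.isLimit_spCone Ω X₀
  let jm := prod.map j₀ (𝟙 ((yon _).obj (specOver k Ω)))
  let jW₀ : (yon _).obj W ⟶ c.pt := prod.lift g₀ (jW ≫ prod.snd)
  have hjW₀ : jW₀ ≫ jm = jW := by
    apply Limits.prod.hom_ext <;> simp [jW₀, jm, hg₀]
  have : Mono jm := mono_of_openImm
    (repWith_of_isPullback (BcConn.isPullback_prodMap' ((yon _).obj (specOver k Ω)) j₀) hj₀)
  have hjW₀o : RepWith @IsOpenImmersion jW₀ := by
    refine repWith_of_isPullback (snd := jW₀) (fst := 𝟙 _) (f := jW) (g := jm) ?_ hjW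
    exact ⟨⟨by rw [Category.id_comp, hjW₀]⟩, ⟨PullbackCone.IsLimit.mk _ (fun s => s.fst)
      (fun s => Category.comp_id _)
      (fun s => by rw [← cancel_mono jm, Category.assoc, hjW₀, s.condition])
      (fun s m h1 h2 => by simpa using h1)⟩⟩
  -- descend the affine open
  obtain ⟨B₁⟩ : Nonempty (FgSys.Idx k Ω)ᵒᵖ := ⟨op ⟨⊥, Subalgebra.fg_bot⟩⟩
  obtain ⟨B, U, jU, qU, hjU, hUc, sqU⟩ := exists_quasiCompact_open_descends D hD hDa hDqs c hc B₁ (hDqc B₁)
    jW₀ hjW₀o ((Groth.Agent.AlgSpPts.isQuasiCompactSp_yon_iff W).2 inferInstance)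
  have := mono_of_openImm hjU
  obtain ⟨B', φ, T', ra, rb, hT', sqT⟩ := exists_affine_pullback_stage D hD hDa c hc
    (isAlgSpace_of_representable (hD B) jU hjU.rep) hUc (isQuasiSeparatedSp_of_mono jU (hDqs B)) jU
    sqU.flip (inferInstance : IsAffine W.left) (Iso.refl _)
  have hrb : RepWith @IsOpenImmersion rb := repWith_of_isPullback sqT hjU
  -- the generic fibre at this stage
  let A := B'.unop.1
  haveI : Algebra.FiniteType k A := (Subalgebra.fg_iff_finiteType A).1 B'.unop.2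
  let V : (Spec (CommRingCat.of (F ⊗[k] A))).Opens :=
    ⟨Points.ofPt (psi ξ₀ A) ⁻¹' Set.range (Points.map rb),
      (isOpen_range_openImm (hD B') hrb).preimage (Points.continuous_ofPt (psi ξ₀ A))⟩
  have hqA : ∀ q : PrimeSpectrum (F ⊗[k] Ω), Points.ofPt (psi ξ Ω) q ∈ Set.range (Points.map jW) →
      PrimeSpectrum.comap (Algebra.TensorProduct.map (AlgHom.id k F) A.val).toRingHom q ∈ V := by
    rintro q ⟨w, hw⟩
    have hψ : psi ξ₀ Ω ≫ jm = psi ξ Ω := by
      apply Limits.prod.hom_ext <;> simp [psi, jm, hξ₀]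
    have h1 : Points.ofPt (psi ξ₀ Ω) q = Points.map jW₀ w := by
      apply injective_points_map_of_mono jm
      rw [Points.map_ofPt, hψ, ← Points.map_comp, hjW₀, hw]
    have hfac : jW₀ ≫ c.π.app B = (qU ≫ jU) := sqU.w
    have h2 : Points.map (c.π.app B) (Points.map jW₀ w) = Points.map jU (Points.map qU w) := by
      rw [← Points.map_comp, hfac, Points.map_comp]
    rw [← c.w φ, Points.map_comp] at h2
    obtain ⟨t, -, ht⟩ := exists_point_of_isPullback sqT h2.symm
    refine ⟨t, ?_⟩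
    rw [ht, ← h1]
    change Points.map (prod.map (𝟙 X₀) ((yon _).map (specMapOver A.val))) _ = _
    rw [Points.map_ofPt, psi_natural, ofPt_comp]
    rfl
  refine ⟨A, B'.unop.2, ⟨V.carrier, V.2⟩, hqA, fun L _ _ μ => ?_⟩
  let pr : X₀ ⨯ (yon _).obj (ext (k := k) L) ⟶ D.obj B' :=
    prod.map (𝟙 X₀) ((yon _).map (specMapOver μ))
  have hpr : RepWith @IsAffineHom pr := repWith_of_isPullback (BcConn.isPullback_prodMap X₀ _)
    ((repWith_yon_map_iff _ _).2 (inferInstanceAs (IsAffineHom (Spec.map _))))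
  let T := hpr.rep.pullback rb
  let a : (yon _).obj T ⟶ X₀ ⨯ (yon _).obj (ext (k := k) L) := hpr.rep.fst rb
  have ha : RepWith @IsOpenImmersion a := repWith_of_isPullback (hpr.rep.isPullback rb).flip hrb
  haveI : IsAffine T'.left := hT'
  haveI : IsAffineHom (hpr.rep.snd rb).left := hpr.property_snd rb
  haveI : IsAffine T.left := isAffine_of_isAffineHom (hpr.rep.snd rb).left
  let jm' := prod.map j₀ (𝟙 ((yon _).obj (ext (k := k) L)))
  have hjm' : RepWith @IsOpenImmersion jm' :=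
    repWith_of_isPullback (BcConn.isPullback_prodMap' ((yon _).obj (ext (k := k) L)) j₀) hj₀
  refine ⟨T, a ≫ jm', inferInstance, repWith_comp ha hjm', fun p hV => ?_⟩
  have hψ : psi ξ₀ L ≫ jm' = psi ξ L := by
    apply Limits.prod.hom_ext <;> simp [psi, jm', hξ₀]
  obtain ⟨t, ht⟩ := hV
  have h3 : Points.map pr (Points.ofPt (psi ξ₀ L) p) = Points.map rb t := by
    rw [Points.map_ofPt, psi_natural, ofPt_comp, ht]
    rfl
  obtain ⟨z', hz', -⟩ := exists_point_of_isPullback (hpr.rep.isPullback rb) h3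
  refine ⟨z', ?_⟩
  rw [Points.map_comp, hz', Points.map_ofPt, hψ]

/-- A stage for a given point. -/
theorem exists_stage (hX : IsAlgSpace X) (hqs : IsQuasiSeparatedSp X)
    (ξ : (yon _).obj (specOver k F) ⟶ X) {Ω : Type u} [Field Ω] [Algebra k Ω]
    {W : Over (Spec (CommRingCat.of k))} [IsAffine W.left]
    (jW : (yon _).obj W ⟶ X ⨯ (yon _).obj (specOver k Ω)) (hjW : RepWith @IsOpenImmersion jW)
    (q : PrimeSpectrum (F ⊗[k] Ω)) (hq : Points.ofPt (psi ξ Ω) q ∈ Set.range (Points.map jW)) :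
    ∃ (A : Subalgebra k Ω) (_ : A.FG) (V : TopologicalSpace.Opens (PrimeSpectrum (F ⊗[k] A))),
      PrimeSpectrum.comap (Algebra.TensorProduct.map (AlgHom.id k F) A.val).toRingHom q ∈ V ∧
      ∀ (L : Type u) [Field L] [Algebra k L] (μ : A →ₐ[k] L),
        ∃ (T : Over (Spec (CommRingCat.of k))) (jT : (yon _).obj T ⟶ X ⨯ (yon _).obj (ext (k := k) L)),
          IsAffine T.left ∧ RepWith @IsOpenImmersion jT ∧ ∀ p : PrimeSpectrum (F ⊗[k] L),
            PrimeSpectrum.comap (Algebra.TensorProduct.map (AlgHom.id k F) μ).toRingHom p ∈ V →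
              Points.ofPt (psi ξ L) p ∈ Set.range (Points.map jT) := by
  obtain ⟨A, hA, V, hV, h⟩ := exists_stage_all hX hqs ξ jW hjW
  exact ⟨A, hA, V, hV q hq, h⟩

/-- An affine open of a base change meeting the fibre over a point gives, over a finite extension, an affine
open meeting the fibre over the point. -/
theorem exists_affine_meet (hX : IsAlgSpace X) (hqs : IsQuasiSeparatedSp X)
    (ξ : (yon _).obj (specOver k F) ⟶ X) {Ω : Type u} [Field Ω] [Algebra k Ω]
    {W : Over (Spec (CommRingCat.of k))} [IsAffine W.left]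
    (jW : (yon _).obj W ⟶ X ⨯ (yon _).obj (specOver k Ω)) (hjW : RepWith @IsOpenImmersion jW)
    (q : PrimeSpectrum (F ⊗[k] Ω)) (hq : Points.ofPt (psi ξ Ω) q ∈ Set.range (Points.map jW)) :
    ∃ (L : Type u) (_ : Field L) (_ : Algebra k L) (_ : FiniteDimensional k L)
      (T : Over (Spec (CommRingCat.of k))) (jT : (yon _).obj T ⟶ X ⨯ (yon _).obj (ext (k := k) L)),
      IsAffine T.left ∧ RepWith @IsOpenImmersion jT ∧
      ∃ z, Points.map prod.fst z = Points.ofPt ξ (IsLocalRing.closedPoint F) ∧ z ∈ Set.range (Points.map jT) := by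
  obtain ⟨A, hA, V, hqV, hV⟩ := exists_stage hX hqs ξ jW hjW q hq
  haveI : Algebra.FiniteType k A := (Subalgebra.fg_iff_finiteType A).1 hA
  let τ : A →+* F ⊗[k] A := (Algebra.TensorProduct.includeRight (R := k) (A := F) (B := A)).toRingHom
  have hop : IsOpen (PrimeSpectrum.comap τ '' V) := by
    have h : IsOpenMap (PrimeSpectrum.comap τ) := by
      have h1 := PrimeSpectrum.isOpenMap_comap_algebraMap_tensorProduct_of_field (K := k) (A := A) (B := F)
      let e := (Algebra.TensorProduct.comm k F A).toRingEquiv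
      have : τ = e.symm.toRingHom.comp (algebraMap A (A ⊗[k] F)) := RingHom.ext fun x => by
        simp [τ, e]
      rw [this, PrimeSpectrum.comap_comp]
      exact h1.comp (PrimeSpectrum.homeomorphOfRingEquiv e).isOpenMap
    exact h _ V.2
  haveI : IsJacobsonRing A := isJacobsonRing_of_finiteType (A := k)
  obtain ⟨m, ⟨p, hpV, hpm⟩, hm⟩ := PrimeSpectrum.exists_isClosed_singleton_of_isJacobsonRing _ hop
    ⟨_, _, hqV, rfl⟩
  have hmax : m.asIdeal.IsMaximal := (PrimeSpectrum.isClosed_singleton_iff_isMaximal m).1 hm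
  letI : Field (A ⧸ m.asIdeal) := Ideal.Quotient.field m.asIdeal
  have hfin : FiniteDimensional k (A ⧸ m.asIdeal) := finite_of_finite_type_of_isJacobsonRing k (A ⧸ m.asIdeal)
  obtain ⟨T, jT, hT, hjT, hp⟩ := hV (A ⧸ m.asIdeal) (Ideal.Quotient.mkₐ k m.asIdeal)
  let tm : F ⊗[k] A →ₐ[k] F ⊗[k] (A ⧸ m.asIdeal) :=
    Algebra.TensorProduct.map (AlgHom.id k F) (Ideal.Quotient.mkₐ k m.asIdeal)
  have hsur : Function.Surjective tm := TensorProduct.map_surjective Function.surjective_id Ideal.Quotient.mk_surjective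
  obtain ⟨p', rfl⟩ : p ∈ Set.range (PrimeSpectrum.comap tm.toRingHom) := by
    rw [_root_.range_comap_of_surjective _ _ hsur, PrimeSpectrum.mem_zeroLocus]
    intro x hx
    have h1 : x ∈ m.asIdeal.map τ := by
      have h2 := Algebra.TensorProduct.lTensor_ker (A := F) (Ideal.Quotient.mkₐ k m.asIdeal) Ideal.Quotient.mk_surjective
      have h3 : x ∈ RingHom.ker tm := hx
      rw [h2] at h3
      have : RingHom.ker (Ideal.Quotient.mkₐ k m.asIdeal) = m.asIdeal := Ideal.Quotient.mkₐ_ker k m.asIdeal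
      rw [this] at h3
      exact h3
    refine Ideal.map_le_iff_le_comap.2 ?_ h1
    rw [← hpm]
    exact le_rfl
  refine ⟨_, inferInstance, inferInstance, hfin, T, jT, hT, hjT, _, ?_, hp p' hpV⟩
  rw [Points.map_ofPt, psi, prod.lift_fst, ofPt_comp]
  congr 1
  exact Subsingleton.elim (α := PrimeSpectrum F) _ _

end Groth.Agent.AlgSpDec.SpreadOut
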