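import Groth.Agent.AlgSpDec.IdComponent
import Groth.Agent.AlgSpDec.SpreadOut
import Groth.Agent.AlgSpDec.FibreAffineDescent
import Groth.Agent.AlgSpDec.OpenGlue

/-!
# Separated group spaces over fields are schemes
-/

set_option backward.isDefEq.respectTransparency false
set_option backward.isDefEq.respectTransparency.types false

universe u

open CategoryTheory CategoryTheory.Limits AlgebraicGeometry Opposite AlgSp Groth.Agent.AlgSpLib
  Groth.Agent.AlgSpDec.BcConn Groth.Agent.AlgSpDec.GeomRed Groth.Agent.AlgSpDec.AffineBc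
  Groth.Agent.AlgSpDec.GrpTranslate Groth.Agent.AlgSpDec.FibreChart Order
open MonoidalCategory MonObj
open scoped TensorProduct

namespace Groth.Agent.AlgSpDec.GroupScheme

variable {k : Type u} [Field k]

/-- A space covered by open subschemes around each of its points is a scheme. -/
theorem isRepresentable_of_nhds {S : Scheme.{u}} {X : Sp S} (hX : IsAlgSpace X)
    (h : ∀ x : Points X, ∃ (Z : Over S) (j : (yon S).obj Z ⟶ X),
      RepWith @IsOpenImmersion j ∧ x ∈ Set.range (Points.map j)) : X.obj.IsRepresentable := by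
  obtain ⟨U, a, ha, has⟩ := hX.atlas
  choose Z j hj hx using fun u : ↥U.left => h (Points.ofPt a u)
  obtain ⟨Q, ⟨eQ⟩, -⟩ := exists_iso_of_open_cover Z j hj fun x => by
    obtain ⟨u, rfl⟩ := surjective_ofPt has x
    obtain ⟨w, hw⟩ := hx u
    exact ⟨u, Points.toScheme _ w, by rw [Points.ofPt_eq_map_ofScheme, Points.ofScheme_toScheme, hw]⟩
  exact isRepresentable_of_iso eQ

variable (G : Over ((yon (Spec (CommRingCat.of k))).obj (Over.mk (𝟙 _)))) [GrpObj G]

/-- Every point of a separated group space over a field has an affine open neighbourhood. -/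
theorem exists_affine_nhd (hG : IsAlgSpace G.left) (hsep : IsSeparatedSp G.left) (x : Points G.left) :
    ∃ (Z : Over (Spec (CommRingCat.of k))) (j : (yon _).obj Z ⟶ G.left), IsAffine Z.left ∧
      RepWith @IsOpenImmersion j ∧ x ∈ Set.range (Points.map j) := by
  have hqs : IsQuasiSeparatedSp G.left :=
    repWith_mono (fun _ _ f (_ : IsClosedImmersion f) => (inferInstance : QuasiCompact f)) _ hsep
  obtain ⟨T, j, κ, _, _, r, hj, hr, hu, hirr⟩ := IdComp.exists_identity_generic G hG hsep
  obtain ⟨F, _, _, ξ, rfl⟩ := exists_field_rep x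
  have hje : RepWith @Etale j := repWith_mono (fun _ _ f (_ : IsOpenImmersion f) => inferInstanceAs (Etale f)) _ hj
  let q : PrimeSpectrum (F ⊗[k] κ) := ⟨_, hirr F⟩
  let inclL : specOver k (F ⊗[k] κ) ⟶ specOver k F := specMapOver Algebra.TensorProduct.includeLeft
  let inclR : specOver k (F ⊗[k] κ) ⟶ specOver k κ := specMapOver Algebra.TensorProduct.includeRight
  let σ : (yon _).obj (specOver k κ) ⟶ G.left := (yon _).map r ≫ j
  let ξF : (yon _).obj (ext (k := k) F) ⟶ G.left := ξ
  let m : (yon _).obj (specOver k (F ⊗[k] κ)) ⟶ G.left :=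
    mul G ((yon _).map inclR ≫ σ) ((yon _).map inclL ≫ ξ)
  -- right translation by the point
  let ρ : G.left ⨯ (yon _).obj (ext (k := k) F) ⟶ G.left ⨯ (yon _).obj (ext (k := k) F) :=
    prod.lift (mul G prod.fst (prod.snd ≫ ξF)) prod.snd
  have : IsIso ρ := by
    refine ⟨prod.lift (mul G prod.fst (prod.snd ≫ inv' G ξF)) prod.snd, ?_, ?_⟩ <;> apply Limits.prod.hom_ext <;>
      simp only [ρ, Category.assoc, prod.lift_fst, prod.lift_snd, Category.id_comp, comp_mul', prod.lift_snd_assoc]
    · rw [mul_assoc', comp_inv', GrpTranslate.mul_inv_self, mul_one']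
    · rw [mul_assoc', comp_inv', GrpTranslate.inv_mul', mul_one']
  -- the product is a point of codimension zero
  have hw : coheight ((fib F r).left q) = 0 := coheight_fib F r hu q fun q' hq' =>
    PrimeSpectrum.ext (le_antisymm hq' (nilradical_le_prime _))
  let z₀ : Points (G.left ⨯ (yon _).obj (ext (k := k) F)) := Points.ofPt (bcChart F j ≫ ρ) ((fib F r).left q)
  obtain ⟨V, b, v, hV, hb, hv⟩ := exists_affine_chart_at hG (Points.map prod.fst z₀)
  obtain ⟨y, hy₁, hy₂⟩ := exists_point_of_isPullback (isPullback_bcChart F b) (x := Points.ofScheme V v)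
    (y := z₀) ((Points.ofPt_eq_map_ofScheme b v).symm.trans hv)
  obtain ⟨y, rfl⟩ := (Points.schemeHomeo _).surjective y
  have hjF : RepWith @Etale (bcChart F j ≫ ρ) :=
    MorphismProperty.RespectsIso.postcomp _ ρ _ (bcChart_etale F hje)
  have hy0 : coheight y = 0 := by
    rw [Groth.Agent.AlgSpPts.coheight_eq_of_charts (bcChart_etale F hb) hjF
      ((Points.ofPt_eq_map_ofScheme _ y).trans hy₂), hw]
  have hv0 : coheight v = 0 := by
    have h1 : (prod.fst : V ⨯ ext (k := k) F ⟶ V).left y = v :=
      (Points.schemeHomeo V).injective ((Points.map_yon_map_apply _ _).symm.trans hy₁)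
    haveI := flat_fst F V
    rw [← h1]
    exact nonpos_iff_eq_zero.1 ((Groth.Agent.AlgSpPts.coheight_le_of_flat _ y).trans hy0.le)
  obtain ⟨T₂, j₂, hj₂, z, hz⟩ := exists_open_subscheme_of_codimZero_qs hG hqs hb v hv0
  obtain ⟨t, rfl⟩ := (Points.schemeHomeo _).surjective z
  obtain ⟨O, hO, htO, -⟩ := exists_isAffineOpen_mem_and_subset (x := t) (U := (⊤ : T₂.left.Opens)) trivial
  let Z : Over (Spec (CommRingCat.of k)) := Over.mk (O.ι ≫ T₂.hom)
  let ιZ : Z ⟶ T₂ := Over.homMk O.ι rfl
  haveI : IsAffine Z.left := hO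
  let jZ := (yon _).map ιZ ≫ j₂
  have hjZ : RepWith @IsOpenImmersion jZ :=
    repWith_comp ((repWith_yon_map_iff _ ιZ).2 (inferInstanceAs (IsOpenImmersion O.ι))) hj₂
  have hm : Points.ofPt m q ∈ Set.range (Points.map jZ) := by
    have h1 : Points.ofPt m q = Points.ofPt b v := by
      rw [hv, Points.map_ofPt, ← ofPt_comp]
      congr 1
      simp only [m, σ, ρ, Category.assoc, bcChart, fib, prod.lift_fst, comp_mul', prod.lift_snd_assoc]
      congr 1
      · rw [← Category.assoc ((yon _).map (prod.lift _ _)), ← Functor.map_comp, prod.lift_fst,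
          ← Category.assoc ((yon _).map inclR), ← Functor.map_comp]
      · rw [← Category.assoc ((yon _).map (prod.lift _ _)), ← Functor.map_comp, prod.lift_snd]
    rw [h1, ← hz]
    refine ⟨Points.ofScheme Z ⟨t, htO⟩, ?_⟩
    rw [Points.map_comp]
    congr 1
    exact Points.map_yon_map_apply ιZ _
  -- translate the affine open
  let W : Over (Spec (CommRingCat.of k)) := Z ⨯ specOver k κ
  haveI : IsAffine (specOver k κ).left := inferInstanceAs (IsAffine (Spec _))
  haveI : IsAffine W.left := by
    haveI : IsAffine (pullback Z.hom (specOver k κ).hom) := inferInstance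
    exact IsAffine.of_isIso (Over.prodLeftIsoPullback Z (specOver k κ)).hom
  let jW : (yon _).obj W ⟶ G.left ⨯ (yon _).obj (specOver k κ) := bcChart κ jZ ≫ (tauIso G σ).inv
  have hjW : RepWith @IsOpenImmersion jW :=
    MorphismProperty.RespectsIso.postcomp _ (tauIso G σ).inv _ (repWith_of_isPullback (isPullback_bcChart κ jZ) hjZ)
  have hq : Points.ofPt (SpreadOut.psi ξ κ) (⟨_, hirr F⟩ : PrimeSpectrum (F ⊗[k] κ)) ∈ Set.range (Points.map jW) := by
    let p := Points.ofPt (SpreadOut.psi ξ κ ≫ tau G σ) q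
    have hp : Points.map prod.fst p = Points.ofPt m q := by
      rw [Points.map_ofPt]
      congr 1
      simp only [SpreadOut.psi, tau, Category.assoc, prod.lift_fst, comp_mul', prod.lift_snd_assoc, m]
      rfl
    obtain ⟨z', hz'⟩ := hm
    obtain ⟨w', -, hw'⟩ := exists_point_of_isPullback (isPullback_bcChart κ jZ) (x := z') (y := p)
      (hz'.trans hp.symm)
    refine ⟨w', ?_⟩
    rw [Points.map_comp, hw', Points.map_ofPt]
    congr 1
    rw [Category.assoc]
    exact (congrArg (_ ≫ ·) (tauIso G σ).hom_inv_id).trans (Category.comp_id _)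
  obtain ⟨L, _, _, _, T', jT, hT', hjT, hcov⟩ := SpreadOut.exists_affine_of_spread hG hqs ξ (hirr F) jW hjW hq
  haveI := hT'
  exact FibreAffine.exists_affine_nhd hG hsep jT hjT _ hcov

theorem isRepresentable (hG : IsAlgSpace G.left) (hsep : IsSeparatedSp G.left) : G.left.obj.IsRepresentable :=
  isRepresentable_of_nhds hG fun x => by
    obtain ⟨Z, j, -, hj, hx⟩ := exists_affine_nhd G hG hsep x
    exact ⟨Z, j, hj, hx⟩

end Groth.Agent.AlgSpDec.GroupScheme
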