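import Groth.Agent.AlgSpDec.EpiPullback
import Groth.Agent.AlgSpLib.FpqcDescent
import Groth.Agent.AlgSpLib.Sheaf
import Groth.Prelude.Def_Desc
import Mathlib.CategoryTheory.Sites.RegularEpi

/-!
# Representability by effective descent
-/

set_option backward.isDefEq.respectTransparency false
set_option backward.isDefEq.respectTransparency.types false

universe u

open CategoryTheory CategoryTheory.Limits AlgebraicGeometry Opposite AlgSp Groth.Agent.AlgSpLib Desc

namespace Groth.Agent.AlgSpDec.EffDescentRep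

variable {S : Scheme.{u}}

theorem hom_ext_yon {F G : Sp S} {a b : F ⟶ G}
    (H : ∀ (T : Over S) (t : (yon S).obj T ⟶ F), t ≫ a = t ≫ b) : a = b := by
  apply Sheaf.hom_ext
  ext T s
  let t : (yon S).obj T.unop ⟶ F := (J S).uliftYonedaEquiv.{u + 1}.symm s
  have h2 := congrArg (J S).uliftYonedaEquiv.{u + 1} (H T.unop t)
  rwa [GrothendieckTopology.uliftYonedaEquiv_comp, GrothendieckTopology.uliftYonedaEquiv_comp,
    Equiv.apply_symm_apply] at h2

theorem desc_agree {A F G : Sp S} {ρ : A ⟶ F} {φ : A ⟶ G}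
    (H : ∀ (T : Over S) (a b : (yon S).obj T ⟶ A), a ≫ ρ = b ≫ ρ → a ≫ φ = b ≫ φ) :
    ∀ {Z : Sp S} (a b : Z ⟶ A), a ≫ ρ = b ≫ ρ → a ≫ φ = b ≫ φ := fun {Z} a b hab =>
  hom_ext_yon fun T t => by
    rw [← Category.assoc, ← Category.assoc]
    exact H T (t ≫ a) (t ≫ b) (by rw [Category.assoc, Category.assoc, hab])

variable {T T' W : Over S} {P : Sp S} {q : P ⟶ (yon S).obj T} {e : T' ⟶ T}
  {w : (yon S).obj W ⟶ P} {i : W ⟶ T'}

variable (w) in
/-- Two points with the same image. -/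
def Rel {Z : Scheme.{u}} (v v' : Z ⟶ W.left) : Prop :=
  ∃ (z : Z ⟶ S) (ha : v ≫ W.hom = z) (hb : v' ≫ W.hom = z),
    (yon S).map (Over.homMk v ha : Over.mk z ⟶ W) ≫ w = (yon S).map (Over.homMk v' hb : Over.mk z ⟶ W) ≫ w

theorem rel_refl {Z : Scheme.{u}} (v : Z ⟶ W.left) : Rel w v v := ⟨_, rfl, rfl, rfl⟩

theorem rel_symm {Z : Scheme.{u}} {v v' : Z ⟶ W.left} (h : Rel w v v') : Rel w v' v := by
  obtain ⟨z, ha, hb, h⟩ := h
  exact ⟨z, hb, ha, h.symm⟩

theorem rel_trans {Z : Scheme.{u}} {v v' v'' : Z ⟶ W.left} (h : Rel w v v') (h' : Rel w v' v'') :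
    Rel w v v'' := by
  obtain ⟨z, ha, hb, h⟩ := h
  obtain ⟨z', ha', hb', h'⟩ := h'
  obtain rfl : z = z' := hb.symm.trans ha'
  exact ⟨z, ha, hb', h.trans h'⟩

theorem rel_comp {Z Z' : Scheme.{u}} (g : Z' ⟶ Z) {v v' : Z ⟶ W.left} (h : Rel w v v') :
    Rel w (g ≫ v) (g ≫ v') := by
  obtain ⟨z, ha, hb, h⟩ := h
  refine ⟨g ≫ z, by rw [Category.assoc, ha], by rw [Category.assoc, hb], ?_⟩
  let g' : Over.mk (g ≫ z) ⟶ Over.mk z := Over.homMk g rfl
  have e1 : (Over.homMk (g ≫ v) (by rw [Category.assoc, ha]; rfl) : Over.mk (g ≫ z) ⟶ W) = g' ≫ Over.homMk v ha :=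
    Over.OverMorphism.ext rfl
  have e2 : (Over.homMk (g ≫ v') (by rw [Category.assoc, hb]; rfl) : Over.mk (g ≫ z) ⟶ W) = g' ≫ Over.homMk v' hb :=
    Over.OverMorphism.ext rfl
  rw [e1, e2, Functor.map_comp, Functor.map_comp, Category.assoc, Category.assoc, h]

theorem rel_of_eq {Z : Over S} (a b : Z ⟶ W) (h : (yon S).map a ≫ w = (yon S).map b ≫ w) :
    Rel w a.left b.left := ⟨Z.hom, Over.w a, Over.w b, h⟩

theorem eq_of_rel {Z : Over S} (a b : Z ⟶ W) (h : Rel w a.left b.left) :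
    (yon S).map a ≫ w = (yon S).map b ≫ w := by
  obtain ⟨z, ha, hb, h⟩ := h
  obtain rfl : Z.hom = z := (Over.w a).symm.trans ha
  exact h

theorem rel_unique (sq : IsPullback w ((yon S).map i) q ((yon S).map e)) {Z : Scheme.{u}}
    {v v' v'' : Z ⟶ W.left} (h : Rel w v v') (h' : Rel w v v'') (hi : v' ≫ i.left = v'' ≫ i.left) : v' = v'' := by
  obtain ⟨z, ha, hb, h⟩ := rel_trans (rel_symm h) h'
  have : (Over.homMk v' ha : Over.mk z ⟶ W) = Over.homMk v'' hb := (yon S).map_injective (sq.hom_ext h (by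
    rw [← Functor.map_comp, ← Functor.map_comp]
    exact congrArg (yon S).map (Over.OverMorphism.ext hi)))
  exact congrArg (fun f : Over.mk z ⟶ W => f.left) this

theorem exists_rel (sq : IsPullback w ((yon S).map i) q ((yon S).map e)) {Z : Scheme.{u}}
    (v : Z ⟶ W.left) (x : Z ⟶ T'.left) (h : (v ≫ i.left) ≫ e.left = x ≫ e.left) :
    ∃ v' : Z ⟶ W.left, v' ≫ i.left = x ∧ Rel w v v' := by
  let a : Over.mk (v ≫ W.hom) ⟶ W := Over.homMk v rfl
  let b : Over.mk (v ≫ W.hom) ⟶ T' := Over.homMk x (by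
    show x ≫ T'.hom = v ≫ W.hom
    rw [← Over.w e, ← Category.assoc, ← h, Category.assoc, Category.assoc, Over.w e, Over.w i])
  have hab : (a ≫ i) ≫ e = b ≫ e := Over.OverMorphism.ext h
  obtain ⟨c, hc⟩ := (yon S).map_surjective (sq.lift ((yon S).map a ≫ w) ((yon S).map b) (by
    rw [Category.assoc, sq.w, ← Functor.map_comp, ← Functor.map_comp, ← Category.assoc, hab, Functor.map_comp]))
  have h1 : (yon S).map c ≫ w = (yon S).map a ≫ w := by rw [hc]; exact sq.lift_fst _ _ _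
  have h2 : c ≫ i = b := (yon S).map_injective (by rw [Functor.map_comp, hc]; exact sq.lift_snd _ _ _)
  exact ⟨c.left, congrArg (fun f : Over.mk (v ≫ W.hom) ⟶ T' => f.left) h2, rel_of_eq a c h1.symm⟩

/-- Moving a point along the datum. -/
noncomputable def mv (sq : IsPullback w ((yon S).map i) q ((yon S).map e)) {Z : Scheme.{u}}
    {x₀ x₁ : Z ⟶ T'.left} (h : x₀ ≫ e.left = x₁ ≫ e.left) (v : Lifts (Over.mk i.left) x₀) :
    Lifts (Over.mk i.left) x₁ :=
  ⟨(exists_rel sq v.1 x₁ ((congrArg (· ≫ e.left) v.2).trans h)).choose,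
    (exists_rel sq v.1 x₁ ((congrArg (· ≫ e.left) v.2).trans h)).choose_spec.1⟩

theorem rel_mv (sq : IsPullback w ((yon S).map i) q ((yon S).map e)) {Z : Scheme.{u}}
    {x₀ x₁ : Z ⟶ T'.left} (h : x₀ ≫ e.left = x₁ ≫ e.left) (v : Lifts (Over.mk i.left) x₀) :
    Rel w v.1 (mv sq h v).1 :=
  (exists_rel sq v.1 x₁ ((congrArg (· ≫ e.left) v.2).trans h)).choose_spec.2

theorem eq_mv (sq : IsPullback w ((yon S).map i) q ((yon S).map e)) {Z : Scheme.{u}}
    {x₀ x₁ : Z ⟶ T'.left} (h : x₀ ≫ e.left = x₁ ≫ e.left) (v : Lifts (Over.mk i.left) x₀)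
    (v' : Lifts (Over.mk i.left) x₁) (hr : Rel w v.1 v'.1) : mv sq h v = v' :=
  Subtype.ext (rel_unique sq (rel_mv sq h v) hr ((mv sq h v).2.trans v'.2.symm))

/-- The descent datum. -/
noncomputable def datum (sq : IsPullback w ((yon S).map i) q ((yon S).map e)) : SchDD e.left where
  obj := Over.mk i.left
  φ Z x₀ x₁ h :=
    { toFun := mv sq h
      invFun := mv sq h.symm
      left_inv := fun v => eq_mv sq _ _ _ (rel_symm (rel_mv sq h v))
      right_inv := fun v => eq_mv sq _ _ _ (rel_symm (rel_mv sq h.symm v)) }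
  φ_natural Z Z' g x₀ x₁ h h' v v' hv' := by
    have hm : (g ≫ (mv sq h v).1) ≫ i.left = g ≫ x₁ :=
      (Category.assoc _ _ _).trans (congrArg (g ≫ ·) (mv sq h v).2)
    have := eq_mv sq h' v' ⟨g ≫ (mv sq h v).1, hm⟩ (by rw [hv']; exact rel_comp g (rel_mv sq h v))
    exact congrArg Subtype.val this
  φ_self Z x v := eq_mv sq rfl v v (rel_refl (w := w) v.1)
  φ_comp Z x₀ x₁ x₂ h₀₁ h₁₂ v := (eq_mv sq (h₀₁.trans h₁₂) v _
    (rel_trans (rel_mv sq h₀₁ v) (rel_mv sq h₁₂ _))).symm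

theorem rel_φ (sq : IsPullback w ((yon S).map i) q ((yon S).map e)) {Z : Scheme.{u}} (x₀ x₁ : Z ⟶ T'.left)
    (h : x₀ ≫ e.left = x₁ ≫ e.left) (v : Lifts (datum sq).obj x₀) :
    Rel w (Z := Z) (v.1 : Z ⟶ W.left) (((datum sq).φ x₀ x₁ h v).1 : Z ⟶ W.left) :=
  rel_mv sq h v

/-- An effective descent datum gives a representing scheme. -/
theorem exists_rep_of_effective [Surjective e.left] [Flat e.left] [LocallyOfFinitePresentation e.left]
    (sq : IsPullback w ((yon S).map i) q ((yon S).map e))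
    (heff : (toDD e.left).essImage (datum sq)) :
    ∃ (Q : Over S) (h : Q ⟶ T) (φ : (yon S).obj Q ≅ P), φ.hom ≫ q = (yon S).map h := by
  obtain ⟨Q₀, ⟨ι⟩⟩ := heff
  let pb := pullback e.left Q₀.hom
  let Qs : Over S := Over.mk (Q₀.hom ≫ T.hom)
  let Q' : Over S := Over.mk (pullback.fst e.left Q₀.hom ≫ T'.hom)
  let h : Qs ⟶ T := Over.homMk Q₀.hom rfl
  let π : Q' ⟶ T' := Over.homMk (pullback.fst e.left Q₀.hom) rfl
  let ρ : Q' ⟶ Qs := Over.homMk (pullback.snd e.left Q₀.hom) (by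
    show _ ≫ Q₀.hom ≫ T.hom = pullback.fst e.left Q₀.hom ≫ T'.hom
    rw [← Category.assoc, ← pullback.condition, Category.assoc, Over.w e])
  let fd : pb ⟶ W.left := ι.hom.hom.left
  let bd : W.left ⟶ pb := ι.inv.hom.left
  have hfd : fd ≫ i.left = pullback.fst e.left Q₀.hom := Over.w ι.hom.hom
  have hbd : bd ≫ pullback.fst e.left Q₀.hom = i.left := Over.w ι.inv.hom
  have hfb : fd ≫ bd = 𝟙 _ :=
    congrArg (fun f : ((toDD e.left).obj Q₀) ⟶ (toDD e.left).obj Q₀ => f.hom.left) ι.hom_inv_id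
  have hbf : bd ≫ fd = 𝟙 _ :=
    congrArg (fun f : datum sq ⟶ datum sq => f.hom.left) ι.inv_hom_id
  let θ : Q' ⟶ W := Over.homMk fd (by
    show fd ≫ W.hom = pullback.fst e.left Q₀.hom ≫ T'.hom
    rw [← Over.w i, ← Category.assoc, hfd])
  let θ' : W ⟶ Q' := Over.homMk bd (by
    show bd ≫ pullback.fst e.left Q₀.hom ≫ T'.hom = W.hom
    rw [← Category.assoc, hbd, Over.w i])
  have hθθ' : θ ≫ θ' = 𝟙 _ := Over.OverMorphism.ext hfb
  have hθ'θ : θ' ≫ θ = 𝟙 _ := Over.OverMorphism.ext hbf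
  have sqρ : IsPullback π ρ e h :=
    IsPullback.of_map (Over.forget S) (Over.OverMorphism.ext pullback.condition) (IsPullback.of_hasPullback _ _)
  haveI : Surjective ρ.left := inferInstanceAs (Surjective (pullback.snd e.left Q₀.hom))
  haveI : Flat ρ.left := inferInstanceAs (Flat (pullback.snd e.left Q₀.hom))
  haveI : LocallyOfFinitePresentation ρ.left :=
    inferInstanceAs (LocallyOfFinitePresentation (pullback.snd e.left Q₀.hom))
  haveI : Epi ((yon S).map ρ) := (Sheaf.isLocallySurjective_iff_epi _).1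
    (isLocallySurjective_of_repWith ((repWith_yon_map_iff fppf ρ).2 (fppf_of ρ.left)))
  haveI : Epi ((yon S).map e) := (Sheaf.isLocallySurjective_iff_epi _).1
    (isLocallySurjective_of_repWith ((repWith_yon_map_iff fppf e).2 (fppf_of e.left)))
  haveI : Epi w := epi_of_isPullback_sheaf sq.flip
  haveI : EffectiveEpi ((yon S).map ρ) :=
    (isRegularEpi_iff_effectiveEpi _).1 (IsRegularEpiCategory.regularEpiOfEpi _)
  haveI : EffectiveEpi w :=
    (isRegularEpi_iff_effectiveEpi _).1 (IsRegularEpiCategory.regularEpiOfEpi _)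
  have H₁ : ∀ (Z : Over S) (a b : (yon S).obj Z ⟶ (yon S).obj Q'), a ≫ (yon S).map ρ = b ≫ (yon S).map ρ →
      a ≫ (yon S).map θ ≫ w = b ≫ (yon S).map θ ≫ w := by
    intro Z a b hab
    obtain ⟨a, rfl⟩ := (yon S).map_surjective a
    obtain ⟨b, rfl⟩ := (yon S).map_surjective b
    rw [← Functor.map_comp, ← Functor.map_comp] at hab
    have hab' : a.left ≫ pullback.snd e.left Q₀.hom = b.left ≫ pullback.snd e.left Q₀.hom :=
      congrArg (fun f : Z ⟶ Qs => f.left) ((yon S).map_injective hab)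
    let x₀ := a.left ≫ pullback.fst e.left Q₀.hom
    let x₁ := b.left ≫ pullback.fst e.left Q₀.hom
    have hx : x₀ ≫ e.left = x₁ ≫ e.left := by
      simp only [x₀, x₁, Category.assoc, pullback.condition]
      rw [← Category.assoc, hab', Category.assoc]
    let v : Lifts ((toDD e.left).obj Q₀).obj x₀ := ⟨a.left, rfl⟩
    have hv : (((toDD e.left).obj Q₀).φ x₀ x₁ hx v).1 = b.left := by
      apply pullback.hom_ext
      · exact pullback.lift_fst _ _ _
      · exact (pullback.lift_snd _ _ _).trans hab'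
    let v' : Lifts (datum sq).obj x₀ := ⟨a.left ≫ fd, by
      show (a.left ≫ fd) ≫ i.left = x₀
      rw [Category.assoc, hfd]⟩
    have hc := ι.hom.comm x₀ x₁ hx v v' rfl
    rw [hv] at hc
    have hr := rel_φ sq x₀ x₁ hx v'
    rw [hc] at hr
    rw [← Category.assoc, ← Category.assoc, ← Functor.map_comp, ← Functor.map_comp]
    exact eq_of_rel (a ≫ θ) (b ≫ θ) hr
  have H₂ : ∀ (Z : Over S) (a b : (yon S).obj Z ⟶ (yon S).obj W), a ≫ w = b ≫ w →
      a ≫ (yon S).map θ' ≫ (yon S).map ρ = b ≫ (yon S).map θ' ≫ (yon S).map ρ := by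
    intro Z a b hab
    obtain ⟨a, rfl⟩ := (yon S).map_surjective a
    obtain ⟨b, rfl⟩ := (yon S).map_surjective b
    have hie : (a ≫ i) ≫ e = (b ≫ i) ≫ e := (yon S).map_injective (by
      simp only [Functor.map_comp, Category.assoc, ← sq.w]
      rw [← Category.assoc, hab, Category.assoc])
    let x₀ := a.left ≫ i.left
    let x₁ := b.left ≫ i.left
    have hx : x₀ ≫ e.left = x₁ ≫ e.left := congrArg (fun f : Z ⟶ T => f.left) hie
    let v : Lifts (datum sq).obj x₀ := ⟨a.left, rfl⟩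
    have hv : ((datum sq).φ x₀ x₁ hx v).1 = b.left :=
      rel_unique sq (rel_φ sq x₀ x₁ hx v) (rel_of_eq a b hab) (((datum sq).φ x₀ x₁ hx v).2)
    let v' : Lifts ((toDD e.left).obj Q₀).obj x₀ := ⟨a.left ≫ bd, by
      show (a.left ≫ bd) ≫ pullback.fst e.left Q₀.hom = x₀
      rw [Category.assoc, hbd]⟩
    have hc := ι.inv.comm x₀ x₁ hx v v' rfl
    rw [hv] at hc
    have hc' : (a.left ≫ bd) ≫ pullback.snd e.left Q₀.hom = (b.left ≫ bd) ≫ pullback.snd e.left Q₀.hom :=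
      (pullback.lift_snd _ _ _).symm.trans (congrArg (· ≫ pullback.snd e.left Q₀.hom) hc)
    rw [← Functor.map_comp, ← Functor.map_comp, ← Functor.map_comp]
    exact congrArg (yon S).map (Over.OverMorphism.ext ((Category.assoc _ _ _).symm.trans
      (hc'.trans (Category.assoc _ _ _))))
  let Φ := EffectiveEpi.desc ((yon S).map ρ) ((yon S).map θ ≫ w) (desc_agree H₁)
  let Ψ := EffectiveEpi.desc w ((yon S).map θ' ≫ (yon S).map ρ) (desc_agree H₂)
  have hΦ : (yon S).map ρ ≫ Φ = (yon S).map θ ≫ w := EffectiveEpi.fac _ _ _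
  have hΨ : w ≫ Ψ = (yon S).map θ' ≫ (yon S).map ρ := EffectiveEpi.fac _ _ _
  refine ⟨Qs, h, ⟨Φ, Ψ, ?_, ?_⟩, ?_⟩
  · rw [← cancel_epi ((yon S).map ρ), ← Category.assoc, hΦ, Category.assoc, hΨ, ← Category.assoc,
      ← Functor.map_comp, hθθ', CategoryTheory.Functor.map_id, Category.id_comp, Category.comp_id]
  · rw [← cancel_epi w, ← Category.assoc, hΨ, Category.assoc, hΦ, ← Category.assoc,
      ← Functor.map_comp, hθ'θ, CategoryTheory.Functor.map_id, Category.id_comp, Category.comp_id]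
  · show Φ ≫ q = _
    rw [← cancel_epi ((yon S).map ρ), ← Category.assoc, hΦ, Category.assoc, sq.w, ← Functor.map_comp,
      ← Functor.map_comp, ← Functor.map_comp]
    have : θ ≫ i = π := Over.OverMorphism.ext hfd
    rw [← Category.assoc, this, sqρ.w]

end Groth.Agent.AlgSpDec.EffDescentRep
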