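import Groth.Agent.AlgSpDec.Cofan
import Groth.Agent.AlgSpDec.EffDescentRep
import Groth.Agent.AlgSpLib.Covers

/-!
# Morphisms glue along fppf coverings
-/

set_option backward.isDefEq.respectTransparency false
set_option backward.isDefEq.respectTransparency.types false

universe u

open CategoryTheory CategoryTheory.Limits AlgebraicGeometry Opposite AlgSp Groth.Agent.AlgSpLib

namespace Groth.Agent.AlgSpDec

variable {S : Scheme.{u}} {ι : Type u} {X Z : Sp S} {Xi : ι → Sp S} {g : ∀ i, Xi i ⟶ X}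

theorem isLocallySurjective_sigmaDesc (hX : IsAlgSpace X) (hXi : ∀ i, IsAlgSpace (Xi i))
    (hg : IsFppfCover Xi g) : Sheaf.IsLocallySurjective (Sigma.desc g) := by
  constructor
  intro T y
  let t : (yon S).obj T ⟶ X := (J S).uliftYonedaEquiv.{u + 1}.symm y
  obtain ⟨κ, Tk, c, hc, hl⟩ := exists_fppf_local_lift hX hXi g hg T t
  refine (J S).superset_covering ?_ hc
  rintro V _ ⟨_, φ, _, ⟨k⟩, rfl⟩
  obtain ⟨i, l, hl⟩ := hl k
  let s : (yon S).obj V ⟶ ∐ Xi := (yon S).map φ ≫ l ≫ Sigma.ι Xi i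
  have hs : s ≫ Sigma.desc g = (yon S).map (φ ≫ c k) ≫ t := by
    simp [s, hl]
  refine ⟨(J S).uliftYonedaEquiv.{u + 1} s, ?_⟩
  have h := congrArg (J S).uliftYonedaEquiv.{u + 1} hs
  rw [GrothendieckTopology.uliftYonedaEquiv_comp] at h
  rw [← uliftYonedaEquiv_precomp (φ ≫ c k) t] at h
  simp only [t, Equiv.apply_symm_apply] at h
  exact h

/-- Morphisms which agree on an fppf covering are equal. -/
theorem hom_ext_of_fppfCover (hX : IsAlgSpace X) (hXi : ∀ i, IsAlgSpace (Xi i)) (hg : IsFppfCover Xi g)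
    {a b : X ⟶ Z} (h : ∀ i, g i ≫ a = g i ≫ b) : a = b := by
  have := isLocallySurjective_sigmaDesc hX hXi hg
  have : Epi (Sigma.desc g) := (Sheaf.isLocallySurjective_iff_epi (Sigma.desc g)).1 inferInstance
  rw [← cancel_epi (Sigma.desc g)]
  refine Sigma.hom_ext _ _ fun i => ?_
  simpa using h i

/-- Morphisms which agree on overlaps of an fppf covering glue. -/
theorem exists_desc_of_fppfCover (hX : IsAlgSpace X) (hXi : ∀ i, IsAlgSpace (Xi i)) (hg : IsFppfCover Xi g)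
    (bi : ∀ i, Xi i ⟶ Z)
    (h : ∀ (i j : ι) (T : Over S) (p : (yon S).obj T ⟶ Xi i) (q : (yon S).obj T ⟶ Xi j),
      p ≫ g i = q ≫ g j → p ≫ bi i = q ≫ bi j) :
    ∃ b : X ⟶ Z, ∀ i, g i ≫ b = bi i := by
  have := isLocallySurjective_sigmaDesc hX hXi hg
  have : Epi (Sigma.desc g) := (Sheaf.isLocallySurjective_iff_epi (Sigma.desc g)).1 inferInstance
  have : EffectiveEpi (Sigma.desc g) := by
    have := IsRegularEpiCategory.regularEpiOfEpi (Sigma.desc g)
    infer_instance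
  let c := Cofan.mk (∐ Xi) (Sigma.ι Xi)
  have hc : IsColimit c := coproductIsCoproduct Xi
  have key : ∀ (T : Over S) (a b : (yon S).obj T ⟶ ∐ Xi),
      a ≫ Sigma.desc g = b ≫ Sigma.desc g → a ≫ Sigma.desc bi = b ≫ Sigma.desc bi := by
    intro T a b hab
    obtain ⟨R, hR, hR'⟩ := exists_covering_inj c hc a
    obtain ⟨Q, hQ, hQ'⟩ := exists_covering_inj c hc b
    refine hom_ext_of_covering _ _ ((J S).intersection_covering hR hQ) ?_
    rintro T' φ ⟨hr, hq⟩
    obtain ⟨i, p, hp⟩ := hR' φ hr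
    obtain ⟨j, q, hq⟩ := hQ' φ hq
    change p ≫ Sigma.ι Xi i = _ at hp
    change q ≫ Sigma.ι Xi j = _ at hq
    rw [← Category.assoc, ← Category.assoc, ← hp, ← hq, Category.assoc, Category.assoc, Sigma.ι_desc,
      Sigma.ι_desc]
    refine h i j T' p q ?_
    calc p ≫ g i = (p ≫ Sigma.ι Xi i) ≫ Sigma.desc g := by simp
      _ = (q ≫ Sigma.ι Xi j) ≫ Sigma.desc g := by rw [hp, hq, Category.assoc, hab, Category.assoc]
      _ = q ≫ g j := by simp
  exact ⟨EffectiveEpi.desc (Sigma.desc g) (Sigma.desc bi)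
    (fun g₁ g₂ e => EffDescentRep.desc_agree key g₁ g₂ e), fun i => by
      rw [← Sigma.ι_desc g i, Category.assoc, EffectiveEpi.fac, Sigma.ι_desc]⟩

end Groth.Agent.AlgSpDec
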