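import Mathlib.AlgebraicGeometry.Morphisms.Preimmersion
import Mathlib.AlgebraicGeometry.Morphisms.IsIso
import Mathlib.AlgebraicGeometry.Morphisms.FormallyUnramified
import Mathlib.AlgebraicGeometry.Morphisms.Etale
import Mathlib.RingTheory.Algebraic.Integral

/-!
# Base change to the local ring at a point with a single preimage
-/

set_option linter.style.haveILetI false
set_option autoImplicit false
set_option backward.isDefEq.respectTransparency false
set_option backward.isDefEq.respectTransparency.types false

universe u

open CategoryTheory CategoryTheory.Limits AlgebraicGeometry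

namespace Groth.Agent.AlgSpDec.BiratStalk

variable {X Y : Scheme.{u}}

/-- A morphism which over a point without proper generalisations has one preimage with the same local ring
becomes an isomorphism over the local ring. -/
theorem isIso_pullback_snd (f : X ⟶ Y) (x : X) [IsIso (f.stalkMap x)] (hgen : ∀ y', y' ⤳ f x → y' = f x)
    (hfib : ∀ x', f x' = f x → x' = x) : IsIso (pullback.snd f (Y.fromSpecStalk (f x))) := by
  haveI : Subsingleton ↥(Spec (Y.presheaf.stalk (f x))) := by
    refine ⟨fun a b => (Y.fromSpecStalk (f x)).isEmbedding.injective ?_⟩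
    have key : ∀ c, Y.fromSpecStalk (f x) c = f x := fun c =>
      hgen _ ((Scheme.range_fromSpecStalk (X := Y) (x := f x)).subset (Set.mem_range_self c))
    rw [key, key]
  have hfst : ∀ z, pullback.fst f (Y.fromSpecStalk (f x)) z = x := by
    intro z
    refine hfib _ ?_
    rw [← Scheme.Hom.comp_apply, pullback.condition, Scheme.Hom.comp_apply,
      Subsingleton.elim (pullback.snd f (Y.fromSpecStalk (f x)) z) (IsLocalRing.closedPoint _),
      Scheme.fromSpecStalk_closedPoint]
  haveI : Subsingleton ↥(pullback f (Y.fromSpecStalk (f x))) :=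
    ⟨fun a b => (pullback.fst f (Y.fromSpecStalk (f x))).isEmbedding.injective
      (by rw [hfst, hfst])⟩
  let inv' : Spec (Y.presheaf.stalk (f x)) ⟶ pullback f (Y.fromSpecStalk (f x)) :=
    pullback.lift (Spec.map (inv (f.stalkMap x)) ≫ X.fromSpecStalk x) (𝟙 _) (by
      rw [Category.assoc, ← Scheme.SpecMap_stalkMap_fromSpecStalk, ← Spec.map_comp_assoc,
        IsIso.hom_inv_id, Spec.map_id, Category.id_comp])
  let z : ↥(pullback f (Y.fromSpecStalk (f x))) := inv' (IsLocalRing.closedPoint _)
  haveI : IsIso ((pullback f (Y.fromSpecStalk (f x))).fromSpecStalk z) := by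
    obtain ⟨U, hU, hzU, -⟩ := exists_isAffineOpen_mem_and_subset (x := z) (U := ⊤) trivial
    obtain rfl : U = ⊤ := top_le_iff.mp fun w _ => Subsingleton.elim z w ▸ hzU
    letI := (pullback f (Y.fromSpecStalk (f x))).presheaf.algebra_section_stalk (U := ⊤) ⟨z, trivial⟩
    have hloc := hU.isLocalization_stalk ⟨z, trivial⟩
    have hsub : ∀ q q' : PrimeSpectrum Γ(pullback f (Y.fromSpecStalk (f x)), ⊤), q = q' := fun q q' =>
      hU.fromSpec.isOpenEmbedding.injective (Subsingleton.elim _ _)
    have hunit : ∀ a ∈ (hU.primeIdealOf ⟨z, trivial⟩).asIdeal.primeCompl, IsUnit a := by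
      intro a ha
      by_contra hn
      obtain ⟨m, hm, hle⟩ := Ideal.exists_le_maximal _ (Ideal.span_singleton_ne_top hn)
      have e := hsub ⟨m, hm.isPrime⟩ (hU.primeIdealOf ⟨z, trivial⟩)
      exact ha (by rw [← e]; exact hle (Ideal.mem_span_singleton_self a))
    have : IsIso ((pullback f (Y.fromSpecStalk (f x))).presheaf.germ ⊤ z trivial) :=
      (ConcreteCategory.isIso_iff_bijective _).mpr
        (IsLocalization.atUnits Γ(pullback f (Y.fromSpecStalk (f x)), ⊤) _
          (S := (pullback f (Y.fromSpecStalk (f x))).presheaf.stalk z) hunit).bijective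
    rw [← hU.fromSpecStalk_eq_fromSpecStalk (x := z) trivial, IsAffineOpen.fromSpecStalk]
    haveI : IsIso hU.fromSpec := by
      rw [isIso_iff_isOpenImmersion_and_surjective]
      exact ⟨inferInstance, ⟨fun w => by
        have h1 : w ∈ Set.range hU.fromSpec := by rw [hU.range_fromSpec]; trivial
        exact h1⟩⟩
    infer_instance
  refine ⟨inv', ?_, pullback.lift_snd _ _ _⟩
  apply pullback.hom_ext
  · rw [Category.assoc, pullback.lift_fst, Category.id_comp, ← cancel_epi
      ((pullback f (Y.fromSpecStalk (f x))).fromSpecStalk z)]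
    let P := pullback f (Y.fromSpecStalk (f x))
    obtain ⟨a, ha⟩ : ∃ a : X.presheaf.stalk x ⟶ P.presheaf.stalk z,
        Spec.map a ≫ X.fromSpecStalk x = P.fromSpecStalk z ≫ pullback.fst f _ := by
      have h1 : ∀ x₀, pullback.fst f (Y.fromSpecStalk (f x)) z = x₀ →
          ∃ a : X.presheaf.stalk x₀ ⟶ P.presheaf.stalk z,
            Spec.map a ≫ X.fromSpecStalk x₀ = P.fromSpecStalk z ≫ pullback.fst f _ := by
        rintro _ rfl
        exact ⟨_, Scheme.SpecMap_stalkMap_fromSpecStalk _⟩
      exact h1 x (hfst z)
    obtain ⟨b, hb⟩ : ∃ b, P.fromSpecStalk z ≫ pullback.snd f (Y.fromSpecStalk (f x)) = Spec.map b :=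
      ⟨_, (Spec.map_preimage _).symm⟩
    have hab : f.stalkMap x ≫ a = b := by
      refine Spec.map_injective ((cancel_mono (Y.fromSpecStalk (f x))).mp ?_)
      rw [Spec.map_comp, Category.assoc, Scheme.SpecMap_stalkMap_fromSpecStalk, reassoc_of% ha, ← hb,
        Category.assoc, pullback.condition]
    rw [← ha, ← Category.assoc (P.fromSpecStalk z), hb, ← hab, ← Spec.map_comp_assoc,
      IsIso.inv_hom_id_assoc]
  · rw [Category.assoc, pullback.lift_snd, Category.comp_id, Category.id_comp]

/-- An etale morphism has integral residue field extensions. -/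
theorem isIntegral_residueFieldMap_of_etale (h : X ⟶ Y) [Etale h] (x : X) :
    (h.residueFieldMap x).hom.IsIntegral := by
  letI := (h.residueFieldMap x).hom.toAlgebra
  have : Algebra.IsSeparable (Y.residueField (h x)) (X.residueField x) := inferInstance
  exact fun a => Algebra.IsIntegral.isIntegral (R := Y.residueField (h x)) a

/-- A generalisation in the same fibre whose residue field is integral over that of the image is equal. -/
theorem eq_of_specializes_of_isIntegral (h : X ⟶ Y) {x' x : X} (hs : x' ⤳ x) (he : h x' = h x)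
    (hi : (h.residueFieldMap x').hom.IsIntegral) : x' = x := by
  let σ := X.presheaf.stalkSpecializes hs
  let q : X.presheaf.stalk x →+* X.residueField x' := ((X.residue x').hom).comp σ.hom
  let τ := Y.presheaf.stalkSpecializes (h.base.hom.continuous.specialization_monotone hs : h x' ⤳ h x)
  have hτ : Function.Surjective τ := by
    have : IsIso τ := by
      have e : ∀ {y y' : Y} (hy : y ⤳ y'), y = y' → IsIso (Y.presheaf.stalkSpecializes hy) := by
        rintro y _ hy rfl
        rw [TopCat.Presheaf.stalkSpecializes_refl]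
        infer_instance
      exact e _ he
    exact ((ConcreteCategory.isIso_iff_bijective _).1 this).2
  have hk : ∀ c : Y.residueField (h x'), ∃ a, q a = h.residueFieldMap x' c := fun c => by
    obtain ⟨b, rfl⟩ := IsLocalRing.residue_surjective c
    obtain ⟨b', rfl⟩ := hτ b
    refine ⟨h.stalkMap x b', ?_⟩
    change (h.stalkMap x ≫ σ ≫ X.residue x') b' = (τ ≫ Y.residue (h x') ≫ h.residueFieldMap x') b'
    rw [Scheme.residue_residueFieldMap, ← Scheme.Hom.stalkSpecializes_stalkMap_assoc]
  let φ := (h.residueFieldMap x').hom.codRestrict q.range fun c => RingHom.mem_range.2 (hk c)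
  have hint : φ.IsIntegral := fun e => by
    obtain ⟨p, hp, hpe⟩ := hi e.1
    refine ⟨p, hp, Subtype.ext ?_⟩
    change q.range.subtype (p.eval₂ φ e) = 0
    rw [Polynomial.hom_eval₂]
    exact hpe
  have hfld : IsField q.range := by
    letI := φ.toAlgebra
    have : Algebra.IsIntegral (Y.residueField (h x')) q.range := ⟨hint⟩
    exact isField_of_isIntegral_of_isField' (Field.toIsField (Y.residueField (h x')))
  have hmax : (RingHom.ker q).IsMaximal := by
    refine RingHom.ker_rangeRestrict q ▸ ?_
    letI := hfld.toField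
    exact RingHom.ker_isMaximal_of_surjective q.rangeRestrict q.rangeRestrict_surjective
  have h1 : RingHom.ker q = IsLocalRing.maximalIdeal _ := IsLocalRing.eq_maximalIdeal hmax
  have h2 : Spec.map σ (IsLocalRing.closedPoint (X.presheaf.stalk x')) = IsLocalRing.closedPoint _ := by
    refine PrimeSpectrum.ext ?_
    rw [IsLocalRing.closedPoint]
    change Ideal.comap σ.hom (IsLocalRing.maximalIdeal _) = IsLocalRing.maximalIdeal _
    rw [← h1, ← RingHom.comap_ker]
    congr 1
    exact IsLocalRing.ker_residue.symm
  have h3 := Scheme.SpecMap_stalkSpecializes_fromSpecStalk hs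
  calc x' = (X.fromSpecStalk x') (IsLocalRing.closedPoint _) := Scheme.fromSpecStalk_closedPoint.symm
    _ = (X.fromSpecStalk x) (Spec.map σ (IsLocalRing.closedPoint _)) := by
      rw [← h3, Scheme.Hom.comp_apply]
    _ = x := by rw [h2, Scheme.fromSpecStalk_closedPoint]

end Groth.Agent.AlgSpDec.BiratStalk
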