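import Groth.Agent.AlgSpDec.AffineClassQuot
import Groth.Agent.ChevGen.Main

/-!
The quotient of an affine scheme by a finite locally free map to a space is affine.
-/

set_option backward.isDefEq.respectTransparency false
set_option backward.isDefEq.respectTransparency.types false

universe u

open CategoryTheory CategoryTheory.Limits AlgebraicGeometry AlgSp Groth.Agent.AlgSpLib Groth.Agent.AlgSpPts

namespace Groth.Agent.AlgSpDec

variable {S : Scheme.{u}} {X : Sp S} {U : Over S}

/-- A space receiving a finite flat surjection of finite presentation from an affine scheme is affine. -/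
theorem exists_affine_iso_of_affine_finLocFree (a : (yon S).obj U ⟶ X) (ha : RepWith @Flat a)
    (hl : RepWith @LocallyOfFinitePresentation a) (hf : RepWith @IsFinite a) (hs : RepWith @Surjective a) [IsAffine U.left] :
    ∃ Z : Over S, IsAffine Z.left ∧ Nonempty ((yon S).obj Z ≅ X) := by
  let R := ha.rep.pullback a
  let t : R ⟶ U := ha.rep.fst' a
  let s : R ⟶ U := ha.rep.snd a
  have sq : IsPullback ((yon S).map t) ((yon S).map s) a a := ha.rep.isPullback' a
  have hse : Flat s.left := ha.property_snd a
  have hsl : LocallyOfFinitePresentation s.left := hl.property a _ _ (ha.rep.isPullback a)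
  have hsf : IsFinite s.left := hf.property a _ _ (ha.rep.isPullback a)
  obtain ⟨G, hU, hR, hgs, hgt, hpU, hpR⟩ := exists_groupoid_over sq
  obtain ⟨GU, GR, pU, pR, gs, gt, ge, gi, gc, h1, h2, h3, h4, h5, h6, h7, h8, h9, h10, h11, h12, h13⟩ := G
  subst hU hR
  obtain rfl : gs = s.left := eq_of_heq hgs
  obtain rfl : gt = t.left := eq_of_heq hgt
  obtain rfl : pU = U.hom := eq_of_heq hpU
  obtain rfl : pR = R.hom := eq_of_heq hpR
  let G : Grpd.GroupoidScheme S :=
    ⟨_, _, U.hom, R.hom, _, _, ge, gi, gc, h1, h2, h3, h4, h5, h6, h7, h8, h9, h10, h11, h12, h13⟩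
  have hfl : Mor2.IsFinLocFree G.s :=
    ⟨hsf, inferInstanceAs (Flat s.left), inferInstanceAs (LocallyOfFinitePresentation s.left)⟩
  have heq : AlgSp.IsEqvRel s t := by
    refine ⟨fun T r r' ht' hs' => ?_, fun T => ⟨fun y => ?_, ?_, ?_⟩⟩
    · exact Over.OverMorphism.ext (rel_ext sq (congrArg Over.Hom.left ht') (congrArg Over.Hom.left hs'))
    · exact exists_rel_lift sq y y rfl
    · rintro y z ⟨r, rfl, rfl⟩
      refine exists_rel_lift sq _ _ ?_
      rw [(yon S).map_comp r t, (yon S).map_comp r s, Category.assoc, Category.assoc, sq.w]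
    · rintro y z w ⟨r, rfl, hr⟩ ⟨r', rfl, rfl⟩
      refine exists_rel_lift sq _ _ ?_
      rw [(yon S).map_comp r t, Category.assoc, sq.w, ← Category.assoc, ← (yon S).map_comp r s, hr,
        (yon S).map_comp r' t, Category.assoc, sq.w, ← Category.assoc, ← (yon S).map_comp r' s]
  obtain ⟨M, m, hm, hmsurj, hpb, -⟩ := FinLocFreeQuot.exists_quotient G hfl heq
    (fun Z _ ⟨z, hz⟩ => ⟨z, hz, ⊤, isAffineOpen_top U.left, fun _ _ => trivial⟩)
  let m' : U ⟶ M := m
  haveI : Flat m'.left := hm.2.1
  haveI : LocallyOfFinitePresentation m'.left := hm.2.2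
  haveI : Surjective m'.left := hmsurj
  haveI : Sheaf.IsLocallySurjective a := isLocallySurjective_of_repWith ⟨ha.rep, fun T W g fst snd sq => by
    have : Flat snd.left := ha.property g fst snd sq
    have : LocallyOfFinitePresentation snd.left := hl.property g fst snd sq
    have : Surjective snd.left := hs.property g fst snd sq
    exact fppf_of snd.left⟩
  haveI : Sheaf.IsLocallySurjective ((yon S).map m') :=
    isLocallySurjective_of_repWith ((repWith_yon_map_iff fppf m').2 (fppf_of m'.left))
  haveI : Epi a := (Sheaf.isLocallySurjective_iff_epi a).1 inferInstance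
  haveI : Epi ((yon S).map m') := (Sheaf.isLocallySurjective_iff_epi _).1 inferInstance
  have hpb' : IsPullback ((yon S).map t) ((yon S).map s) ((yon S).map m') ((yon S).map m') :=
    (IsPullback.of_map (Over.forget S) (f := t) (g := s) (h := m') (i := m')
      (Over.OverMorphism.ext hpb.w) hpb).map (yon S)
  haveI : IsFinite m'.left := hm.1
  exact ⟨M, Groth.Agent.ChevGen.isAffine_of_universallyClosed_surjective m'.left,
    nonempty_iso_of_same_kernelPair _ _ _ _ hpb' sq⟩

end Groth.Agent.AlgSpDec
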