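import Groth.Agent.AlgSpDec.GeomRed
import Groth.Agent.GeomConn5.Irred
import Groth.Agent.CAlgOdd.GeomIrrField
import Groth.Agent.FBaseLib.Components
import Mathlib.AlgebraicGeometry.Geometrically.Irreducible

/-!
# Base change of algebraic spaces over a field: openness and connected fibres
-/

set_option backward.isDefEq.respectTransparency false
set_option backward.isDefEq.respectTransparency.types false

universe u v w

open CategoryTheory CategoryTheory.Limits AlgebraicGeometry Opposite AlgSp Topology

namespace Groth.Agent.AlgSpDec.BcConn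

open Groth.Agent.AlgSpLib GeomRed

section General

theorem isPullback_prodMap {C : Type w} [Category.{v} C] [HasBinaryProducts C] (X : C) {B B' : C} (g : B ⟶ B') :
    IsPullback (prod.snd : X ⨯ B ⟶ B) (prod.map (𝟙 X) g) g (prod.snd : X ⨯ B' ⟶ B') :=
  ⟨⟨by simp⟩, ⟨PullbackCone.IsLimit.mk _ (fun s => prod.lift (s.snd ≫ prod.fst) s.fst)
    (fun s => by simp) (fun s => by apply Limits.prod.hom_ext <;> simp [s.condition])
    (fun s l h1 h2 => by
      apply Limits.prod.hom_ext
      · have := h2 =≫ prod.fst
        simpa using this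
      · simpa using h1)⟩⟩

theorem isPullback_prodMap' {C : Type w} [Category.{v} C] [HasBinaryProducts C] (X : C) {B B' : C} (g : B ⟶ B') :
    IsPullback (prod.fst : B ⨯ X ⟶ B) (prod.map g (𝟙 X)) g (prod.fst : B' ⨯ X ⟶ B') :=
  ⟨⟨by simp⟩, ⟨PullbackCone.IsLimit.mk _ (fun s => prod.lift s.fst (s.snd ≫ prod.snd))
    (fun s => by simp) (fun s => by apply Limits.prod.hom_ext <;> simp [s.condition])
    (fun s l h1 h2 => by
      apply Limits.prod.hom_ext
      · simpa using h1
      · have := h2 =≫ prod.snd
        simpa using this)⟩⟩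

variable {S : Scheme.{u}} {F F' G G' : Sp S}

theorem surjective_map_prodMap {f : F ⟶ F'} {g : G ⟶ G'} (hf : Function.Surjective (Points.map f))
    (hg : Function.Surjective (Points.map g)) : Function.Surjective (Points.map (prod.map f g)) := by
  have h1 := surjective_map_of_isPullback (isPullback_prodMap F' g) hg
  have h2 := surjective_map_of_isPullback (isPullback_prodMap' G f) hf
  intro z
  obtain ⟨y, rfl⟩ := h1 z
  obtain ⟨x, rfl⟩ := h2 y
  exact ⟨x, by rw [← Points.map_comp, prod.map_map, Category.comp_id, Category.id_comp]⟩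

/-- An isomorphism of sheaves gives a homeomorphism on points. -/
noncomputable def homeoOfIso (e : F ≅ G) : Points F ≃ₜ Points G where
  toFun := Points.map e.hom
  invFun := Points.map e.inv
  left_inv x := by rw [← Points.map_comp, e.hom_inv_id, Points.map_id]
  right_inv x := by rw [← Points.map_comp, e.inv_hom_id, Points.map_id]
  continuous_toFun := Points.continuous_map _
  continuous_invFun := Points.continuous_map _

theorem map_ofPt_of_fac {T : Over S} {U : Over S} {c : (yon S).obj T ⟶ F} {c' : (yon S).obj U ⟶ G}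
    {f : F ⟶ G} {φ : T ⟶ U} (h : c ≫ f = (yon S).map φ ≫ c') (t : ↥T.left) :
    Points.map f (Points.ofPt c t) = Points.ofPt c' (φ.left t) := by
  rw [Points.map_ofPt, h, ofPt_comp]

theorem image_eq_of_fac {T : Over S} {U : Over S} {c : (yon S).obj T ⟶ F} {c' : (yon S).obj U ⟶ G}
    {f : F ⟶ G} {φ : T ⟶ U} (h : c ≫ f = (yon S).map φ ≫ c') (hc : Function.Surjective (Points.ofPt c))
    (A : Set (Points F)) :
    Points.map f '' A = Points.ofPt c' '' (φ.left '' (Points.ofPt c ⁻¹' A)) := by
  conv_lhs => rw [← Set.image_preimage_eq A hc]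
  rw [Set.image_image, Set.image_image]
  exact Set.image_congr fun t _ => map_ofPt_of_fac h t

theorem connectedComponents_bijective {α : Type*} {β : Type*} [TopologicalSpace α] [TopologicalSpace β]
    {f : α → β} (hc : Continuous f) (ho : IsOpenMap f) (hs : Function.Surjective f)
    (hf : ∀ y, _root_.IsConnected (f ⁻¹' {y})) : Function.Bijective hc.connectedComponentsMap :=
  (ho.isQuotientMap hc hs).isCoinducing.connectedComponentsMap_bijective hf

theorem connectedSpace_of_connectedFibres {α : Type*} {β : Type*} [TopologicalSpace α] [TopologicalSpace β]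
    {f : α → β} (hc : Continuous f) (ho : IsOpenMap f) (hs : Function.Surjective f)
    (hf : ∀ y, _root_.IsConnected (f ⁻¹' {y})) [ConnectedSpace β] : ConnectedSpace α := by
  rw [connectedSpace_iff_connectedComponent]
  obtain ⟨b⟩ := (inferInstance : Nonempty β)
  obtain ⟨a, -⟩ := hs b
  refine ⟨a, Set.eq_univ_of_forall fun a' => ?_⟩
  rw [← ConnectedComponents.coe_eq_coe']
  apply (connectedComponents_bijective hc ho hs hf).1
  rw [Continuous.connectedComponentsMap_mk, Continuous.connectedComponentsMap_mk, ConnectedComponents.coe_eq_coe']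
  rw [PreconnectedSpace.connectedComponent_eq_univ]
  trivial

end General

variable {k : Type u} [Field k]

instance universallyOpen_hom (U : Over (Spec (CommRingCat.of k))) : UniversallyOpen U.hom := inferInstance

/-- The projection from a product of algebraic spaces over a field is open. -/
theorem isOpenMap_snd {X Y : Sp (Spec (CommRingCat.of k))} (hX : IsAlgSpace X) (hY : IsAlgSpace Y) :
    IsOpenMap (Points.map (prod.snd : X ⨯ Y ⟶ Y)) := by
  obtain ⟨U, a, -, has⟩ := hX.atlas
  obtain ⟨V, b, hb, hbs⟩ := hY.atlas
  let c : (yon _).obj (U ⨯ V) ⟶ X ⨯ Y := prod.lift ((yon _).map prod.fst ≫ a) ((yon _).map prod.snd ≫ b)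
  have hc : c = prodComparison (yon _) U V ≫ prod.map a b := by
    apply Limits.prod.hom_ext <;> simp [c, prodComparison]
  have hcs : Function.Surjective (Points.ofPt c) := by
    intro z
    obtain ⟨y, rfl⟩ := surjective_map_prodMap (surjective_map_of_repWith has) (surjective_map_of_repWith hbs) z
    obtain ⟨x, rfl⟩ := (homeoOfIso (asIso (prodComparison (yon _) U V))).surjective y
    refine ⟨Points.toScheme _ x, ?_⟩
    rw [Points.ofPt_eq_map_ofScheme, Points.ofScheme_toScheme, hc, Points.map_comp]
    rfl
  intro A hA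
  rw [image_eq_of_fac (show c ≫ prod.snd = (yon _).map prod.snd ≫ b from prod.lift_snd _ _) hcs]
  refine isOpenMap_ofPt hb _ ?_
  have : UniversallyOpen (prod.snd : U ⨯ V ⟶ V).left := by
    rw [← Over.prodLeftIsoPullback_hom_snd]
    infer_instance
  exact (prod.snd : U ⨯ V ⟶ V).left.isOpenMap _ (hA.preimage (Points.continuous_ofPt c))

/-- Fibres of the projection from `X × Y` when `X` is geometrically connected. -/
theorem isConnected_fibre_snd {X Y : Sp (Spec (CommRingCat.of k))}
    (h : ∀ (K : Type u) [Field K] [Algebra k K], ConnectedSpace (Points (X ⨯ (yon _).obj (ext (k := k) K))))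
    (y : Points Y) : _root_.IsConnected (Points.map (prod.snd : X ⨯ Y ⟶ Y) ⁻¹' {y}) := by
  induction y using Points.ind with
  | h p =>
  obtain ⟨φ, hφ⟩ := Spec.map_surjective p.str
  let i : Algebra k p.K := φ.hom.toAlgebra
  have hstr : p.str = Spec.map (CommRingCat.ofHom (algebraMap k p.K)) := by rw [← hφ]; rfl
  obtain ⟨g, hg⟩ : ∃ g : (yon _).obj (ext (k := k) p.K) ⟶ Y,
      ∀ t, Points.ofPt g t = Points.mk p := by
    let e : ext (k := k) p.K ≅ p.pt := Over.isoMk (Iso.refl _) (by simp [hstr])
    refine ⟨(yon _).map e.hom ≫ p.toHom, fun t => ?_⟩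
    rw [ofPt_comp]
    exact Points.ofPt_toHom p _
  have sq := isPullback_prodMap X g
  have e1 := image_map_snd_preimage_fst sq Set.univ
  have e2 : Points.map g '' Set.univ = {Points.mk p} := by
    apply Set.eq_singleton_iff_unique_mem.2
    refine ⟨⟨Points.ofScheme _ (IsLocalRing.closedPoint p.K), trivial, ?_⟩, ?_⟩
    · rw [← Points.ofPt_eq_map_ofScheme, hg]
    · rintro _ ⟨z, -, rfl⟩
      rw [← Points.ofScheme_toScheme _ z, ← Points.ofPt_eq_map_ofScheme, hg]
  rw [← e2, ← e1, Set.preimage_univ]
  have := h p.K
  exact isConnected_univ.image _ (Points.continuous_map _).continuousOn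

theorem bijective_snd {X Y : Sp (Spec (CommRingCat.of k))} (hX : IsAlgSpace X) (hY : IsAlgSpace Y)
    (h : ∀ (K : Type u) [Field K] [Algebra k K], ConnectedSpace (Points (X ⨯ (yon _).obj (ext (k := k) K)))) :
    Function.Bijective (Continuous.connectedComponentsMap (Points.continuous_map (prod.snd : X ⨯ Y ⟶ Y))) :=
  connectedComponents_bijective _ (isOpenMap_snd hX hY)
    (fun y => (isConnected_fibre_snd h y).nonempty) (isConnected_fibre_snd h)

section Change

variable {K L : Type u} [Field K] [Algebra k K] [Field L] [Algebra k L] (g : ext (k := k) L ⟶ ext (k := k) K)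
  {X : Sp (Spec (CommRingCat.of k))} {U : Over (Spec (CommRingCat.of k))} {a : (yon _).obj U ⟶ X}

variable (X) in
/-- The change of base field. -/
noncomputable def chg : X ⨯ (yon _).obj (ext (k := k) L) ⟶ X ⨯ (yon _).obj (ext (k := k) K) :=
  prod.map (𝟙 X) ((yon _).map g)

theorem chg_fst : chg g X ≫ prod.fst = prod.fst := by simp [chg]

variable (U) in
/-- The change of base field on the chart. -/
noncomputable abbrev chgU : U ⨯ ext (k := k) L ⟶ U ⨯ ext (k := k) K := prod.map (𝟙 U) g

theorem bcChart_chg (a : (yon _).obj U ⟶ X) :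
    bcChart L a ≫ chg g X = (yon _).map (chgU g U) ≫ bcChart K a := by
  apply Limits.prod.hom_ext
  · rw [Category.assoc, Category.assoc, chg_fst, bcChart, bcChart, prod.lift_fst, prod.lift_fst,
      ← Category.assoc, ← Functor.map_comp, prod.map_fst, Category.comp_id]
  · rw [Category.assoc, Category.assoc, chg, prod.map_snd, bcChart, bcChart, prod.lift_snd, prod.lift_snd_assoc,
      ← Functor.map_comp, ← Functor.map_comp, prod.map_snd]

theorem isPullback_chg (a : (yon _).obj U ⟶ X) :
    IsPullback ((yon _).map (chgU g U)) (bcChart L a) (bcChart K a) (chg g X) := by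
  refine IsPullback.of_right ?_ (bcChart_chg g a).symm (isPullback_bcChart K a)
  rw [← Functor.map_comp, prod.map_fst, Category.comp_id, chg_fst]
  exact isPullback_bcChart L a

theorem isPullback_chgU_left :
    IsPullback (prod.snd : U ⨯ ext (k := k) L ⟶ _).left (chgU g U).left g.left
      (prod.snd : U ⨯ ext (k := k) K ⟶ _).left :=
  (isPullback_prodMap U g).map (Over.forget _)

theorem surjective_bcChart (hs : RepWith @Surjective a) : Function.Surjective (Points.ofPt (bcChart L a)) :=
  surjective_ofPt (bcChart_surjective L hs)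

theorem image_chg (hs : RepWith @Surjective a) (A : Set (Points (X ⨯ (yon _).obj (ext (k := k) L)))) :
    Points.map (chg g X) '' A =
      Points.ofPt (bcChart K a) '' ((chgU g U).left '' (Points.ofPt (bcChart L a) ⁻¹' A)) :=
  image_eq_of_fac (bcChart_chg g a) (surjective_bcChart hs) A

theorem preimage_image_chg (a : (yon _).obj U ⟶ X) (A : Set (Points (X ⨯ (yon _).obj (ext (k := k) L)))) :
    Points.ofPt (bcChart K a) ⁻¹' (Points.map (chg g X) '' A) =
      (chgU g U).left '' (Points.ofPt (bcChart L a) ⁻¹' A) := by
  refine Set.Subset.antisymm ?_ ?_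
  · rintro w ⟨z, hz, hzw⟩
    rw [Points.ofPt_eq_map_ofScheme] at hzw
    obtain ⟨y, hy₁, hy₂⟩ := exists_point_of_isPullback (isPullback_chg g a) hzw.symm
    rw [← Points.ofScheme_toScheme _ y, ← Points.ofPt_eq_map_ofScheme] at hy₂
    rw [Points.map_ofPt, Category.id_comp] at *
    refine ⟨Points.toScheme _ y, by rwa [Set.mem_preimage, hy₂], ?_⟩
    rw [← Points.ofScheme_toScheme _ y, Points.map_ofPt, Category.id_comp] at hy₁
    exact ((Points.toScheme_ofPt _ _).symm.trans (congrArg (Points.toScheme _) hy₁)).trans
      (Points.toScheme_ofScheme _ w)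
  · rintro _ ⟨t, ht, rfl⟩
    exact ⟨_, ht, map_ofPt_of_fac (bcChart_chg g a) t⟩

theorem isOpenMap_chg (hX : IsAlgSpace X) : IsOpenMap (Points.map (chg g X)) := by
  obtain ⟨U, a, ha, has⟩ := hX.atlas
  intro A hA
  rw [isOpen_iff_chart (bcChart_etale K ha) (bcChart_surjective K has), preimage_image_chg]
  have : @UniversallyOpen (Spec (CommRingCat.of L)) (Spec (CommRingCat.of K)) g.left := inferInstance
  have : UniversallyOpen (chgU g U).left := MorphismProperty.of_isPullback (isPullback_chgU_left g) this
  exact (chgU g U).left.isOpenMap _ (hA.preimage (Points.continuous_ofPt _))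

theorem surjective_chg : Function.Surjective (Points.map (chg g X)) := by
  refine surjective_map_of_isPullback (isPullback_prodMap X _) (surjective_map_of_repWith ?_)
  exact (repWith_yon_map_iff _ _).2 ⟨fun x => ⟨IsLocalRing.closedPoint L, Subsingleton.elim (α := PrimeSpectrum K) _ _⟩⟩

/-- Over a separably closed field a change of the base field has connected fibres. -/
theorem isConnected_fibre_chg [IsSepClosed K] (hX : IsAlgSpace X) (x : Points (X ⨯ (yon _).obj (ext (k := k) K))) :
    _root_.IsConnected (Points.map (chg g X) ⁻¹' {x}) := by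
  obtain ⟨U, a, -, has⟩ := hX.atlas
  obtain ⟨w, rfl⟩ := surjective_bcChart (L := K) has x
  obtain ⟨φ, hφ⟩ := Spec.map_surjective g.left
  let i : Algebra K L := φ.hom.toAlgebra
  have hg : GeometricallyIrreducible g.left := by
    rw [← hφ]
    exact GeomConn5.geometricallyIrreducible_spec_field K L (CAlgOdd.GeomIrrField.separable_mem_range K L)
  have := MorphismProperty.of_isPullback (isPullback_chgU_left (U := U) g) hg
  have : @UniversallyOpen (Spec (CommRingCat.of L)) (Spec (CommRingCat.of K)) g.left := inferInstance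
  have : UniversallyOpen (chgU g U).left := MorphismProperty.of_isPullback (isPullback_chgU_left g) this
  have h0 : _root_.IsConnected ((chgU g U).left ⁻¹' {w}) :=
    ((chgU g U).left.isIrreducible_preimage (chgU g U).left.isOpenMap isIrreducible_singleton).isConnected
  have e := image_map_snd_preimage_fst (isPullback_chg g a) {Points.ofScheme _ w}
  rw [Set.image_singleton, ← Points.ofPt_eq_map_ofScheme] at e
  rw [← e]
  refine IsConnected.image ?_ _ (Points.continuous_map _).continuousOn
  have e' : Points.map ((yon _).map (chgU g U)) ⁻¹' {Points.ofScheme _ w} =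
      Points.schemeHomeo (U ⨯ ext (k := k) L) '' ((chgU g U).left ⁻¹' {w}) := by
    ext z
    obtain ⟨t, rfl⟩ := (Points.schemeHomeo (U ⨯ ext (k := k) L)).surjective z
    rw [(Points.schemeHomeo _).injective.mem_set_image, Set.mem_preimage, Set.mem_preimage,
      Set.mem_singleton_iff, Set.mem_singleton_iff, Points.map_yon_map_apply]
    exact (Points.schemeHomeo _).injective.eq_iff
  rw [e']
  exact h0.image _ (Points.schemeHomeo _).continuous.continuousOn

include g in
theorem connectedSpace_chg [IsSepClosed K] (hX : IsAlgSpace X)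
    [ConnectedSpace (Points (X ⨯ (yon _).obj (ext (k := k) K)))] :
    ConnectedSpace (Points (X ⨯ (yon _).obj (ext (k := k) L))) :=
  connectedSpace_of_connectedFibres (Points.continuous_map (chg g X)) (isOpenMap_chg g hX) (surjective_chg g)
    (isConnected_fibre_chg g hX)

end Change

section Base

variable (X : Sp (Spec (CommRingCat.of k)))

theorem isIso_ext_self_hom : IsIso (ext (k := k) k).hom := by
  simp only [Over.mk_hom, Algebra.algebraMap_self]
  erw [CommRingCat.ofHom_id, Spec.map_id]
  exact IsIso.id _

/-- The spectrum of the base field is the final object. -/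
noncomputable def isTerminalExtSelf : IsTerminal (ext (k := k) k) := by
  have := isIso_ext_self_hom (k := k)
  exact Over.mkIdTerminal.ofIso (Over.isoMk (asIso (ext (k := k) k).hom) (by simp)).symm

theorem isIso_fst_self : IsIso (prod.fst : X ⨯ (yon _).obj (ext (k := k) k) ⟶ X) := by
  have ht : IsTerminal ((yon _).obj (ext (k := k) k)) := (isTerminalExtSelf (k := k)).isTerminalObj (yon _) _
  exact ⟨prod.lift (𝟙 X) (ht.from X), by apply Limits.prod.hom_ext <;> [simp; exact ht.hom_ext _ _], by simp⟩

/-- The base change to the base field itself. -/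
noncomputable def selfHomeo : Points (X ⨯ (yon _).obj (ext (k := k) k)) ≃ₜ Points X :=
  haveI := isIso_fst_self X
  homeoOfIso (asIso prod.fst)

variable (K : Type u) [Field K] [Algebra k K]

/-- The structure map of an extension field as a morphism of base changes. -/
noncomputable def toSelf : ext (k := k) K ⟶ ext (k := k) k :=
  Over.homMk (Spec.map (CommRingCat.ofHom (algebraMap k K))) (by simp [← Spec.map_comp])

theorem map_fst_eq :
    Points.map (prod.fst : X ⨯ (yon _).obj (ext (k := k) K) ⟶ X) = selfHomeo X ∘ Points.map (chg (toSelf K) X) := by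
  funext z
  show _ = Points.map prod.fst (Points.map (chg (toSelf K) X) z)
  rw [← Points.map_comp, chg_fst]

theorem isOpenMap_fst (hX : IsAlgSpace X) :
    IsOpenMap (Points.map (prod.fst : X ⨯ (yon _).obj (ext (k := k) K) ⟶ X)) := by
  rw [map_fst_eq]
  exact (selfHomeo X).isOpenMap.comp (isOpenMap_chg _ hX)

theorem surjective_fst :
    Function.Surjective (Points.map (prod.fst : X ⨯ (yon _).obj (ext (k := k) K) ⟶ X)) := by
  rw [map_fst_eq]
  exact (selfHomeo X).surjective.comp (surjective_chg _)

theorem isConnected_fibre_fst [IsSepClosed k] (hX : IsAlgSpace X) (x : Points X) :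
    _root_.IsConnected (Points.map (prod.fst : X ⨯ (yon _).obj (ext (k := k) K) ⟶ X) ⁻¹' {x}) := by
  rw [map_fst_eq, Set.preimage_comp]
  have : selfHomeo X ⁻¹' {x} = {(selfHomeo X).symm x} := by
    ext z
    simp [← (selfHomeo X).eq_symm_apply]
  rw [this]
  exact isConnected_fibre_chg _ hX _

end Base

/-- Geometric connectedness may be tested over one separably closed extension field. -/
theorem geomConnected_of_sepClosed {X : Sp (Spec (CommRingCat.of k))} (hX : IsAlgSpace X)
    (Ω : Type u) [Field Ω] [Algebra k Ω] [IsSepClosed Ω]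
    [ConnectedSpace (Points (X ⨯ (yon _).obj (ext (k := k) Ω)))]
    (K : Type u) [Field K] [Algebra k K] : ConnectedSpace (Points (X ⨯ (yon _).obj (ext (k := k) K))) := by
  obtain ⟨M, iM, ikM, iKM, iΩM, t1, t2⟩ := FBaseLib.exists_field_compositum (k := k) K Ω
  let g : ext (k := k) M ⟶ ext (k := k) K := Over.homMk (Spec.map (CommRingCat.ofHom (algebraMap K M))) (by
    simp only [Over.mk_hom]
    rw [← Spec.map_comp, ← CommRingCat.ofHom_comp, ← IsScalarTower.algebraMap_eq])
  let g' : ext (k := k) M ⟶ ext (k := k) Ω := Over.homMk (Spec.map (CommRingCat.ofHom (algebraMap Ω M))) (by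
    simp only [Over.mk_hom]
    rw [← Spec.map_comp, ← CommRingCat.ofHom_comp, ← IsScalarTower.algebraMap_eq])
  have := connectedSpace_chg g' hX
  exact (surjective_chg (X := X) g).connectedSpace (Points.continuous_map _)

end Groth.Agent.AlgSpDec.BcConn
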