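import Groth.Agent.AlgSpDec.BcConn
import Groth.Agent.AlgSpDec.MonoRep
import Mathlib.FieldTheory.KrullTopology
import Mathlib.FieldTheory.Galois.Basic

/-!
# Galois descent for subsets of base changes of algebraic spaces
-/

set_option backward.isDefEq.respectTransparency false
set_option backward.isDefEq.respectTransparency.types false

universe u

open CategoryTheory CategoryTheory.Limits AlgebraicGeometry Opposite AlgSp Topology TensorProduct

namespace Groth.Agent.AlgSpDec.BcConn

open Groth.Agent.AlgSpLib GeomRed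

variable {k : Type u} [Field k] {K : Type u} [Field K] [Algebra k K]

/-- The action of a field automorphism. -/
noncomputable def galHom (σ : K ≃ₐ[k] K) : ext (k := k) K ⟶ ext (k := k) K :=
  Over.homMk (Spec.map (CommRingCat.ofHom (σ : K →+* K))) (by
    simp only [Over.mk_hom]
    rw [← Spec.map_comp, ← CommRingCat.ofHom_comp]
    congr 2
    exact RingHom.ext σ.commutes)

theorem galHom_inv (σ : K ≃ₐ[k] K) : galHom σ ≫ galHom σ.symm = 𝟙 _ := by
  apply Over.OverMorphism.ext
  simp only [galHom, Over.comp_left, Over.homMk_left, Over.id_left, ← Spec.map_comp, ← CommRingCat.ofHom_comp]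
  erw [← Spec.map_id]
  congr 1
  ext x
  exact σ.apply_symm_apply x

variable {X : Sp (Spec (CommRingCat.of k))}

theorem chg_comp {L L' : Type u} [Field L] [Algebra k L] [Field L'] [Algebra k L']
    (g : ext (k := k) K ⟶ ext (k := k) L) (g' : ext (k := k) L ⟶ ext (k := k) L') :
    chg g X ≫ chg g' X = chg (g ≫ g') X := by
  simp [chg, prod.map_map, ← Functor.map_comp]

theorem chg_id : chg (𝟙 (ext (k := k) K)) X = 𝟙 _ := by simp [chg]

/-- Points with the same image in a smaller base change differ by an automorphism. -/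
theorem exists_gal [Normal k K] {K' : Type u} [Field K'] [Algebra k K'] (g : ext (k := k) K ⟶ ext (k := k) K')
    {z z' : Points (X ⨯ (yon _).obj (ext (k := k) K))}
    (h : Points.map (chg g X) z = Points.map (chg g X) z') :
    ∃ σ : K ≃ₐ[k] K, galHom σ ≫ g = g ∧ Points.map (chg (galHom σ) X) z = z' := by
  obtain ⟨P, hP₁, hP₂⟩ := exists_point_of_isPullback (IsPullback.of_hasPullback (chg g X) (chg g X)) h
  induction P using Points.ind with
  | h p =>
  let s : (yon _).obj p.pt ⟶ _ := p.toHom ≫ pullback.fst (chg g X) (chg g X)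
  let t : (yon _).obj p.pt ⟶ _ := p.toHom ≫ pullback.snd (chg g X) (chg g X)
  have hst : s ≫ chg g X = t ≫ chg g X := by simp [s, t, pullback.condition]
  have hz : Points.ofPt s (IsLocalRing.closedPoint p.K) = z := by
    rw [← hP₁, ← Points.ofPt_toHom p (IsLocalRing.closedPoint p.K), Points.map_ofPt]
  have hz' : Points.ofPt t (IsLocalRing.closedPoint p.K) = z' := by
    rw [← hP₂, ← Points.ofPt_toHom p (IsLocalRing.closedPoint p.K), Points.map_ofPt]
  let j₁ : p.pt ⟶ ext (k := k) K := (yon _).preimage (s ≫ prod.snd)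
  let j₂ : p.pt ⟶ ext (k := k) K := (yon _).preimage (t ≫ prod.snd)
  have hj : j₁ ≫ g = j₂ ≫ g := (yon _).map_injective (by
    simp only [j₁, j₂, Functor.map_comp, Functor.map_preimage, Category.assoc]
    have := hst =≫ prod.snd
    simpa [chg] using this)
  have hfst : s ≫ prod.fst = t ≫ prod.fst := by
    have := hst =≫ prod.fst
    simpa [chg] using this
  obtain ⟨φ₁, e₁⟩ := Spec.map_surjective j₁.left
  obtain ⟨φ₂, e₂⟩ := Spec.map_surjective j₂.left
  obtain ⟨ψ, eψ⟩ := Spec.map_surjective g.left
  obtain ⟨θ, eθ⟩ := Spec.map_surjective p.str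
  have w₁ : CommRingCat.ofHom (algebraMap k K) ≫ φ₁ = θ := by
    apply Spec.map_injective
    rw [Spec.map_comp, e₁, eθ]
    exact Over.w j₁
  have w₂ : CommRingCat.ofHom (algebraMap k K) ≫ φ₂ = θ := by
    apply Spec.map_injective
    rw [Spec.map_comp, e₂, eθ]
    exact Over.w j₂
  have wψ : ψ ≫ φ₁ = ψ ≫ φ₂ := by
    apply Spec.map_injective
    rw [Spec.map_comp, Spec.map_comp, e₁, e₂, eψ, ← Over.comp_left, hj, Over.comp_left]
  let i : Algebra K p.K := φ₁.hom.toAlgebra
  let i' : Algebra k p.K := θ.hom.toAlgebra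
  have : IsScalarTower k K p.K := IsScalarTower.of_algebraMap_eq' (by
    show θ.hom = φ₁.hom.comp (algebraMap k K)
    rw [← w₁]; rfl)
  have hc : ∀ r, φ₂.hom (algebraMap k K r) = θ.hom r := fun r => by rw [← w₂]; rfl
  let f₂ : K →ₐ[k] p.K := AlgHom.mk φ₂.hom hc
  let σ : K ≃ₐ[k] K := AlgHom.restrictNormal' (K₁ := K) f₂ K
  have hσ : ∀ x, φ₁.hom (σ x) = φ₂.hom x := fun x => AlgHom.restrictNormal_commutes f₂ K x
  refine ⟨σ, ?_, ?_⟩
  · apply Over.OverMorphism.ext
    rw [Over.comp_left, ← eψ]
    show Spec.map (CommRingCat.ofHom (σ : K →+* K)) ≫ Spec.map ψ = Spec.map ψ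
    rw [← Spec.map_comp]
    congr 1
    ext x
    apply φ₁.hom.injective
    show φ₁.hom (σ (ψ.hom x)) = φ₁.hom (ψ.hom x)
    rw [hσ]
    exact (DFunLike.congr_fun (congrArg CommRingCat.Hom.hom wψ) x).symm
  · have hj' : j₁ ≫ galHom σ = j₂ := by
      apply Over.OverMorphism.ext
      rw [Over.comp_left, ← e₁, ← e₂]
      show Spec.map φ₁ ≫ Spec.map (CommRingCat.ofHom (σ : K →+* K)) = Spec.map φ₂
      rw [← Spec.map_comp]
      congr 1
      ext x
      exact hσ x
    have ht : t = s ≫ chg (galHom σ) X := by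
      apply Limits.prod.hom_ext
      · exact hfst.symm.trans (((Category.assoc s _ _).trans (congrArg (s ≫ ·) (chg_fst _))).symm)
      · refine Eq.trans ?_ ((Category.assoc s _ _).trans (congrArg (s ≫ ·) (prod.map_snd _ _))).symm
        rw [← Category.assoc]
        have := congrArg (yon _).map hj'
        rw [Functor.map_comp, Functor.map_preimage, Functor.map_preimage] at this
        exact this.symm
    rw [← hz, ← hz', Points.map_ofPt, ← ht]

theorem isClosedMap_chg {K' : Type u} [Field K'] [Algebra k K'] (g : ext (k := k) K ⟶ ext (k := k) K')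
    [Algebra.IsIntegral k K] (hX : IsAlgSpace X) : IsClosedMap (Points.map (chg g X)) := by
  obtain ⟨U, a, ha, has⟩ := hX.atlas
  intro A hA
  rw [← isOpen_compl_iff, isOpen_iff_chart (bcChart_etale K' ha) (bcChart_surjective K' has),
    Set.preimage_compl, preimage_image_chg, isOpen_compl_iff]
  obtain ⟨ψ, eψ⟩ := Spec.map_surjective g.left
  have hg : @IsIntegralHom (Spec (CommRingCat.of K)) (Spec (CommRingCat.of K')) g.left := by
    rw [← eψ, IsIntegralHom.SpecMap_iff]
    have e : CommRingCat.ofHom (algebraMap k K') ≫ ψ = CommRingCat.ofHom (algebraMap k K) := by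
      apply Spec.map_injective
      rw [Spec.map_comp, eψ]
      exact Over.w g
    refine RingHom.IsIntegral.tower_top (algebraMap k K') ψ.hom ?_
    have e' : ψ.hom.comp (algebraMap k K') = algebraMap k K := congrArg CommRingCat.Hom.hom e
    rw [e']
    exact algebraMap_isIntegral_iff.mpr inferInstance
  have : IsIntegralHom (chgU g U).left := MorphismProperty.of_isPullback (isPullback_chgU_left g) hg
  exact (chgU g U).left.isClosedMap _ (hA.preimage (Points.continuous_ofPt _))

theorem isClosedMap_fst [Algebra.IsIntegral k K] (hX : IsAlgSpace X) :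
    IsClosedMap (Points.map (prod.fst : X ⨯ (yon _).obj (ext (k := k) K) ⟶ X)) := by
  rw [map_fst_eq]
  exact (selfHomeo X).isClosedMap.comp (isClosedMap_chg _ hX)

theorem chg_eq_of_fst_eq {z z' : Points (X ⨯ (yon _).obj (ext (k := k) K))}
    (h : Points.map (prod.fst : X ⨯ (yon _).obj (ext (k := k) K) ⟶ X) z = Points.map prod.fst z') :
    Points.map (chg (toSelf K) X) z = Points.map (chg (toSelf K) X) z' := by
  rw [map_fst_eq] at h
  exact (selfHomeo X).injective h

theorem fst_chg {K' : Type u} [Field K'] [Algebra k K'] (g : ext (k := k) K ⟶ ext (k := k) K')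
    (z : Points (X ⨯ (yon _).obj (ext (k := k) K))) :
    Points.map prod.fst (Points.map (chg g X) z) = Points.map prod.fst z := by
  rw [← Points.map_comp, chg_fst]

/-- A closed subset stable under the Galois group descends. -/
theorem exists_closed_descent [Normal k K] [Algebra.IsIntegral k K] (hX : IsAlgSpace X)
    {T : Set (Points (X ⨯ (yon _).obj (ext (k := k) K)))} (hT : IsClosed T)
    (hσ : ∀ σ : K ≃ₐ[k] K, Points.map (chg (galHom σ) X) '' T = T) :
    ∃ T₀ : Set (Points X), IsClosed T₀ ∧
      Points.map (prod.fst : X ⨯ (yon _).obj (ext (k := k) K) ⟶ X) ⁻¹' T₀ = T := by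
  refine ⟨_, isClosedMap_fst hX T hT, Set.Subset.antisymm ?_ (Set.subset_preimage_image _ _)⟩
  rintro z ⟨z₀, hz₀, hz⟩
  obtain ⟨σ, -, rfl⟩ := exists_gal (toSelf K) (chg_eq_of_fst_eq hz)
  exact hσ σ ▸ ⟨z₀, hz₀, rfl⟩

/-- The inclusion of an intermediate field as a morphism. -/
noncomputable def fieldHom (k' : IntermediateField k K) : ext (k := k) K ⟶ ext (k := k) k' :=
  Over.homMk (Spec.map (CommRingCat.ofHom (algebraMap k' K))) (by
    simp only [Over.mk_hom]
    rw [← Spec.map_comp, ← CommRingCat.ofHom_comp, ← IsScalarTower.algebraMap_eq])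

/-- The inclusion between intermediate fields as a morphism. -/
noncomputable def inclHom {k₁ k₂ : IntermediateField k K} (h : k₁ ≤ k₂) :
    ext (k := k) k₂ ⟶ ext (k := k) k₁ :=
  Over.homMk (Spec.map (CommRingCat.ofHom (IntermediateField.inclusion h).toRingHom)) (by
    simp only [Over.mk_hom]
    rw [← Spec.map_comp, ← CommRingCat.ofHom_comp]
    rfl)

theorem fieldHom_incl {k₁ k₂ : IntermediateField k K} (h : k₁ ≤ k₂) :
    fieldHom k₂ ≫ inclHom h = fieldHom k₁ := by
  apply Over.OverMorphism.ext
  simp only [fieldHom, inclHom, Over.comp_left, Over.homMk_left, ← Spec.map_comp, ← CommRingCat.ofHom_comp]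
  rfl

section Affine

variable (R : Type u) [CommRing R] [Algebra k R]

variable (k) in
/-- An affine scheme over a field. -/
noncomputable abbrev specOver : Over (Spec (CommRingCat.of k)) := Over.mk (Spec.map (CommRingCat.ofHom (algebraMap k R)))

variable (K) in
/-- The base change of an affine scheme. -/
noncomputable def specIso : (specOver k R ⨯ ext (k := k) K).left ≅ Spec (CommRingCat.of (R ⊗[k] K)) :=
  Over.prodLeftIsoPullback (specOver k R) (ext K) ≪≫ pullbackSpecIso k R K

theorem specIso_natural (k' : IntermediateField k K) :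
    (specIso K R).inv ≫ (chgU (fieldHom k') (specOver k R)).left =
      Spec.map (CommRingCat.ofHom (Algebra.TensorProduct.map (AlgHom.id k R) k'.val).toRingHom) ≫
        (specIso k' R).inv := by
  rw [← cancel_mono (Over.prodLeftIsoPullback (specOver k R) (ext (k := k) k')).hom]
  apply pullback.hom_ext
  · simp only [Category.assoc, Over.prodLeftIsoPullback_hom_fst, specIso, Iso.trans_inv, Iso.inv_hom_id_assoc]
    rw [← Over.comp_left, prod.map_fst, Category.comp_id, Over.prodLeftIsoPullback_inv_fst, Over.prodLeftIsoPullback_inv_fst]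
    erw [pullbackSpecIso_inv_fst, pullbackSpecIso_inv_fst]
    rw [← Spec.map_comp, ← CommRingCat.ofHom_comp]
    congr 2
  · simp only [Category.assoc, Over.prodLeftIsoPullback_hom_snd, specIso, Iso.trans_inv, Iso.inv_hom_id_assoc]
    rw [← Over.comp_left, prod.map_snd, Over.comp_left, Over.prodLeftIsoPullback_inv_snd_assoc, Over.prodLeftIsoPullback_inv_snd]
    erw [pullbackSpecIso_inv_snd_assoc, pullbackSpecIso_inv_snd]
    simp only [fieldHom, Over.homMk_left, ← Spec.map_comp, ← CommRingCat.ofHom_comp]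
    congr 2

variable [Algebra.IsIntegral k K]

theorem exists_finite_level (f : R ⊗[k] K) :
    ∃ (k' : IntermediateField k K) (_ : FiniteDimensional k k') (f' : R ⊗[k] k'),
      Algebra.TensorProduct.map (AlgHom.id k R) k'.val f' = f := by
  induction f using TensorProduct.induction_on with
  | zero => exact ⟨⊥, inferInstance, 0, map_zero _⟩
  | tmul r x =>
    exact ⟨IntermediateField.adjoin k {x},
      IntermediateField.adjoin.finiteDimensional (Algebra.IsIntegral.isIntegral x),
      r ⊗ₜ ⟨x, IntermediateField.mem_adjoin_simple_self k x⟩, rfl⟩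
  | add f₁ f₂ h₁ h₂ =>
    obtain ⟨k₁, _, f₁', rfl⟩ := h₁
    obtain ⟨k₂, _, f₂', rfl⟩ := h₂
    refine ⟨k₁ ⊔ k₂, IntermediateField.finiteDimensional_sup _ _,
      Algebra.TensorProduct.map (AlgHom.id k R) (IntermediateField.inclusion le_sup_left) f₁' +
        Algebra.TensorProduct.map (AlgHom.id k R) (IntermediateField.inclusion le_sup_right) f₂', ?_⟩
    simp only [map_add, ← AlgHom.comp_apply, ← Algebra.TensorProduct.map_comp, AlgHom.id_comp]
    rfl

/-- An open neighbourhood in the base change contains one coming from a finite level. -/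
theorem exists_open_level {A : Set ↥(specOver k R ⨯ ext (k := k) K).left} (hA : IsOpen A)
    {w : ↥(specOver k R ⨯ ext (k := k) K).left} (hw : w ∈ A) :
    ∃ (k' : IntermediateField k K) (_ : FiniteDimensional k k')
      (A' : Set ↥(specOver k R ⨯ ext (k := k) k').left), IsOpen A' ∧ IsCompact A' ∧
        (chgU (fieldHom k') (specOver k R)).left w ∈ A' ∧ (chgU (fieldHom k') (specOver k R)).left ⁻¹' A' ⊆ A := by
  let e := (specIso (k := k) K R).hom.homeomorph
  obtain ⟨_, ⟨f, rfl⟩, hwf, hfA⟩ := PrimeSpectrum.isTopologicalBasis_basic_opens.exists_subset_of_mem_open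
    (show e w ∈ e '' A from ⟨w, hw, rfl⟩) (e.isOpen_image.2 hA)
  obtain ⟨k', hk', f', rfl⟩ := exists_finite_level R f
  refine ⟨k', hk', (specIso (k := k) k' R).hom ⁻¹' (PrimeSpectrum.basicOpen f' : Set (PrimeSpectrum (R ⊗[k] k'))),
    (PrimeSpectrum.basicOpen f').isOpen.preimage (Scheme.Hom.continuous _),
    (specIso (k := k) k' R).hom.homeomorph.isCompact_preimage.2 (PrimeSpectrum.isCompact_basicOpen f'), ?_⟩
  have h : ∀ v, (specIso (k := k) k' R).hom ((chgU (fieldHom k') (specOver k R)).left v) =
      Spec.map (CommRingCat.ofHom (Algebra.TensorProduct.map (AlgHom.id k R) k'.val).toRingHom) (e v) := by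
    intro v
    have := specIso_natural (K := K) R k'
    rw [Iso.inv_comp_eq] at this
    rw [← Scheme.Hom.comp_apply, this, Category.assoc, Category.assoc, Iso.inv_hom_id, Category.comp_id]
    rfl
  refine ⟨?_, fun v hv => ?_⟩
  · rw [Set.mem_preimage, h]
    exact hwf
  · rw [Set.mem_preimage, Set.mem_preimage, h] at hv
    obtain ⟨v', hv', e'⟩ := hfA (show e v ∈ _ from hv)
    exact e.injective e' ▸ hv'

end Affine

variable [Algebra.IsIntegral k K]

/-- A neighbourhood of a point coming from a finite level. -/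
theorem exists_nbhd_level (hX : IsAlgSpace X) {V : Set (Points (X ⨯ (yon _).obj (ext (k := k) K)))}
    (hV : IsOpen V) {z : Points (X ⨯ (yon _).obj (ext (k := k) K))} (hz : z ∈ V) :
    ∃ (k' : IntermediateField k K) (_ : FiniteDimensional k k')
      (V' : Set (Points (X ⨯ (yon _).obj (ext (k := k) k')))), IsOpen V' ∧
        Points.map (chg (fieldHom k') X) z ∈ V' ∧ Points.map (chg (fieldHom k') X) ⁻¹' V' ⊆ V := by
  obtain ⟨U, a, u, hU, ha, hu⟩ := exists_affine_chart_at hX (Points.map prod.fst z)
  obtain ⟨φ, hφ⟩ := Spec.map_surjective (U.left.isoSpec.inv ≫ U.hom)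
  let R := Γ(U.left, ⊤)
  let i : Algebra k R := φ.hom.toAlgebra
  let e : specOver k R ≅ U := Over.isoMk U.left.isoSpec.symm (by
    simp only [Over.mk_hom, Iso.symm_hom]
    rw [← hφ]; rfl)
  let a₀ := (yon _).map e.hom ≫ a
  have ha₀ : RepWith @Etale a₀ := repWith_comp ((repWith_yon_map_iff _ _).2
    (show Etale U.left.isoSpec.inv from inferInstance)) ha
  obtain ⟨y, hy₁, hy₂⟩ : ∃ y, Points.map ((yon _).map prod.fst) y = Points.ofScheme _ (e.inv.left u) ∧
      Points.map (bcChart K a₀) y = z := by
    refine exists_point_of_isPullback (isPullback_bcChart K a₀) ?_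
    rw [← Points.ofPt_eq_map_ofScheme, ← hu, ofPt_comp, ← Scheme.Hom.comp_apply, ← Over.comp_left, e.inv_hom_id]
    rfl
  rw [← Points.ofScheme_toScheme _ y, ← Points.ofPt_eq_map_ofScheme] at hy₂
  obtain ⟨k', hk', A', hA', -, hwA, hsub⟩ :=
    exists_open_level R (hV.preimage (Points.continuous_ofPt (bcChart K a₀)))
      (w := Points.toScheme _ y) (by rwa [Set.mem_preimage, hy₂])
  refine ⟨k', hk', Points.ofPt (bcChart k' a₀) '' A', isOpenMap_ofPt (bcChart_etale k' ha₀) _ hA', ?_, ?_⟩
  · rw [← hy₂, map_ofPt_of_fac (bcChart_chg (fieldHom k') a₀)]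
    exact ⟨_, hwA, rfl⟩
  · rintro x ⟨w', hw', hx⟩
    rw [Points.ofPt_eq_map_ofScheme] at hx
    obtain ⟨t, ht₁, ht₂⟩ := exists_point_of_isPullback (isPullback_chg (fieldHom k') a₀) hx
    rw [← Points.ofScheme_toScheme _ t, ← Points.ofPt_eq_map_ofScheme] at ht₂
    rw [← ht₂]
    apply hsub
    rw [← Points.ofScheme_toScheme _ t, Points.map_ofPt, Category.id_comp] at ht₁
    show (chgU (fieldHom k') (specOver k R)).left _ ∈ A'
    rw [((Points.toScheme_ofPt _ _).symm.trans (congrArg (Points.toScheme _) ht₁)).trans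
      (Points.toScheme_ofScheme _ w')]
    exact hw'

/-- Quasi-compact opens descend to a finite level. -/
theorem exists_qc_open_descent (hX : IsAlgSpace X) {V : Set (Points (X ⨯ (yon _).obj (ext (k := k) K)))}
    (hV : IsOpen V) (hVc : IsCompact V) :
    ∃ (k' : IntermediateField k K) (_ : FiniteDimensional k k')
      (V' : Set (Points (X ⨯ (yon _).obj (ext (k := k) k')))), IsOpen V' ∧ IsCompact V' ∧
        Points.map (chg (fieldHom k') X) ⁻¹' V' = V := by
  choose kk hk O hO hzO hOV using fun z : V => exists_nbhd_level hX hV z.2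
  obtain ⟨s, hs⟩ := hVc.elim_finite_subcover (fun z : V => Points.map (chg (fieldHom (kk z)) X) ⁻¹' O z)
    (fun z => (hO z).preimage (Points.continuous_map _))
    (fun z hz => Set.mem_iUnion.2 ⟨⟨z, hz⟩, hzO ⟨z, hz⟩⟩)
  refine ⟨⨆ z ∈ s, kk z, IntermediateField.finiteDimensional_iSup_of_finset, _,
    isOpenMap_chg _ hX V hV, hVc.image (Points.continuous_map _),
    Set.Subset.antisymm ?_ (Set.subset_preimage_image _ _)⟩
  rintro y ⟨z₀, hz₀, e⟩
  obtain ⟨z, hzs, hz⟩ := Set.mem_iUnion₂.1 (hs hz₀)
  apply hOV z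
  have hle : kk z ≤ ⨆ z ∈ s, kk z := le_iSup₂ (f := fun z (_ : z ∈ s) => kk z) z hzs
  rw [Set.mem_preimage] at hz ⊢
  rw [← fieldHom_incl hle, ← chg_comp, Points.map_comp] at hz ⊢
  rwa [← e]

omit [Algebra.IsIntegral k K] in
theorem galHom_fieldHom {k' : IntermediateField k K} {σ : K ≃ₐ[k] K} (h : σ ∈ k'.fixingSubgroup) :
    galHom σ ≫ fieldHom k' = fieldHom k' := by
  apply Over.OverMorphism.ext
  simp only [fieldHom, galHom, Over.comp_left, Over.homMk_left, ← Spec.map_comp, ← CommRingCat.ofHom_comp]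
  congr 2
  ext x
  exact (IntermediateField.mem_fixingSubgroup_iff k' σ).1 h x x.2

omit [Algebra.IsIntegral k K] in
theorem surjective_chg_galHom (σ : K ≃ₐ[k] K) : Function.Surjective (Points.map (chg (galHom σ) X)) :=
  fun z => ⟨Points.map (chg (galHom σ.symm) X) z, by
    rw [← Points.map_comp, chg_comp]
    have e := galHom_inv σ.symm
    rw [AlgEquiv.symm_symm] at e
    rw [e, chg_id, Points.map_id]⟩

omit [Algebra.IsIntegral k K] in
theorem image_preimage_galHom {K' : Type u} [Field K'] [Algebra k K'] {g : ext (k := k) K ⟶ ext (k := k) K'}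
    {σ : K ≃ₐ[k] K} (h : galHom σ ≫ g = g) (V' : Set (Points (X ⨯ (yon _).obj (ext (k := k) K')))) :
    Points.map (chg (galHom σ) X) '' (Points.map (chg g X) ⁻¹' V') = Points.map (chg g X) ⁻¹' V' := by
  have : Points.map (chg (galHom σ) X) ⁻¹' (Points.map (chg g X) ⁻¹' V') = Points.map (chg g X) ⁻¹' V' := by
    ext z
    rw [Set.mem_preimage, Set.mem_preimage, Set.mem_preimage, ← Points.map_comp, chg_comp, h]
  conv_lhs => rw [← this]
  rw [Set.image_preimage_eq _ (surjective_chg_galHom σ)]

/-- Geometric connectedness over a Galois extension from connectedness at all finite levels. -/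
theorem connectedSpace_of_finite_levels [Normal k K] (hX : IsAlgSpace X) [ConnectedSpace (Points X)]
    (h : ∀ (k' : IntermediateField k K), FiniteDimensional k k' →
      ConnectedSpace (Points (X ⨯ (yon _).obj (ext (k := k) k')))) :
    ConnectedSpace (Points (X ⨯ (yon _).obj (ext (k := k) K))) := by
  obtain ⟨x₀⟩ := (inferInstance : Nonempty (Points X))
  have : Nonempty (Points (X ⨯ (yon _).obj (ext (k := k) K))) := ⟨(surjective_fst X K x₀).choose⟩
  refine { toPreconnectedSpace := preconnectedSpace_iff_clopen.2 fun W hW => ?_, toNonempty := this }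
  obtain ⟨U, a, u₀, hU, ha, rfl⟩ := exists_affine_chart_at hX x₀
  let O := Points.map (prod.fst : X ⨯ (yon _).obj (ext (k := k) K) ⟶ X) ⁻¹' Set.range (Points.ofPt a)
  have hO : IsOpen O := (isOpenMap_ofPt ha).isOpen_range.preimage (Points.continuous_map _)
  have hOc : IsCompact O := by
    have eO : O = Set.range (Points.ofPt (bcChart K a)) := by
      refine Set.Subset.antisymm ?_ ?_
      · rintro z ⟨u, hu⟩
        rw [Points.ofPt_eq_map_ofScheme] at hu
        obtain ⟨y, -, rfl⟩ := exists_point_of_isPullback (isPullback_bcChart K a) hu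
        exact ⟨Points.toScheme _ y, by rw [Points.ofPt_eq_map_ofScheme, Points.ofScheme_toScheme]⟩
      · rintro _ ⟨w, rfl⟩
        exact ⟨_, (map_ofPt_of_fac (show bcChart K a ≫ prod.fst = _ from prod.lift_fst _ _) w).symm⟩
    rw [eO]
    have : IsAffine U.left := hU
    have : IsAffine (ext (k := k) K).left := inferInstanceAs (IsAffine (Spec _))
    have : CompactSpace ↥(U ⨯ ext (k := k) K).left :=
      (Scheme.homeoOfIso (Over.prodLeftIsoPullback U (ext (k := k) K))).symm.compactSpace
    exact isCompact_range (Points.continuous_ofPt _)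
  obtain ⟨k', hk', V', -, -, hV'⟩ := exists_qc_open_descent hX (hW.2.inter hO) (hOc.inter_left hW.1)
  have hsat : ∀ z ∈ W, ∀ y, Points.map (chg (fieldHom k') X) z = Points.map (chg (fieldHom k') X) y → y ∈ W := by
    intro z hz y hzy
    obtain ⟨σ, hσ, rfl⟩ := exists_gal _ hzy
    let D := symmDiff W (Points.map (chg (galHom σ) X) ⁻¹' W)
    have hD : IsClopen D := by
      have hW' : IsClopen (Points.map (chg (galHom σ) X) ⁻¹' W) := hW.preimage (Points.continuous_map _)
      exact (hW.diff hW').union (hW'.diff hW)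
    have hF : IsClopen (Points.map (prod.fst : X ⨯ (yon _).obj (ext (k := k) K) ⟶ X) '' D) :=
      ⟨isClosedMap_fst hX _ hD.1, isOpenMap_fst X K hX _ hD.2⟩
    rcases isClopen_iff.1 hF with h0 | h1
    · rw [Set.image_eq_empty] at h0
      have : z ∉ D := by rw [h0]; exact id
      simp only [D, Set.mem_symmDiff, Set.mem_preimage, not_or, not_and, not_not] at this
      exact this.1 hz
    · exfalso
      obtain ⟨z', hz', e⟩ := h1.symm ▸ (Set.mem_univ (Points.ofPt a u₀))
      have hz'O : z' ∈ O := ⟨u₀, e.symm⟩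
      have hσz'O : Points.map (chg (galHom σ) X) z' ∈ O := by
        simp only [O, Set.mem_preimage]
        rw [fst_chg]
        exact ⟨u₀, e.symm⟩
      have key : z' ∈ W ↔ Points.map (chg (galHom σ) X) z' ∈ W := by
        have h1 : z' ∈ W ∩ O ↔ Points.map (chg (galHom σ) X) z' ∈ W ∩ O := by
          rw [← hV', Set.mem_preimage, Set.mem_preimage, ← Points.map_comp, chg_comp, hσ]
        simpa [hz'O, hσz'O] using h1
      simp only [D, Set.mem_symmDiff, Set.mem_preimage] at hz'
      tauto
  have e : W = Points.map (chg (fieldHom k') X) ⁻¹' (Points.map (chg (fieldHom k') X) '' W) := by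
    refine Set.Subset.antisymm (Set.subset_preimage_image _ _) ?_
    rintro y ⟨z, hz, hzy⟩
    exact hsat z hz y hzy
  have := h k' hk'
  rcases isClopen_iff.1 (show IsClopen (Points.map (chg (fieldHom k') X) '' W) from
    ⟨isClosedMap_chg _ hX _ hW.1, isOpenMap_chg _ hX _ hW.2⟩) with h0 | h1
  · exact Or.inl (Set.image_eq_empty.1 h0)
  · exact Or.inr (by rw [e, h1, Set.preimage_univ])

end Groth.Agent.AlgSpDec.BcConn
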