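import Groth.Agent.AlgSpDec.EtSite
import Groth.Prelude.Def_AlgSpCov
import Groth.Prelude.Def_AlgSpEt

/-!
The small etale site inside the big etale site of algebraic spaces.
-/

set_option backward.isDefEq.respectTransparency false
set_option backward.isDefEq.respectTransparency.types false

universe u v

open CategoryTheory CategoryTheory.Limits AlgebraicGeometry Opposite AlgSp Groth.Agent.AlgSpLib

namespace Groth.Agent.AlgSpDec.BigSite

variable {S : Scheme.{u}}

/-- A covering sieve of the big etale site is met etale locally by every scheme over its target. -/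
theorem exists_etale_lift {Y : Space S} {R : Sieve Y}
    (hR : R ∈ spacesTop S (IsEtaleMor (S := S)) Y) :
    ∀ {T : Over S} (h : (AlgSp.ofScheme S).obj T ⟶ Y) (t : ↥T.left),
      ∃ (T' : Over S) (φ : T' ⟶ T) (t' : ↥T'.left), Etale φ.left ∧ φ.left t' = t ∧
        R ((AlgSp.ofScheme S).map φ ≫ h) := by
  induction hR with
  | of Y P hP =>
    intro T h t
    obtain ⟨Z, g, hg, z, hz⟩ := hP.2 (Points.ofPt h.hom t)
    obtain ⟨V, b, hb, hbs⟩ := Z.property.atlas
    obtain ⟨v, rfl⟩ := surjective_ofPt hbs z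
    have hbg := hP.1 g hg b hb
    let W := hbg.rep.pullback h.hom
    obtain ⟨w, hw₁, hw₂⟩ : ∃ w : ↥W.left, (hbg.rep.fst' h.hom).left w = v ∧ (hbg.rep.snd h.hom).left w = t := by
      refine exists_ofPt_of_eq (a := b ≫ g.hom) (b := h.hom) ?_ ?_
      · rw [Functor.relativelyRepresentable.map_fst']
        exact hbg.rep.isPullback h.hom
      · rw [← hz, Points.map_ofPt]
    refine ⟨W, hbg.rep.snd h.hom, w, hbg.property_snd h.hom, hw₂, ?_⟩
    refine ⟨Z, ObjectProperty.homMk (hbg.rep.fst h.hom ≫ b), g, hg, ?_⟩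
    ext : 1
    show (hbg.rep.fst h.hom ≫ b) ≫ g.hom = (yon S).map (hbg.rep.snd h.hom) ≫ h.hom
    rw [Category.assoc]
    exact hbg.rep.w h.hom
  | top Y =>
    intro T h t
    exact ⟨T, 𝟙 T, t, inferInstanceAs (Etale (𝟙 T.left)), rfl, trivial⟩
  | pullback Y R hR Y' f ih =>
    intro T h t
    obtain ⟨T', φ, t', h1, h2, h3⟩ := ih (h ≫ f) t
    exact ⟨T', φ, t', h1, h2, by simpa using h3⟩
  | transitive Y R R' hR hR' ih ih' =>
    intro T h t
    obtain ⟨T', φ, t', h1, h2, h3⟩ := ih h t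
    obtain ⟨T'', ψ, t'', k1, k2, k3⟩ := ih' h3 (𝟙 _) t'
    refine ⟨T'', ψ ≫ φ, t'', ?_, ?_, ?_⟩
    · have := h1
      have := k1
      exact inferInstanceAs (Etale (ψ.left ≫ φ.left))
    · rw [Over.comp_left, Scheme.Hom.comp_apply, k2, h2]
    · simpa using k3

variable {X Y : Space S} (f : Y ⟶ X)

/-- The small etale site inside the big one. -/
noncomputable abbrev incl : EtOver Y.obj ⥤ Over X :=
  EtOver.toEtSpOver Y ⋙ ObjectProperty.ι (fun E : Over Y => IsEtaleMor E.hom.hom) ⋙ Over.map f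

set_option maxHeartbeats 800000 in
theorem isCocontinuous :
    (incl f).IsCocontinuous (etTop Y.obj) (spacesTopOver IsEtaleMor X) := by
  constructor
  intro E R hR
  rw [GrothendieckTopology.mem_over_iff] at hR
  choose T φ t hφ ht hR' using fun x : ↥E.obj.left.left => exists_etale_lift hR (T := E.obj.left) (𝟙 _) x
  let Z : ↥E.obj.left.left → EtOver Y.obj := fun x =>
    EtOver.mk ((yon S).map (φ x) ≫ E.obj.hom)
      (repWith_comp ((repWith_yon_map_iff _ _).2 (hφ x)) E.property)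
  let g : ∀ x, Z x ⟶ E := fun x => EtOver.homMk (φ x) rfl
  refine GrothendieckTopology.superset_covering _ ?_ (ofArrows_mem_etTop Z g fun x => ⟨x, t x, ht x⟩)
  rw [Sieve.ofArrows, Sieve.generate_le_iff]
  rintro _ _ ⟨x⟩
  rw [Sieve.functorPullback_apply, Presieve.functorPullback_mem]
  have h := (Sieve.overEquiv_iff R _).1 (hR' x)
  let k : (incl f).obj (Z x) ⟶ Over.mk (((AlgSp.ofScheme S).map (φ x) ≫ 𝟙 _) ≫ ((incl f).obj E).hom) :=
    Over.homMk (𝟙 _) (by
      apply ObjectProperty.hom_ext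
      show 𝟙 _ ≫ ((yon S).map (φ x) ≫ 𝟙 _) ≫ (E.obj.hom ≫ f.hom) = ((yon S).map (φ x) ≫ E.obj.hom) ≫ f.hom
      simp)
  have hk : (incl f).map (g x) = k ≫ Over.homMk ((AlgSp.ofScheme S).map (φ x) ≫ 𝟙 _) rfl := by
    apply Over.OverMorphism.ext
    show (AlgSp.ofScheme S).map (φ x) = 𝟙 _ ≫ (AlgSp.ofScheme S).map (φ x) ≫ 𝟙 _
    rw [Category.id_comp, Category.comp_id]
  rw [hk]
  exact R.downward_closed h k

theorem coverPreserving : CoverPreserving (etTop Y.obj) (spacesTopOver IsEtaleMor X) (incl f) := by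
  refine ⟨fun {E R} hR => ?_⟩
  obtain ⟨P, hP, hPR⟩ := (etPre Y.obj).mem_toGrothendieck_iff_of_isStableUnderComposition.1 hR
  obtain ⟨ι, Z, g, rfl⟩ := P.exists_eq_ofArrows
  rw [GrothendieckTopology.mem_over_iff]
  refine GrothendieckTopology.superset_covering _ ?_
    (Precoverage.generate_mem_toGrothendieck (J := spacesPre S (IsEtaleMor (S := S)))
      (R := Presieve.ofArrows (fun i => ((incl f).obj (Z i)).left) fun i => ((incl f).map (g i)).left) ⟨?_, ?_⟩)
  · rw [Sieve.generate_le_iff]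
    rintro _ _ ⟨i⟩
    rw [Sieve.overEquiv_iff]
    refine ⟨Z i, g i, Over.homMk (𝟙 _) ?_, hPR _ _ ⟨i⟩, ?_⟩
    · exact (Category.id_comp _).trans (Over.w ((incl f).map (g i))).symm
    · apply Over.OverMorphism.ext
      exact (Category.id_comp _).symm
  · rintro _ _ ⟨i⟩
    exact (isEtaleMor_yon_map_iff (g i).hom.left).2 (EtOver.etale_left (g i))
  · intro x
    obtain ⟨u, rfl⟩ := (Points.schemeHomeo E.obj.left).surjective x
    obtain ⟨i, z, hz⟩ := (ofArrows_mem_etPre_iff Z g).1 hP u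
    refine ⟨_, _, ⟨i⟩, Points.schemeHomeo _ z, ?_⟩
    show Points.map ((yon S).map (g i).hom.left) _ = _
    rw [Points.map_yon_map_apply, hz]

theorem compatiblePreserving :
    CompatiblePreserving.{v} (spacesTopOver IsEtaleMor X) (incl f) := by
  refine ⟨fun ℱ {E T x} hx {E₁ E₂ Z} f₁ f₂ {g₁ g₂} h₁ h₂ heq => ?_⟩
  have sq : IsPullback ((yon S).map (pullback.fst g₁.hom.left g₂.hom.left))
      ((yon S).map (pullback.snd g₁.hom.left g₂.hom.left)) ((yon S).map g₁.hom.left) ((yon S).map g₂.hom.left) :=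
    (IsPullback.of_hasPullback g₁.hom.left g₂.hom.left).map (yon S)
  have e : f₁.left.hom ≫ (yon S).map g₁.hom.left = f₂.left.hom ≫ (yon S).map g₂.hom.left :=
    congrArg (fun k => k.left.hom) heq
  let l : Z ⟶ (incl f).obj (EtOver.pullbackObj g₁ g₂) :=
    Over.homMk (ObjectProperty.homMk (sq.lift f₁.left.hom f₂.left.hom e)) (by
      apply ObjectProperty.hom_ext
      show sq.lift _ _ e ≫ ((yon S).map (pullback.fst g₁.hom.left g₂.hom.left) ≫ E₁.obj.hom) ≫ f.hom = Z.hom.hom
      rw [← Category.assoc, ← Category.assoc, sq.lift_fst, Category.assoc]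
      exact congrArg (fun k => k.hom) (Over.w f₁))
  have l₁ : f₁ = l ≫ (incl f).map (EtOver.pullbackFst g₁ g₂) := by
    apply Over.OverMorphism.ext
    apply ObjectProperty.hom_ext
    exact (sq.lift_fst _ _ e).symm
  have l₂ : f₂ = l ≫ (incl f).map (EtOver.pullbackSnd g₁ g₂) := by
    apply Over.OverMorphism.ext
    apply ObjectProperty.hom_ext
    exact (sq.lift_snd _ _ e).symm
  rw [l₁, l₂, op_comp, op_comp, Functor.map_comp_apply, Functor.map_comp_apply]
  exact congrArg (ℱ.obj.map l.op) (hx _ _ h₁ h₂ (EtOver.pullback_condition g₁ g₂))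

theorem isContinuous :
    (incl f).IsContinuous (etTop Y.obj) (spacesTopOver IsEtaleMor X) :=
  Functor.isContinuous_of_coverPreserving (compatiblePreserving f) (coverPreserving f)

end Groth.Agent.AlgSpDec.BigSite
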