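import Groth.Agent.AlgSpDec.BirationalPreimage

/-!
# Birational morphisms and etale base change
-/

set_option linter.style.haveILetI false
set_option autoImplicit false
set_option backward.isDefEq.respectTransparency false
set_option backward.isDefEq.respectTransparency.types false

universe u

open CategoryTheory CategoryTheory.Limits AlgebraicGeometry AlgSp Topology
open Groth.Agent.AlgSpLib Groth.Agent.AlgSpPts

namespace Groth.Agent.AlgSpDec.Birat

/-- The stalk map is an isomorphism when the morphism becomes one over the local ring. -/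
theorem isIso_stalkMap_of_pullback {X Y : Scheme.{u}} (f : X ⟶ Y) (x : X)
    (h : IsIso (pullback.snd f (Y.fromSpecStalk (f x)))) : IsIso (f.stalkMap x) := by
  let σ := inv (pullback.snd f (Y.fromSpecStalk (f x))) ≫ pullback.fst f (Y.fromSpecStalk (f x))
  have hσ : σ ≫ f = Y.fromSpecStalk (f x) := by
    simp only [σ, Category.assoc, pullback.condition, IsIso.inv_hom_id_assoc]
  let l := pullback.lift (X.fromSpecStalk x) (Spec.map (f.stalkMap x))
    (Scheme.SpecMap_stalkMap_fromSpecStalk f).symm
  have hl : Spec.map (f.stalkMap x) ≫ σ = X.fromSpecStalk x := by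
    have h1 : Spec.map (f.stalkMap x) ≫ inv (pullback.snd f (Y.fromSpecStalk (f x))) = l := by
      rw [IsIso.comp_inv_eq, pullback.lift_snd]
    rw [reassoc_of% h1, pullback.lift_fst]
  have hpt : σ (IsLocalRing.closedPoint _) = x := by
    have := congrArg (fun k : Spec (X.presheaf.stalk x) ⟶ X => k (IsLocalRing.closedPoint _)) hl
    simp only [Scheme.Hom.comp_apply, Scheme.fromSpecStalk_closedPoint] at this
    exact (congrArg σ (IsLocalRing.comap_closedPoint (f.stalkMap x).hom).symm).trans this
  obtain ⟨τ, hτ⟩ : ∃ τ : X.presheaf.stalk x ⟶ Y.presheaf.stalk (f x), Spec.map τ ≫ X.fromSpecStalk x = σ := by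
    have h1 : ∀ x', σ (IsLocalRing.closedPoint _) = x' →
        ∃ τ : X.presheaf.stalk x' ⟶ Y.presheaf.stalk (f x), Spec.map τ ≫ X.fromSpecStalk x' = σ := by
      rintro _ rfl
      exact ⟨_, Scheme.Spec_stalkClosedPointTo_fromSpecStalk σ⟩
    exact h1 x hpt
  refine ⟨τ, ?_, ?_⟩
  · apply Spec.map_injective
    rw [Spec.map_comp, Spec.map_id, ← cancel_mono (Y.fromSpecStalk (f x)), Category.assoc, Category.id_comp,
      Scheme.SpecMap_stalkMap_fromSpecStalk, reassoc_of% hτ, hσ]
  · apply Spec.map_injective
    rw [Spec.map_comp, Spec.map_id, ← cancel_mono (X.fromSpecStalk x), Category.assoc, Category.id_comp, hτ, hl]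

variable {S : Scheme.{u}} {X Y : Sp S}

/-- A point of an etale chart is generic exactly when its image is. -/
theorem mem_genericPoints_iff_chart (hX : IsAlgSpace X) (hXd : IsDecent X) {U : Over S} {a : (yon S).obj U ⟶ X}
    (ha : RepWith @Etale a) (u : ↥U.left) :
    u ∈ genericPoints ↥U.left ↔ Points.ofPt a u ∈ genericPoints (Points X) := by
  have := quasiSober_points hX hXd
  have := t0Space_points hX hXd
  refine ⟨fun hu => ?_, fun h => ?_⟩
  · obtain ⟨x', hx', hs⟩ := exists_genericPoint_specializes (Points.ofPt a u)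
    obtain ⟨u', hu', hu'x⟩ := exists_specializes_lift_of_isDecent hXd ha hs
    obtain rfl : u' = u := (inseparable_of_specializes hu hu').eq
    rwa [hu'x]
  · obtain ⟨g, hg, hgu⟩ := exists_genericPoint_specializes u
    have he := (inseparable_of_specializes h (hgu.map (Points.continuous_ofPt a))).eq
    rwa [eq_of_specializes_of_isDecent hXd ha he.symm hgu]

/-- A point of an etale space is generic exactly when its image is. -/
theorem mem_genericPoints_iff {P : Sp S} (hP : IsAlgSpace P) (hX : IsAlgSpace X) (hPd : IsDecent P)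
    (hXd : IsDecent X) {q : P ⟶ X} (hq : IsEtaleMor q) (p : Points P) :
    p ∈ genericPoints (Points P) ↔ Points.map q p ∈ genericPoints (Points X) := by
  obtain ⟨U, a, ha, has⟩ := hP.atlas
  obtain ⟨u, rfl⟩ := surjective_ofPt has p
  rw [Points.map_ofPt, ← mem_genericPoints_iff_chart hP hPd ha, ← mem_genericPoints_iff_chart hX hXd (hq a ha)]

/-- Finitely many generic points, finitely many components. -/
theorem finite_irreducibleComponents {α : Type*} [TopologicalSpace α] [QuasiSober α] [T0Space α]
    (h : (genericPoints α).Finite) : (irreducibleComponents α).Finite := by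
  have := h.to_subtype
  exact Set.finite_coe_iff.1 (Finite.of_equiv _ genericPoints.equiv)

/-- The base change to an affine etale chart of a birational morphism is birational. -/
theorem isBirational_baseChange (hX : IsAlgSpace X) (hY : IsAlgSpace Y) (hXd : IsDecent X) (hYd : IsDecent Y)
    (hYf : (irreducibleComponents (Points Y)).Finite) {f : X ⟶ Y} (hf : W4stk3decentspacesp2.IsBirational f)
    {V : Over S} [IsAffine V.left] (b : (yon S).obj V ⟶ Y) (hb : RepWith @Etale b) {P : Sp S} (fst : P ⟶ X)
    (snd : P ⟶ (yon S).obj V) (hP : IsPullback fst snd f b) :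
    IsDecent P ∧ (irreducibleComponents (Points P)).Finite ∧
      (irreducibleComponents (Points ((yon S).obj V))).Finite ∧ W4stk3decentspacesp2.IsBirational snd := by
  have hV := IsAlgSpace.yon_obj V
  have hPa : IsAlgSpace P := isAlgSpace_of_isPullback hP hX hV hY
  have hbe := AlgSp.isEtaleMor_of_repWith b hb
  have hfe : IsEtaleMor fst := isEtaleMor_of_isPullback hP.flip hV hY hX hbe
  have hPd := isDecent_of_isEtaleMor hPa hX fst hfe hXd
  have hVd := isDecent_of_isEtaleMor hV hY b hbe hYd
  have := quasiSober_points hPa hPd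
  have := t0Space_points hPa hPd
  have := quasiSober_points hV hVd
  have := t0Space_points hV hVd
  have := quasiSober_points hX hXd
  have := t0Space_points hX hXd
  have := t0Space_points hY hYd
  have := quasiSober_points hY hYd
  have gV := mem_genericPoints_iff hV hY hVd hYd hbe
  have gP := mem_genericPoints_iff hPa hX hPd hXd hfe
  have hgenV : (genericPoints (Points ((yon S).obj V))).Finite := by
    refine ((genericPoints.finite hYf).preimage' fun y _ => ?_).subset fun v hv => (gV v).1 hv
    refine ((finite_fibre hY hYd hb y).image (Points.ofScheme V)).subset fun v hv => ?_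
    obtain ⟨v', rfl⟩ := (Points.schemeEquiv V).surjective v
    exact ⟨v', (Points.ofPt_eq_map_ofScheme b v').trans hv, rfl⟩
  -- the open subscheme of the base change over a generic point
  have key : ∀ x₀ ∈ genericPoints (Points X),
      (∀ p p', Points.map fst p = x₀ → Points.map fst p' = x₀ → Points.map snd p = Points.map snd p' → p = p') ∧
      ∀ p, Points.map fst p = x₀ →
        ∃ (U : Over S) (a : (yon S).obj U ⟶ P) (g : U ⟶ V) (u : ↥U.left), RepWith @IsOpenImmersion a ∧
          a ≫ snd = (yon S).map g ≫ 𝟙 _ ∧ Points.ofPt a u = p ∧ IsIso (g.left.stalkMap u) := by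
    intro x₀ hx₀
    obtain ⟨U, V₀, a, b₀, g, u, ha, hb₀, hag, hau, hiso⟩ := hf.stalkIso x₀ hx₀
    have hv₀ : Points.ofPt b₀ (g.left u) = Points.map f x₀ := by rw [← hau, Points.map_ofPt, hag, ofPt_comp]
    let e := hb₀.rep.snd b
    let d := hb₀.rep.fst' b
    have he : IsOpenImmersion e.left := hb₀.property_snd b
    have sqV := hb₀.rep.isPullback' b
    let R := pullback g d
    let r₁ : R ⟶ U := pullback.fst g d
    let r₂ : R ⟶ hb₀.rep.pullback b := pullback.snd g d
    have sqR : IsPullback r₁ r₂ g d := IsPullback.of_hasPullback g d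
    have big : IsPullback ((yon S).map r₁) ((yon S).map (r₂ ≫ e)) (a ≫ f) b := by
      rw [hag, Functor.map_comp]
      exact (sqR.map (yon S)).paste_vert sqV
    let j : (yon S).obj R ⟶ P :=
      hP.lift ((yon S).map r₁ ≫ a) ((yon S).map (r₂ ≫ e)) (by rw [Category.assoc]; exact big.w)
    have hj₁ : j ≫ fst = (yon S).map r₁ ≫ a := hP.lift_fst _ _ _
    have hj₂ : j ≫ snd = (yon S).map (r₂ ≫ e) := hP.lift_snd _ _ _
    have sqj : IsPullback ((yon S).map r₁) j a fst :=
      IsPullback.of_bot (by rw [hj₂]; exact big) hj₁.symm hP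
    have hjo : RepWith @IsOpenImmersion j := repWith_of_isPullback sqj ha
    have hrange : ∀ p, Points.map fst p = x₀ → ∃ r, Points.ofPt j r = p ∧ r₁.left r = u := fun p hp => by
      obtain ⟨z, hz₁, hz₂⟩ := exists_point_of_isPullback sqj (x := Points.ofScheme U u) (y := p)
        (by rw [← Points.ofPt_eq_map_ofScheme, hau, hp])
      obtain ⟨r, rfl⟩ := (Points.schemeEquiv R).surjective z
      refine ⟨r, (Points.ofPt_eq_map_ofScheme j r).trans hz₂, injective_ofPt ha ?_⟩
      rw [← ofPt_comp, ← hj₁, ← Points.map_ofPt, Points.ofPt_eq_map_ofScheme j r, hau, ← hp, ← hz₂]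
      rfl
    have hgen : ∀ v', v' ⤳ g.left u → v' = g.left u := fun v' h =>
      injective_ofPt hb₀ (inseparable_of_specializes (hv₀ ▸ hf.bijOn.mapsTo hx₀)
        (h.map (Points.continuous_ofPt b₀))).eq
    have hfib : ∀ u', g.left u' = g.left u → u' = u := fun u' h => injective_ofPt ha (by
      rw [hau]
      refine eq_of_map_eq_generic hX hY hXd hYd hf hb₀ hx₀ hv₀ ?_
      rw [Points.map_ofPt, hag, ofPt_comp, h, hv₀])
    have hi₀ : IsIso (pullback.snd g.left (V₀.left.fromSpecStalk (g.left u))) :=
      BiratStalk.isIso_pullback_snd g.left u hgen hfib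
    have sqRl : IsPullback r₁.left r₂.left g.left d.left := sqR.map (Over.forget S)
    have hiR : ∀ v₁, d.left v₁ = g.left u →
        IsIso (pullback.snd r₂.left ((hb₀.rep.pullback b).left.fromSpecStalk v₁)) := by
      intro v₁ hv₁
      obtain ⟨δ, hδ⟩ : ∃ δ, δ ≫ V₀.left.fromSpecStalk (g.left u) =
          (hb₀.rep.pullback b).left.fromSpecStalk v₁ ≫ d.left := by
        rw [← hv₁]
        exact ⟨_, Scheme.SpecMap_stalkMap_fromSpecStalk _⟩
      let K := pullback.snd r₂.left ((hb₀.rep.pullback b).left.fromSpecStalk v₁)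
      have sq1 : IsPullback (pullback.fst r₂.left _ ≫ r₁.left) K g.left (δ ≫ V₀.left.fromSpecStalk (g.left u)) := by
        rw [hδ]
        exact (IsPullback.of_hasPullback r₂.left _).paste_horiz sqRl
      have sq0 : IsPullback (pullback.fst g.left (V₀.left.fromSpecStalk (g.left u)))
          (pullback.snd g.left (V₀.left.fromSpecStalk (g.left u))) g.left (V₀.left.fromSpecStalk (g.left u)) :=
        IsPullback.of_hasPullback _ _
      let l := sq0.lift (pullback.fst r₂.left _ ≫ r₁.left) (K ≫ δ) (by rw [sq1.w, Category.assoc])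
      have sq2 : IsPullback l K (pullback.snd g.left (V₀.left.fromSpecStalk (g.left u))) δ :=
        IsPullback.of_right (by rw [sq0.lift_fst]; exact sq1) (sq0.lift_snd _ _ _) sq0
      exact sq2.isIso_snd_of_isIso
    have hr₂ : ∀ r, r₁.left r = u → d.left (r₂.left r) = g.left u := fun r hr => by
      rw [← Scheme.Hom.comp_apply, ← sqRl.w, Scheme.Hom.comp_apply, hr]
    refine ⟨fun p p' hp hp' hpp => ?_, fun p hp => ?_⟩
    · obtain ⟨r, rfl, hr⟩ := hrange p hp
      obtain ⟨r', rfl, hr'⟩ := hrange p' hp'
      congr 1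
      rw [Points.map_ofPt, Points.map_ofPt, hj₂, ← Category.comp_id ((yon S).map (r₂ ≫ e)), ofPt_comp, ofPt_comp,
        Over.comp_left, Scheme.Hom.comp_apply, Scheme.Hom.comp_apply] at hpp
      have hvv : r₂.left r = r₂.left r' := e.left.isOpenEmbedding.injective ((Points.schemeEquiv V).injective hpp)
      have hi := hiR _ (hr₂ r hr)
      obtain ⟨z, hz, hz'⟩ := Scheme.exists_preimage_of_isPullback
        (IsPullback.of_hasPullback r₂.left ((hb₀.rep.pullback b).left.fromSpecStalk (r₂.left r))) r
        (IsLocalRing.closedPoint _) (Scheme.fromSpecStalk_closedPoint).symm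
      obtain ⟨z₂, hz₂, hz₂'⟩ := Scheme.exists_preimage_of_isPullback
        (IsPullback.of_hasPullback r₂.left ((hb₀.rep.pullback b).left.fromSpecStalk (r₂.left r))) r'
        (IsLocalRing.closedPoint _) (hvv.symm.trans Scheme.fromSpecStalk_closedPoint.symm)
      rw [← hz, ← hz₂]
      congr 1
      exact (pullback.snd r₂.left ((hb₀.rep.pullback b).left.fromSpecStalk (r₂.left r))).isOpenEmbedding.injective
        (hz'.trans hz₂'.symm)
    · obtain ⟨r, rfl, hr⟩ := hrange p hp
      refine ⟨R, j, r₂ ≫ e, r, hjo, by rw [hj₂, Category.comp_id], rfl, ?_⟩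
      have := isIso_stalkMap_of_pullback r₂.left r (hiR _ (hr₂ r hr))
      rw [Over.comp_left, Scheme.Hom.stalkMap_comp]
      infer_instance
  have hbij : Set.BijOn (Points.map snd) (genericPoints (Points P)) (genericPoints (Points ((yon S).obj V))) := by
    refine ⟨fun p hp => (gV _).2 ?_, fun p hp p' hp' he => ?_, fun v hv => ?_⟩
    · rw [← Points.map_comp, ← hP.w, Points.map_comp]
      exact hf.bijOn.mapsTo ((gP p).1 hp)
    · have hx := (gP p).1 hp
      have hx' := (gP p').1 hp'
      have e1 : Points.map fst p = Points.map fst p' := hf.bijOn.injOn hx hx' (by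
        rw [← Points.map_comp, ← Points.map_comp, hP.w, Points.map_comp, Points.map_comp, he])
      exact (key _ hx).1 p p' rfl e1.symm he
    · obtain ⟨x, hx, hfx⟩ := hf.bijOn.surjOn ((gV v).1 hv)
      obtain ⟨p, hp₁, hp₂⟩ := exists_point_of_isPullback hP hfx
      exact ⟨p, (gP p).2 (hp₁ ▸ hx), hp₂⟩
  refine ⟨hPd, finite_irreducibleComponents (Set.Finite.of_injOn hbij.mapsTo hbij.injOn hgenV),
    finite_irreducibleComponents hgenV, ⟨hbij, fun p hp => ?_⟩⟩
  obtain ⟨U, a, g, u, ha, hw, hu, hs⟩ := (key _ ((gP p).1 hp)).2 p rfl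
  exact ⟨U, V, a, 𝟙 _, g, u, ha, repWith_of_isIso _ _, hw, hu, hs⟩

end Groth.Agent.AlgSpDec.Birat
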