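import Groth.Agent.MorLib.Birat
import Groth.Agent.BirNormal.Basic
import Groth.Prelude.Def_Pi1
import Mathlib

/-!
# Integral birational morphisms onto normal schemes
-/

set_option linter.style.haveILetI false
set_option autoImplicit false
set_option backward.isDefEq.respectTransparency false
set_option backward.isDefEq.respectTransparency.types false

universe u

open CategoryTheory CategoryTheory.Limits AlgebraicGeometry

namespace Groth.Agent.AlgSpDec.BiratNormal

variable {X Y : Scheme.{u}}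

/-- Sections of an integral normal scheme over an affine open are integrally closed. -/
theorem isIntegrallyClosed_sections [IsIntegral Y] (hY : Pi1.IsNormalScheme Y) {U : Y.Opens}
    (hU : IsAffineOpen U) [Nonempty U] : IsIntegrallyClosed Γ(Y, U) := by
  refine IsIntegrallyClosed.of_localization_maximal fun p _ _ => ?_
  let q : PrimeSpectrum Γ(Y, U) := ⟨p, inferInstance⟩
  have hyU : hU.fromSpec q ∈ U := hU.opensRange_fromSpec.le ⟨q, rfl⟩
  letI := TopCat.Presheaf.algebra_section_stalk Y.presheaf ⟨_, hyU⟩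
  haveI := hU.isLocalization_stalk' q hyU
  haveI := (hY (hU.fromSpec q)).2
  exact IsIntegrallyClosed.of_equiv (IsLocalization.algEquiv p.primeCompl
    (Y.presheaf.stalk (hU.fromSpec q)) (Localization.AtPrime p)).toRingEquiv

/-- A point with a domain as local ring lies on one component. -/
theorem generic_eq (y : Y) [IsDomain (Y.presheaf.stalk y)] {g g' : Y} (hg : g ∈ genericPoints Y) (hgy : g ⤳ y)
    (hg' : g' ∈ genericPoints Y) (hgy' : g' ⤳ y) : g = g' := by
  let o : ↥(Spec (Y.presheaf.stalk y)) := (⟨⊥, Ideal.isPrime_bot⟩ : PrimeSpectrum _)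
  have key : ∀ {z : Y}, z ∈ genericPoints Y → z ⤳ y → z = Y.fromSpecStalk y o := fun {z} hz hzy => by
    obtain ⟨p, rfl⟩ := (Scheme.range_fromSpecStalk (X := Y) (x := y)).symm.subset hzy
    refine (MorLib.Birat.eq_of_specializes_generic hz ?_).symm
    exact Specializes.map ((PrimeSpectrum.le_iff_specializes _ _).1 bot_le) (Y.fromSpecStalk y).continuous
  rw [key hg hgy, key hg' hgy']

/-- An integral birational morphism from a reduced scheme onto a normal scheme with finitely many components is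
an isomorphism. -/
theorem isIso_of_birational (f : X ⟶ Y) [IsIntegralHom f] (hYn : Pi1.IsNormalScheme Y) [IsReduced X]
    (hYfin : (irreducibleComponents ↥Y).Finite) (hbij : Set.BijOn f (genericPoints X) (genericPoints Y))
    (hiso : ∀ x ∈ genericPoints X, IsIso (f.stalkMap x)) : IsIso f := by
  haveI : ∀ y : Y, _root_.IsReduced (Y.presheaf.stalk y) := fun y => by
    have := (hYn y).1; infer_instance
  haveI : IsReduced Y := isReduced_of_isReduced_stalk Y
  have hloc : ∀ y : Y, ∃ A : Y.Opens, y ∈ A ∧ IsIso (f ∣_ A) := fun y => by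
    have := (hYn y).1
    obtain ⟨g₀, hg₀, hg₀y⟩ := MorLib.Birat.exists_generic y
    have hG : (genericPoints Y \ {g₀}).Finite := (genericPoints.finite hYfin).subset Set.sdiff_subset
    let W : Y.Opens := ⟨(⋃ g ∈ genericPoints Y \ {g₀}, closure {g})ᶜ,
      (hG.isClosed_biUnion fun _ _ => isClosed_closure).isOpen_compl⟩
    have hyW : y ∈ W := fun hm => by
      obtain ⟨g, hg, hm⟩ := Set.mem_iUnion₂.1 hm
      exact hg.2 (generic_eq y hg.1 (specializes_iff_mem_closure.2 hm) hg₀ hg₀y)
    obtain ⟨A, hA, hyA, hAW⟩ := exists_isAffineOpen_mem_and_subset (U := W) hyW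
    have hsp : ∀ z ∈ A, g₀ ⤳ z := fun z hz => by
      obtain ⟨g, hg, hgz⟩ := MorLib.Birat.exists_generic z
      by_cases he : g = g₀
      · exact he ▸ hgz
      · exact absurd (Set.mem_iUnion₂.2 ⟨g, ⟨hg, he⟩, specializes_iff_mem_closure.1 hgz⟩) (hAW hz)
    have hg₀A : g₀ ∈ A := hg₀y.mem_open A.2 hyA
    obtain ⟨x₀, hx₀, hfx⟩ := hbij.surjOn hg₀
    have hx₀A : x₀ ∈ f ⁻¹ᵁ A := show f x₀ ∈ A from hfx.symm ▸ hg₀A
    have hspX : ∀ x ∈ f ⁻¹ᵁ A, x₀ ⤳ x := fun x hx => by
      obtain ⟨g, hg, hgx⟩ := MorLib.Birat.exists_generic x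
      have h1 : f g ∈ A := (hgx.map f.continuous).mem_open A.2 hx
      have h2 : f g = g₀ := (MorLib.Birat.eq_of_specializes_generic (hbij.mapsTo hg) (hsp _ h1)).symm
      rwa [hbij.injOn hg hx₀ (h2.trans hfx.symm)] at hgx
    have hiA : ∀ (Z : Scheme.{u}) [IsReduced Z] (O : Z.Opens) (z₀ : Z) (hz₀ : z₀ ∈ O), (∀ z ∈ O, z₀ ⤳ z) →
        ∃ _ : IsIntegral (O : Scheme.{u}), genericPoint (O : Scheme.{u}) = ⟨z₀, hz₀⟩ := by
      intro Z _ O z₀ hz₀ h
      have hgen : IsGenericPoint (⟨z₀, hz₀⟩ : (O : Scheme.{u})) Set.univ :=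
        Set.eq_univ_of_forall fun z => specializes_iff_mem_closure.mp
          ((O.ι.isOpenEmbedding.isInducing.specializes_iff (x := (⟨z₀, hz₀⟩ : (O : Scheme.{u}))) (y := z)).mp
            (h z.1 z.2))
      haveI : IrreducibleSpace (O : Scheme.{u}) := by
        refine (irreducibleSpace_def _).2 ?_
        show IsIrreducible (Set.univ : Set _)
        rw [← hgen.def]
        exact isIrreducible_singleton.closure
      haveI : IsReduced (O : Scheme.{u}) := isReduced_of_isOpenImmersion O.ι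
      haveI : Nonempty (O : Scheme.{u}) := ⟨⟨z₀, hz₀⟩⟩
      exact ⟨isIntegral_of_irreducibleSpace_of_isReduced _,
        (genericPoint_spec (O : Scheme.{u})).eq hgen⟩
    obtain ⟨iA, eA⟩ := hiA Y A g₀ hg₀A hsp
    obtain ⟨iX, eX⟩ := hiA X (f ⁻¹ᵁ A) x₀ hx₀A hspX
    have hAn : Pi1.IsNormalScheme (A : Scheme.{u}) := fun a => by
      have := (hYn (A.ι a)).1
      have := (hYn (A.ι a)).2
      let e := (asIso (A.ι.stalkMap a)).commRingCatIsoToRingEquiv
      exact ⟨e.symm.toMulEquiv.isDomain, IsIntegrallyClosed.of_equiv e⟩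
    haveI : IsIntegralHom (f ∣_ A) := inferInstance
    refine ⟨A, hyA, BirNormal.isIso_of_isIntegralHom (f ∣_ A)
      (fun U _ hU => isIntegrallyClosed_sections hAn hU) ?_ ?_⟩
    · rw [eX, eA]
      refine A.ι.isOpenEmbedding.injective ?_
      rw [← Scheme.Hom.comp_apply, morphismRestrict_ι]
      exact hfx
    · have h1 : IsIso ((f ∣_ A).stalkMap (genericPoint (f ⁻¹ᵁ A : Scheme.{u}))) := by
        rw [eX]
        have : IsIso (f.stalkMap ((f ⁻¹ᵁ A).ι ⟨x₀, hx₀A⟩)) := hiso x₀ hx₀
        have h2 : IsIso (((f ∣_ A) ≫ A.ι).stalkMap ⟨x₀, hx₀A⟩) := by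
          rw [Scheme.Hom.stalkMap_congr_hom _ _ (morphismRestrict_ι f A), Scheme.Hom.stalkMap_comp]
          infer_instance
        rw [Scheme.Hom.stalkMap_comp] at h2
        exact IsIso.of_isIso_comp_left (A.ι.stalkMap ((f ∣_ A) ⟨x₀, hx₀A⟩)) _
      have hspec := BirNormal.isIso_stalkSpecializes_of_eq (X := (A : Scheme.{u}))
        (x := (f ∣_ A) (genericPoint (f ⁻¹ᵁ A : Scheme.{u}))) (y := genericPoint (A : Scheme.{u}))
      refine (ConcreteCategory.isIso_iff_bijective _).1 ?_
      haveI := h1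
      exact @IsIso.comp_isIso _ _ _ _ _ _ _ (hspec (by
        rw [eX, eA]
        refine A.ι.isOpenEmbedding.injective ?_
        rw [← Scheme.Hom.comp_apply, morphismRestrict_ι]
        exact hfx) _) h1
  choose A hyA hA using hloc
  exact IsZariskiLocalAtTarget.of_iSup_eq_top (P := MorphismProperty.isomorphisms Scheme) A
    (top_le_iff.1 fun y _ => TopologicalSpace.Opens.mem_iSup.2 ⟨y, hyA y⟩) hA

end Groth.Agent.AlgSpDec.BiratNormal
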