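import Groth.Agent.AlgSpDec.BirationalEtale
import Groth.Agent.AlgSpDec.BirationalNormalScheme
import Groth.Agent.AlgSpDec.AffineRep
import Groth.Agent.AlgSpDec.OneFlat
import Groth.Agent.AlgSpLib.Descent2

/-!
# Integral birational morphisms onto normal algebraic spaces
-/

set_option linter.style.haveILetI false
set_option autoImplicit false
set_option backward.isDefEq.respectTransparency false
set_option backward.isDefEq.respectTransparency.types false

universe u

open CategoryTheory CategoryTheory.Limits AlgebraicGeometry AlgSp Topology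
open Groth.Agent.AlgSpLib Groth.Agent.AlgSpPts

namespace Groth.Agent.AlgSpDec.BiratNormal

variable {S : Scheme.{u}}

theorem mem_genericPoints_schemeEquiv {T : Over S} (hT : IsDecent ((yon S).obj T)) (t : ↥T.left) :
    t ∈ genericPoints ↥T.left ↔ Points.schemeEquiv T t ∈ genericPoints (Points ((yon S).obj T)) :=
  Birat.mem_genericPoints_iff_chart (IsAlgSpace.yon_obj T) hT (repWith_of_isIso @Etale (𝟙 _)) t

/-- A birational morphism of schemes, read on the schemes. -/
theorem scheme_birational {U V : Over S} (r : U ⟶ V) (hU : IsDecent ((yon S).obj U))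
    (hV : IsDecent ((yon S).obj V)) (hf : W4stk3decentspacesp2.IsBirational ((yon S).map r)) :
    Set.BijOn r.left (genericPoints U.left) (genericPoints V.left) ∧
      ∀ x ∈ genericPoints U.left, IsIso (r.left.stalkMap x) := by
  have hmap : ∀ t, Points.map ((yon S).map r) (Points.schemeEquiv U t) = Points.schemeEquiv V (r.left t) :=
    fun t => Points.map_yon_map_apply r t
  refine ⟨⟨fun t ht => ?_, fun t ht t' ht' he => ?_, fun v hv => ?_⟩, fun x hx => ?_⟩
  · rw [mem_genericPoints_schemeEquiv hV, ← hmap]
    exact hf.bijOn.mapsTo ((mem_genericPoints_schemeEquiv hU t).1 ht)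
  · refine (Points.schemeEquiv U).injective (hf.bijOn.injOn ((mem_genericPoints_schemeEquiv hU t).1 ht)
      ((mem_genericPoints_schemeEquiv hU t').1 ht') ?_)
    rw [hmap, hmap, he]
  · obtain ⟨x, hx, hxv⟩ := hf.bijOn.surjOn ((mem_genericPoints_schemeEquiv hV v).1 hv)
    obtain ⟨t, rfl⟩ := (Points.schemeEquiv U).surjective x
    exact ⟨t, (mem_genericPoints_schemeEquiv hU t).2 hx, (Points.schemeEquiv V).injective ((hmap t).symm.trans hxv)⟩
  · obtain ⟨U', V', a, b, g, u, ha, hb, hw, hu, hiso⟩ :=
      hf.stalkIso _ ((mem_genericPoints_schemeEquiv hU x).1 hx)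
    obtain ⟨α, rfl⟩ := (yon S).map_surjective a
    obtain ⟨β, rfl⟩ := (yon S).map_surjective b
    have : IsOpenImmersion α.left := (repWith_yon_map_iff @IsOpenImmersion α).1 ha
    have : IsOpenImmersion β.left := (repWith_yon_map_iff @IsOpenImmersion β).1 hb
    obtain rfl : α.left u = x := by
      rw [← Points.toScheme_ofPt, hu]
      exact (Points.schemeEquiv U).left_inv x
    rw [← Functor.map_comp, ← Functor.map_comp] at hw
    have e : α.left ≫ r.left = g.left ≫ β.left := congrArg CommaMorphism.left ((yon S).map_injective hw)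
    have h : IsIso ((α.left ≫ r.left).stalkMap u) := by
      rw [Scheme.Hom.stalkMap_congr_hom _ _ e, Scheme.Hom.stalkMap_comp]
      infer_instance
    rw [Scheme.Hom.stalkMap_comp] at h
    exact IsIso.of_isIso_comp_right (r.left.stalkMap (α.left u)) (α.left.stalkMap u)

variable {X Y : Sp S}

/-- An integral birational morphism from a reduced onto a normal decent space is an isomorphism. -/
theorem isIso_of_birational_space (hX : IsAlgSpace X) (hY : IsAlgSpace Y) (hXd : IsDecent X) (hYd : IsDecent Y)
    (hYf : (irreducibleComponents (Points Y)).Finite) {f : X ⟶ Y} (hi : IsIntegralMor f)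
    (hf : W4stk3decentspacesp2.IsBirational f)
    (hYn : EtaleLocally (fun T => ∀ t : ↥T, IsDomain ↥(T.presheaf.stalk t) ∧
      IsIntegrallyClosed ↥(T.presheaf.stalk t)) Y)
    (hXr : EtaleLocally (fun T => IsReduced T) X) : IsIso f := by
  obtain ⟨V₀, p, hp, hps, hn⟩ := hYn
  have hir := isIntegralMor_iff_repWith.1 hi
  let R₀ := hir.rep.pullback p
  let r₀ : R₀ ⟶ V₀ := hir.rep.snd p
  let q : (yon S).obj R₀ ⟶ X := hir.rep.fst p
  have sq : IsPullback q ((yon S).map r₀) f p := hir.rep.isPullback p
  have hq : RepWith @Etale q := repWith_of_isPullback sq.flip hp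
  have : IsReduced R₀.left := isReduced_chart hXr hq
  have : IsIntegralHom r₀.left := hir.property_snd p
  have hloc : ∀ O : V₀.left.affineOpens, IsIso (r₀.left ∣_ O.1) := fun O => by
    let V : Over S := Over.mk (O.1.ι ≫ V₀.hom)
    let inc : V ⟶ V₀ := CategoryTheory.Over.homMk O.1.ι rfl
    have : IsAffine V.left := O.2
    have : IsOpenImmersion inc.left := inferInstanceAs (IsOpenImmersion O.1.ι)
    let b : (yon S).obj V ⟶ Y := (yon S).map inc ≫ p
    have hb : RepWith @Etale b :=
      repWith_comp ((repWith_yon_map_iff @Etale inc).2 (inferInstanceAs (Etale O.1.ι))) hp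
    let R := pullback r₀ inc
    let r : R ⟶ V := pullback.snd r₀ inc
    have sqR : IsPullback (pullback.fst r₀ inc) r r₀ inc := IsPullback.of_hasPullback r₀ inc
    have big : IsPullback ((yon S).map (pullback.fst r₀ inc) ≫ q) ((yon S).map r) f b :=
      (sqR.map (yon S)).paste_horiz sq
    obtain ⟨hRd, -, hVf, hbr⟩ := Birat.isBirational_baseChange hX hY hXd hYd hYf hf b hb _ _ big
    have hVd : IsDecent ((yon S).obj V) :=
      isDecent_of_isEtaleMor (IsAlgSpace.yon_obj V) hY b (AlgSp.isEtaleMor_of_repWith b hb) hYd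
    have sql : IsPullback (pullback.fst r₀ inc).left r.left r₀.left O.1.ι := sqR.map (Over.forget S)
    have : IsOpenImmersion (pullback.fst r₀ inc).left :=
      MorphismProperty.of_isPullback (P := @IsOpenImmersion) sql.flip (inferInstanceAs (IsOpenImmersion O.1.ι))
    have : IsReduced R.left := isReduced_of_isOpenImmersion (pullback.fst r₀ inc).left
    have : IsIntegralHom r.left :=
      MorphismProperty.of_isPullback (P := @IsIntegralHom) sql ‹IsIntegralHom r₀.left›
    have hVn : Pi1.IsNormalScheme V.left := fun t => by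
      have := (hn (inc.left t)).1
      have := (hn (inc.left t)).2
      let e := (asIso (inc.left.stalkMap t)).commRingCatIsoToRingEquiv
      exact ⟨e.symm.toMulEquiv.isDomain, IsIntegrallyClosed.of_equiv e⟩
    have hVc : (irreducibleComponents ↥V.left).Finite := by
      have := quasiSober_points (IsAlgSpace.yon_obj V) hVd
      have := t0Space_points (IsAlgSpace.yon_obj V) hVd
      exact Birat.finite_irreducibleComponents (((genericPoints.finite hVf).preimage
        (Points.schemeEquiv V).injective.injOn).subset fun t ht => (mem_genericPoints_schemeEquiv hVd t).1 ht)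
    obtain ⟨hbij, hst⟩ := scheme_birational r hRd hVd hbr
    have : IsIso r.left := isIso_of_birational r.left hVn hVc hbij hst
    let e := IsPullback.isoIsPullback _ _ sql.flip (isPullback_morphismRestrict r₀.left O.1)
    have he : e.hom ≫ (r₀.left ∣_ O.1) = r.left := IsPullback.isoIsPullback_hom_fst _ _ _ _
    have : IsIso (e.hom ≫ (r₀.left ∣_ O.1)) := by rw [he]; infer_instance
    exact IsIso.of_isIso_comp_left e.hom _
  have : IsIso r₀.left := IsZariskiLocalAtTarget.of_iSup_eq_top (P := MorphismProperty.isomorphisms Scheme)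
    (fun O : V₀.left.affineOpens => O.1) (iSup_affineOpens_eq_top _) hloc
  have : IsIso r₀ := @isIso_of_reflects_iso _ _ _ _ _ _ r₀ (Over.forget S) ‹IsIso r₀.left› _
  have he : IsEtaleMor p := AlgSp.isEtaleMor_of_repWith p hp
  have hsurj : IsSurjectiveMor p := fun y => by
    obtain ⟨v, hv⟩ := surjective_ofPt hps y
    exact ⟨_, (Points.ofPt_eq_map_ofScheme p v).symm.trans hv⟩
  exact isIso_of_fpqc (f := f) (p := fun _ : PUnit.{u + 1} => (yon S).map r₀) (q := fun _ => q) hX hY
    (fun _ => IsAlgSpace.yon_obj V₀) (fun _ => IsAlgSpace.yon_obj R₀)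
    (isFpqcCover_of_isEtaleMor (IsAlgSpace.yon_obj V₀) hY he hsurj) (fun _ => sq) fun _ => inferInstance

end Groth.Agent.AlgSpDec.BiratNormal
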