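import Groth.Agent.AlgSpDec.BirationalSpace
import Groth.Agent.AlgSpDec.OneFlat
import Groth.Agent.AlgSpDec.FppfFamily
import Groth.Agent.AlgSpLib.FpqcDescent
import Groth.Agent.MorLib.Birat

/-!
# Birational morphisms are isomorphisms over dense opens
-/

set_option linter.style.haveILetI false
set_option autoImplicit false
set_option backward.isDefEq.respectTransparency false
set_option backward.isDefEq.respectTransparency.types false

universe u

open CategoryTheory CategoryTheory.Limits AlgebraicGeometry AlgSp Topology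
open Groth.Agent.AlgSpLib Groth.Agent.AlgSpPts

namespace Groth.Agent.AlgSpDec.Birat

variable {S : Scheme.{u}} {X Y : Sp S}

/-- Disjoint open subschemes form an open subscheme. -/
theorem exists_openImm_sigma (hX : IsAlgSpace X) {ι : Type u} (T : ι → Over S)
    (j : ∀ i, (yon S).obj (T i) ⟶ X) (hj : ∀ i, RepWith @IsOpenImmersion (j i))
    (hd : ∀ i i' v w, Points.ofPt (j i) v = Points.ofPt (j i') w → i = i') :
    ∃ G : (yon S).obj (sigmaOver T) ⟶ X, (∀ i, (yon S).map (sigmaι T i) ≫ G = j i) ∧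
      RepWith @IsOpenImmersion G := by
  obtain ⟨G, hG⟩ := exists_hom_sigma T j
  have hpt : ∀ i (v : ↥(T i).left), Points.ofPt G ((sigmaι T i).left v) = Points.ofPt (j i) v :=
    fun i v => by rw [← ofPt_comp, hG]
  have hmono : Mono G := by
    refine mono_of_yon_injective fun Z a b hab => ?_
    obtain ⟨a, rfl⟩ := (yon S).map_surjective a
    obtain ⟨b, rfl⟩ := (yon S).map_surjective b
    congr 1
    apply Over.OverMorphism.ext
    refine Scheme.Cover.hom_ext ((sigmaOpenCover fun i => (T i).left).pullback₁ a.left) _ _ fun i => ?_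
    let 𝒲 := (sigmaOpenCover fun i => (T i).left).pullback₁ a.left
    let W : Over S := Over.mk (𝒲.f i ≫ Z.hom)
    let w : W ⟶ Z := CategoryTheory.Over.homMk (𝒲.f i) rfl
    let a' : W ⟶ T i := CategoryTheory.Over.homMk (pullback.snd a.left (Sigma.ι (fun i => (T i).left) i)) (by
      change _ = pullback.fst a.left _ ≫ Z.hom
      rw [← Over.w a, ← Category.assoc, pullback.condition, Category.assoc]
      exact congrArg (pullback.snd _ _ ≫ ·) (Sigma.ι_desc (fun i => (T i).hom) i).symm)
    have ha' : a' ≫ sigmaι T i = w ≫ a := Over.OverMorphism.ext pullback.condition.symm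
    have hrange : Set.range (w ≫ b).left ⊆ Set.range (sigmaι T i).left := by
      rintro _ ⟨q, rfl⟩
      obtain ⟨i', v, hv⟩ := exists_sigmaι T ((w ≫ b).left q)
      have h1 : Points.ofPt ((yon S).map (w ≫ b) ≫ G) q = Points.ofPt ((yon S).map (w ≫ a) ≫ G) q := by
        rw [Functor.map_comp, Functor.map_comp, Category.assoc, Category.assoc, hab]
      rw [ofPt_comp, ofPt_comp, ← hv, ← ha', Over.comp_left, Scheme.Hom.comp_apply, hpt, hpt] at h1
      obtain rfl := hd _ _ _ _ h1
      exact ⟨v, hv⟩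
    let b' : W ⟶ T i := CategoryTheory.Over.homMk (IsOpenImmersion.lift (sigmaι T i).left (w ≫ b).left hrange) (by
      rw [← Over.w (w ≫ b), ← Over.w (sigmaι T i), IsOpenImmersion.lift_fac_assoc])
    have hb' : b' ≫ sigmaι T i = w ≫ b := Over.OverMorphism.ext (IsOpenImmersion.lift_fac _ _ _)
    have := mono_of_openImmersion (hj i)
    have key : a' = b' := (yon S).map_injective ((cancel_mono (j i)).1 (by
      rw [← hG, ← Functor.map_comp_assoc, ← Functor.map_comp_assoc, ha', hb', Functor.map_comp,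
        Functor.map_comp, Category.assoc, Category.assoc, hab]))
    exact congrArg Over.Hom.left (ha'.symm.trans ((congrArg (· ≫ sigmaι T i) key).trans hb'))
  refine ⟨G, hG, repWith_isOpenImmersion_of_mono_of_etale (IsAlgSpace.yon_obj _) hX G
    (locP_of_repWith (repWith_etale_sigma (representable_from_yon' hX G) fun i => ?_))⟩
  rw [hG]
  exact repWith_mono (fun _ _ g (_ : IsOpenImmersion g) => inferInstanceAs (Etale g)) _ (hj i)

/-- Open subschemes are open subspaces on points. -/
theorem isOpenEmbedding_ofPt {T : Over S} {b : (yon S).obj T ⟶ X} (hb : RepWith @IsOpenImmersion b) :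
    IsOpenEmbedding (Points.ofPt b) :=
  .of_continuous_injective_isOpenMap (Points.continuous_ofPt b) (injective_ofPt hb)
    (isOpenMap_ofPt (repWith_mono (fun _ _ g (_ : IsOpenImmersion g) => inferInstanceAs (Etale g)) _ hb))

/-- An isomorphism of open subschemes at a generic point, with target meeting no other component. -/
theorem exists_iso_chart (hY : IsAlgSpace Y) (hYd : IsDecent Y) (hYf : (irreducibleComponents (Points Y)).Finite)
    {f : X ⟶ Y} (hf : W4stk3decentspacesp2.IsBirational f)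
    (h : (LocP @LocallyOfFiniteType f ∧ EtaleLocally (fun T => IsReduced T) Y) ∨
      LocP @LocallyOfFinitePresentation f)
    {x : Points X} (hx : x ∈ genericPoints (Points X)) :
    ∃ (U V : Over S) (a : (yon S).obj U ⟶ X) (b : (yon S).obj V ⟶ Y) (g : U ⟶ V),
      RepWith @IsOpenImmersion a ∧ RepWith @IsOpenImmersion b ∧ a ≫ f = (yon S).map g ≫ b ∧ IsIso g.left ∧
      x ∈ Set.range (Points.ofPt a) ∧
      ∀ v, ∀ y' ∈ genericPoints (Points Y), y' ⤳ Points.ofPt b v → y' = Points.map f x := by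
  have := t0Space_points hY hYd
  obtain ⟨U₀, V₀, a, b, g, u, ha, hb, hw, hu, hiso⟩ := hf.stalkIso x hx
  have het : ∀ {T : Over S} {Z : Sp S} {c : (yon S).obj T ⟶ Z}, RepWith @IsOpenImmersion c → RepWith @Etale c :=
    fun hc => repWith_mono (fun _ _ k (_ : IsOpenImmersion k) => inferInstanceAs (Etale k)) _ hc
  have hy : Points.map f x = Points.ofPt b (g.left u) := by rw [← hu, Points.map_ofPt, hw, ofPt_comp]
  let y := Points.map f x
  have hG : (genericPoints (Points Y) \ {y}).Finite := (genericPoints.finite hYf).subset Set.sdiff_subset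
  let W : V₀.left.Opens := ⟨Points.ofPt b ⁻¹' (⋃ y' ∈ genericPoints (Points Y) \ {y}, closure {y'})ᶜ,
    ((hG.isClosed_biUnion fun _ _ => isClosed_closure).isOpen_compl).preimage (Points.continuous_ofPt b)⟩
  have hWv : g.left u ∈ W := by
    intro hm
    obtain ⟨y', hy', hm⟩ := Set.mem_iUnion₂.1 hm
    refine hy'.2 ((inseparable_of_specializes (hf.bijOn.mapsTo hx) ?_).eq)
    rw [hy, specializes_iff_mem_closure]
    exact hm
  obtain ⟨V₁, hV₁, hvV₁, hV₁W⟩ := exists_isAffineOpen_mem_and_subset (U := W) hWv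
  have hgen : ∀ z ∈ W, ∀ y' ∈ genericPoints (Points Y), y' ⤳ Points.ofPt b z → y' = y := fun z hz y' hy' hs => by
    by_contra hne
    exact hz (Set.mem_iUnion₂.2 ⟨y', ⟨hy', hne⟩, specializes_iff_mem_closure.1 hs⟩)
  obtain ⟨U₁, hU₁, huU₁, hU₁V⟩ := exists_isAffineOpen_mem_and_subset (U := g.left ⁻¹ᵁ V₁) (x := u) hvV₁
  have hft : LocallyOfFiniteType g.left := by
    rcases h with ⟨h, -⟩ | h
    · exact h a b g (het ha) (het hb) hw
    · have : LocallyOfFinitePresentation g.left := h a b g (het ha) (het hb) hw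
      infer_instance
  have hcase : LocallyOfFinitePresentation g.left ∨ IsDomain Γ(V₀.left, V₁) := by
    rcases h with ⟨-, hr⟩ | h
    · have := isReduced_chart hr (het hb)
      have := quasiSober_points hY hYd
      refine Or.inr (MorLib.Birat.isDomain_of_generic hV₁ hvV₁ fun z hz => ?_)
      obtain ⟨y', hy', hs⟩ := exists_genericPoint_specializes (Points.ofPt b z)
      obtain rfl := hgen z (hV₁W hz) y' hy' hs
      exact (isOpenEmbedding_ofPt hb).isInducing.specializes_iff.1 (hy ▸ hs)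
    · exact Or.inl (h a b g (het ha) (het hb) hw)
  obtain ⟨U, V, hUV, huU, -, hVV₁, hUViso⟩ :=
    MorLib.Birat.exists_isIso_resLE g.left hiso hV₁ hU₁ hU₁V huU₁ hcase
  let Us : Over S := Over.mk (U.ι ≫ U₀.hom)
  let Vs : Over S := Over.mk (V.ι ≫ V₀.hom)
  let iU : Us ⟶ U₀ := CategoryTheory.Over.homMk U.ι rfl
  let iV : Vs ⟶ V₀ := CategoryTheory.Over.homMk V.ι rfl
  let gs : Us ⟶ Vs := CategoryTheory.Over.homMk (g.left.resLE V U hUV) (by
    change g.left.resLE V U hUV ≫ V.ι ≫ V₀.hom = U.ι ≫ U₀.hom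
    rw [Scheme.Hom.resLE_comp_ι_assoc, Over.w g])
  refine ⟨Us, Vs, (yon S).map iU ≫ a, (yon S).map iV ≫ b, gs,
    repWith_comp ((repWith_yon_map_iff _ _).2 (inferInstanceAs (IsOpenImmersion U.ι))) ha,
    repWith_comp ((repWith_yon_map_iff _ _).2 (inferInstanceAs (IsOpenImmersion V.ι))) hb, ?_, hUViso,
    ⟨⟨u, huU⟩, ?_⟩, fun v y' hy' hs => ?_⟩
  · have e : gs ≫ iV = iU ≫ g := Over.OverMorphism.ext (Scheme.Hom.resLE_comp_ι _ _)
    rw [Category.assoc, hw, ← Category.assoc, ← Category.assoc, ← Functor.map_comp, ← Functor.map_comp, e]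
  · rw [ofPt_comp]; exact hu
  · rw [ofPt_comp] at hs
    exact hgen _ (hV₁W (hVV₁ v.2)) y' hy' hs

/-- A birational morphism is an isomorphism between dense open subschemes. -/
theorem exists_dense_iso (hX : IsAlgSpace X) (hY : IsAlgSpace Y) (hXd : IsDecent X) (hYd : IsDecent Y)
    (hXf : (irreducibleComponents (Points X)).Finite) (hYf : (irreducibleComponents (Points Y)).Finite) {f : X ⟶ Y} (hf : W4stk3decentspacesp2.IsBirational f)
    (h : (LocP @LocallyOfFiniteType f ∧ EtaleLocally (fun T => IsReduced T) Y) ∨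
      LocP @LocallyOfFinitePresentation f) :
    ∃ (U V : Over S) (a : (yon S).obj U ⟶ X) (b : (yon S).obj V ⟶ Y) (g : U ⟶ V),
      RepWith @IsOpenImmersion a ∧ RepWith @IsOpenImmersion b ∧
        Dense (Set.range (Points.ofPt a)) ∧ Dense (Set.range (Points.ofPt b)) ∧
          a ≫ f = (yon S).map g ≫ b ∧ IsIso g.left := by
  have := quasiSober_points hX hXd
  have := quasiSober_points hY hYd
  have := t0Space_points hX hXd
  have := (genericPoints.finite hXf).to_subtype
  obtain ⟨n, ⟨en⟩⟩ := Finite.exists_equiv_fin (genericPoints (Points X))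
  let eι : ULift.{u} (Fin n) ≃ genericPoints (Points X) := Equiv.ulift.trans en.symm
  choose U V a b g ha hb hw hiso hmem hsep using
    fun i => exists_iso_chart hY hYd hYf hf h (eι i).2
  have hdV : ∀ i k v w, Points.ofPt (b i) v = Points.ofPt (b k) w → i = k := fun i k v w e => by
    obtain ⟨y', hy', hs⟩ := exists_genericPoint_specializes (Points.ofPt (b i) v)
    exact eι.injective (Subtype.ext (hf.bijOn.injOn (eι i).2 (eι k).2 ((hsep i v y' hy' hs).symm.trans (hsep k w y' hy' (e ▸ hs)))))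
  have hdU : ∀ i k v w, Points.ofPt (a i) v = Points.ofPt (a k) w → i = k := fun i k v w e =>
    hdV i k ((g i).left v) ((g k).left w) (by
      rw [← ofPt_comp, ← ofPt_comp, ← hw, ← hw, ← Points.map_ofPt, ← Points.map_ofPt, e])
  obtain ⟨A, hA, hAo⟩ := exists_openImm_sigma hX U a ha hdU
  obtain ⟨B, hB, hBo⟩ := exists_openImm_sigma hY V b hb hdV
  let G : sigmaOver U ⟶ sigmaOver V := CategoryTheory.Over.homMk (Limits.Sigma.map fun i => (g i).left) (by
    refine Sigma.hom_ext _ _ fun i => ?_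
    change Sigma.ι (fun i => (U i).left) i ≫ Limits.Sigma.map _ ≫ Sigma.desc _ = Sigma.ι (fun i => (U i).left) i ≫ Sigma.desc _
    rw [Sigma.ι_map_assoc, Sigma.ι_desc, Sigma.ι_desc, Over.w])
  have hG : ∀ i, sigmaι U i ≫ G = g i ≫ sigmaι V i := fun i => Over.OverMorphism.ext (by
    change Sigma.ι (fun i => (U i).left) i ≫ Limits.Sigma.map _ = _ ≫ Sigma.ι (fun i => (V i).left) i
    rw [Sigma.ι_map])
  refine ⟨sigmaOver U, sigmaOver V, A, B, G, hAo, hBo, ?_, ?_, hom_ext_sigma U fun i => ?_, ?_⟩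
  · refine (dense_iff_closure_eq.2 genericPoints.closure).mono fun x hx => ?_
    obtain ⟨i, hi⟩ : ∃ i, (eι i).1 = x := ⟨eι.symm ⟨x, hx⟩, by rw [eι.apply_symm_apply]⟩
    obtain ⟨v, hv⟩ := hmem i
    exact ⟨(sigmaι U i).left v, by rw [← ofPt_comp, hA, hv, hi]⟩
  · refine (dense_iff_closure_eq.2 genericPoints.closure).mono fun y hy => ?_
    obtain ⟨x, hx, rfl⟩ := hf.bijOn.surjOn hy
    obtain ⟨i, hi⟩ : ∃ i, (eι i).1 = x := ⟨eι.symm ⟨x, hx⟩, by rw [eι.apply_symm_apply]⟩
    obtain ⟨v, hv⟩ := hmem i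
    refine ⟨(sigmaι V i).left ((g i).left v), ?_⟩
    rw [← ofPt_comp, hB, ← ofPt_comp, ← hw, ← Points.map_ofPt, hv, hi]
  · rw [reassoc_of% hA i, hw, ← Category.assoc, ← Functor.map_comp, hG, Functor.map_comp, Category.assoc, hB]
  · show IsIso (Limits.Sigma.map fun i => (g i).left)
    refine ⟨Limits.Sigma.map fun i => inv (g i).left, Sigma.hom_ext _ _ fun i => ?_, Sigma.hom_ext _ _ fun i => ?_⟩ <;>
      simp

end Groth.Agent.AlgSpDec.Birat
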