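import Groth.Agent.AlgSpDec.BirationalOpen
import Groth.Agent.AlgSpPts.Sep
import Groth.Agent.AlgSpDec.LimDescent
import Groth.Agent.AlgSpVal.DvrThrough

/-!
# Birational morphisms are isomorphisms over a dense open of the target
-/

set_option linter.style.haveILetI false
set_option autoImplicit false
set_option backward.isDefEq.respectTransparency false
set_option backward.isDefEq.respectTransparency.types false

universe u

open CategoryTheory CategoryTheory.Limits AlgebraicGeometry AlgSp Topology
open Groth.Agent.AlgSpLib Groth.Agent.AlgSpPts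

namespace Groth.Agent.AlgSpDec.Birat

/-- A dense open set contains the generic points when there are finitely many components. -/
theorem genericPoints_subset_of_dense {α : Type*} [TopologicalSpace α] [QuasiSober α] [T0Space α]
    (hfin : (irreducibleComponents α).Finite) {O : Set α} (hO : IsOpen O) (hd : Dense O) :
    genericPoints α ⊆ O := by
  intro x hx
  have hG : (genericPoints α \ {x}).Finite := (genericPoints.finite hfin).subset Set.sdiff_subset
  let W : Set α := (⋃ y ∈ genericPoints α \ {x}, closure {y})ᶜ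
  have hW : IsOpen W := (hG.isClosed_biUnion fun _ _ => isClosed_closure).isOpen_compl
  have hxW : x ∈ W := fun hm => by
    obtain ⟨y, hy, hm⟩ := Set.mem_iUnion₂.1 hm
    exact hy.2 (inseparable_of_specializes hx (specializes_iff_mem_closure.2 hm)).eq
  obtain ⟨z, hzW, hzO⟩ := hd.inter_open_nonempty W hW ⟨x, hxW⟩
  obtain ⟨y, hy, hyz⟩ := exists_genericPoint_specializes z
  obtain rfl : y = x := by
    by_contra hne
    exact hzW (Set.mem_iUnion₂.2 ⟨y, ⟨hy, hne⟩, specializes_iff_mem_closure.1 hyz⟩)
  exact hyz.mem_open hO hzO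

variable {S : Scheme.{u}} {X Y : Sp S}

/-- A section of a separated morphism has closed image. -/
theorem isClosed_range_section {Q : Sp S} (hQ : IsAlgSpace Q) {T : Over S} (q : Q ⟶ (yon S).obj T)
    (hq : IsSeparatedMor q) (s : (yon S).obj T ⟶ Q) (hs : s ≫ q = 𝟙 _) : IsClosed (Set.range (Points.ofPt s)) := by
  let δ : Q ⟶ pullback q q := pullback.lift (𝟙 Q) (q ≫ s) (by rw [Category.id_comp, Category.assoc, hs, Category.comp_id])
  have sq : IsPullback s s (pullback.diagonal q) δ := by
    have hw : s ≫ pullback.diagonal q = s ≫ δ := pullback.hom_ext (by simp [δ]) (by simp [δ, reassoc_of% hs])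
    refine IsPullback.of_isLimit' ⟨hw⟩ (PullbackCone.IsLimit.mk hw (fun c => c.snd ≫ q) (fun c => ?_) (fun c => ?_)
      (fun c m h1 _ => ?_))
    · have h2 := congrArg (· ≫ pullback.snd q q) c.condition
      simp [δ] at h2
      rw [Category.assoc, ← h2]
    · have h1 := congrArg (· ≫ pullback.fst q q) c.condition
      have h2 := congrArg (· ≫ pullback.snd q q) c.condition
      simp [δ] at h1 h2
      rw [Category.assoc, ← h2, h1]
    · have h1' := congrArg (· ≫ pullback.fst q q) c.condition
      simp [δ] at h1'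
      rw [← h1', ← h1, Category.assoc, hs, Category.comp_id]
  have hc : RepWith @IsClosedImmersion s := repWith_of_isPullback sq hq
  have hcl := (isClosedMap_map (repWith_mono (fun _ _ g (_ : IsClosedImmersion g) =>
    (inferInstance : UniversallyClosed g)) _ hc)).isClosed_range
  convert hcl using 1
  ext z
  constructor
  · rintro ⟨t, rfl⟩
    exact ⟨Points.ofScheme T t, (Points.ofPt_eq_map_ofScheme _ _).symm⟩
  · rintro ⟨p, rfl⟩
    obtain ⟨t, rfl⟩ := (Points.schemeEquiv T).surjective p
    exact ⟨t, Points.ofPt_eq_map_ofScheme _ _⟩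

/-- A generic point is not in the closure of the image of the points outside an open subscheme containing
the generic fibre. -/
theorem notMem_closure_image (hX : IsAlgSpace X) (hY : IsAlgSpace Y) (hXd : IsDecent X) (hYd : IsDecent Y)
    {f : X ⟶ Y} (hf : W4stk3decentspacesp2.IsBirational f) (hqc : IsQuasiCompactMor f) {U V : Over S}
    {a : (yon S).obj U ⟶ X} (ha : RepWith @IsOpenImmersion a) {b : (yon S).obj V ⟶ Y}
    (hb : RepWith @IsOpenImmersion b) (hgen : genericPoints (Points X) ⊆ Set.range (Points.ofPt a))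
    {v : ↥V.left} (hv : Points.ofPt b v ∈ genericPoints (Points Y)) :
    Points.ofPt b v ∉ closure (Points.map f '' (Set.range (Points.ofPt a))ᶜ) := by
  intro hy
  have := t0Space_points hY hYd
  obtain ⟨A, hA, hvA, -⟩ := exists_isAffineOpen_mem_and_subset (x := v) (U := (⊤ : V.left.Opens)) trivial
  let As : Over S := Over.mk (A.ι ≫ V.hom)
  let iA : As ⟶ V := CategoryTheory.Over.homMk A.ι rfl
  let b' := (yon S).map iA ≫ b
  have : IsAffine As.left := hA
  have hQ : IsAlgSpace (pullback f b') := isAlgSpace_pullback hX (IsAlgSpace.yon_obj _) hY f b'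
  have hb' : RepWith @IsOpenImmersion b' :=
    repWith_comp ((repWith_yon_map_iff _ _).2 (inferInstanceAs (IsOpenImmersion A.ι))) hb
  obtain ⟨W, c, hW, hc, hcs⟩ := exists_affine_atlas (hqc (IsAlgSpace.yon_obj As)
    ⟨As, 𝟙 _, repWith_of_isIso _ _, repWith_of_isIso _ _, inferInstanceAs (CompactSpace ↥As.left)⟩ b' _ _
    (IsPullback.of_hasPullback f b'))
  have : IsAffine W.left := hW
  obtain ⟨h, hh⟩ := (yon S).map_surjective (c ≫ pullback.snd f b')
  let C : TopologicalSpace.Closeds ↥W.left :=
    ⟨Points.ofPt (c ≫ pullback.fst f b') ⁻¹' (Set.range (Points.ofPt a))ᶜ,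
      (isOpenEmbedding_ofPt ha).isOpen_range.isClosed_compl.preimage (Points.continuous_ofPt _)⟩
  let I := Scheme.IdealSheafData.vanishingIdeal C
  have hIC : Set.range I.subschemeι = (C : Set ↥W.left) := by
    rw [Scheme.IdealSheafData.range_subschemeι, Scheme.IdealSheafData.coe_support_vanishingIdeal]
  have : CompactSpace ↥I.subscheme := QuasiCompact.compactSpace_of_compactSpace I.subschemeι
  have hcl : (⟨v, hvA⟩ : ↥As.left) ∈ closure (Set.range (I.subschemeι ≫ h.left)) := by
    rw [(isOpenEmbedding_ofPt hb').isInducing.closure_eq_preimage_closure_image]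
    have hv' : Points.ofPt b' ⟨v, hvA⟩ = Points.ofPt b v := by rw [ofPt_comp]; rfl
    rw [Set.mem_preimage, hv', mem_closure_iff]
    intro O hO hvO
    obtain ⟨y, ⟨hyO, ⟨t, rfl⟩⟩, x, hx, hxy⟩ := mem_closure_iff.1 hy _
      (hO.inter (isOpenEmbedding_ofPt hb').isOpen_range) ⟨hvO, ⟨_, hv'⟩⟩
    obtain ⟨q, hq₁, hq₂⟩ := exists_point_of_isPullback (IsPullback.of_hasPullback f b') (x := x)
      (y := Points.ofScheme As t) (by rw [hxy, Points.ofPt_eq_map_ofScheme])
    obtain ⟨w, rfl⟩ := surjective_ofPt hcs q
    rw [Points.map_ofPt] at hq₁ hq₂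
    have hwC : w ∈ (C : Set ↥W.left) := by
      show Points.ofPt (c ≫ pullback.fst f b') w ∈ (Set.range (Points.ofPt a))ᶜ
      rw [hq₁]; exact hx
    obtain ⟨ω, hω⟩ := hIC.symm.subset hwC
    refine ⟨_, hyO, _, ⟨ω, rfl⟩, ?_⟩
    rw [← hh, ← Category.comp_id ((yon S).map h), ofPt_comp] at hq₂
    congr 1
    refine (Points.schemeEquiv As).injective ?_
    rw [Scheme.Hom.comp_apply, hω]
    exact hq₂
  obtain ⟨ω, hω⟩ := Groth.Agent.AlgSpVal.exists_specializes_of_mem_closure_range _ hcl
  have hωC : I.subschemeι ω ∈ (C : Set ↥W.left) := hIC.subset ⟨ω, rfl⟩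
  have e1 : Points.map f (Points.ofPt (c ≫ pullback.fst f b') (I.subschemeι ω)) =
      Points.ofPt b' (h.left (I.subschemeι ω)) := by
    rw [Points.map_ofPt, Category.assoc, pullback.condition, ← Category.assoc, ← hh, ofPt_comp]
  obtain ⟨x₀, hx₀, hfx₀⟩ := hf.bijOn.surjOn hv
  have e2 : Points.ofPt b' (h.left (I.subschemeι ω)) = Points.map f x₀ := by
    rw [hfx₀]
    refine (inseparable_of_specializes hv ?_).eq
    have := hω.map (Points.continuous_ofPt b')
    rwa [Scheme.Hom.comp_apply, show Points.ofPt b' ⟨v, hvA⟩ = Points.ofPt b v by rw [ofPt_comp]; rfl] at this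
  have e3 := eq_of_map_eq_generic hX hY hXd hYd hf hb hx₀ hfx₀.symm (e1.trans e2)
  have h3 : Points.ofPt (c ≫ pullback.fst f b') (I.subschemeι ω) ∈ (Set.range (Points.ofPt a))ᶜ := hωC
  exact h3 (e3 ▸ hgen hx₀)

/-- A birational morphism is an isomorphism over a dense open subscheme of the target. -/
theorem exists_dense_iso_preimage (hX : IsAlgSpace X) (hY : IsAlgSpace Y) (hXd : IsDecent X) (hYd : IsDecent Y)
    (hXf : (irreducibleComponents (Points X)).Finite) (hYf : (irreducibleComponents (Points Y)).Finite)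
    {f : X ⟶ Y} (hf : W4stk3decentspacesp2.IsBirational f) (h₁ : IsQuasiCompactMor f ∨ IsSeparatedMor f)
    (h₂ : (LocP @LocallyOfFiniteType f ∧ EtaleLocally (fun T => IsReduced T) Y) ∨
      LocP @LocallyOfFinitePresentation f) :
    ∃ (V : Over S) (b : (yon S).obj V ⟶ Y), RepWith @IsOpenImmersion b ∧
      Dense (Set.range (Points.ofPt b)) ∧
        ∀ ⦃P : Sp S⦄ (fst : P ⟶ X) (snd : P ⟶ (yon S).obj V), IsPullback fst snd f b → IsIso snd := by
  have := quasiSober_points hX hXd
  have := t0Space_points hX hXd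
  have := quasiSober_points hY hYd
  have := t0Space_points hY hYd
  obtain ⟨U, V, a, b, g, ha, hb, hda, hdb, hw, hg⟩ := exists_dense_iso hX hY hXd hYd hXf hYf hf h₂
  have : IsIso g := by
    have : IsIso ((Over.forget S).map g) := hg
    exact isIso_of_reflects_iso g (Over.forget S)
  have hgenX := genericPoints_subset_of_dense hXf (isOpenEmbedding_ofPt ha).isOpen_range hda
  have hgenY := genericPoints_subset_of_dense hYf (isOpenEmbedding_ofPt hb).isOpen_range hdb
  let O : Set (Points Y) :=
    {y | y ∈ Set.range (Points.ofPt b) ∧ (IsSeparatedMor f ∨ y ∉ closure (Points.map f '' (Set.range (Points.ofPt a))ᶜ))}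
  have hO : IsOpen O := by
    by_cases hs : IsSeparatedMor f
    · convert (isOpenEmbedding_ofPt hb).isOpen_range using 1
      exact Set.ext fun y => ⟨fun h => h.1, fun h => ⟨h, Or.inl hs⟩⟩
    · convert (isOpenEmbedding_ofPt hb).isOpen_range.inter isClosed_closure.isOpen_compl using 1
      exact Set.ext fun y => ⟨fun h => ⟨h.1, h.2.resolve_left hs⟩, fun h => ⟨h.1, Or.inr h.2⟩⟩
  have hgenO : genericPoints (Points Y) ⊆ O := fun y hy => by
    refine ⟨hgenY hy, ?_⟩
    rcases h₁ with hq | hs
    · obtain ⟨v, rfl⟩ := hgenY hy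
      exact Or.inr (notMem_closure_image hX hY hXd hYd hf hq ha hb hgenX hy)
    · exact Or.inl hs
  let Vo : V.left.Opens := ⟨Points.ofPt b ⁻¹' O, hO.preimage (Points.continuous_ofPt b)⟩
  let Vs : Over S := Over.mk (Vo.ι ≫ V.hom)
  let iV : Vs ⟶ V := CategoryTheory.Over.homMk Vo.ι rfl
  let b' := (yon S).map iV ≫ b
  have hb' : RepWith @IsOpenImmersion b' :=
    repWith_comp ((repWith_yon_map_iff _ _).2 (inferInstanceAs (IsOpenImmersion Vo.ι))) hb
  refine ⟨Vs, b', hb', (dense_iff_closure_eq.2 genericPoints.closure).mono fun y hy => ?_, fun P fst snd hP => ?_⟩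
  · obtain ⟨v, rfl⟩ := hgenY hy
    exact ⟨⟨v, hgenO hy⟩, by rw [ofPt_comp]; rfl⟩
  have hPa : IsAlgSpace P := isAlgSpace_of_isPullback hP hX (IsAlgSpace.yon_obj _) hY
  have := mono_of_openImmersion hb
  have := mono_of_openImmersion ha
  have hpre : ∀ x : Points X, Points.map f x ∈ O → x ∈ Set.range (Points.ofPt a) := fun x hx => by
    by_contra hxa
    rcases hx with ⟨⟨v, hv⟩, hs | hn⟩
    · let q := pullback.snd f b
      have hQ : IsAlgSpace (pullback f b) := isAlgSpace_pullback hX (IsAlgSpace.yon_obj _) hY f b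
      have hqs : IsSeparatedMor q := isSeparatedMor_of_isPullback (IsPullback.of_hasPullback f b) hs
      let s : (yon S).obj V ⟶ pullback f b := pullback.lift ((yon S).map (inv g) ≫ a) (𝟙 _) (by
        rw [Category.assoc, hw, ← Functor.map_comp_assoc, IsIso.inv_hom_id, (yon S).map_id, Category.id_comp])
      have hcl := isClosed_range_section hQ q hqs s (pullback.lift_snd _ _ _)
      have hfo : RepWith @IsOpenImmersion (pullback.fst f b) :=
        repWith_of_isPullback (IsPullback.of_hasPullback f b).flip hb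
      have hfm : IsOpenMap (Points.map (pullback.fst f b)) := isOpenMap_map
        (repWith_mono (fun A B k (_ : IsOpenImmersion k) => (inferInstance : UniversallyOpen k)) _ hfo)
      have hsub : Points.map (pullback.fst f b) ⁻¹' Set.range (Points.ofPt a) ⊆ Set.range (Points.ofPt s) := by
        rintro z ⟨u, hu⟩
        refine ⟨g.left u, injective_map (repWith_mono (fun A B k (_ : IsOpenImmersion k) =>
          k.isOpenEmbedding.injective) _ hfo) ?_⟩
        rw [Points.map_ofPt, pullback.lift_fst, ofPt_comp, ← Scheme.Hom.comp_apply, ← Over.comp_left,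
          IsIso.hom_inv_id, Over.id_left, ← hu]
        rfl
      obtain ⟨z, hz, -⟩ := exists_point_of_isPullback (IsPullback.of_hasPullback f b) (x := x)
        (y := Points.ofScheme V v) (by rw [← hv, Points.ofPt_eq_map_ofScheme])
      have hd := hda.preimage hfm
      obtain ⟨t, ht⟩ : z ∈ Set.range (Points.ofPt s) := by
        rw [← hcl.closure_eq, (hd.mono hsub).closure_eq]; trivial
      apply hxa
      rw [← hz, ← ht, Points.map_ofPt, pullback.lift_fst, ofPt_comp]
      exact ⟨_, rfl⟩
    · exact hn (subset_closure ⟨x, hxa, rfl⟩)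
  have hpts : ∀ z : Points P, Points.map fst z ∈ Set.range (Points.ofPt a) := fun z => by
    refine hpre _ ?_
    obtain ⟨t, ht⟩ := (Points.schemeEquiv Vs).surjective (Points.map snd z)
    rw [← Points.map_comp, hP.w, Points.map_comp, ← ht]
    change Points.map b' (Points.ofScheme Vs t) ∈ O
    rw [← Points.ofPt_eq_map_ofScheme, ofPt_comp]
    exact t.2
  have : IsIso (pullback.fst fst a) := isIso_of_openImm_surjective hPa
    (repWith_of_isPullback (IsPullback.of_hasPullback fst a).flip ha) fun z => by
      obtain ⟨u, hu⟩ := hpts z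
      obtain ⟨q, hq, -⟩ := exists_point_of_isPullback (IsPullback.of_hasPullback fst a) (x := z)
        (y := Points.ofScheme U u) (by rw [← hu, Points.ofPt_eq_map_ofScheme])
      exact ⟨q, hq⟩
  have sq1 : IsPullback (pullback.snd fst a) (pullback.fst fst a ≫ snd) ((yon S).map g ≫ b) ((yon S).map iV ≫ b) :=
    hw ▸ (IsPullback.of_hasPullback fst a).flip.paste_vert hP
  have sq2 : IsPullback (pullback.snd fst a) (pullback.fst fst a ≫ snd) ((yon S).map g) ((yon S).map iV) := by
    have hw' : pullback.snd fst a ≫ (yon S).map g = (pullback.fst fst a ≫ snd) ≫ (yon S).map iV := by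
      rw [← cancel_mono b, Category.assoc, sq1.w]
      simp only [Category.assoc]
    exact IsPullback.of_isLimit' ⟨hw'⟩ (PullbackCone.IsLimit.mk hw'
      (fun s => sq1.lift s.fst s.snd (by rw [s.condition_assoc]))
      (fun s => sq1.lift_fst _ _ _) (fun s => sq1.lift_snd _ _ _)
      fun s m h1 h2 => sq1.hom_ext (h1.trans (sq1.lift_fst _ _ _).symm) (h2.trans (sq1.lift_snd _ _ _).symm))
  have : IsIso (pullback.fst fst a ≫ snd) := sq2.isIso_snd_of_isIso
  exact IsIso.of_isIso_comp_left (pullback.fst fst a) snd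

end Groth.Agent.AlgSpDec.Birat
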