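import Groth.Agent.AlgSpDec.BirationalStalk
import Groth.Agent.AlgSpDec.Fibres
import Groth.Agent.AlgSpDec.LimOpen
import Groth.Agent.AlgSpPts.Imm
import Groth.Agent.AlgSpPts.Univ
import Groth.Prelude.Def_W4stk3decentspacesp2Birat

/-!
# Birational morphisms of decent spaces at generic points
-/

set_option linter.style.haveILetI false
set_option autoImplicit false
set_option backward.isDefEq.respectTransparency false
set_option backward.isDefEq.respectTransparency.types false

universe u

open CategoryTheory CategoryTheory.Limits AlgebraicGeometry AlgSp Topology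
open Groth.Agent.AlgSpLib Groth.Agent.AlgSpPts

namespace Groth.Agent.AlgSpDec.Birat

/-- A generalisation of the generic point of a component is inseparable from it. -/
theorem inseparable_of_specializes {α : Type*} [TopologicalSpace α] {y y' : α} (hy : y ∈ genericPoints α)
    (h : y' ⤳ y) : Inseparable y' y := by
  have h1 : closure {y} = closure ({y'} : Set α) := (h.closure_subset).antisymm
    (hy.2 isIrreducible_singleton.closure h.closure_subset)
  exact inseparable_iff_closure_eq.2 h1.symm

/-- Every point has a generic generalisation. -/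
theorem exists_genericPoint_specializes {α : Type*} [TopologicalSpace α] [QuasiSober α] (x : α) :
    ∃ g ∈ genericPoints α, g ⤳ x := by
  have hc : irreducibleComponent x ∈ irreducibleComponents α := irreducibleComponent_mem_irreducibleComponents x
  obtain ⟨g, hg⟩ := QuasiSober.sober isIrreducible_irreducibleComponent isClosed_irreducibleComponent (S := irreducibleComponent x)
  refine ⟨g, ?_, ?_⟩
  · show closure {g} ∈ irreducibleComponents α
    rw [hg.def]
    exact hc
  · rw [specializes_iff_mem_closure, hg.def]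
    exact mem_irreducibleComponent

variable {S : Scheme.{u}} {X Y : Sp S}

/-- Open subschemes are injective on points. -/
theorem injective_ofPt {T : Over S} {b : (yon S).obj T ⟶ X} (hb : RepWith @IsOpenImmersion b) :
    Function.Injective (Points.ofPt b) := fun t t' h => by
  rw [Points.ofPt_eq_map_ofScheme, Points.ofPt_eq_map_ofScheme] at h
  exact (Points.schemeEquiv T).injective
    (injective_map (repWith_mono (fun A B g (_ : IsOpenImmersion g) => g.isOpenEmbedding.injective) _ hb) h)

/-- Open subschemes through two points over the same point. -/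
theorem exists_over_point {T W : Over S} {b : (yon S).obj T ⟶ X} (hb : RepWith @IsOpenImmersion b)
    (c : (yon S).obj W ⟶ X) {t : ↥T.left} {w : ↥W.left} (h : Points.ofPt b t = Points.ofPt c w) :
    ∃ z, (hb.rep.fst' c).left z = t ∧ (hb.rep.snd c).left z = w := by
  obtain ⟨z, hz, hz'⟩ := exists_lift (hb.rep.isPullback c) (x := Points.ofScheme T t) (t := w)
    (by rw [← Points.ofPt_eq_map_ofScheme, h])
  refine ⟨z, injective_ofPt hb ?_, hz'⟩
  rw [← ofPt_comp, hb.rep.isPullback' c |>.w, ofPt_comp, hz', h]

/-- A chart of a birational morphism at a generic point, inside a given open subscheme of the target. -/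
theorem exists_chart {f : X ⟶ Y} (hf : W4stk3decentspacesp2.IsBirational f) {x₀ : Points X}
    (hx₀ : x₀ ∈ genericPoints (Points X)) {V : Over S} {b : (yon S).obj V ⟶ Y} (hb : RepWith @IsOpenImmersion b)
    {v : ↥V.left} (hv : Points.ofPt b v = Points.map f x₀) :
    ∃ (U : Over S) (a : (yon S).obj U ⟶ X) (g : U ⟶ V) (u : ↥U.left), RepWith @IsOpenImmersion a ∧
      a ≫ f = (yon S).map g ≫ b ∧ Points.ofPt a u = x₀ ∧ g.left u = v ∧ IsIso (g.left.stalkMap u) := by
  obtain ⟨U₀, V₀, a₀, b₀, g₀, u₀, ha₀, hb₀, hw₀, hu₀, hiso⟩ := hf.stalkIso x₀ hx₀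
  have hv₀ : Points.ofPt b₀ (g₀.left u₀) = Points.map f x₀ := by
    rw [← hu₀, Points.map_ofPt, hw₀, ofPt_comp]
  let i := hb.rep.fst' b₀
  let i₀ := hb.rep.snd b₀
  have sq := hb.rep.isPullback' b₀
  have hi₀ : IsOpenImmersion i₀.left := hb.property_snd b₀
  have hi : IsOpenImmersion i.left := hb₀.property _ _ _ sq.flip
  obtain ⟨w, hwv, hw₁⟩ := exists_over_point hb b₀ (hv.trans hv₀.symm)
  let O : U₀.left.Opens := g₀.left ⁻¹ᵁ i₀.left.opensRange
  let l := IsOpenImmersion.lift i₀.left (O.ι ≫ g₀.left) (by
    rintro _ ⟨o, rfl⟩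
    exact o.2)
  have hl : l ≫ i₀.left = O.ι ≫ g₀.left := IsOpenImmersion.lift_fac _ _ _
  let U : Over S := Over.mk (O.ι ≫ U₀.hom)
  let ι : U ⟶ U₀ := CategoryTheory.Over.homMk O.ι rfl
  let lU : U ⟶ hb.rep.pullback b₀ := CategoryTheory.Over.homMk l (by
    change l ≫ _ = O.ι ≫ U₀.hom
    rw [← Over.w i₀, reassoc_of% hl, Over.w g₀])
  have hlU : lU ≫ i₀ = ι ≫ g₀ := Over.OverMorphism.ext hl
  let u : ↥U.left := ⟨u₀, ⟨w, hw₁⟩⟩
  have hlu : lU.left u = w := i₀.left.isOpenEmbedding.injective (by
    rw [← Scheme.Hom.comp_apply, hw₁]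
    exact congrArg (fun k : O.toScheme ⟶ V₀.left => k u) hl)
  refine ⟨U, (yon S).map ι ≫ a₀, lU ≫ i, u,
    repWith_comp ((repWith_yon_map_iff _ _).2 (inferInstanceAs (IsOpenImmersion O.ι))) ha₀, ?_, ?_, ?_, ?_⟩
  · rw [Category.assoc, hw₀, ← Functor.map_comp_assoc, ← hlU, Functor.map_comp, Category.assoc, Functor.map_comp,
      Category.assoc, sq.w]
  · rw [ofPt_comp]
    exact hu₀
  · rw [Over.comp_left, Scheme.Hom.comp_apply, hlu]
    exact hwv
  · have h1 : IsIso ((ι.left ≫ g₀.left).stalkMap u) := by
      rw [Scheme.Hom.stalkMap_comp]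
      have : IsIso (g₀.left.stalkMap (ι.left u)) := hiso
      have : IsOpenImmersion ι.left := inferInstanceAs (IsOpenImmersion O.ι)
      infer_instance
    have h2 : IsIso ((lU.left ≫ i₀.left).stalkMap u) := by
      have e : lU.left ≫ i₀.left = ι.left ≫ g₀.left := hl
      rw [Scheme.Hom.stalkMap_congr_hom _ _ e]
      infer_instance
    rw [Scheme.Hom.stalkMap_comp] at h2
    have : IsIso (lU.left.stalkMap u) := IsIso.of_isIso_comp_left (i₀.left.stalkMap (lU.left u)) _
    rw [show (lU ≫ i).left = lU.left ≫ i.left from rfl, Scheme.Hom.stalkMap_comp]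
    infer_instance

/-- The only point over a generic point is the generic point. -/
theorem eq_of_map_eq_generic (hX : IsAlgSpace X) (hY : IsAlgSpace Y) (hXd : IsDecent X) (hYd : IsDecent Y)
    {f : X ⟶ Y} (hf : W4stk3decentspacesp2.IsBirational f) {V : Over S} {b : (yon S).obj V ⟶ Y}
    (hb : RepWith @IsOpenImmersion b) {v : ↥V.left} {x₀ : Points X} (hx₀ : x₀ ∈ genericPoints (Points X))
    (hv : Points.ofPt b v = Points.map f x₀) {x : Points X} (hx : Points.map f x = Points.map f x₀) : x = x₀ := by
  have := quasiSober_points hX hXd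
  have := t0Space_points hY hYd
  obtain ⟨g₁, hg₁, hg₁x⟩ := exists_genericPoint_specializes x
  have hs : Points.map f g₁ ⤳ Points.map f x₀ := hx ▸ hg₁x.map (Points.continuous_map f)
  obtain rfl : g₁ = x₀ := hf.bijOn.injOn hg₁ hx₀
    (inseparable_of_specializes (hf.bijOn.mapsTo hx₀) hs).eq
  obtain ⟨W, c, w, -, hc, rfl⟩ := exists_affine_chart_at hX x
  obtain ⟨w', hw'w, hw'⟩ := exists_specializes_lift_of_isDecent hXd hc hg₁x
  let e := hb.rep.snd (c ≫ f)
  let h := hb.rep.fst' (c ≫ f)
  have : IsOpenImmersion e.left := hb.property_snd _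
  have hpt : ∀ p, Points.ofPt c p = g₁ ∨ p = w → Points.ofPt b v = Points.ofPt (c ≫ f) p := by
    rintro p (hp | rfl)
    · rw [← Points.map_ofPt, hp, hv]
    · rw [← Points.map_ofPt, hx, hv]
  obtain ⟨z', hz'v, hz'⟩ := exists_over_point hb (c ≫ f) (hpt w' (Or.inl hw'))
  obtain ⟨z, hzv, hz⟩ := exists_over_point hb (c ≫ f) (hpt w (Or.inr rfl))
  have hspec : z' ⤳ z := e.left.isOpenEmbedding.isInducing.specializes_iff.1 (by rw [hz', hz]; exact hw'w)
  obtain ⟨U, a, g, u, ha, hag, hau, hgu, hiso⟩ := exists_chart hf hx₀ hb hv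
  let e' := ha.rep.snd ((yon S).map e ≫ c)
  let d := ha.rep.fst' ((yon S).map e ≫ c)
  have sq := ha.rep.isPullback' ((yon S).map e ≫ c)
  have : IsOpenImmersion e'.left := ha.property_snd _
  have : Etale d.left :=
    (repWith_comp ((repWith_yon_map_iff _ _).2 (inferInstanceAs (Etale e.left))) hc).property _ _ _ sq.flip
  obtain ⟨p, hpu, hp⟩ := exists_over_point ha ((yon S).map e ≫ c) (t := u) (w := z')
    (by rw [hau, ofPt_comp, hz', hw'])
  have hcomm : e' ≫ h = d ≫ g := by
    apply (yon S).map_injective
    have := mono_of_openImmersion hb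
    rw [← cancel_mono b, Functor.map_comp, Functor.map_comp, Category.assoc, Category.assoc, ← hag]
    rw [(hb.rep.isPullback' (c ≫ f)).w]
    rw [← Category.assoc, ← Category.assoc ((yon S).map d), sq.w]
    simp only [Category.assoc]
    rfl
  have hcl : e'.left ≫ h.left = d.left ≫ g.left := congrArg CommaMorphism.left hcomm
  have hint : ((e'.left ≫ h.left).residueFieldMap p).hom.IsIntegral := by
    rw [Scheme.Hom.residueFieldMap_congr hcl, CommRingCat.hom_comp,
      Scheme.residueFieldMap_comp, CommRingCat.hom_comp]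
    refine RingHom.IsIntegral.trans _ _ ?_ (RingHom.IsIntegral.trans _ _ ?_ ?_)
    · exact RingHom.isIntegral_of_surjective _
        ((ConcreteCategory.isIso_iff_bijective _).1 (inferInstance)).2
    · have hres : ∀ q, q = u → Function.Surjective (g.left.residueFieldMap q) := by
        rintro q rfl c
        obtain ⟨s, rfl⟩ := IsLocalRing.residue_surjective c
        obtain ⟨r, rfl⟩ := ((ConcreteCategory.isIso_iff_bijective _).1 hiso).2 s
        refine ⟨V.left.residue _ r, ?_⟩
        change (V.left.residue _ ≫ g.left.residueFieldMap q) r = _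
        rw [Scheme.residue_residueFieldMap]
        rfl
      exact RingHom.isIntegral_of_surjective _ (hres _ hpu)
    · exact BiratStalk.isIntegral_residueFieldMap_of_etale d.left p
  rw [Scheme.residueFieldMap_comp, CommRingCat.hom_comp] at hint
  have hint' : (h.left.residueFieldMap (e'.left p)).hom.IsIntegral := by
    have hh : (h.left.residueFieldMap (e'.left p)).hom =
        (inv (e'.left.residueFieldMap p)).hom.comp
          ((e'.left.residueFieldMap p).hom.comp (h.left.residueFieldMap (e'.left p)).hom) := by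
      rw [← CommRingCat.hom_comp, ← CommRingCat.hom_comp, Category.assoc, IsIso.hom_inv_id, Category.comp_id]
    rw [hh]
    exact RingHom.IsIntegral.trans _ _ hint
      (RingHom.isIntegral_of_surjective _ ((ConcreteCategory.isIso_iff_bijective _).1 inferInstance).2)
  rw [hp] at hint'
  have hzz : z' = z := BiratStalk.eq_of_specializes_of_isIntegral h.left hspec (hz'v.trans hzv.symm) hint'
  rw [← hw', ← hz', ← hz, hzz]

/-- The base change of a birational morphism to the local ring at a generic point is an isomorphism. -/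
theorem isIso_baseChange_specStalk (hX : IsAlgSpace X) (hY : IsAlgSpace Y) (hXd : IsDecent X) (hYd : IsDecent Y)
    {f : X ⟶ Y} (hf : W4stk3decentspacesp2.IsBirational f) {V : Over S} {b : (yon S).obj V ⟶ Y}
    (hb : RepWith @IsOpenImmersion b) (v : ↥V.left) (hv : Points.ofPt b v ∈ genericPoints (Points Y)) {P : Sp S}
    (fst : P ⟶ X) (snd : P ⟶ (yon S).obj (Over.mk (V.left.fromSpecStalk v ≫ V.hom)))
    (hP : IsPullback fst snd f ((yon S).map (Over.homMk (V.left.fromSpecStalk v) rfl) ≫ b)) : IsIso snd := by
  obtain ⟨x₀, hx₀, hfx₀⟩ := hf.bijOn.surjOn hv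
  obtain ⟨U, a, g, u, ha, hag, hau, hgu, hiso⟩ := exists_chart hf hx₀ hb hfx₀.symm
  let T : Over S := Over.mk (V.left.fromSpecStalk v ≫ V.hom)
  let ι : T ⟶ V := Over.homMk (V.left.fromSpecStalk v) rfl
  have hgen : ∀ v', v' ⤳ v → v' = v := fun v' h => by
    have hi := inseparable_of_specializes hv (h.map (Points.continuous_ofPt b))
    have := t0Space_points hY hYd
    exact injective_ofPt hb hi.eq
  have hPa : IsAlgSpace P := isAlgSpace_of_isPullback hP hX (IsAlgSpace.yon_obj _) hY
  have hpts : ∀ z : Points P, Points.map fst z = x₀ := fun z => by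
    obtain ⟨t, ht⟩ := (Points.schemeEquiv T).surjective (Points.map snd z)
    refine eq_of_map_eq_generic hX hY hXd hYd hf hb hx₀ hfx₀.symm ?_
    rw [hfx₀, ← Points.map_comp, hP.w, Points.map_comp, ← ht]
    change Points.map ((yon S).map ι ≫ b) (Points.ofScheme T t) = _
    rw [← Points.ofPt_eq_map_ofScheme, ofPt_comp]
    congr 1
    exact hgen _ ((Scheme.range_fromSpecStalk (X := V.left) (x := v)).subset ⟨t, rfl⟩)
  have hopen : RepWith @IsOpenImmersion (pullback.fst fst a) :=
    repWith_of_isPullback (IsPullback.of_hasPullback fst a).flip ha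
  have : IsIso (pullback.fst fst a) := isIso_of_openImm_surjective hPa hopen fun z => by
    obtain ⟨q, hq, -⟩ := exists_point_of_isPullback (IsPullback.of_hasPullback fst a) (x := z)
      (y := Points.ofScheme U u) (by rw [hpts, ← hau, Points.ofPt_eq_map_ofScheme])
    exact ⟨q, hq⟩
  have hb' := mono_of_openImmersion hb
  have sq1 : IsPullback (pullback.snd fst a) (pullback.fst fst a ≫ snd) ((yon S).map g ≫ b) ((yon S).map ι ≫ b) :=
    hag ▸ (IsPullback.of_hasPullback fst a).flip.paste_vert hP
  have sq2 : IsPullback (pullback.snd fst a) (pullback.fst fst a ≫ snd) ((yon S).map g) ((yon S).map ι) := by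
    have hw : pullback.snd fst a ≫ (yon S).map g = (pullback.fst fst a ≫ snd) ≫ (yon S).map ι := by
      rw [← cancel_mono b, Category.assoc, sq1.w]
      simp only [Category.assoc]
    exact IsPullback.of_isLimit' ⟨hw⟩ (PullbackCone.IsLimit.mk hw
      (fun s => sq1.lift s.fst s.snd (by rw [s.condition_assoc]))
      (fun s => sq1.lift_fst _ _ _) (fun s => sq1.lift_snd _ _ _)
      fun s m h1 h2 => sq1.hom_ext (h1.trans (sq1.lift_fst _ _ _).symm) (h2.trans (sq1.lift_snd _ _ _).symm))
  obtain rfl := hgu
  have hfib : ∀ x', g.left x' = g.left u → x' = u := fun x' h => injective_ofPt ha (by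
    rw [hau]
    refine eq_of_map_eq_generic hX hY hXd hYd hf hb hx₀ hfx₀.symm ?_
    rw [Points.map_ofPt, hag, ofPt_comp, h, hfx₀])
  have hi : IsIso (pullback.snd g.left (V.left.fromSpecStalk (g.left u))) :=
    BiratStalk.isIso_pullback_snd g.left u hgen hfib
  have sq3 : IsPullback (pullback.fst g ι) (pullback.snd g ι) g ι := IsPullback.of_hasPullback g ι
  have hi' : IsIso (pullback.snd g ι) := by
    have e := sq3.map (Over.forget S)
    have : IsIso ((Over.forget S).map (pullback.snd g ι)) := by
      rw [show (Over.forget S).map (pullback.snd g ι) = e.isoPullback.hom ≫ pullback.snd g.left ι.left from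
        e.isoPullback_hom_snd.symm]
      exact IsIso.comp_isIso' inferInstance hi
    exact isIso_of_reflects_iso _ (Over.forget S)
  have : IsIso (pullback.fst fst a ≫ snd) := by
    rw [← IsPullback.isoIsPullback_hom_snd _ _ sq2 (sq3.map (yon S))]
    infer_instance
  exact IsIso.of_isIso_comp_left (pullback.fst fst a) snd

end Groth.Agent.AlgSpDec.Birat
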