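import Groth.Agent.S10613
import Groth.Agent.AlgSpPts.ProperSubspace
import Mathlib.AlgebraicGeometry.ZariskisMainTheorem

/-!
# Closed immersions of algebraic spaces are the universally closed monomorphisms locally of finite type
-/

set_option autoImplicit false
set_option linter.style.haveILetI false
set_option backward.isDefEq.respectTransparency false
set_option backward.isDefEq.respectTransparency.types false

universe u

open CategoryTheory CategoryTheory.Limits AlgebraicGeometry AlgSp

namespace Groth.Agent.AlgSpDec

open Groth.Agent.AlgSpLib Groth.Agent.AlgSpPts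

variable {S : Scheme.{u}}

theorem closedImmersion_iff_univClosed_mono {X Y : Space S} (f : X ⟶ Y) :
    RepWith @IsClosedImmersion f.hom ↔
      IsUnivClosedMor f.hom ∧ LocP @LocallyOfFiniteType f.hom ∧ Mono f.hom := by
  constructor
  · intro hf
    obtain ⟨-, ⟨h1, -⟩, h2⟩ := isProperMor_of_closedImmersion hf
    exact ⟨h2, h1, ProperSub.mono_closedImmersion hf⟩
  · rintro ⟨hc, hl, hm⟩
    have hr : Representable f.hom := ((Groth.Agent.S10613.result f).2.2.2 ⟨hl, hm⟩).1
    have hu : RepWith (topologically @IsClosedMap).universally f.hom :=
      repWith_universally_of_univSp (Q := IsClosedMor) (fun V U g hg => by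
        show IsClosedMap g.left
        rw [left_eq_conj g]
        exact (Points.schemeHomeo U).symm.isClosedMap.comp (IsClosedMap.comp hg (Points.schemeHomeo V).isClosedMap))
        hr hc
    refine ⟨hr, fun U V g fst snd sq => ?_⟩
    haveI : UniversallyClosed snd.left := ⟨hu.2 g fst snd sq⟩
    haveI : Mono ((yon S).map snd) :=
      MorphismProperty.of_isPullback (P := MorphismProperty.monomorphisms _) sq hm
    haveI : Mono snd := (yon S).mono_of_mono_map ‹_›
    haveI : Mono snd.left := inferInstanceAs (Mono ((Over.forget S).map snd))
    haveI : LocallyOfFiniteType snd.left :=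
      locP_yon_map (locP_of_isPullback sq X.property Y.property (IsAlgSpace.yon_obj U) hl)
    haveI : IsSeparated snd.left := inferInstance
    haveI : IsProper snd.left := {}
    haveI : LocallyQuasiFinite snd.left := inferInstance
    haveI : IsFinite snd.left := IsFinite.of_isProper_of_locallyQuasiFinite _
    exact (IsClosedImmersion.iff_isFinite_and_mono _).2 ⟨‹IsFinite snd.left›, ‹Mono snd.left›⟩

end Groth.Agent.AlgSpDec
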