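import Groth.Agent.AlgSpDec.EtNbhdCofiltered
import Groth.Agent.AlgSpPts.Univ
import Groth.Agent.EtFound.PushImm
import Groth.Prelude.Def_AlgSpOX2
import Mathlib.CategoryTheory.Sites.DenseSubsite.Basic
import Mathlib.CategoryTheory.Adjunction.FullyFaithful

/-!
# Direct images along closed immersions and integral universally injective morphisms

When every etale scheme over a base change of `f` comes, locally, from an etale scheme downstairs, base change is
cover dense and locally full, so `f_*` is fully faithful on sheaves.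
-/

set_option backward.isDefEq.respectTransparency false
set_option backward.isDefEq.respectTransparency.types false

universe v' u' u

open CategoryTheory CategoryTheory.Limits AlgebraicGeometry Opposite AlgSp
open Groth.Agent.AlgSpLib Groth.Agent.AlgSpPts

namespace Groth.Agent.AlgSpDec.ClosedPush

variable {S : Scheme.{u}} {Y X : Sp S} {f : Y ⟶ X} (hf : Representable f)

/-- every etale scheme over a base changed one is, locally, a base changed one -/
def LiftableSp : Prop :=
  ∀ (N : EtOver X) (M : EtOver Y) (h : M ⟶ (EtOver.bc hf).obj N) (w : ↥M.obj.left.left),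
    ∃ (E : EtOver X) (n : E ⟶ N) (g : (EtOver.bc hf).obj E ⟶ M),
      g ≫ h = (EtOver.bc hf).map n ∧ w ∈ Set.range g.hom.left.left

theorem liftableSp_of_liftable (H : ∀ N : EtOver X, EtFound.Liftable (EtOver.bcπ hf N).left) : LiftableSp hf := by
  intro N M h w
  haveI : Etale h.hom.left.left := EtOver.etale_left h
  obtain ⟨U, c, hw⟩ := H N (Scheme.Etale.mk h.hom.left.left) w
  let E : EtOver X := EtOver.mk ((yon S).map (EtOver.homOfEtale U) ≫ N.obj.hom)
    (EtOver.repWith_etale_ofChart_obj N.obj.hom N.property U)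
  let n : E ⟶ N := EtOver.homMk (EtOver.homOfEtale U) rfl
  have sq : IsPullback (EtOver.bcπ hf E).left (EtOver.bcMap hf n).hom.left.left U.hom (EtOver.bcπ hf N).left :=
    (EtOver.isPullback_bcMap_left hf n).flip
  let cl : pullback U.hom (EtOver.bcπ hf N).left ⟶ M.obj.left.left := c.left
  have hcl : cl ≫ h.hom.left.left = pullback.snd U.hom (EtOver.bcπ hf N).left := MorphismProperty.Over.w c
  let m : ((EtOver.bc hf).obj E).obj.left.left ⟶ M.obj.left.left := sq.isoPullback.hom ≫ cl
  have hm : m ≫ h.hom.left.left = (EtOver.bcMap hf n).hom.left.left := by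
    rw [Category.assoc, hcl, IsPullback.isoPullback_hom_snd]
  let mO : ((EtOver.bc hf).obj E).obj.left ⟶ M.obj.left := Over.homMk m (by
    rw [← Over.w h.hom.left, reassoc_of% hm]
    exact Over.w (EtOver.bcMap hf n).hom.left)
  have hmO : mO ≫ h.hom.left = (EtOver.bcMap hf n).hom.left := Over.OverMorphism.ext hm
  refine ⟨E, n, EtOver.homMk mO (by
    rw [← EtOver.w h, ← Functor.map_comp_assoc, hmO]
    exact EtOver.w (EtOver.bcMap hf n)), EtOver.hom_ext _ _ hmO, ?_⟩
  obtain ⟨w', hw'⟩ := hw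
  refine ⟨sq.isoPullback.inv w', (Scheme.Hom.comp_apply _ _ _).symm.trans ?_⟩
  have e : sq.isoPullback.inv ≫ m = cl := Iso.inv_hom_id_assoc _ _
  exact (congrArg (fun k => k w') e).trans hw'

theorem liftableSp_of_isClosedImmersion (hi : RepWith @IsClosedImmersion f) : LiftableSp hi.1 :=
  liftableSp_of_liftable _ fun N =>
    haveI : IsClosedImmersion (EtOver.bcπ hi.1 N).left := hi.property_snd N.obj.hom
    EtFound.liftable_of_isClosedImmersion _

theorem isCoverDense_bc (hX : IsAlgSpace X) (H : LiftableSp hf) : (EtOver.bc hf).IsCoverDense (etTop Y) := by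
  refine ⟨fun M => ?_⟩
  obtain ⟨U, a, ha, has⟩ := hX.atlas
  let N : EtOver X := EtOver.mk a ha
  let B := (EtOver.bc hf).obj N
  -- the base changed atlas covers `Y`
  have hB : ∀ x : ↥M.obj.left.left, ∃ r : ↥(EtOver.prodObj M B).obj.left.left,
      (EtOver.prodFst M B).hom.left.left r = x := by
    intro x
    obtain ⟨t, ht⟩ := surjective_ofPt has (Points.map f (Points.ofPt M.obj.hom x))
    rw [Points.ofPt_eq_map_ofScheme a] at ht
    obtain ⟨b, hb, -⟩ := exists_point_of_isPullback (EtOver.isPullback_bcObj hf N)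
      (x := Points.ofPt M.obj.hom x) (y := Points.ofScheme U t) ht.symm
    have hb' : Points.ofPt B.obj.hom (Points.toScheme B.obj.left b) = Points.ofPt M.obj.hom x := by
      rw [Points.ofPt_eq_map_ofScheme, Points.ofScheme_toScheme]
      exact hb
    have sq : IsPullback ((yon S).map (EtOver.prodFst M B).hom.left) ((yon S).map (EtOver.prodSnd M B).hom.left)
        M.obj.hom B.obj.hom := by
      have := (B.property.1.isPullback M.obj.hom).flip
      simpa [EtOver.prodFst, EtOver.prodSnd] using this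
    obtain ⟨r, hr, -⟩ := exists_ofPt_of_eq sq hb'.symm
    exact ⟨r, hr⟩
  refine (etTop Y).superset_covering ?_ (ofArrows_mem_etTop
    (fun r : ↥(EtOver.prodObj M B).obj.left.left =>
      (EtOver.bc hf).obj (H N _ (EtOver.prodSnd M B) r).choose)
    (fun r => (H N _ (EtOver.prodSnd M B) r).choose_spec.choose_spec.choose ≫ EtOver.prodFst M B) fun x => ?_)
  · intro V g hg
    obtain ⟨r, k, rfl⟩ := (Sieve.mem_ofArrows_iff _ _ _).1 hg
    exact Sieve.downward_closed _ (Presieve.in_coverByImage _ _) k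
  · obtain ⟨r, hr⟩ := hB x
    obtain ⟨-, w, hw⟩ := (H N _ (EtOver.prodSnd M B) r).choose_spec.choose_spec.choose_spec
    exact ⟨r, w, (Scheme.Hom.comp_apply _ _ w).trans ((congrArg _ hw).trans hr)⟩

theorem isLocallyFull_bc (H : LiftableSp hf) : (EtOver.bc hf).IsLocallyFull (etTop Y) := by
  refine ⟨fun {U V} φ => ?_⟩
  -- the product of `U` and `V` and the graph of `φ`
  have sq := U.property.rep.isPullback' V.obj.hom
  let P : EtOver X := EtOver.mk ((yon S).map (U.property.rep.fst' V.obj.hom) ≫ U.obj.hom) (by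
    refine repWith_comp ((repWith_yon_map_iff _ _).2 ?_) U.property
    exact V.property.property _ _ _ sq.flip)
  let p₁ : P ⟶ U := EtOver.homMk (U.property.rep.fst' V.obj.hom) rfl
  let p₂ : P ⟶ V := EtOver.homMk (U.property.rep.snd V.obj.hom) sq.w.symm
  obtain ⟨l, hl₁, hl₂⟩ := sq.exists_lift ((yon S).map (EtOver.bcπ hf U))
    ((yon S).map (φ.hom.left ≫ EtOver.bcπ hf V)) (by
      refine Eq.trans (EtOver.isPullback_bcObj hf U).w.symm ?_
      rw [Functor.map_comp, Category.assoc, ← (EtOver.isPullback_bcObj hf V).w, ← Category.assoc]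
      exact congrArg (· ≫ f) (EtOver.w φ).symm)
  obtain ⟨l, rfl⟩ := (yon S).map_surjective l
  rw [← Functor.map_comp] at hl₁ hl₂
  have hl₁' := (yon S).map_injective hl₁
  have hl₂' := (yon S).map_injective hl₂
  obtain ⟨γ₀, hγ₁, hγ₂⟩ := (EtOver.isPullback_bcObj hf P).exists_lift ((EtOver.bc hf).obj U).obj.hom
    ((yon S).map l) (by
      refine Eq.trans ?_ (Category.assoc _ _ _)
      rw [← Functor.map_comp, hl₁']
      exact (EtOver.isPullback_bcObj hf U).w)
  obtain ⟨γ₀, rfl⟩ := (yon S).map_surjective γ₀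
  rw [← Functor.map_comp] at hγ₂
  have hγ₂' := (yon S).map_injective hγ₂
  let γ : (EtOver.bc hf).obj U ⟶ (EtOver.bc hf).obj P := EtOver.homMk γ₀ hγ₁
  have hγp₁ : γ ≫ (EtOver.bc hf).map p₁ = 𝟙 _ := by
    refine EtOver.hom_ext _ _ (hf.hom_ext ?_ ?_)
    · show (yon S).map (γ₀ ≫ (EtOver.bcMap hf p₁).hom.left) ≫ hf.fst U.obj.hom = (yon S).map (𝟙 _) ≫ _
      rw [Functor.map_comp, Category.assoc, EtOver.map_bcMap_fst, CategoryTheory.Functor.map_id, Category.id_comp]
      exact hγ₁
    · show (γ₀ ≫ (EtOver.bcMap hf p₁).hom.left) ≫ hf.snd U.obj.hom = 𝟙 _ ≫ _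
      rw [Category.assoc, EtOver.bcMap_snd, ← Category.assoc, hγ₂', Category.id_comp]
      exact hl₁'
  have hγp₂ : γ ≫ (EtOver.bc hf).map p₂ = φ := by
    refine EtOver.hom_ext _ _ (hf.hom_ext ?_ ?_)
    · show (yon S).map (γ₀ ≫ (EtOver.bcMap hf p₂).hom.left) ≫ hf.fst V.obj.hom = (yon S).map φ.hom.left ≫ _
      rw [Functor.map_comp, Category.assoc, EtOver.map_bcMap_fst]
      exact hγ₁.trans (EtOver.w φ).symm
    · show (γ₀ ≫ (EtOver.bcMap hf p₂).hom.left) ≫ hf.snd V.obj.hom = φ.hom.left ≫ _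
      rw [Category.assoc, EtOver.bcMap_snd, ← Category.assoc, hγ₂']
      exact hl₂'
  have key : ∀ (E : EtOver X) (n : E ⟶ P) (g : (EtOver.bc hf).obj E ⟶ (EtOver.bc hf).obj U),
      g ≫ γ = (EtOver.bc hf).map n → Sieve.functorPushforward (EtOver.bc hf) ((EtOver.bc hf).imageSieve φ) g := by
    intro E n g he
    have aux : ∀ {Z : EtOver X} (q : P ⟶ Z), g ≫ γ ≫ (EtOver.bc hf).map q = (EtOver.bc hf).map (n ≫ q) :=
      fun q => (Category.assoc _ _ _).symm.trans
        ((congrArg (· ≫ (EtOver.bc hf).map q) he).trans (Functor.map_comp _ _ _).symm)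
    have e₁ : g = (EtOver.bc hf).map (n ≫ p₁) :=
      (Category.comp_id g).symm.trans ((congrArg (g ≫ ·) hγp₁.symm).trans (aux p₁))
    have e₂ : (EtOver.bc hf).map (n ≫ p₂) = g ≫ φ := (aux p₂).symm.trans (congrArg (g ≫ ·) hγp₂)
    exact ⟨E, n ≫ p₁, 𝟙 _, ⟨n ≫ p₂, e₂.trans (congrArg (· ≫ φ) e₁)⟩, e₁.trans (Category.id_comp _).symm⟩
  refine (etTop Y).superset_covering ?_ (ofArrows_mem_etTop
    (fun w : ↥((EtOver.bc hf).obj U).obj.left.left => (EtOver.bc hf).obj (H P _ γ w).choose)
    (fun w => (H P _ γ w).choose_spec.choose_spec.choose) fun w => ?_)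
  · intro W g hg
    obtain ⟨w, k, rfl⟩ := (Sieve.mem_ofArrows_iff _ _ _).1 hg
    refine Sieve.downward_closed _ ?_ k
    exact key _ _ _ (H P _ γ w).choose_spec.choose_spec.choose_spec.1
  · exact ⟨w, (H P _ γ w).choose_spec.choose_spec.choose_spec.2⟩

theorem full_faithful_pushEt (hX : IsAlgSpace X) (H : LiftableSp hf) (A : Type u') [Category.{v'} A] :
    (pushEt hf A).Full ∧ (pushEt hf A).Faithful :=
  haveI := isCoverDense_bc hf hX H
  haveI := isLocallyFull_bc hf H
  ⟨inferInstanceAs ((EtOver.bc hf).sheafPushforwardContinuous A (etTop X) (etTop Y)).Full,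
    inferInstanceAs ((EtOver.bc hf).sheafPushforwardContinuous A (etTop X) (etTop Y)).Faithful⟩

theorem isIso_counit (hX : IsAlgSpace X) (H : LiftableSp hf) (A : Type u') [Category.{v'} A]
    [((EtOver.bc hf).sheafPushforwardContinuous A (etTop X) (etTop Y)).IsRightAdjoint] :
    IsIso (pullPushAdjEt hf A).counit :=
  haveI := (full_faithful_pushEt hf hX H A).1
  haveI := (full_faithful_pushEt hf hX H A).2
  inferInstance

end Groth.Agent.AlgSpDec.ClosedPush
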