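import Groth.Agent.AlgSpDec.ClosedPush
import Groth.Prelude.Def_AlgSpOX2
import Mathlib.AlgebraicGeometry.Morphisms.ClosedImmersion
import Mathlib.CategoryTheory.Adjunction.FullyFaithful

/-!
# Direct images of modules along closed immersions are fully faithful
-/

set_option backward.isDefEq.respectTransparency false
set_option backward.isDefEq.respectTransparency.types false

universe u

open CategoryTheory CategoryTheory.Limits AlgebraicGeometry Opposite AlgSp
open Groth.Agent.AlgSpLib Groth.Agent.AlgSpPts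

namespace Groth.Agent.AlgSpDec.ClosedPush

variable {S : Scheme.{u}} {Y X : Sp S} {f : Y ⟶ X}

/-- every object is covered by base changes of objects whose functions surject onto those of the base change -/
theorem exists_surjective_cover (hX : IsAlgSpace X) (hi : RepWith @IsClosedImmersion f) (M : EtOver Y) :
    ∃ (ι : Type (u + 1)) (N : ι → EtOver X) (V : ι → EtOver Y) (g : ∀ a, V a ⟶ (EtOver.bc hi.1).obj (N a))
      (h : ∀ a, (EtOver.bc hi.1).obj (N a) ⟶ M),
      Sieve.ofArrows V (fun a => g a ≫ h a) ∈ etTop Y M ∧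
      ∀ a, Function.Surjective ((bcRingHom hi.1).hom.app (op (N a))) := by
  haveI := isCoverDense_bc hi.1 hX (liftableSp_of_isClosedImmersion hi)
  have hc := (EtOver.bc hi.1).is_cover_of_isCoverDense (etTop Y) M
  obtain ⟨P, hP, hPR⟩ := (etPre Y).mem_toGrothendieck_iff_of_isStableUnderComposition.1 hc
  obtain ⟨κ, W, w, rfl⟩ := P.exists_eq_ofArrows
  have pt : ∀ x : ↥M.obj.left.left, ∃ (N : EtOver X) (V : EtOver Y) (g : V ⟶ (EtOver.bc hi.1).obj N)
      (h : (EtOver.bc hi.1).obj N ⟶ M),
      x ∈ Set.range (g ≫ h).hom.left.left ∧ Function.Surjective ((bcRingHom hi.1).hom.app (op N)) := by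
    intro x
    obtain ⟨i, z, hz⟩ := (ofArrows_mem_etPre_iff W w).1 hP x
    obtain ⟨⟨N₀, l, m, hlm⟩⟩ := hPR _ _ (Presieve.ofArrows.mk i)
    let b : ↥((EtOver.bc hi.1).obj N₀).obj.left.left := l.hom.left.left z
    obtain ⟨O, hO, hbO, -⟩ := exists_isAffineOpen_mem_and_subset (U := (⊤ : N₀.obj.left.left.Opens))
      (x := (EtOver.bcπ hi.1 N₀).left b) trivial
    let N := etOpen N₀ O
    let n : N ⟶ N₀ := etOpenι N₀ O
    have sq := EtOver.isPullback_bcMap_left hi.1 n
    obtain ⟨b', hb'⟩ : b ∈ Set.range (EtOver.bcMap hi.1 n).hom.left.left := by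
      obtain ⟨o, ho⟩ := (range_etOpenι N₀ O).ge hbO
      obtain ⟨b', hb', -⟩ := Scheme.exists_preimage_of_isPullback sq b o ho.symm
      exact ⟨b', hb'⟩
    let V := EtOver.pullbackObj l ((EtOver.bc hi.1).map n)
    obtain ⟨v, hv, -⟩ := Scheme.exists_preimage_of_isPullback
      ((IsPullback.of_hasPullback l.hom.left ((EtOver.bc hi.1).map n).hom.left).map (CategoryTheory.Over.forget S))
      z b' hb'.symm
    refine ⟨N, V, EtOver.pullbackSnd _ _, (EtOver.bc hi.1).map n ≫ m, ⟨v, ?_⟩, ?_⟩
    · have e : EtOver.pullbackSnd l ((EtOver.bc hi.1).map n) ≫ (EtOver.bc hi.1).map n ≫ m =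
          EtOver.pullbackFst l ((EtOver.bc hi.1).map n) ≫ w i := by
        rw [← Category.assoc, ← EtOver.pullback_condition, Category.assoc, hlm]
      rw [e]
      exact (Scheme.Hom.comp_apply _ _ v).trans ((congrArg _ hv).trans hz)
    · have hiN : IsClosedImmersion (EtOver.bcπ hi.1 N).left := hi.property_snd N.obj.hom
      have : IsAffine N.obj.left.left := hO
      have hs : Function.Surjective (EtOver.bcπ hi.1 N).left.appTop :=
        (IsClosedImmersion.isAffine_surjective_of_isAffine (f := (EtOver.bcπ hi.1 N).left)).2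
      intro r
      obtain ⟨a, ha⟩ := hs r.down
      exact ⟨⟨a⟩, congrArg ULift.up ha⟩
  choose N V g h hx hs using pt
  refine ⟨ULift.{u + 1} ↥M.obj.left.left, fun a => N a.down, fun a => V a.down, fun a => g a.down,
    fun a => h a.down, ofArrows_mem_etTop _ _ fun x => ⟨⟨x⟩, hx x⟩, fun a => hs a.down⟩

theorem faithful_pushModEt (hX : IsAlgSpace X) (hi : RepWith @IsClosedImmersion f) :
    (pushModEt hi.1).Faithful := by
  haveI := (full_faithful_pushEt hi.1 hX (liftableSp_of_isClosedImmersion hi) AddCommGrpCat.{u + 1}).2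
  constructor
  intro G₁ G₂ a b h
  refine (SheafOfModules.toSheaf _).map_injective ((pushEt hi.1 AddCommGrpCat.{u + 1}).map_injective ?_)
  exact congrArg (fun k => (SheafOfModules.toSheaf _).map k) h

theorem full_pushModEt (hX : IsAlgSpace X) (hi : RepWith @IsClosedImmersion f) :
    (pushModEt hi.1).Full := by
  haveI := (full_faithful_pushEt hi.1 hX (liftableSp_of_isClosedImmersion hi) AddCommGrpCat.{u + 1}).1
  constructor
  intro G₁ G₂ φ
  obtain ⟨ψ, hψ⟩ := (pushEt hi.1 AddCommGrpCat.{u + 1}).map_surjective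
    (X := (SheafOfModules.toSheaf _).obj G₁) (Y := (SheafOfModules.toSheaf _).obj G₂)
    ((SheafOfModules.toSheaf _).map φ)
  have hψ' : ∀ (N : EtOver X) (m : G₁.val.obj (op ((EtOver.bc hi.1).obj N))),
      ψ.hom.app (op ((EtOver.bc hi.1).obj N)) m = φ.val.app (op N) m := fun N m =>
    (ConcreteCategory.congr_hom (NatTrans.congr_app (congrArg (fun k => k.hom) hψ) (op N)) m :)
  have hlin : ∀ (M : (EtOver Y)ᵒᵖ) (r : (OEtRing Y).obj.obj M) (m : G₁.val.obj M),
      ψ.hom.app M (r • m) = r • (show G₂.val.obj M from ψ.hom.app M m) := by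
    rintro ⟨M⟩ r m
    obtain ⟨ι, N, V, g, h, hc, hs⟩ := exists_surjective_cover hX hi M
    refine (((isSheaf_iff_isSheaf_of_type _ _).1
      ((sheafCompose (etTop Y) (CategoryTheory.forget AddCommGrpCat.{u + 1})).obj
        ⟨_, G₂.isSheaf⟩).property) _ hc).isSeparatedFor.ext fun U k hk => ?_
    obtain ⟨a, k', rfl⟩ := (Sieve.mem_ofArrows_iff _ _ _).1 hk
    have key : G₂.val.presheaf.map (h a).op (ψ.hom.app (op M) (r • m)) =
        G₂.val.presheaf.map (h a).op (r • (show G₂.val.obj (op M) from ψ.hom.app (op M) m)) := by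
      obtain ⟨c, hc'⟩ := hs a ((OEtRing Y).obj.map (h a).op r)
      have n : ∀ x : G₁.val.obj (op M), G₂.val.presheaf.map (h a).op (ψ.hom.app (op M) x) =
          φ.val.app (op (N a)) (G₁.val.map (h a).op x) := fun x =>
        (ConcreteCategory.congr_hom (ψ.hom.naturality (h a).op) x).symm.trans (hψ' (N a) _)
      refine (n _).trans ?_
      refine Eq.trans ?_ (G₂.val.map_smul (h a).op r _).symm
      refine Eq.trans (congrArg (φ.val.app (op (N a))) (G₁.val.map_smul (h a).op r m)) ?_
      refine Eq.trans ?_ (congrArg (fun y : G₂.val.obj (op ((EtOver.bc hi.1).obj (N a))) =>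
        (OEtRing Y).obj.map (h a).op r • y) (n m).symm)
      rw [← hc']
      exact (φ.val.app (op (N a))).hom.map_smul c (G₁.val.map (h a).op m)
    show G₂.val.presheaf.map (k' ≫ g a ≫ h a).op _ = G₂.val.presheaf.map (k' ≫ g a ≫ h a).op _
    rw [← Category.assoc, op_comp, Functor.map_comp]
    exact congrArg (G₂.val.presheaf.map (k' ≫ g a).op) key
  refine ⟨⟨PresheafOfModules.homMk ψ.hom hlin⟩, ?_⟩
  refine (SheafOfModules.toSheaf _).map_injective ?_
  exact hψ

theorem isIso_counit_mod (hX : IsAlgSpace X) (hi : RepWith @IsClosedImmersion f)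
    [(SheafOfModules.pushforward.{u + 1} (bcRingHom hi.1)).IsRightAdjoint] :
    IsIso (pullPushAdjModEt hi.1).counit :=
  haveI := full_pushModEt hX hi
  haveI := faithful_pushModEt hX hi
  inferInstance

end Groth.Agent.AlgSpDec.ClosedPush
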