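import Groth.Agent.AlgSpDec.HomDescent
import Groth.Agent.AlgSpDec.LimOpen
import Groth.Agent.AlgSpLib.EtaleSmoothLocal
import Groth.Agent.AlgSpLib.OpenMor
import Groth.Agent.AlgSpLib.Covers
import Groth.Agent.AlgSpPts.OpenSub
import Groth.Agent.AlgSpPts.Sep
import Groth.Agent.AlgSpLib.EtLift
import Groth.Prelude.Def_AlgSpCov

/-!
# Colimits of algebraic spaces detected by étale spaces
-/

set_option linter.style.haveILetI false
set_option autoImplicit false
set_option backward.isDefEq.respectTransparency false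
set_option backward.isDefEq.respectTransparency.types false

universe u v w

open CategoryTheory CategoryTheory.Limits AlgebraicGeometry AlgSp
open Groth.Agent.AlgSpLib Groth.Agent.AlgSpPts

namespace Groth.Agent.AlgSpDec.ColimEt

variable {S : Scheme.{u}} {B : Space S} {I : Type v} [Category.{w} I]

theorem const_nat {D : I ⥤ Over B} {G : Over B} (σ : D ⟶ (Functor.const I).obj G) {i j : I} (g : i ⟶ j) :
    (D.map g).left.hom ≫ (σ.app j).left.hom = (σ.app i).left.hom :=
  congrArg (fun k => k.left.hom) ((σ.naturality g).trans (Category.comp_id _))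

/-- Systems of base changes along a cocone exist. -/
theorem exists_system {D : I ⥤ Over B} {G : Over B} (σ : D ⟶ (Functor.const I).obj G) {E : Over B} (e : E ⟶ G) :
    ∃ (DU : I ⥤ Over B) (α : DU ⟶ D) (ι : DU ⟶ (Functor.const I).obj E),
      (∀ i, IsPullback (ι.app i).left.hom (α.app i).left.hom e.left.hom (σ.app i).left.hom) ∧
      (∀ ⦃i j : I⦄ (g : i ⟶ j),
        IsPullback (DU.map g).left.hom (α.app i).left.hom (α.app j).left.hom (D.map g).left.hom) := by
  let P : I → Sp S := fun i => pullback e.left.hom (σ.app i).left.hom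
  have hP : ∀ i, IsAlgSpace (P i) := fun i =>
    isAlgSpace_pullback E.left.property (D.obj i).left.property G.left.property _ _
  let ob : I → Over B := fun i => Over.mk
    (ObjectProperty.homMk (pullback.snd e.left.hom (σ.app i).left.hom ≫ (D.obj i).hom.hom) :
      (⟨P i, hP i⟩ : Space S) ⟶ B)
  have hσ : ∀ {i j : I} (g : i ⟶ j), (D.map g).left.hom ≫ (σ.app j).left.hom = (σ.app i).left.hom := fun g => const_nat σ g
  let mp : ∀ {i j : I}, (i ⟶ j) → (ob i ⟶ ob j) := fun {i j} g =>
    Over.homMk (ObjectProperty.homMk (pullback.lift (pullback.fst _ _)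
      (pullback.snd _ _ ≫ (D.map g).left.hom) (by rw [Category.assoc, hσ g]; exact pullback.condition))) (by
      refine ObjectProperty.hom_ext _ ?_
      show pullback.lift _ _ _ ≫ pullback.snd _ _ ≫ (D.obj j).hom.hom = _
      rw [pullback.lift_snd_assoc, Category.assoc]
      exact congrArg (pullback.snd _ _ ≫ ·) (congrArg InducedCategory.Hom.hom (Over.w (D.map g))))
  have ext' : ∀ {A : Over B} {i : I} (k l : A ⟶ ob i),
      k.left.hom ≫ pullback.fst e.left.hom (σ.app i).left.hom = l.left.hom ≫ pullback.fst _ _ →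
      k.left.hom ≫ pullback.snd e.left.hom (σ.app i).left.hom = l.left.hom ≫ pullback.snd _ _ → k = l :=
    fun k l h h' => Over.OverMorphism.ext (ObjectProperty.hom_ext _ (pullback.hom_ext h h'))
  let DU : I ⥤ Over B :=
    { obj := ob
      map := mp
      map_id := fun i => ext' _ _ (by
          show pullback.lift _ _ _ ≫ pullback.fst _ _ = 𝟙 (P i) ≫ pullback.fst _ _
          rw [pullback.lift_fst, Category.id_comp]) (by
          show pullback.lift _ _ _ ≫ pullback.snd _ _ = 𝟙 (P i) ≫ pullback.snd _ _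
          rw [pullback.lift_snd, Category.id_comp, CategoryTheory.Functor.map_id]
          exact Category.comp_id _)
      map_comp := fun g g' => ext' _ _ (by
          show pullback.lift _ _ _ ≫ pullback.fst _ _ =
            (pullback.lift _ _ _ ≫ pullback.lift _ _ _) ≫ pullback.fst _ _
          rw [pullback.lift_fst, Category.assoc, pullback.lift_fst, pullback.lift_fst]) (by
          show pullback.lift _ _ _ ≫ pullback.snd _ _ =
            (pullback.lift _ _ _ ≫ pullback.lift _ _ _) ≫ pullback.snd _ _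
          rw [pullback.lift_snd, Category.assoc, pullback.lift_snd, pullback.lift_snd_assoc, Functor.map_comp,
            Category.assoc]
          rfl) }
  let α : DU ⟶ D :=
    { app := fun i => Over.homMk (ObjectProperty.homMk (pullback.snd _ _)) (ObjectProperty.hom_ext _ rfl)
      naturality := fun i j g => by
        refine Over.OverMorphism.ext (ObjectProperty.hom_ext _ ?_)
        exact pullback.lift_snd _ _ _ }
  let ι : DU ⟶ (Functor.const I).obj E :=
    { app := fun i => Over.homMk (ObjectProperty.homMk (pullback.fst _ _)) (by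
        refine ObjectProperty.hom_ext _ ?_
        show pullback.fst _ _ ≫ E.hom.hom = pullback.snd _ _ ≫ (D.obj i).hom.hom
        have h1 : e.left.hom ≫ G.hom.hom = E.hom.hom := congrArg InducedCategory.Hom.hom (Over.w e)
        have h2 : (σ.app i).left.hom ≫ G.hom.hom = (D.obj i).hom.hom :=
          congrArg InducedCategory.Hom.hom (Over.w (σ.app i))
        rw [← h1, ← h2, pullback.condition_assoc])
      naturality := fun i j g => by
        refine Over.OverMorphism.ext (ObjectProperty.hom_ext _ ?_)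
        exact (pullback.lift_fst _ _ _).trans (Category.comp_id _).symm }
  refine ⟨DU, α, ι, fun i => IsPullback.of_hasPullback _ _, fun i j g => ?_⟩
  refine IsPullback.of_right ?_ (pullback.lift_snd _ _ _) (IsPullback.of_hasPullback e.left.hom (σ.app j).left.hom)
  show IsPullback (pullback.lift _ _ _ ≫ pullback.fst _ _) _ _ _
  rw [pullback.lift_fst, hσ g]
  exact IsPullback.of_hasPullback _ _

variable (D : I ⥤ Over B) (c : Cocone D)

/-- Systems of étale spaces descend to the vertex. -/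
def Lifts : Prop :=
  ∀ (D' : I ⥤ Over B) (α : D' ⟶ D),
    (∀ ⦃i j : I⦄ (g : i ⟶ j), IsPullback (D'.map g).left.hom (α.app i).left.hom (α.app j).left.hom (D.map g).left.hom) →
    (∀ i, IsEtaleMor (α.app i).left.hom) →
      ∃ (c' : Cocone D') (a : c'.pt ⟶ c.pt), IsEtaleMor a.left.hom ∧
        ∀ i, IsPullback (c'.ι.app i).left.hom (α.app i).left.hom a.left.hom (c.ι.app i).left.hom

/-- Morphisms of étale spaces descend to the vertex uniquely. -/
def LiftsHom : Prop :=
  ∀ (U U' : Over B) (u : U ⟶ c.pt) (u' : U' ⟶ c.pt), IsEtaleMor u.left.hom → IsEtaleMor u'.left.hom →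
    ∀ (DU DU' : I ⥤ Over B) (αU : DU ⟶ D) (αU' : DU' ⟶ D) (ιU : DU ⟶ (Functor.const I).obj U)
      (ιU' : DU' ⟶ (Functor.const I).obj U'),
      (∀ i, IsPullback (ιU.app i).left.hom (αU.app i).left.hom u.left.hom (c.ι.app i).left.hom) →
      (∀ i, IsPullback (ιU'.app i).left.hom (αU'.app i).left.hom u'.left.hom (c.ι.app i).left.hom) →
      ∀ (β : DU ⟶ DU'), β ≫ αU' = αU →
        ∃! m : U ⟶ U', m ≫ u' = u ∧ ∀ i, ιU.app i ≫ m = β.app i ≫ ιU'.app i

/-- Maps to affine schemes descend to the vertex. -/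
def LiftsAff : Prop :=
  ∀ (B' Zs Us : Over S) (b : (AlgSp.yon S).obj B' ⟶ B.obj) (z : Zs ⟶ B') {XB : AlgSp.Space S}
    (x₁ : XB ⟶ c.pt.left) (x₂ : XB.obj ⟶ (AlgSp.yon S).obj B') (uu : (AlgSp.yon S).obj Us ⟶ XB.obj)
    (DU : I ⥤ AlgSp.Space S) (αU : DU ⟶ D ⋙ Over.forget B)
    (ιU : DU ⟶ (Functor.const I).obj ((AlgSp.ofScheme S).obj Us))
    (φ : DU ⟶ (Functor.const I).obj ((AlgSp.ofScheme S).obj Zs)),
    IsAffine B'.left → IsAffine Zs.left → IsAffine Us.left → AlgSp.RepWith @Etale b →
    IsPullback x₁.hom x₂ c.pt.hom.hom b → AlgSp.RepWith @Etale uu →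
    (∀ i, IsPullback (ιU.app i).hom (αU.app i).hom (uu ≫ x₁.hom) (c.ι.app i).left.hom) →
    (∀ i, (φ.app i).hom ≫ (AlgSp.yon S).map z = (ιU.app i).hom ≫ uu ≫ x₂) →
      ∃! fz : Us ⟶ Zs, (AlgSp.yon S).map fz ≫ (AlgSp.yon S).map z = uu ≫ x₂ ∧
        ∀ i, (ιU.app i).hom ≫ (AlgSp.yon S).map fz = (φ.app i).hom

variable {D c}

/-- A morphism over `B` with given underlying map of sheaves. -/
abbrev mkHom {U V : Over B} (f : U.left.obj ⟶ V.left.obj) (w : f ≫ V.hom.hom = U.hom.hom) : U ⟶ V :=
  Over.homMk (ObjectProperty.homMk f) (ObjectProperty.hom_ext _ w)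

theorem hom_ext_over {U V : Over B} {f g : U ⟶ V} (h : f.left.hom = g.left.hom) : f = g :=
  Over.OverMorphism.ext (ObjectProperty.hom_ext _ h)

/-- Maps to an affine scheme over an affine chart of the base glue uniquely. -/
theorem existsUnique_to_affine (h₁' : LiftsHom D c) (h₂ : LiftsAff D c) {B' Zs : Over S} [IsAffine B'.left]
    [IsAffine Zs.left] {b : (yon S).obj B' ⟶ B.obj} (hb : RepWith @Etale b) (z : Zs ⟶ B')
    {E : Over B} (u : E ⟶ c.pt) (hu : IsEtaleMor u.left.hom) {DU : I ⥤ Over B} (αU : DU ⟶ D)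
    (ιU : DU ⟶ (Functor.const I).obj E)
    (hsq : ∀ i, IsPullback (ιU.app i).left.hom (αU.app i).left.hom u.left.hom (c.ι.app i).left.hom)
    (φ : DU ⋙ Over.forget B ⟶ (Functor.const I).obj ((AlgSp.ofScheme S).obj Zs))
    (hφ : ∀ i, (φ.app i).hom ≫ (yon S).map z ≫ b = (DU.obj i).hom.hom) :
    ∃! Φ : E.left.obj ⟶ (yon S).obj Zs,
      Φ ≫ (yon S).map z ≫ b = E.hom.hom ∧ ∀ i, (ιU.app i).left.hom ≫ Φ = (φ.app i).hom := by
  -- the base change of the vertex to the chart
  let XBs : Sp S := pullback c.pt.hom.hom b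
  have hXB : IsAlgSpace XBs := isAlgSpace_pullback c.pt.left.property (IsAlgSpace.yon_obj B') B.property _ _
  let XB : Space S := ⟨XBs, hXB⟩
  let x₁ : XB ⟶ c.pt.left := ObjectProperty.homMk (pullback.fst c.pt.hom.hom b)
  let x₂ : XB.obj ⟶ (yon S).obj B' := pullback.snd c.pt.hom.hom b
  have hx : IsPullback x₁.hom x₂ c.pt.hom.hom b := IsPullback.of_hasPullback _ _
  let XO : Over B := Over.mk (x₁ ≫ c.pt.hom)
  let xo : XO ⟶ c.pt := Over.homMk x₁
  have hxo : IsEtaleMor x₁.hom := isEtaleMor_of_repWith (repWith_fst _ hb)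
  obtain ⟨DX, αX, ιX, hX, -⟩ := exists_system c.ι xo
  have hu₁ : ∀ i, (ιU.app i).left.hom ≫ E.hom.hom = (DU.obj i).hom.hom := fun i =>
    congrArg InducedCategory.Hom.hom (Over.w (ιU.app i))
  have hc₁ : ∀ i, (c.ι.app i).left.hom ≫ c.pt.hom.hom = (D.obj i).hom.hom := fun i =>
    congrArg InducedCategory.Hom.hom (Over.w (c.ι.app i))
  have hα₁ : ∀ i, (αU.app i).left.hom ≫ (D.obj i).hom.hom = (DU.obj i).hom.hom := fun i =>
    congrArg InducedCategory.Hom.hom (Over.w (αU.app i))
  have huB : u.left.hom ≫ c.pt.hom.hom = E.hom.hom := congrArg InducedCategory.Hom.hom (Over.w u)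
  choose p hp₁ hp₂ using fun i => hx.exists_lift ((αU.app i).left.hom ≫ (c.ι.app i).left.hom)
    ((φ.app i).hom ≫ (yon S).map z) (by rw [Category.assoc, hc₁, hα₁, Category.assoc, hφ])
  choose q hq₁ hq₂ using fun i => (hX i).exists_lift (p i) (αU.app i).left.hom (hp₁ i)
  have hqB : ∀ i, q i ≫ (DX.obj i).hom.hom = (DU.obj i).hom.hom := fun i => by
    have h : (αX.app i).left.hom ≫ (D.obj i).hom.hom = (DX.obj i).hom.hom :=
      congrArg InducedCategory.Hom.hom (Over.w (αX.app i))
    rw [← h, reassoc_of% (hq₂ i), hα₁]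
  let β : DU ⟶ DX :=
    { app := fun i => mkHom (q i) (hqB i)
      naturality := fun i j g => by
        refine hom_ext_over ((hX j).hom_ext ?_ ?_)
        · have hn : (ιX.app j).left.hom = (ιX.app j).left.hom := rfl
          have nX : (DX.map g).left.hom ≫ (ιX.app j).left.hom = (ιX.app i).left.hom :=
            const_nat ιX g
          have nC : (D.map g).left.hom ≫ (c.ι.app j).left.hom = (c.ι.app i).left.hom :=
            const_nat c.ι g
          have nα : (DU.map g).left.hom ≫ (αU.app j).left.hom = (αU.app i).left.hom ≫ (D.map g).left.hom :=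
            congrArg (fun k => k.left.hom) (αU.naturality g)
          have nφ : (DU.map g).left.hom ≫ (φ.app j).hom = (φ.app i).hom := by
            exact congrArg InducedCategory.Hom.hom ((φ.naturality g).trans (Category.comp_id _))
          show ((DU.map g).left.hom ≫ q j) ≫ _ = (q i ≫ (DX.map g).left.hom) ≫ _
          rw [Category.assoc, Category.assoc, hq₁, nX, hq₁]
          refine hx.hom_ext ?_ ?_
          · rw [Category.assoc, hp₁, hp₁, reassoc_of% nα, nC]
          · rw [Category.assoc, hp₂, hp₂, reassoc_of% nφ]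
        · have nα : (DU.map g).left.hom ≫ (αU.app j).left.hom = (αU.app i).left.hom ≫ (D.map g).left.hom :=
            congrArg (fun k => k.left.hom) (αU.naturality g)
          have nX : (DX.map g).left.hom ≫ (αX.app j).left.hom = (αX.app i).left.hom ≫ (D.map g).left.hom :=
            congrArg (fun k => k.left.hom) (αX.naturality g)
          show ((DU.map g).left.hom ≫ q j) ≫ _ = (q i ≫ (DX.map g).left.hom) ≫ _
          rw [Category.assoc, Category.assoc, hq₂, nX, reassoc_of% (hq₂ i), nα] }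
  have hβ : β ≫ αX = αU := NatTrans.ext (funext fun i => hom_ext_over (hq₂ i))
  obtain ⟨m, ⟨hm₁, hm₂⟩, hmu⟩ := h₁' E XO u xo hu hxo DU DX αU αX ιU ιX hsq hX β hβ
  have hm₁' : m.left.hom ≫ x₁.hom = u.left.hom := congrArg (fun k => k.left.hom) hm₁
  have hm₂' : ∀ i, (ιU.app i).left.hom ≫ m.left.hom = p i := fun i =>
    (congrArg (fun k => k.left.hom) (hm₂ i)).trans (hq₁ i)
  obtain ⟨g, hg⟩ : ∃ g : E.left.obj ⟶ (yon S).obj B', g = m.left.hom ≫ x₂ := ⟨_, rfl⟩
  have hgB : g ≫ b = E.hom.hom := by rw [hg, Category.assoc, ← hx.w, reassoc_of% hm₁', huB]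
  have hgU : ∀ i, (ιU.app i).left.hom ≫ g = (φ.app i).hom ≫ (yon S).map z := fun i => by
    rw [hg, reassoc_of% (hm₂' i), hp₂]
  have g_unique : ∀ Φ : E.left.obj ⟶ (yon S).obj Zs, Φ ≫ (yon S).map z ≫ b = E.hom.hom →
      (∀ i, (ιU.app i).left.hom ≫ Φ = (φ.app i).hom) → Φ ≫ (yon S).map z = g := by
    intro Φ h h'
    obtain ⟨l, hl₁, hl₂⟩ := hx.exists_lift u.left.hom (Φ ≫ (yon S).map z) (by rw [huB, Category.assoc, h])
    let l' : E ⟶ XO := mkHom (V := XO) l (by
      show l ≫ x₁.hom ≫ c.pt.hom.hom = _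
      rw [reassoc_of% hl₁, huB])
    have : l' = m := hmu l' ⟨hom_ext_over hl₁, fun i => hom_ext_over (by
      refine Eq.trans ?_ (hq₁ i).symm
      show (ιU.app i).left.hom ≫ l = p i
      refine hx.hom_ext ?_ ?_
      · rw [Category.assoc, hl₁, hp₁, (hsq i).w]
      · rw [Category.assoc, hl₂, hp₂, reassoc_of% (h' i)])⟩
    rw [hg, ← hl₂]
    exact congrArg (fun k => k.left.hom ≫ x₂) this
  -- on affine charts
  have hme : IsEtaleMor m.left.hom :=
    isEtaleMor_of_comp E.left.property hXB c.pt.left.property (by rw [hm₁']; exact hu) hxo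
  have aff : ∀ (Us : Over S), IsAffine Us.left → ∀ ρ : (yon S).obj Us ⟶ E.left.obj, RepWith @Etale ρ →
      ∃ f : Us ⟶ Zs, (yon S).map f ≫ (yon S).map z = ρ ≫ g ∧
        (∀ (i : I) {P : Sp S} (a : P ⟶ (yon S).obj Us) (a' : P ⟶ (DU.obj i).left.obj),
          a ≫ ρ = a' ≫ (ιU.app i).left.hom → a ≫ (yon S).map f = a' ≫ (φ.app i).hom) ∧
        ∀ f' : Us ⟶ Zs, (yon S).map f' ≫ (yon S).map z = ρ ≫ g →
          (∀ (i : I) {P : Sp S} (a : P ⟶ (yon S).obj Us) (a' : P ⟶ (DU.obj i).left.obj),
            a ≫ ρ = a' ≫ (ιU.app i).left.hom → a ≫ (yon S).map f' = a' ≫ (φ.app i).hom) → f' = f := by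
    intro Us hUs ρ hρ
    let Uo : Over B := Over.mk (ObjectProperty.homMk (ρ ≫ E.hom.hom) : (AlgSp.ofScheme S).obj Us ⟶ B)
    let ρo : Uo ⟶ E := mkHom (U := Uo) ρ rfl
    obtain ⟨DV, αV, ιV, hV, -⟩ := exists_system ιU ρo
    have hwitness : ∀ i, IsPullback (ιV.app i).left.hom ((αV.app i).left.hom ≫ (αU.app i).left.hom)
        ((ρ ≫ m.left.hom) ≫ x₁.hom) (c.ι.app i).left.hom := fun i => by
      rw [Category.assoc, hm₁']
      exact (hV i).paste_vert (hsq i)
    obtain ⟨f, ⟨hf₁, hf₂⟩, hfu⟩ := h₂ B' Zs Us b z x₁ x₂ (ρ ≫ m.left.hom) (DV ⋙ Over.forget B)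
      (Functor.whiskerRight (αV ≫ αU) (Over.forget B))
      { app := fun i => (ιV.app i).left
        naturality := fun i j k => congrArg CommaMorphism.left (ιV.naturality k) }
      (Functor.whiskerRight αV (Over.forget B) ≫ φ) ‹_› ‹_› hUs hb hx (hme ρ hρ) hwitness (fun i => by
        show ((αV.app i).left.hom ≫ (φ.app i).hom) ≫ (yon S).map z = (ιV.app i).left.hom ≫ (ρ ≫ m.left.hom) ≫ x₂
        rw [Category.assoc, ← hgU i, Category.assoc ρ, ← hg, ← Category.assoc, ← Category.assoc]
        exact congrArg (· ≫ g) (hV i).w.symm)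
    refine ⟨f, by rw [hf₁, Category.assoc, hg], fun i P a a' e => ?_, fun f' h h' => hfu f' ⟨?_, fun i => ?_⟩⟩
    · obtain ⟨r, r₁, r₂⟩ := (hV i).exists_lift a a' e
      rw [← r₁, ← r₂, Category.assoc, Category.assoc]
      exact congrArg (r ≫ ·) (hf₂ i)
    · rw [h, hg, Category.assoc]
    · exact h' i _ _ (hV i).w
  -- glue along an atlas
  obtain ⟨U, ρ, hρ, hρs⟩ := E.left.property.atlas
  let pc : U.left.affineOpens → Over S := fun O => Over.mk (O.1.ι ≫ U.hom)
  let inc : ∀ O, pc O ⟶ U := fun O => Over.homMk O.1.ι rfl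
  have hinc : ∀ O, RepWith @Etale ((yon S).map (inc O) ≫ ρ) := fun O =>
    repWith_comp ((repWith_yon_map_iff _ _).2 (inferInstanceAs (Etale O.1.ι))) hρ
  choose f hf hfφ hfu using fun O : U.left.affineOpens => aff (pc O) O.2 _ (hinc O)
  -- agreement on overlaps
  have agree : ∀ (O O' : U.left.affineOpens) {T : Over S} (s : T ⟶ pc O) (s' : T ⟶ pc O'), Etale s.left →
      (yon S).map (s ≫ inc O) ≫ ρ = (yon S).map (s' ≫ inc O') ≫ ρ → s ≫ f O = s' ≫ f O' := by
    intro O O' T s s' hs hss
    refine Over.OverMorphism.ext (Scheme.hom_ext_of_forall _ _ fun x => ?_)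
    obtain ⟨W, hW, hxW, -⟩ := exists_isAffineOpen_mem_and_subset (x := x) (U := (⊤ : T.left.Opens)) trivial
    refine ⟨W, hxW, ?_⟩
    let Ws : Over S := Over.mk (W.ι ≫ T.hom)
    let iW : Ws ⟶ T := Over.homMk W.ι rfl
    have : Etale (W.ι ≫ s.left) := inferInstance
    have hr : RepWith @Etale ((yon S).map (iW ≫ s) ≫ (yon S).map (inc O) ≫ ρ) :=
      repWith_comp ((repWith_yon_map_iff _ _).2 (inferInstanceAs (Etale (W.ι ≫ s.left)))) (hinc O)
    obtain ⟨k, -, -, hku⟩ := aff Ws hW _ hr
    have e : (yon S).map (iW ≫ s') ≫ (yon S).map (inc O') ≫ ρ =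
        (yon S).map (iW ≫ s) ≫ (yon S).map (inc O) ≫ ρ := by
      simp only [Functor.map_comp, Category.assoc] at hss ⊢
      rw [hss]
    have k1 : iW ≫ s ≫ f O = k := hku _
      (by rw [← Category.assoc iW, Functor.map_comp, Category.assoc, hf O]; simp only [Category.assoc])
      (fun i P a a' h => by
        rw [← Category.assoc iW, Functor.map_comp, ← Category.assoc a]
        exact hfφ O i _ a' (by rw [Category.assoc]; exact h))
    have k2 : iW ≫ s' ≫ f O' = k := hku _
      (by rw [← Category.assoc iW, Functor.map_comp, Category.assoc, hf O', ← e]; simp only [Category.assoc])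
      (fun i P a a' h => by
        rw [← Category.assoc iW, Functor.map_comp, ← Category.assoc a]
        exact hfφ O' i _ a' (by rw [Category.assoc, e]; exact h))
    exact congrArg CommaMorphism.left (k1.trans k2.symm)
  let 𝒰 := U.left.openCoverOfIsOpenCover (fun O : U.left.affineOpens => O.1) (iSup_affineOpens_eq_top U.left)
  have hcompat : ∀ O O' : U.left.affineOpens,
      pullback.fst (𝒰.f O) (𝒰.f O') ≫ (f O).left = pullback.snd (𝒰.f O) (𝒰.f O') ≫ (f O').left := by
    intro O O'
    let T : Over S := Over.mk (pullback.fst (𝒰.f O) (𝒰.f O') ≫ (pc O).hom)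
    let s : T ⟶ pc O := Over.homMk (pullback.fst (𝒰.f O) (𝒰.f O')) rfl
    let s' : T ⟶ pc O' := Over.homMk (pullback.snd (𝒰.f O) (𝒰.f O')) (by
      show pullback.snd _ _ ≫ O'.1.ι ≫ U.hom = pullback.fst _ _ ≫ O.1.ι ≫ U.hom
      exact (pullback.condition_assoc _).symm)
    have hs : Etale s.left := inferInstanceAs (Etale (pullback.fst (𝒰.f O) (𝒰.f O')))
    have hss : s ≫ inc O = s' ≫ inc O' := Over.OverMorphism.ext pullback.condition
    exact congrArg CommaMorphism.left (agree O O' s s' hs (by rw [hss]))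
  let F₀ : U.left ⟶ Zs.left := 𝒰.glueMorphisms (fun O => (f O).left) hcompat
  have hF₀ : ∀ O, O.1.ι ≫ F₀ = (f O).left := fun O => Scheme.Cover.ι_glueMorphisms 𝒰 _ hcompat O
  let F : U ⟶ Zs := Over.homMk F₀ (Scheme.Cover.hom_ext 𝒰 _ _ fun O => by
    show O.1.ι ≫ F₀ ≫ Zs.hom = O.1.ι ≫ U.hom
    rw [reassoc_of% (hF₀ O)]
    exact Over.w (f O))
  have hF : ∀ O, inc O ≫ F = f O := fun O => Over.OverMorphism.ext (hF₀ O)
  have ext_pieces : ∀ {G : Sp S} (a a' : (yon S).obj U ⟶ G),
      (∀ O : U.left.affineOpens, (yon S).map (inc O) ≫ a = (yon S).map (inc O) ≫ a') → a = a' := by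
    intro G a a' h
    refine hom_ext_of_fppfCover (Xi := fun O : U.left.affineOpens => (yon S).obj (pc O))
      (g := fun O => (yon S).map (inc O)) (IsAlgSpace.yon_obj U) (fun O => IsAlgSpace.yon_obj _)
      ⟨fun O => ?_, fun x => ?_⟩ h
    · have h : RepWith @Etale ((yon S).map (inc O)) := (repWith_yon_map_iff _ _).2 (inferInstanceAs (Etale O.1.ι))
      exact ⟨locP_mono (P := @Etale) (fun _ _ k (_ : Etale k) => (inferInstance : Flat k)) (locP_of_repWith h),
        locP_mono (P := @Etale) (fun _ _ k (_ : Etale k) => (inferInstance : LocallyOfFinitePresentation k))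
          (locP_of_repWith h)⟩
    · obtain ⟨x, rfl⟩ := (Points.schemeHomeo U).surjective x
      obtain ⟨W, hW, hx, -⟩ := exists_isAffineOpen_mem_and_subset (x := x) (U := (⊤ : U.left.Opens)) trivial
      exact ⟨⟨W, hW⟩, Points.ofScheme (pc ⟨W, hW⟩) ⟨x, hx⟩, Points.map_yon_map_apply _ _⟩
  obtain ⟨R, sR, tR', kp⟩ := hρ.rep ρ
  obtain ⟨tR, rfl⟩ := (yon S).map_surjective tR'
  have hsR : Etale sR.left := hρ.2 _ _ _ kp
  have htR : Etale tR.left := hρ.2 _ _ _ kp.flip
  have hker : tR ≫ F = sR ≫ F := by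
    refine Over.OverMorphism.ext (Scheme.hom_ext_of_forall _ _ fun x => ?_)
    obtain ⟨O, hO, hxO, -⟩ := exists_isAffineOpen_mem_and_subset (x := tR.left x) (U := (⊤ : U.left.Opens)) trivial
    obtain ⟨O', hO', hxO', -⟩ := exists_isAffineOpen_mem_and_subset (x := sR.left x) (U := (⊤ : U.left.Opens)) trivial
    let W : R.left.Opens := tR.left ⁻¹ᵁ O ⊓ sR.left ⁻¹ᵁ O'
    refine ⟨W, ⟨hxO, hxO'⟩, ?_⟩
    let T : Over S := Over.mk (W.ι ≫ R.hom)
    let iT : T ⟶ R := Over.homMk W.ι rfl
    let a : T ⟶ pc ⟨O, hO⟩ := Over.homMk (tR.left.resLE O W inf_le_left) (by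
      show _ ≫ O.ι ≫ U.hom = _
      rw [Scheme.Hom.resLE_comp_ι_assoc, Over.w tR]
      rfl)
    let a' : T ⟶ pc ⟨O', hO'⟩ := Over.homMk (sR.left.resLE O' W inf_le_right) (by
      show _ ≫ O'.ι ≫ U.hom = _
      rw [Scheme.Hom.resLE_comp_ι_assoc, Over.w sR]
      rfl)
    have ea : a ≫ inc ⟨O, hO⟩ = iT ≫ tR := Over.OverMorphism.ext (Scheme.Hom.resLE_comp_ι _ _)
    have ea' : a' ≫ inc ⟨O', hO'⟩ = iT ≫ sR := Over.OverMorphism.ext (Scheme.Hom.resLE_comp_ι _ _)
    have hae : Etale a.left := by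
      have : Etale (a.left ≫ O.ι) := by
        show Etale (tR.left.resLE O W inf_le_left ≫ O.ι)
        rw [Scheme.Hom.resLE_comp_ι]
        infer_instance
      exact Etale.of_comp a.left O.ι
    have := agree ⟨O, hO⟩ ⟨O', hO'⟩ a a' hae (by
      rw [ea, ea', Functor.map_comp, Functor.map_comp, Category.assoc, Category.assoc, kp.w])
    rw [← hF ⟨O, hO⟩, ← hF ⟨O', hO'⟩, ← Category.assoc, ← Category.assoc, ea, ea'] at this
    exact congrArg CommaMorphism.left this
  obtain ⟨Φ, hΦ⟩ := Cofork.IsColimit.desc' (EtLift.isColimitOfAtlas hρ hρs kp) ((yon S).map F) (by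
    rw [← Functor.map_comp, ← Functor.map_comp, hker])
  simp only [Cofork.π_ofπ] at hΦ
  have hΦz : Φ ≫ (yon S).map z = g := by
    have : Epi ρ := epi_of_etale_surjective hρ hρs
    rw [← cancel_epi ρ]
    refine ext_pieces _ _ fun O => ?_
    rw [reassoc_of% hΦ, ← Category.assoc, ← Functor.map_comp, hF, hf O, Category.assoc]
  have hΦφ : ∀ i, (ιU.app i).left.hom ≫ Φ = (φ.app i).hom := fun i => by
    refine hom_ext_of_fppfCover (X := (DU.obj i).left.obj)
      (Xi := fun O : U.left.affineOpens => pullback ((yon S).map (inc O) ≫ ρ) (ιU.app i).left.hom)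
      (g := fun O => pullback.snd _ _) (DU.obj i).left.property
      (fun O => isAlgSpace_pullback (IsAlgSpace.yon_obj _) (DU.obj i).left.property E.left.property _ _)
      ⟨fun O => ?_, fun x => ?_⟩ fun O => ?_
    · have h := repWith_snd (ιU.app i).left.hom (hinc O)
      exact ⟨locP_mono (P := @Etale) (fun _ _ k (_ : Etale k) => (inferInstance : Flat k)) (locP_of_repWith h),
        locP_mono (P := @Etale) (fun _ _ k (_ : Etale k) => (inferInstance : LocallyOfFinitePresentation k))
          (locP_of_repWith h)⟩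
    · obtain ⟨y, hy⟩ := surjective_ofPt hρs (Points.map (ιU.app i).left.hom x)
      obtain ⟨W, hW, hyW, -⟩ := exists_isAffineOpen_mem_and_subset (x := y) (U := (⊤ : U.left.Opens)) trivial
      obtain ⟨w, hw⟩ := (Scheme.Opens.range_ι W).symm.subset hyW
      obtain ⟨P, h1, h2⟩ := exists_point_of_isPullback
        (IsPullback.of_hasPullback ((yon S).map (inc ⟨W, hW⟩) ≫ ρ) (ιU.app i).left.hom)
        (x := Points.ofScheme (pc ⟨W, hW⟩) w) (y := x) (by
          rw [Points.map_comp, map_map_ofScheme, ← hy]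
          exact congrArg (Points.ofPt ρ) hw)
      exact ⟨⟨W, hW⟩, P, h2⟩
    · rw [← Category.assoc, ← pullback.condition, Category.assoc, Category.assoc, hΦ, ← Functor.map_comp, hF]
      exact hfφ O i (pullback.fst _ _) (pullback.snd _ _) pullback.condition
  refine ⟨Φ, ⟨by rw [← Category.assoc, hΦz, hgB], hΦφ⟩, fun Φ' h => ?_⟩
  have hgz := g_unique Φ' h.1 h.2
  have : Epi ρ := epi_of_etale_surjective hρ hρs
  rw [← cancel_epi ρ, hΦ]
  refine ext_pieces _ _ fun O => ?_
  obtain ⟨k, hk⟩ := (yon S).map_surjective ((yon S).map (inc O) ≫ ρ ≫ Φ')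
  rw [← hk, ← Functor.map_comp, hF]
  refine congrArg (yon S).map (hfu O k ?_ fun i P a a' e => ?_)
  · rw [hk, Category.assoc, Category.assoc, hgz, Category.assoc]
  · rw [hk, ← h.2 i, ← reassoc_of% e]

/-- The base change of a chart to a morphism out of an étale space over the vertex. -/
theorem hom_ext_etale (h₁' : LiftsHom D c) (h₂ : LiftsAff D c) {F : Over B} (u : F ⟶ c.pt) (hu : IsEtaleMor u.left.hom)
    {DF : I ⥤ Over B} (αF : DF ⟶ D) (ιF : DF ⟶ (Functor.const I).obj F)
    (hsq : ∀ i, IsPullback (ιF.app i).left.hom (αF.app i).left.hom u.left.hom (c.ι.app i).left.hom)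
    {T : Over B} {p q : F ⟶ T} (h : ∀ i, ιF.app i ≫ p = ιF.app i ≫ q) {κ : Type u} {B' Z : κ → Over S}
    {b : ∀ k, (yon S).obj (B' k) ⟶ B.obj} {z : ∀ k, Z k ⟶ B' k} {ζ : ∀ k, (yon S).obj (Z k) ⟶ T.left.obj}
    (hB' : ∀ k, IsAffine (B' k).left) (hZ : ∀ k, IsAffine (Z k).left) (hb : ∀ k, RepWith @Etale (b k))
    (hζ : ∀ k, RepWith @Etale (ζ k)) (hw : ∀ k, ζ k ≫ T.hom.hom = (yon S).map (z k) ≫ b k)
    (hcov : ∀ x, ∃ k y, Points.map (ζ k) y = x) : p = q := by
  refine hom_ext_over (hom_ext_of_fppfCover (X := F.left.obj) (Xi := fun k => pullback p.left.hom (ζ k))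
    (g := fun k => pullback.fst _ _) F.left.property
    (fun k => isAlgSpace_pullback F.left.property (IsAlgSpace.yon_obj _) T.left.property _ _)
    ⟨fun k => ?_, fun x => ?_⟩ fun k => ?_)
  · have h := repWith_fst p.left.hom (hζ k)
    exact ⟨locP_mono (P := @Etale) (fun _ _ l (_ : Etale l) => (inferInstance : Flat l)) (locP_of_repWith h),
      locP_mono (P := @Etale) (fun _ _ l (_ : Etale l) => (inferInstance : LocallyOfFinitePresentation l))
        (locP_of_repWith h)⟩
  · obtain ⟨k, y, hy⟩ := hcov (Points.map p.left.hom x)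
    obtain ⟨P, h1, -⟩ := exists_point_of_isPullback (IsPullback.of_hasPullback p.left.hom (ζ k)) (x := x) (y := y)
      hy.symm
    exact ⟨k, P, h1⟩
  -- the two base changes
  have := hB' k
  have := hZ k
  let mkP : (r : F ⟶ T) → Over B := fun r => Over.mk (ObjectProperty.homMk (pullback.fst r.left.hom (ζ k) ≫ F.hom.hom) :
    (⟨pullback r.left.hom (ζ k), isAlgSpace_pullback F.left.property (IsAlgSpace.yon_obj _) T.left.property _ _⟩ :
      Space S) ⟶ B)
  let pr : (r : F ⟶ T) → (mkP r ⟶ F) := fun r => mkHom (U := mkP r) (pullback.fst r.left.hom (ζ k)) rfl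
  have hpr : ∀ r, IsEtaleMor ((pr r ≫ u).left.hom) := fun r =>
    isEtaleMor_comp (mkP r).left.property F.left.property c.pt.left.property
      (isEtaleMor_of_repWith (repWith_fst r.left.hom (hζ k))) hu
  have hT : ∀ r : F ⟶ T, pullback.snd r.left.hom (ζ k) ≫ (yon S).map (z k) ≫ b k = (mkP r).hom.hom := fun r => by
    show _ = pullback.fst r.left.hom (ζ k) ≫ F.hom.hom
    rw [← hw k, ← pullback.condition_assoc]
    exact congrArg (pullback.fst r.left.hom (ζ k) ≫ ·) (congrArg InducedCategory.Hom.hom (Over.w r))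
  obtain ⟨DP, αP, ιP, hP, -⟩ := exists_system ιF (pr p)
  obtain ⟨DQ, αQ, ιQ, hQ, -⟩ := exists_system ιF (pr q)
  have h' : ∀ i, (ιF.app i).left.hom ≫ p.left.hom = (ιF.app i).left.hom ≫ q.left.hom := fun i =>
    congrArg (fun l => l.left.hom) (h i)
  choose l hl₁ hl₂ using fun i => (IsPullback.of_hasPullback q.left.hom (ζ k)).exists_lift
    ((ιP.app i).left.hom ≫ pullback.fst p.left.hom (ζ k)) ((ιP.app i).left.hom ≫ pullback.snd p.left.hom (ζ k)) (by
      rw [Category.assoc, Category.assoc, ← pullback.condition, ← Category.assoc, ← Category.assoc]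
      have e : (ιP.app i).left.hom ≫ pullback.fst p.left.hom (ζ k) = (αP.app i).left.hom ≫ (ιF.app i).left.hom :=
        (hP i).w
      rw [e, Category.assoc, Category.assoc, h'])
  choose r hr₁ hr₂ using fun i => (hQ i).exists_lift (l i) (αP.app i).left.hom
    ((hl₁ i).trans (hP i).w)
  let β : DP ⟶ DQ :=
    { app := fun i => mkHom (r i) (by
        have e : (αQ.app i).left.hom ≫ (DF.obj i).hom.hom = (DQ.obj i).hom.hom :=
          congrArg InducedCategory.Hom.hom (Over.w (αQ.app i))
        have e' : (αP.app i).left.hom ≫ (DF.obj i).hom.hom = (DP.obj i).hom.hom :=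
          congrArg InducedCategory.Hom.hom (Over.w (αP.app i))
        rw [← e, reassoc_of% (hr₂ i), e'])
      naturality := fun i j g => by
        have n₁ : (DP.map g).left.hom ≫ (ιP.app j).left.hom = (ιP.app i).left.hom :=
            const_nat ιP g
        have n₂ : (DQ.map g).left.hom ≫ (ιQ.app j).left.hom = (ιQ.app i).left.hom :=
            const_nat ιQ g
        have n₃ : (DP.map g).left.hom ≫ (αP.app j).left.hom = (αP.app i).left.hom ≫ (DF.map g).left.hom :=
          congrArg (fun k => k.left.hom) (αP.naturality g)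
        have n₄ : (DQ.map g).left.hom ≫ (αQ.app j).left.hom = (αQ.app i).left.hom ≫ (DF.map g).left.hom :=
          congrArg (fun k => k.left.hom) (αQ.naturality g)
        refine hom_ext_over ((hQ j).hom_ext ?_ ?_)
        · show ((DP.map g).left.hom ≫ r j) ≫ _ = (r i ≫ (DQ.map g).left.hom) ≫ _
          rw [Category.assoc, Category.assoc, hr₁, n₂, hr₁]
          refine pullback.hom_ext ?_ ?_
          · rw [Category.assoc, hl₁, hl₁, reassoc_of% n₁]
          · rw [Category.assoc, hl₂, hl₂, reassoc_of% n₁]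
        · show ((DP.map g).left.hom ≫ r j) ≫ _ = (r i ≫ (DQ.map g).left.hom) ≫ _
          rw [Category.assoc, Category.assoc, hr₂, n₄, reassoc_of% (hr₂ i), n₃] }
  have hβ : β ≫ αQ = αP := NatTrans.ext (funext fun i => hom_ext_over (hr₂ i))
  have sqP : ∀ i, IsPullback (ιP.app i).left.hom ((αP ≫ αF).app i).left.hom (pr p ≫ u).left.hom
      (c.ι.app i).left.hom := fun i => (hP i).paste_vert (hsq i)
  have sqQ : ∀ i, IsPullback (ιQ.app i).left.hom ((αQ ≫ αF).app i).left.hom (pr q ≫ u).left.hom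
      (c.ι.app i).left.hom := fun i => (hQ i).paste_vert (hsq i)
  obtain ⟨m, ⟨hm₁, hm₂⟩, -⟩ := h₁' _ _ (pr p ≫ u) (pr q ≫ u) (hpr p) (hpr q) DP DQ (αP ≫ αF) (αQ ≫ αF) ιP ιQ
    sqP sqQ β (by rw [← Category.assoc, hβ])
  have hmι : ∀ i, (ιP.app i).left.hom ≫ m.left.hom = l i := fun i =>
    (congrArg (fun k => k.left.hom) (hm₂ i)).trans (hr₁ i)
  -- compatibility with the projections to the chart
  have e₁ : m ≫ pr q = pr p := by
    refine (h₁' (mkP p) F (pr p ≫ u) u (hpr p) hu DP DF (αP ≫ αF) αF ιP ιF sqP hsq αP rfl).unique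
      ⟨by rw [Category.assoc, hm₁], fun i => hom_ext_over ?_⟩ ⟨rfl, fun i => hom_ext_over (hP i).w⟩
    show (ιP.app i).left.hom ≫ m.left.hom ≫ pullback.fst q.left.hom (ζ k) = _
    rw [reassoc_of% (hmι i), hl₁]
    exact (hP i).w
  have e₂ : m.left.hom ≫ pullback.snd q.left.hom (ζ k) = pullback.snd p.left.hom (ζ k) := by
    let φ : DP ⋙ Over.forget B ⟶ (Functor.const I).obj ((AlgSp.ofScheme S).obj (Z k)) :=
      { app := fun i => ObjectProperty.homMk ((ιP.app i).left.hom ≫ pullback.snd p.left.hom (ζ k))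
        naturality := fun i j g => ObjectProperty.hom_ext _ (by
          have n₁ : (DP.map g).left.hom ≫ (ιP.app j).left.hom = (ιP.app i).left.hom :=
            const_nat ιP g
          show (DP.map g).left.hom ≫ (ιP.app j).left.hom ≫ _ = ((ιP.app i).left.hom ≫ _) ≫ 𝟙 _
          rw [reassoc_of% n₁, Category.comp_id]) }
    have hφ : ∀ i, (φ.app i).hom ≫ (yon S).map (z k) ≫ b k = (DP.obj i).hom.hom := fun i => by
      show ((ιP.app i).left.hom ≫ pullback.snd p.left.hom (ζ k)) ≫ _ = _
      rw [Category.assoc, hT p]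
      exact congrArg InducedCategory.Hom.hom (Over.w (ιP.app i))
    refine (existsUnique_to_affine h₁' h₂ (hb k) (z k) (pr p ≫ u) (hpr p) (αP ≫ αF) ιP sqP φ hφ).unique
      ⟨?_, fun i => ?_⟩ ⟨hT p, fun i => rfl⟩
    · rw [Category.assoc, hT q]
      exact congrArg InducedCategory.Hom.hom (Over.w m)
    · show _ = (ιP.app i).left.hom ≫ pullback.snd p.left.hom (ζ k)
      rw [reassoc_of% (hmι i), hl₂]
  have e₁' : m.left.hom ≫ pullback.fst q.left.hom (ζ k) = pullback.fst p.left.hom (ζ k) :=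
    congrArg (fun k => k.left.hom) e₁
  rw [← e₁', Category.assoc, Category.assoc, pullback.condition, ← Category.assoc m.left.hom,
    ← Category.assoc m.left.hom, e₁']
  rw [pullback.condition, ← e₂, Category.assoc]

/-- A cocone with descent for étale spaces and maps to affine schemes is a colimit. -/
theorem nonempty_isColimit (h₁ : Lifts D c) (h₁' : LiftsHom D c) (h₂ : LiftsAff D c) : Nonempty (IsColimit c) := by
  have charts : ∀ T : Over B, ∃ (κ : Type u) (B' Z : κ → Over S) (b : ∀ k, (yon S).obj (B' k) ⟶ B.obj)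
      (z : ∀ k, Z k ⟶ B' k) (ζ : ∀ k, (yon S).obj (Z k) ⟶ T.left.obj),
      (∀ k, IsAffine (B' k).left) ∧ (∀ k, IsAffine (Z k).left) ∧ (∀ k, RepWith @Etale (b k)) ∧
      (∀ k, RepWith @Etale (ζ k)) ∧ (∀ k, ζ k ≫ T.hom.hom = (yon S).map (z k) ≫ b k) ∧
      (∀ x, ∃ k y, Points.map (ζ k) y = x) := by
    intro T
    obtain ⟨U, V, a, b, h, ha, has, hb, -, hab⟩ := exists_chart T.left.property B.property T.hom.hom
    let κ := {p : V.left.affineOpens × U.left.affineOpens // p.2.1 ≤ h.left ⁻¹ᵁ p.1.1}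
    refine ⟨κ, fun k => Over.mk (k.1.1.1.ι ≫ V.hom), fun k => Over.mk (k.1.2.1.ι ≫ U.hom),
      fun k => (yon S).map (Over.homMk k.1.1.1.ι rfl) ≫ b,
      fun k => Over.homMk (h.left.resLE k.1.1.1 k.1.2.1 k.2) (by
        show _ ≫ k.1.1.1.ι ≫ V.hom = _
        rw [Scheme.Hom.resLE_comp_ι_assoc, Over.w h]
        rfl),
      fun k => (yon S).map (Over.homMk k.1.2.1.ι rfl) ≫ a, fun k => k.1.1.2, fun k => k.1.2.2,
      fun k => repWith_comp ((repWith_yon_map_iff _ _).2 (inferInstanceAs (Etale k.1.1.1.ι))) hb,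
      fun k => repWith_comp ((repWith_yon_map_iff _ _).2 (inferInstanceAs (Etale k.1.2.1.ι))) ha,
      fun k => ?_, fun x => ?_⟩
    · rw [Category.assoc, hab, ← Category.assoc, ← Category.assoc, ← Functor.map_comp, ← Functor.map_comp]
      congr 2
      exact Over.OverMorphism.ext (Scheme.Hom.resLE_comp_ι _ _).symm
    · obtain ⟨u, rfl⟩ := surjective_ofPt has x
      obtain ⟨O, hO, huO, -⟩ := exists_isAffineOpen_mem_and_subset (x := h.left u) (U := (⊤ : V.left.Opens)) trivial
      obtain ⟨W, hW, huW, hWO⟩ := exists_isAffineOpen_mem_and_subset (x := u) (U := h.left ⁻¹ᵁ O) huO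
      obtain ⟨w, hw⟩ := (Scheme.Opens.range_ι W).symm.subset huW
      refine ⟨⟨(⟨O, hO⟩, ⟨W, hW⟩), hWO⟩, Points.ofScheme _ w, ?_⟩
      rw [Points.map_comp, map_map_ofScheme]
      exact congrArg (Points.ofPt a) hw
  have eqmor : ∀ {F T : Over B} (u : F ⟶ c.pt), IsEtaleMor u.left.hom → ∀ (DF : I ⥤ Over B) (αF : DF ⟶ D)
      (ιF : DF ⟶ (Functor.const I).obj F),
      (∀ i, IsPullback (ιF.app i).left.hom (αF.app i).left.hom u.left.hom (c.ι.app i).left.hom) →
      ∀ (p q : F ⟶ T), (∀ i, ιF.app i ≫ p = ιF.app i ≫ q) → p = q := by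
    intro F T u hu DF αF ιF hsq p q h
    obtain ⟨κ, B', Z, b, z, ζ, hB', hZ, hb, hζ, hw, hcov⟩ := charts T
    exact hom_ext_etale h₁' h₂ u hu αF ιF hsq h hB' hZ hb hζ hw hcov
  have hid : ∀ (p q : c.pt ⟶ c.pt) (_ : ∀ i, c.ι.app i ≫ p = c.ι.app i ≫ q), p = q := fun p q h =>
    eqmor (𝟙 c.pt) (isEtaleMor_of_repWith (repWith_of_isIso _ _)) D (𝟙 D) c.ι
      (fun i => IsPullback.of_vert_isIso ⟨by simp⟩) p q h
  have exists_desc : ∀ s : Cocone D, ∃ d : c.pt ⟶ s.pt, ∀ i, c.ι.app i ≫ d = s.ι.app i := by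
    intro s
    obtain ⟨κ, B', Z, b, z, ζ, hB', hZ, hb, hζ, hw, hcov⟩ := charts s.pt
    have piece : ∀ k, ∃ (E : Over B) (a : E ⟶ c.pt) (g : E ⟶ s.pt), IsEtaleMor a.left.hom ∧
        (∀ i {P : Over B} (x : P ⟶ E) (y : P ⟶ D.obj i), x ≫ a = y ≫ c.ι.app i → x ≫ g = y ≫ s.ι.app i) ∧
        ∀ i (x : Points (D.obj i).left.obj),
          Points.map (s.ι.app i).left.hom x ∈ Set.range (Points.map (ζ k)) →
            Points.map (c.ι.app i).left.hom x ∈ Set.range (Points.map a.left.hom) := by
      intro k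
      let Zo : Over B := Over.mk (ObjectProperty.homMk (ζ k ≫ s.pt.hom.hom) : (AlgSp.ofScheme S).obj (Z k) ⟶ B)
      let zo : Zo ⟶ s.pt := mkHom (U := Zo) (ζ k) rfl
      obtain ⟨DU, αU, ιU, hU, hUc⟩ := exists_system s.ι zo
      have hαU : ∀ i, IsEtaleMor (αU.app i).left.hom := fun i =>
        isEtaleMor_of_repWith (repWith_of_isPullback (hU i) (hζ k))
      obtain ⟨c', a, ha, hac⟩ := h₁ DU αU hUc hαU
      let φ : DU ⋙ Over.forget B ⟶ (Functor.const I).obj ((AlgSp.ofScheme S).obj (Z k)) :=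
        { app := fun i => (ιU.app i).left
          naturality := fun i j g => congrArg CommaMorphism.left (ιU.naturality g) }
      have := hB' k
      have := hZ k
      obtain ⟨Φ, ⟨hΦ₁, hΦ₂⟩, -⟩ := existsUnique_to_affine h₁' h₂ (hb k) (z k) a ha αU c'.ι hac φ (fun i => by
        rw [← hw k]
        exact congrArg InducedCategory.Hom.hom (Over.w (ιU.app i)))
      let g : c'.pt ⟶ s.pt := mkHom (Φ ≫ ζ k) (by rw [Category.assoc, hw k, hΦ₁])
      refine ⟨c'.pt, a, g, ha, fun i P x y e => hom_ext_over ?_, fun i x hx => ?_⟩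
      · obtain ⟨r, r₁, r₂⟩ := (hac i).exists_lift x.left.hom y.left.hom (congrArg (fun l => l.left.hom) e)
        show x.left.hom ≫ Φ ≫ ζ k = y.left.hom ≫ (s.ι.app i).left.hom
        rw [← r₁, Category.assoc, reassoc_of% (hΦ₂ i), ← r₂, Category.assoc]
        exact congrArg (r ≫ ·) (hU i).w
      · obtain ⟨y, hy⟩ := hx
        obtain ⟨P, -, h2⟩ := exists_point_of_isPullback (hU i) (x := y) (y := x) hy
        refine ⟨Points.map (c'.ι.app i).left.hom P, ?_⟩
        rw [← Points.map_comp, (hac i).w, Points.map_comp, h2]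
    choose E a g ha hg hpts using piece
    -- the pieces cover the vertex
    let O : Set (Points c.pt.left.obj) := ⋃ k, Set.range (Points.map (a k).left.hom)
    have hO : IsOpen O := isOpen_iUnion fun k => by
      have he := (isEtaleMor_iff_locP (E k).left.property c.pt.left.property _).1 (ha k)
      exact (isOpenMap_map_of_fppf (E k).left.property c.pt.left.property _
        (locP_mono (P := @Etale) (fun _ _ l (_ : Etale l) => (inferInstance : Flat l)) he)
        (locP_mono (P := @Etale) (fun _ _ l (_ : Etale l) => (inferInstance : LocallyOfFinitePresentation l)) he)).isOpen_range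
    obtain ⟨Ws, j, hWs, hj, hjr⟩ := exists_open_subspace c.pt.left.property hO
    let W : Over B := Over.mk (ObjectProperty.homMk (j ≫ c.pt.hom.hom) : (⟨Ws, hWs⟩ : Space S) ⟶ B)
    let jo : W ⟶ c.pt := mkHom (U := W) j rfl
    have hjo : IsEtaleMor jo.left.hom :=
      isEtaleMor_of_repWith (repWith_mono (fun _ _ l (_ : IsOpenImmersion l) => inferInstanceAs (Etale l)) _ hj)
    obtain ⟨DW, αW, ιW, hW, -⟩ := exists_system c.ι jo
    have : ∀ i, IsIso (αW.app i).left.hom := fun i => by
      refine isIso_of_openImm_surjective (D.obj i).left.property (repWith_of_isPullback (hW i) hj) fun x => ?_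
      obtain ⟨k, y, hy⟩ := hcov (Points.map (s.ι.app i).left.hom x)
      have hxO : Points.map (c.ι.app i).left.hom x ∈ Set.range (Points.map j) := by
        rw [hjr]
        exact Set.mem_iUnion.2 ⟨k, hpts k i x ⟨y, hy⟩⟩
      obtain ⟨w, hw⟩ := hxO
      obtain ⟨P, -, h2⟩ := exists_point_of_isPullback (hW i) (x := w) (y := x) hw
      exact ⟨P, h2⟩
    have : ∀ i, IsIso (αW.app i) := fun i => by
      have : IsIso (αW.app i).left := by
        have : IsIso ((ObjectProperty.ι _).map (αW.app i).left) := ‹∀ i, IsIso (αW.app i).left.hom› i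
        exact isIso_of_reflects_iso (αW.app i).left (ObjectProperty.ι _)
      have : IsIso ((Over.forget B).map (αW.app i)) := ‹IsIso (αW.app i).left›
      exact isIso_of_reflects_iso (αW.app i) (Over.forget B)
    have : IsIso αW := NatIso.isIso_of_isIso_app αW
    obtain ⟨m, ⟨hm₁, -⟩, -⟩ := h₁' c.pt W (𝟙 c.pt) jo (isEtaleMor_of_repWith (repWith_of_isIso _ _)) hjo D DW
      (𝟙 D) αW c.ι ιW (fun i => IsPullback.of_vert_isIso ⟨by simp⟩) hW (inv αW) (IsIso.inv_hom_id αW)
    have hOuniv : ∀ x, x ∈ O := fun x => by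
      rw [← hjr]
      refine ⟨Points.map m.left.hom x, ?_⟩
      rw [← Points.map_comp]
      have : m.left.hom ≫ j = 𝟙 _ := congrArg (fun l => l.left.hom) hm₁
      rw [this, Points.map_id]
    -- agreement on the overlaps
    have hcover : IsFppfCover (fun k => (E k).left.obj) (fun k => (a k).left.hom) := by
      refine ⟨fun k => ?_, fun x => ?_⟩
      · have he := (isEtaleMor_iff_locP (E k).left.property c.pt.left.property _).1 (ha k)
        exact ⟨locP_mono (P := @Etale) (fun _ _ l (_ : Etale l) => (inferInstance : Flat l)) he,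
          locP_mono (P := @Etale) (fun _ _ l (_ : Etale l) => (inferInstance : LocallyOfFinitePresentation l)) he⟩
      · obtain ⟨k, y, hy⟩ := Set.mem_iUnion.1 (hOuniv x)
        exact ⟨k, y, hy⟩
    obtain ⟨d, hd⟩ := exists_desc_of_fppfCover c.pt.left.property (fun k => (E k).left.property) hcover
      (fun k => (g k).left.hom) fun k k' T x y e => by
        let Fs : Sp S := pullback (a k).left.hom (a k').left.hom
        let F : Over B := Over.mk (ObjectProperty.homMk (pullback.fst (a k).left.hom (a k').left.hom ≫ (E k).hom.hom) :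
          (⟨Fs, isAlgSpace_pullback (E k).left.property (E k').left.property c.pt.left.property _ _⟩ : Space S) ⟶ B)
        let π₁ : F ⟶ E k := mkHom (U := F) (pullback.fst _ _) rfl
        let π₂ : F ⟶ E k' := mkHom (U := F) (pullback.snd _ _) (by
          show pullback.snd _ _ ≫ _ = pullback.fst _ _ ≫ _
          rw [← congrArg InducedCategory.Hom.hom (Over.w (a k)), ← congrArg InducedCategory.Hom.hom (Over.w (a k'))]
          exact (pullback.condition_assoc c.pt.hom.hom).symm)
        have hF : IsEtaleMor (π₁ ≫ a k).left.hom :=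
          isEtaleMor_comp F.left.property (E k).left.property c.pt.left.property
            (isEtaleMor_of_isPullback (IsPullback.of_hasPullback (a k).left.hom (a k').left.hom).flip
              (E k').left.property c.pt.left.property (E k).left.property (ha k')) (ha k)
        obtain ⟨DF, αF, ιF, hDF, -⟩ := exists_system c.ι (π₁ ≫ a k)
        have h2 : π₁ ≫ a k = π₂ ≫ a k' := hom_ext_over pullback.condition
        have : π₁ ≫ g k = π₂ ≫ g k' := eqmor (π₁ ≫ a k) hF DF αF ιF hDF _ _ fun i => by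
          have e₁ : ιF.app i ≫ π₁ ≫ a k = αF.app i ≫ c.ι.app i := hom_ext_over (hDF i).w
          rw [← Category.assoc, hg k i (ιF.app i ≫ π₁) (αF.app i) (by rw [Category.assoc, e₁]),
            ← Category.assoc, hg k' i (ιF.app i ≫ π₂) (αF.app i) (by rw [Category.assoc, ← h2, e₁])]
        obtain ⟨r, r₁, r₂⟩ := (IsPullback.of_hasPullback (a k).left.hom (a k').left.hom).exists_lift x y e
        rw [← r₁, ← r₂, Category.assoc, Category.assoc]
        exact congrArg (r ≫ ·) (congrArg (fun l => l.left.hom) this)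
    have hdB : d ≫ s.pt.hom.hom = c.pt.hom.hom :=
      hom_ext_of_fppfCover c.pt.left.property (fun k => (E k).left.property) hcover fun k => by
        have w₁ : (g k).left.hom ≫ s.pt.hom.hom = (E k).hom.hom := congrArg InducedCategory.Hom.hom (Over.w (g k))
        have w₂ : (a k).left.hom ≫ c.pt.hom.hom = (E k).hom.hom := congrArg InducedCategory.Hom.hom (Over.w (a k))
        rw [reassoc_of% (hd k), w₁, w₂]
    refine ⟨mkHom d hdB, fun i => hom_ext_over ?_⟩
    refine hom_ext_of_fppfCover (X := (D.obj i).left.obj)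
      (Xi := fun k => pullback (a k).left.hom (c.ι.app i).left.hom) (g := fun k => pullback.snd _ _)
      (D.obj i).left.property
      (fun k => isAlgSpace_pullback (E k).left.property (D.obj i).left.property c.pt.left.property _ _)
      ⟨fun k => ?_, fun x => ?_⟩ fun k => ?_
    · have he := (isEtaleMor_iff_locP (isAlgSpace_pullback (E k).left.property (D.obj i).left.property
        c.pt.left.property _ _) (D.obj i).left.property _).1 (isEtaleMor_of_isPullback
        (IsPullback.of_hasPullback (a k).left.hom (c.ι.app i).left.hom) (E k).left.property c.pt.left.property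
        (D.obj i).left.property (ha k))
      exact ⟨locP_mono (P := @Etale) (fun _ _ l (_ : Etale l) => (inferInstance : Flat l)) he,
        locP_mono (P := @Etale) (fun _ _ l (_ : Etale l) => (inferInstance : LocallyOfFinitePresentation l)) he⟩
    · obtain ⟨k, y, hy⟩ := Set.mem_iUnion.1 (hOuniv (Points.map (c.ι.app i).left.hom x))
      obtain ⟨P, -, h2⟩ := exists_point_of_isPullback (IsPullback.of_hasPullback (a k).left.hom
        (c.ι.app i).left.hom) (x := y) (y := x) hy
      exact ⟨k, P, h2⟩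
    · let Po : Over B := Over.mk (ObjectProperty.homMk
        (pullback.snd (a k).left.hom (c.ι.app i).left.hom ≫ (D.obj i).hom.hom) :
          (⟨_, isAlgSpace_pullback (E k).left.property (D.obj i).left.property c.pt.left.property _ _⟩ : Space S) ⟶ B)
      let y : Po ⟶ D.obj i := mkHom (U := Po) (pullback.snd _ _) rfl
      let x : Po ⟶ E k := mkHom (U := Po) (pullback.fst _ _) (by
        show pullback.fst _ _ ≫ _ = pullback.snd _ _ ≫ _
        rw [← congrArg InducedCategory.Hom.hom (Over.w (a k)), ← congrArg InducedCategory.Hom.hom (Over.w (c.ι.app i))]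
        exact pullback.condition_assoc c.pt.hom.hom)
      have hxy : x ≫ g k = y ≫ s.ι.app i := hg k i x y (hom_ext_over pullback.condition)
      show pullback.snd _ _ ≫ (c.ι.app i).left.hom ≫ d = pullback.snd _ _ ≫ (s.ι.app i).left.hom
      rw [← pullback.condition_assoc, hd k]
      exact congrArg (fun l => l.left.hom) hxy
  choose d hd using exists_desc
  exact ⟨{ desc := d
           fac := hd
           uniq := fun s m hm => eqmor (𝟙 c.pt) (isEtaleMor_of_repWith (repWith_of_isIso _ _)) D (𝟙 D) c.ι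
             (fun i => IsPullback.of_vert_isIso ⟨by simp⟩) _ _ fun i => (hm i).trans (hd s i).symm }⟩

end Groth.Agent.AlgSpDec.ColimEt
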