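import Groth.Agent.AlgSpDec.FibreAffineDescent
import Groth.Agent.AlgSpDec.LqfScheme
import Groth.Agent.AlgSpLib.LocalBaseTop
import Groth.Agent.AlgSpDec.SpreadOut
import Groth.Agent.GrpdLib.InvOpen

/-!
# Descending affine opens through finite extensions without a separation hypothesis
-/

set_option backward.isDefEq.respectTransparency false
set_option backward.isDefEq.respectTransparency.types false

universe u

open CategoryTheory CategoryTheory.Limits AlgebraicGeometry Opposite AlgSp Groth.Agent.AlgSpLib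
  Groth.Agent.AlgSpDec.BcConn Groth.Agent.AlgSpDec.GeomRed Groth.Agent.AlgSpDec.AffineBc
open scoped TensorProduct

namespace Groth.Agent.AlgSpDec.FibreAffine

theorem isSeparatedMor_of_comp {S : Scheme.{u}} {F G H : Sp S} {f : F ⟶ G} {g : G ⟶ H}
    (h : IsSeparatedMor (f ≫ g)) : IsSeparatedMor f := by
  let m : pullback f f ⟶ pullback (f ≫ g) (f ≫ g) := pullback.lift (pullback.fst f f) (pullback.snd f f)
    (by rw [pullback.condition_assoc])
  have : Mono m := ⟨fun {Z} a b hab => by
    apply pullback.hom_ext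
    · simpa [m] using hab =≫ pullback.fst _ _
    · simpa [m] using hab =≫ pullback.snd _ _⟩
  have hd : pullback.diagonal f ≫ m = pullback.diagonal (f ≫ g) := by apply pullback.hom_ext <;> simp [m]
  refine repWith_of_isPullback (fst := 𝟙 F) (snd := pullback.diagonal f) (f := pullback.diagonal (f ≫ g))
    (g := m) ?_ h
  exact ⟨⟨by rw [Category.id_comp, hd]⟩, ⟨PullbackCone.IsLimit.mk _ (fun s => s.fst)
    (fun s => Category.comp_id _)
    (fun s => by rw [← cancel_mono m, Category.assoc, hd, s.condition])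
    (fun s m' h1 _ => by simpa using h1)⟩⟩

variable {k : Type u} [Field k] {X : Sp (Spec (CommRingCat.of k))}

theorem finite_fibre_ext (L : Type u) [Field L] [Algebra k L] [FiniteDimensional k L] {F : Type u} [Field F]
    [Algebra k F] (ξ : (yon _).obj (specOver k F) ⟶ X) :
    {z : Points (X ⨯ (yon _).obj (ext (k := k) L)) |
      Points.map prod.fst z = Points.ofPt ξ (IsLocalRing.closedPoint F)}.Finite := by
  have : Module.Finite F (F ⊗[k] L) := inferInstance
  have : IsArtinianRing (F ⊗[k] L) := IsArtinianRing.of_finite F _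
  refine (Set.finite_range fun p : PrimeSpectrum (F ⊗[k] L) => Points.ofPt (SpreadOut.psi ξ L) p).subset ?_
  intro z hz
  exact SpreadOut.exists_psi_point ξ L z hz

/-- An affine open of a finite base change containing a whole fibre gives an affine open neighbourhood. -/
theorem exists_affine_nhd' (hX : IsAlgSpace X) {L : Type u} [Field L] [Algebra k L]
    [FiniteDimensional k L] {T : Over (Spec (CommRingCat.of k))} [IsAffine T.left]
    (jT : (yon _).obj T ⟶ X ⨯ (yon _).obj (ext (k := k) L)) (hjT : RepWith @IsOpenImmersion jT)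
    {F : Type u} [Field F] [Algebra k F] (ξ : (yon _).obj (specOver k F) ⟶ X)
    (hx : ∀ z, Points.map prod.fst z = Points.ofPt ξ (IsLocalRing.closedPoint F) → z ∈ Set.range (Points.map jT)) :
    ∃ (Z : Over (Spec (CommRingCat.of k))) (j : (yon _).obj Z ⟶ X), IsAffine Z.left ∧
      RepWith @IsOpenImmersion j ∧ Points.ofPt ξ (IsLocalRing.closedPoint F) ∈ Set.range (Points.map j) := by
  let t := Groth.Agent.AlgSpPts.isTerminalYon (Spec (CommRingCat.of k))
  let E := (yon _).obj (ext (k := k) L)
  have hY : IsAlgSpace (X ⨯ E) := Groth.Agent.AlgSpPts.isAlgSpace_prod hX (IsAlgSpace.yon_obj _)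
  let π : X ⨯ E ⟶ X := prod.fst
  let O : Set (Points X) := (Points.map π '' (Set.range (Points.map jT))ᶜ)ᶜ
  have hO : IsOpen O :=
    (isClosedMap_fst (K := L) hX _ (isOpen_range_openImm hY hjT).isClosed_compl).isOpen_compl
  obtain ⟨X', j, hX', hj, hr⟩ := Groth.Agent.AlgSpPts.exists_open_subspace hX hO
  have hxO : Points.ofPt ξ (IsLocalRing.closedPoint F) ∈ O := fun ⟨z, hz, he⟩ => hz (hx z he)
  have := mono_of_openImm hj
  let jL := prod.map j (𝟙 E)
  have sqj := BcConn.isPullback_prodMap' E j
  have hjL : RepWith @IsOpenImmersion jL := repWith_of_isPullback sqj hj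
  have hX'L : IsAlgSpace (X' ⨯ E) := Groth.Agent.AlgSpPts.isAlgSpace_prod hX' (IsAlgSpace.yon_obj _)
  have hrL : Set.range (Points.map jL) ⊆ Set.range (Points.map jT) := by
    rw [range_map_snd_of_isPullback sqj, hr]
    exact fun z hz => by_contra fun h => hz ⟨z, h, rfl⟩
  obtain ⟨g, hg⟩ := exists_lift_openImmersion hX'L (IsAlgSpace.yon_obj T) hY hjT jL hrL
  have := mono_of_openImm hjT
  have := mono_of_openImm hjL
  have : Mono g := mono_of_mono_fac hg
  have hgo : RepWith @IsOpenImmersion g := by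
    refine repWith_of_isPullback (fst := 𝟙 _) (snd := g) (f := jL) (g := jT) ?_ hjL
    exact ⟨⟨by rw [Category.id_comp, hg]⟩, ⟨PullbackCone.IsLimit.mk _ (fun s => s.fst)
      (fun s => Category.comp_id _)
      (fun s => by rw [← cancel_mono jT, Category.assoc, hg, s.condition])
      (fun s m' h1 _ => by simpa using h1)⟩⟩
  -- the neighbourhood is separated
  have hsep' : IsSeparatedSp X' := by
    haveI : IsAffine (Over.mk (𝟙 (Spec (CommRingCat.of k)))).left := inferInstanceAs (IsAffine (Spec _))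
    have hL : IsSeparatedMor (t.from (X' ⨯ E)) := by
      rw [t.hom_ext (t.from (X' ⨯ E)) (g ≫ (yon _).map (Over.mkIdTerminal.from T))]
      exact Groth.Agent.AlgSpPts.isSeparatedMor_comp (isSeparatedMor_of_mono g)
        (isSeparatedMor_of_repWith_affine ((repWith_yon_map_iff _ _).2 (isAffineHom_of_isAffine _)))
    let T₀ : Over (Spec (CommRingCat.of k)) := Over.mk (𝟙 _)
    have hp : IsSeparatedMor (prod.map (t.from X') (𝟙 E)) := by
      refine isSeparatedMor_of_comp (g := t.from _) ?_
      rw [t.hom_ext (prod.map (t.from X') (𝟙 E) ≫ t.from _) (t.from _)]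
      exact hL
    have hc : IsFpqcCover (fun _ : PUnit.{u + 1} => (yon _).obj T₀ ⨯ E)
        (fun _ => (prod.fst : (yon _).obj T₀ ⨯ E ⟶ (yon _).obj T₀)) := AffineBc.isFpqcCover_fst L T₀
    unfold IsSeparatedSp
    rw [Groth.Agent.AlgSpPts.repWith_diag_iff]
    exact (isLocalOnBase_fpqc_isSeparatedMor (fun _ : PUnit.{u + 1} => (yon _).obj T₀ ⨯ E) (fun _ => prod.fst)
      (IsAlgSpace.yon_obj T₀)
      (fun _ => Groth.Agent.AlgSpPts.isAlgSpace_prod (IsAlgSpace.yon_obj T₀) (IsAlgSpace.yon_obj _)) hc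
      (t.from X') hX' (fun _ => X' ⨯ E) (fun _ => prod.map (t.from X') (𝟙 E)) (fun _ => prod.fst)
      (fun _ => hX'L) (fun _ => BcConn.isPullback_prodMap' E (t.from X'))).2 fun _ => hp
  -- an affine open containing the fibre
  obtain ⟨ξ', hξ'⟩ := exists_lift_openImmersion (IsAlgSpace.yon_obj _) hX' hX hj ξ (by
    rintro _ ⟨z, rfl⟩
    obtain ⟨z, rfl⟩ := (Points.schemeHomeo _).surjective z
    haveI : Subsingleton ↥(specOver k F).left := inferInstanceAs (Subsingleton (PrimeSpectrum F))
    rw [hr]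
    have : z = IsLocalRing.closedPoint F := Subsingleton.elim _ _
    subst this
    exact (Points.ofPt_eq_map_ofScheme ξ (IsLocalRing.closedPoint F)) ▸ hxO)
  let C : Set ↥T.left :=
    (fun z => Points.toScheme T (Points.map g z)) '' {z | Points.map prod.fst z = Points.ofPt ξ' (IsLocalRing.closedPoint F)}
  let W : T.left.Opens := ⟨Points.ofScheme T ⁻¹' Set.range (Points.map g),
    (isOpen_range_openImm (IsAlgSpace.yon_obj T) hgo).preimage (Points.schemeHomeo T).continuous⟩
  obtain ⟨a, haC, haW⟩ := Groth.Agent.GrpdLib.exists_basicOpen_of_finite (isAffineOpen_top T.left)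
    (O := C) ((finite_fibre_ext L ξ').image _) W (fun _ _ => trivial) (by
      rintro _ ⟨z, -, rfl⟩
      exact ⟨z, (Points.ofScheme_toScheme _ _).symm⟩)
  let D := T.left.basicOpen a
  have hD : IsAffineOpen D := (isAffineOpen_top T.left).basicOpen a
  let T' : Over (Spec (CommRingCat.of k)) := Over.mk (D.ι ≫ T.hom)
  let ι : T' ⟶ T := Over.homMk D.ι rfl
  haveI : IsAffine T'.left := hD
  have hιo : RepWith @IsOpenImmersion ((yon _).map ι) :=
    (repWith_yon_map_iff _ ι).2 (inferInstanceAs (IsOpenImmersion D.ι))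
  obtain ⟨jT', hjT'⟩ := exists_lift_openImmersion (IsAlgSpace.yon_obj T') hX'L (IsAlgSpace.yon_obj T) hgo
    ((yon _).map ι) (by
      rintro _ ⟨z, rfl⟩
      obtain ⟨z, rfl⟩ := (Points.schemeHomeo _).surjective z
      erw [Points.map_yon_map_apply]
      exact haW z.2)
  have hjT'o : RepWith @IsOpenImmersion jT' := by
    refine repWith_of_isPullback (fst := 𝟙 _) (snd := jT') (f := (yon _).map ι) (g := g) ?_ hιo
    exact ⟨⟨by rw [Category.id_comp, hjT']⟩, ⟨PullbackCone.IsLimit.mk _ (fun s => s.fst)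
      (fun s => Category.comp_id _)
      (fun s => by rw [← cancel_mono g, Category.assoc, hjT', s.condition])
      (fun s m' h1 _ => by simpa using h1)⟩⟩
  obtain ⟨Z, j', hZ, hj', hxZ⟩ := exists_affine_nhd hX' hsep' jT' hjT'o (Points.ofPt ξ' (IsLocalRing.closedPoint F))
    fun z hz => by
      refine ⟨Points.ofScheme T' ⟨_, haC ⟨z, hz, rfl⟩⟩, injective_points_map_of_mono g ?_⟩
      rw [← Points.map_comp, hjT']
      erw [Points.map_yon_map_apply]
      exact Points.ofScheme_toScheme _ _
  refine ⟨Z, j' ≫ j, hZ, repWith_comp hj' hj, ?_⟩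
  obtain ⟨w, hw⟩ := hxZ
  exact ⟨w, by rw [Points.map_comp, hw, Points.map_ofPt, hξ']⟩

end Groth.Agent.AlgSpDec.FibreAffine
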