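import Groth.Agent.AlgSpDec.ColimitEtale
import Groth.Agent.AlgSpDec.FibreAffineQs
import Groth.Agent.AlgSpDec.LqfScheme
import Groth.Agent.AlgSpLib.AffineDescProps

/-!
# Colimits of separated spaces among all algebraic spaces
-/

set_option linter.style.haveILetI false
set_option autoImplicit false
set_option backward.isDefEq.respectTransparency false
set_option backward.isDefEq.respectTransparency.types false

universe u v w

open CategoryTheory CategoryTheory.Limits AlgebraicGeometry AlgSp
open Groth.Agent.AlgSpLib Groth.Agent.AlgSpPts Groth.Agent.AlgSpDec.ColimEt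

namespace Groth.Agent.AlgSpDec.ColimSep

variable {S : Scheme.{u}}

/-- Maps from affine schemes are separated. -/
theorem isSeparatedMor_of_affine {F : Sp S} {Z : Over S} [IsAffine Z.left] (ζ : (yon S).obj Z ⟶ F) :
    IsSeparatedMor ζ := by
  let hT : IsTerminal ((yon S).obj (Over.mk (𝟙 S))) := IsTerminal.isTerminalObj (yon S) _ Over.mkIdTerminal
  let g : F ⟶ (yon S).obj (Over.mk (𝟙 S)) := hT.from F
  let k : Z ⟶ Over.mk (𝟙 S) := Over.mkIdTerminal.from Z
  refine FibreAffine.isSeparatedMor_of_comp (g := g) ?_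
  rw [show ζ ≫ g = (yon S).map k from hT.hom_ext _ _]
  refine (isSeparatedMor_yon_map_iff k).2 ?_
  have : IsSeparated (Z.hom) := inferInstance
  have e' : k.left = Z.hom := (Category.comp_id _).symm.trans (Over.w k)
  rw [e']
  infer_instance

/-- An isomorphism is separated. -/
theorem isSeparatedMor_of_isIso {F G : Sp S} (f : F ⟶ G) [IsIso f] : IsSeparatedMor f :=
  isSeparatedMor_of_mono f

variable {B : Space S} {P : ObjectProperty (Over B)} {I : Type v} [Category.{w} I]
  {D : I ⥤ P.FullSubcategory} {c : Cocone D}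

/-- Separated étale spaces over the vertex are colimits. -/
def EtColim (D : I ⥤ P.FullSubcategory) (c : Cocone D) : Prop :=
  ∀ (D' : I ⥤ P.FullSubcategory) (α : D' ⟶ D) (c' : Cocone D') (a : c'.pt ⟶ c.pt),
    IsEtaleMor a.hom.left.hom → IsSeparatedMor a.hom.left.hom →
    (∀ i, IsPullback (c'.ι.app i).hom.left.hom (α.app i).hom.left.hom a.hom.left.hom (c.ι.app i).hom.left.hom) →
      Nonempty (IsColimit c')

/-- Separated étale systems descend to the vertex. -/
def EtLifts (D : I ⥤ P.FullSubcategory) (c : Cocone D) : Prop :=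
  ∀ (D' : I ⥤ P.FullSubcategory) (α : D' ⟶ D),
    (∀ ⦃i j : I⦄ (g : i ⟶ j), IsPullback (D'.map g).hom.left.hom (α.app i).hom.left.hom (α.app j).hom.left.hom
      (D.map g).hom.left.hom) →
    (∀ i, IsEtaleMor (α.app i).hom.left.hom) → (∀ i, IsSeparatedMor (α.app i).hom.left.hom) →
      ∃ (c' : Cocone D') (a : c'.pt ⟶ c.pt), IsEtaleMor a.hom.left.hom ∧ IsSeparatedMor a.hom.left.hom ∧
        ∀ i, IsPullback (c'.ι.app i).hom.left.hom (α.app i).hom.left.hom a.hom.left.hom (c.ι.app i).hom.left.hom

variable (hP : ∀ T : Over B, P T ↔ IsSeparatedMor T.hom.hom)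
include hP

theorem prop_of_hom {E G : Over B} (hG : P G) (e : E ⟶ G) (h : IsSeparatedMor e.left.hom) : P E := by
  rw [hP] at hG ⊢
  have w : e.left.hom ≫ G.hom.hom = E.hom.hom := congrArg InducedCategory.Hom.hom (Over.w e)
  rw [← w]
  exact isSeparatedMor_comp h hG

/-- A separated étale space over the vertex with its restrictions, as a colimit. -/
theorem exists_colimit (h₄ : EtColim D c) {E : Over B} (u : E ⟶ c.pt.obj) (hu : IsEtaleMor u.left.hom)
    (hs : IsSeparatedMor u.left.hom) :
    ∃ (D' : I ⥤ P.FullSubcategory) (α : D' ⟶ D) (ι : ∀ i, (D'.obj i).obj ⟶ E),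
      (∀ i, IsPullback (ι i).left.hom (α.app i).hom.left.hom u.left.hom (c.ι.app i).hom.left.hom) ∧
      (∀ ⦃i j : I⦄ (g : i ⟶ j), (D'.map g).hom ≫ ι j = ι i) ∧
      (∀ (T : Over B), P T → ∀ (g : ∀ i, (D'.obj i).obj ⟶ T), (∀ ⦃i j : I⦄ (k : i ⟶ j), (D'.map k).hom ≫ g j = g i) →
        ∃! d : E ⟶ T, ∀ i, ι i ≫ d = g i) := by
  let σ : D ⋙ P.ι ⟶ (Functor.const I).obj c.pt.obj :=
    { app := fun i => (c.ι.app i).hom
      naturality := fun i j g => congrArg InducedCategory.Hom.hom (c.ι.naturality g) }
  obtain ⟨DU, α, ι, hsq, -⟩ := exists_system σ u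
  have hDU : ∀ i, P (DU.obj i) := fun i =>
    prop_of_hom hP (D.obj i).property (α.app i) (isSeparatedMor_of_isPullback (hsq i) hs)
  let D' : I ⥤ P.FullSubcategory := ObjectProperty.lift P DU hDU
  let α' : D' ⟶ D :=
    { app := fun i => ObjectProperty.homMk (α.app i)
      naturality := fun i j g => ObjectProperty.hom_ext _ (α.naturality g) }
  have hE : P E := prop_of_hom hP c.pt.property u hs
  let c' : Cocone D' :=
    { pt := ⟨E, hE⟩
      ι :=
        { app := fun i => ObjectProperty.homMk (ι.app i)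
          naturality := fun i j g => ObjectProperty.hom_ext _ (ι.naturality g) } }
  obtain ⟨hc'⟩ := h₄ D' α' c' (ObjectProperty.homMk u) hu hs hsq
  refine ⟨D', α', ι.app, hsq, fun i j g => (ι.naturality g).trans (Category.comp_id _), fun T hT g hg => ?_⟩
  let s : Cocone D' :=
    { pt := ⟨T, hT⟩
      ι :=
        { app := fun i => ObjectProperty.homMk (g i)
          naturality := fun i j k => ObjectProperty.hom_ext _ ((hg k).trans (Category.comp_id _).symm) } }
  exact ⟨(hc'.desc s).hom, fun i => congrArg InducedCategory.Hom.hom (hc'.fac s i), fun d hd =>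
    congrArg InducedCategory.Hom.hom (hc'.uniq s (ObjectProperty.homMk d) fun i => ObjectProperty.hom_ext _ (hd i))⟩

/-- Morphisms out of a separated étale space over the vertex are determined on the restrictions. -/
theorem hom_ext_etale (h₄ : EtColim D c) {F : Over B} (u : F ⟶ c.pt.obj) (hu : IsEtaleMor u.left.hom)
    (hs : IsSeparatedMor u.left.hom) {T : Over B} {p q : F ⟶ T}
    (h : ∀ i {A : Over B} (x : A ⟶ F) (y : A ⟶ (D.obj i).obj), x ≫ u = y ≫ (c.ι.app i).hom → x ≫ p = x ≫ q) :
    p = q := by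
  obtain ⟨U, a, ha, has⟩ := T.left.property.atlas
  let κ := U.left.affineOpens
  let Z : κ → Over S := fun O => Over.mk (O.1.ι ≫ U.hom)
  let ζ : ∀ k, (yon S).obj (Z k) ⟶ T.left.obj := fun O => (yon S).map (Over.homMk O.1.ι rfl) ≫ a
  have hζ : ∀ k, RepWith @Etale (ζ k) := fun O =>
    repWith_comp ((repWith_yon_map_iff _ _).2 (inferInstanceAs (Etale O.1.ι))) ha
  have hcov : ∀ x, ∃ k y, Points.map (ζ k) y = x := fun x => by
    obtain ⟨v, rfl⟩ := surjective_ofPt has x
    obtain ⟨W, hW, hvW, -⟩ := exists_isAffineOpen_mem_and_subset (x := v) (U := (⊤ : U.left.Opens)) trivial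
    obtain ⟨w, hw⟩ := (Scheme.Opens.range_ι W).symm.subset hvW
    refine ⟨⟨W, hW⟩, Points.ofScheme _ w, ?_⟩
    rw [Points.map_comp, map_map_ofScheme]
    exact congrArg (Points.ofPt a) hw
  refine hom_ext_over (hom_ext_of_fppfCover (X := F.left.obj) (Xi := fun k => pullback p.left.hom (ζ k))
    (g := fun k => pullback.fst _ _) F.left.property
    (fun k => isAlgSpace_pullback F.left.property (IsAlgSpace.yon_obj _) T.left.property _ _)
    ⟨fun k => ?_, fun x => ?_⟩ fun k => ?_)
  · have h := repWith_fst p.left.hom (hζ k)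
    exact ⟨locP_mono (P := @Etale) (fun _ _ l (_ : Etale l) => (inferInstance : Flat l)) (locP_of_repWith h),
      locP_mono (P := @Etale) (fun _ _ l (_ : Etale l) => (inferInstance : LocallyOfFinitePresentation l))
        (locP_of_repWith h)⟩
  · obtain ⟨k, y, hy⟩ := hcov (Points.map p.left.hom x)
    obtain ⟨Pt, h1, -⟩ := exists_point_of_isPullback (IsPullback.of_hasPullback p.left.hom (ζ k)) (x := x) (y := y)
      hy.symm
    exact ⟨k, Pt, h1⟩
  have : IsAffine (Z k).left := k.2
  have hζs : IsSeparatedMor (ζ k) := isSeparatedMor_of_affine _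
  have hZB : IsSeparatedMor (ζ k ≫ T.hom.hom) := isSeparatedMor_of_affine _
  let Zo : Over B := Over.mk (ObjectProperty.homMk (ζ k ≫ T.hom.hom) : (AlgSp.ofScheme S).obj (Z k) ⟶ B)
  have hZo : P Zo := (hP Zo).2 hZB
  let mk' : (r : F ⟶ T) → Over B := fun r => Over.mk (ObjectProperty.homMk (pullback.fst r.left.hom (ζ k) ≫ F.hom.hom) :
    (⟨pullback r.left.hom (ζ k), isAlgSpace_pullback F.left.property (IsAlgSpace.yon_obj _) T.left.property _ _⟩ :
      Space S) ⟶ B)
  let pr : (r : F ⟶ T) → (mk' r ⟶ F) := fun r => mkHom (U := mk' r) (pullback.fst r.left.hom (ζ k)) rfl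
  let sn : (r : F ⟶ T) → (mk' r ⟶ Zo) := fun r => mkHom (U := mk' r) (V := Zo) (pullback.snd r.left.hom (ζ k)) (by
    show pullback.snd _ _ ≫ ζ k ≫ T.hom.hom = pullback.fst _ _ ≫ F.hom.hom
    rw [← congrArg InducedCategory.Hom.hom (Over.w r)]
    exact (pullback.condition_assoc T.hom.hom).symm)
  have hpe : IsEtaleMor (pr p ≫ u).left.hom :=
    isEtaleMor_comp (mk' p).left.property F.left.property c.pt.obj.left.property
      (isEtaleMor_of_repWith (repWith_fst p.left.hom (hζ k))) hu
  have hsep : ∀ r : F ⟶ T, IsSeparatedMor (pr r).left.hom := fun r =>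
    isSeparatedMor_of_isPullback (IsPullback.of_hasPullback r.left.hom (ζ k)).flip hζs
  have hps : IsSeparatedMor (pr p ≫ u).left.hom := isSeparatedMor_comp (hsep p) hs
  have hF : P F := prop_of_hom hP c.pt.property u hs
  have hQ : P (mk' q) := prop_of_hom hP hF (pr q) (hsep q)
  obtain ⟨D', α, ι, hsq, hι, huniv⟩ := exists_colimit hP h₄ (pr p ≫ u) hpe hps
  choose l hl₁ hl₂ using fun i => (IsPullback.of_hasPullback q.left.hom (ζ k)).exists_lift
    ((ι i).left.hom ≫ pullback.fst p.left.hom (ζ k)) ((ι i).left.hom ≫ pullback.snd p.left.hom (ζ k)) (by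
      have e : ι i ≫ pr p ≫ u = (α.app i).hom ≫ (c.ι.app i).hom := hom_ext_over (hsq i).w
      have e' := congrArg (fun l => l.left.hom) (h i (ι i ≫ pr p) (α.app i).hom (by rw [Category.assoc, e]))
      rw [Category.assoc, Category.assoc, ← pullback.condition, ← Category.assoc, ← Category.assoc]
      exact e'.symm)
  let L : ∀ i, (D'.obj i).obj ⟶ mk' q := fun i => mkHom (V := mk' q) (l i) (by
    show l i ≫ pullback.fst _ _ ≫ F.hom.hom = _
    rw [reassoc_of% (hl₁ i)]
    exact congrArg InducedCategory.Hom.hom (Over.w (ι i ≫ pr p)))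
  obtain ⟨m, hm, -⟩ := huniv (mk' q) hQ L (fun i j g => hom_ext_over (pullback.hom_ext
    (by
      show ((D'.map g).hom.left.hom ≫ l j) ≫ _ = l i ≫ _
      rw [Category.assoc, hl₁, hl₁, ← Category.assoc]
      exact congrArg (· ≫ _) (congrArg (fun k => k.left.hom) (hι g)))
    (by
      show ((D'.map g).hom.left.hom ≫ l j) ≫ _ = l i ≫ _
      rw [Category.assoc, hl₂, hl₂, ← Category.assoc]
      exact congrArg (· ≫ _) (congrArg (fun k => k.left.hom) (hι g)))))
  have hm' : ∀ i, (ι i).left.hom ≫ m.left.hom = l i := fun i => congrArg (fun k => k.left.hom) (hm i)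
  have e₁ : m ≫ pr q = pr p := (huniv F hF (fun i => ι i ≫ pr p)
    (fun i j g => by rw [← Category.assoc, hι g])).unique
    (fun i => hom_ext_over (by
      show (ι i).left.hom ≫ m.left.hom ≫ pullback.fst _ _ = _
      rw [reassoc_of% (hm' i), hl₁]
      rfl)) (fun i => rfl)
  have e₂ : m ≫ sn q = sn p := (huniv Zo hZo (fun i => ι i ≫ sn p)
    (fun i j g => by rw [← Category.assoc, hι g])).unique
    (fun i => hom_ext_over (by
      show (ι i).left.hom ≫ m.left.hom ≫ pullback.snd _ _ = _
      rw [reassoc_of% (hm' i), hl₂]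
      rfl)) (fun i => rfl)
  have e₁' : m.left.hom ≫ pullback.fst q.left.hom (ζ k) = pullback.fst p.left.hom (ζ k) :=
    congrArg (fun k => k.left.hom) e₁
  have e₂' : m.left.hom ≫ pullback.snd q.left.hom (ζ k) = pullback.snd p.left.hom (ζ k) :=
    congrArg (fun k => k.left.hom) e₂
  calc pullback.fst p.left.hom (ζ k) ≫ p.left.hom = pullback.snd p.left.hom (ζ k) ≫ ζ k := pullback.condition
    _ = m.left.hom ≫ pullback.snd q.left.hom (ζ k) ≫ ζ k := by rw [reassoc_of% e₂']
    _ = m.left.hom ≫ pullback.fst q.left.hom (ζ k) ≫ q.left.hom := by rw [pullback.condition]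
    _ = pullback.fst p.left.hom (ζ k) ≫ q.left.hom := by rw [reassoc_of% e₁']

/-- A colimit of separated spaces detected by separated étale spaces is one among all spaces. -/
theorem nonempty_isColimit (h₃ : ∀ x : Points c.pt.obj.left.obj, ∃ (i : I) (y : Points (D.obj i).obj.left.obj),
      Points.map (c.ι.app i).hom.left.hom y = x)
    (h₄ : EtColim D c) (h₅ : EtLifts D c) : Nonempty (IsColimit (P.ι.mapCocone c)) := by
  have hide : IsEtaleMor (𝟙 c.pt.obj : c.pt.obj ⟶ c.pt.obj).left.hom :=
    isEtaleMor_of_repWith (repWith_of_isIso _ (𝟙 c.pt.obj.left.obj))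
  have hids : IsSeparatedMor (𝟙 c.pt.obj : c.pt.obj ⟶ c.pt.obj).left.hom :=
    isSeparatedMor_of_isIso (𝟙 c.pt.obj.left.obj)
  have uniq : ∀ {T : Over B} (p q : c.pt.obj ⟶ T), (∀ i, (c.ι.app i).hom ≫ p = (c.ι.app i).hom ≫ q) → p = q :=
    fun p q h => hom_ext_etale hP h₄ (𝟙 _) hide hids fun i A x y e => by
      rw [Category.comp_id] at e
      rw [e, Category.assoc, Category.assoc, h]
  have exists_desc : ∀ s : Cocone (D ⋙ P.ι), ∃ d : c.pt.obj ⟶ s.pt, ∀ i, (c.ι.app i).hom ≫ d = s.ι.app i := by
    intro s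
    obtain ⟨U, a, ha, has⟩ := s.pt.left.property.atlas
    let κ := U.left.affineOpens
    let Z : κ → Over S := fun O => Over.mk (O.1.ι ≫ U.hom)
    let ζ : ∀ k, (yon S).obj (Z k) ⟶ s.pt.left.obj := fun O => (yon S).map (Over.homMk O.1.ι rfl) ≫ a
    have hζ : ∀ k, RepWith @Etale (ζ k) := fun O =>
      repWith_comp ((repWith_yon_map_iff _ _).2 (inferInstanceAs (Etale O.1.ι))) ha
    have hcov : ∀ x, ∃ k y, Points.map (ζ k) y = x := fun x => by
      obtain ⟨v, rfl⟩ := surjective_ofPt has x
      obtain ⟨W, hW, hvW, -⟩ := exists_isAffineOpen_mem_and_subset (x := v) (U := (⊤ : U.left.Opens)) trivial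
      obtain ⟨w, hw⟩ := (Scheme.Opens.range_ι W).symm.subset hvW
      refine ⟨⟨W, hW⟩, Points.ofScheme _ w, ?_⟩
      rw [Points.map_comp, map_map_ofScheme]
      exact congrArg (Points.ofPt a) hw
    have piece : ∀ k, ∃ (E : Over B) (e : E ⟶ c.pt.obj) (g : E ⟶ s.pt), IsEtaleMor e.left.hom ∧
        IsSeparatedMor e.left.hom ∧
        (∀ i {A : Over B} (x : A ⟶ E) (y : A ⟶ (D.obj i).obj), x ≫ e = y ≫ (c.ι.app i).hom →
          x ≫ g = y ≫ s.ι.app i) ∧
        ∀ i (x : Points (D.obj i).obj.left.obj),
          Points.map (s.ι.app i).left.hom x ∈ Set.range (Points.map (ζ k)) →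
            Points.map (c.ι.app i).hom.left.hom x ∈ Set.range (Points.map e.left.hom) := by
      intro k
      have : IsAffine (Z k).left := k.2
      let Zo : Over B := Over.mk (ObjectProperty.homMk (ζ k ≫ s.pt.hom.hom) : (AlgSp.ofScheme S).obj (Z k) ⟶ B)
      let zo : Zo ⟶ s.pt := mkHom (U := Zo) (ζ k) rfl
      have hZo : P Zo := (hP Zo).2 (isSeparatedMor_of_affine _)
      obtain ⟨DU, α, ι, hU, hUc⟩ := exists_system s.ι zo
      have hsepα : ∀ i, IsSeparatedMor (α.app i).left.hom := fun i =>
        isSeparatedMor_of_isPullback (hU i) (isSeparatedMor_of_affine (ζ k))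
      let D' : I ⥤ P.FullSubcategory :=
        ObjectProperty.lift P DU fun i => prop_of_hom hP (D.obj i).property (α.app i) (hsepα i)
      let α' : D' ⟶ D :=
        { app := fun i => ObjectProperty.homMk (α.app i)
          naturality := fun i j g => ObjectProperty.hom_ext _ (α.naturality g) }
      obtain ⟨c', e, he, hes, hec⟩ := h₅ D' α' hUc
        (fun i => isEtaleMor_of_repWith (repWith_of_isPullback (hU i) (hζ k))) hsepα
      obtain ⟨hc'⟩ := h₄ D' α' c' e he hes hec
      let sZ : Cocone D' :=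
        { pt := ⟨Zo, hZo⟩
          ι :=
            { app := fun i => ObjectProperty.homMk (ι.app i)
              naturality := fun i j g => ObjectProperty.hom_ext _ (ι.naturality g) } }
      refine ⟨c'.pt.obj, e.hom, (hc'.desc sZ).hom ≫ zo, he, hes, fun i A x y h => ?_, fun i x hx => ?_⟩
      · obtain ⟨r, r₁, r₂⟩ := (hec i).exists_lift x.left.hom y.left.hom (congrArg (fun l => l.left.hom) h)
        refine hom_ext_over ?_
        have f₁ : (c'.ι.app i).hom.left.hom ≫ (hc'.desc sZ).hom.left.hom = (ι.app i).left.hom :=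
          congrArg (fun l => l.hom.left.hom) (hc'.fac sZ i)
        show x.left.hom ≫ (hc'.desc sZ).hom.left.hom ≫ ζ k = y.left.hom ≫ (s.ι.app i).left.hom
        rw [← r₁, ← r₂, Category.assoc, Category.assoc, reassoc_of% f₁]
        exact congrArg (r ≫ ·) (hU i).w
      · obtain ⟨y, hy⟩ := hx
        obtain ⟨Pt, -, h2⟩ := exists_point_of_isPullback (hU i) (x := y) (y := x) hy
        refine ⟨Points.map (c'.ι.app i).hom.left.hom Pt, ?_⟩
        rw [← Points.map_comp, (hec i).w, Points.map_comp]
        exact congrArg _ h2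
    choose E e g he hes hg hpts using piece
    have hcover : IsFppfCover (fun k => (E k).left.obj) (fun k => (e k).left.hom) := by
      refine ⟨fun k => ?_, fun x => ?_⟩
      · have h := (isEtaleMor_iff_locP (E k).left.property c.pt.obj.left.property _).1 (he k)
        exact ⟨locP_mono (P := @Etale) (fun _ _ l (_ : Etale l) => (inferInstance : Flat l)) h,
          locP_mono (P := @Etale) (fun _ _ l (_ : Etale l) => (inferInstance : LocallyOfFinitePresentation l)) h⟩
      · obtain ⟨i, y, rfl⟩ := h₃ x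
        obtain ⟨k, z, hz⟩ := hcov (Points.map (s.ι.app i).left.hom y)
        obtain ⟨w, hw⟩ := hpts k i y ⟨z, hz⟩
        exact ⟨k, w, hw⟩
    obtain ⟨d, hd⟩ := exists_desc_of_fppfCover c.pt.obj.left.property (fun k => (E k).left.property) hcover
      (fun k => (g k).left.hom) fun k k' T x y h => by
        let F : Over B := Over.mk (ObjectProperty.homMk (pullback.fst (e k).left.hom (e k').left.hom ≫ (E k).hom.hom) :
          (⟨pullback (e k).left.hom (e k').left.hom, isAlgSpace_pullback (E k).left.property (E k').left.property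
            c.pt.obj.left.property _ _⟩ : Space S) ⟶ B)
        let π₁ : F ⟶ E k := mkHom (U := F) (pullback.fst _ _) rfl
        let π₂ : F ⟶ E k' := mkHom (U := F) (pullback.snd _ _) (by
          show pullback.snd _ _ ≫ _ = pullback.fst _ _ ≫ _
          rw [← congrArg InducedCategory.Hom.hom (Over.w (e k)), ← congrArg InducedCategory.Hom.hom (Over.w (e k'))]
          exact (pullback.condition_assoc c.pt.obj.hom.hom).symm)
        have sq := (IsPullback.of_hasPullback (e k).left.hom (e k').left.hom).flip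
        have hF : IsEtaleMor (π₁ ≫ e k).left.hom :=
          isEtaleMor_comp F.left.property (E k).left.property c.pt.obj.left.property
            (isEtaleMor_of_isPullback sq (E k').left.property c.pt.obj.left.property (E k).left.property (he k'))
            (he k)
        have hFs : IsSeparatedMor (π₁ ≫ e k).left.hom :=
          isSeparatedMor_comp (isSeparatedMor_of_isPullback sq (hes k')) (hes k)
        have h2 : π₁ ≫ e k = π₂ ≫ e k' := hom_ext_over pullback.condition
        have : π₁ ≫ g k = π₂ ≫ g k' := hom_ext_etale hP h₄ (π₁ ≫ e k) hF hFs fun i A z w h => by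
          rw [← Category.assoc, hg k i (z ≫ π₁) w (by rw [Category.assoc, h]),
            ← Category.assoc, hg k' i (z ≫ π₂) w (by rw [Category.assoc, ← h2, h])]
        obtain ⟨r, r₁, r₂⟩ := sq.flip.exists_lift x y h
        rw [← r₁, ← r₂, Category.assoc, Category.assoc]
        exact congrArg (r ≫ ·) (congrArg (fun l => l.left.hom) this)
    have hdB : d ≫ s.pt.hom.hom = c.pt.obj.hom.hom :=
      hom_ext_of_fppfCover c.pt.obj.left.property (fun k => (E k).left.property) hcover fun k => by
        have w₁ : (g k).left.hom ≫ s.pt.hom.hom = (E k).hom.hom := congrArg InducedCategory.Hom.hom (Over.w (g k))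
        have w₂ : (e k).left.hom ≫ c.pt.obj.hom.hom = (E k).hom.hom := congrArg InducedCategory.Hom.hom (Over.w (e k))
        rw [reassoc_of% (hd k), w₁, w₂]
    let d' : c.pt.obj ⟶ s.pt := mkHom d hdB
    have hd' : ∀ k, e k ≫ d' = g k := fun k => hom_ext_over (hd k)
    refine ⟨d', fun i => hom_ext_over ?_⟩
    refine hom_ext_of_fppfCover (X := (D.obj i).obj.left.obj)
      (Xi := fun k => pullback (e k).left.hom (c.ι.app i).hom.left.hom) (g := fun k => pullback.snd _ _)
      (D.obj i).obj.left.property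
      (fun k => isAlgSpace_pullback (E k).left.property (D.obj i).obj.left.property c.pt.obj.left.property _ _)
      ⟨fun k => ?_, fun x => ?_⟩ fun k => ?_
    · have h := (isEtaleMor_iff_locP (isAlgSpace_pullback (E k).left.property (D.obj i).obj.left.property
        c.pt.obj.left.property _ _) (D.obj i).obj.left.property _).1 (isEtaleMor_of_isPullback
        (IsPullback.of_hasPullback (e k).left.hom (c.ι.app i).hom.left.hom) (E k).left.property
        c.pt.obj.left.property (D.obj i).obj.left.property (he k))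
      exact ⟨locP_mono (P := @Etale) (fun _ _ l (_ : Etale l) => (inferInstance : Flat l)) h,
        locP_mono (P := @Etale) (fun _ _ l (_ : Etale l) => (inferInstance : LocallyOfFinitePresentation l)) h⟩
    · obtain ⟨k, y, hy⟩ := hcover.2 (Points.map (c.ι.app i).hom.left.hom x)
      obtain ⟨Pt, -, h2⟩ := exists_point_of_isPullback (IsPullback.of_hasPullback (e k).left.hom
        (c.ι.app i).hom.left.hom) (x := y) (y := x) hy
      exact ⟨k, Pt, h2⟩
    · let Po : Over B := Over.mk (ObjectProperty.homMk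
        (pullback.snd (e k).left.hom (c.ι.app i).hom.left.hom ≫ (D.obj i).obj.hom.hom) :
          (⟨_, isAlgSpace_pullback (E k).left.property (D.obj i).obj.left.property c.pt.obj.left.property _ _⟩ :
            Space S) ⟶ B)
      let y : Po ⟶ (D.obj i).obj := mkHom (U := Po) (pullback.snd _ _) rfl
      let x : Po ⟶ E k := mkHom (U := Po) (pullback.fst _ _) (by
        show pullback.fst _ _ ≫ _ = pullback.snd _ _ ≫ _
        rw [← congrArg InducedCategory.Hom.hom (Over.w (e k)),
          ← congrArg InducedCategory.Hom.hom (Over.w (c.ι.app i).hom)]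
        exact pullback.condition_assoc c.pt.obj.hom.hom)
      have hxy : x ≫ g k = y ≫ s.ι.app i := hg k i x y (hom_ext_over pullback.condition)
      show pullback.snd _ _ ≫ (c.ι.app i).hom.left.hom ≫ d = pullback.snd _ _ ≫ (s.ι.app i).left.hom
      rw [← pullback.condition_assoc, hd k]
      exact congrArg (fun l => l.left.hom) hxy
  choose d hd using exists_desc
  exact ⟨{ desc := d
           fac := hd
           uniq := fun s m hm => uniq _ _ fun i => (hm i).trans (hd s i).symm }⟩

end Groth.Agent.AlgSpDec.ColimSep
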