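import Groth.Agent.AlgSpDec.PointsSpectral
import Groth.Agent.AlgSpDec.ConstrDescent
import Groth.Agent.EGA41Lib.ConsX

/-!
# Constructible subsets of points of quasi-separated algebraic spaces
-/

set_option backward.isDefEq.respectTransparency false
set_option backward.isDefEq.respectTransparency.types false

universe u v

open CategoryTheory CategoryTheory.Limits AlgebraicGeometry AlgSp Groth.Agent.AlgSpLib Groth.Agent.AlgSpPts
  TopologicalSpace Topology Groth.Agent.SpecLib

namespace Groth.Agent.AlgSpDec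

theorem isConstructible_of_cc_co {T : Type u} [TopologicalSpace T] [SpectralSpace T] {E : Set T}
    (h : CC E) (h' : CO E) : IsConstructible E := by
  obtain ⟨s, hs, hE⟩ := EGA41Lib.co_iff_sUnion.mp h'
  obtain ⟨b, hbs, hbf, hb⟩ := @IsCompact.elim_finite_subcover_image T _ (constructibleTopology T) E s id
    h.isCompact_cons (fun A hA => (cons_clopen (hs A hA)).2) (by rw [hE, Set.sUnion_eq_biUnion]; rfl)
  have : E = ⋃ A ∈ b, A := Set.Subset.antisymm hb (by
    rw [hE]; exact Set.iUnion₂_subset fun A hA => Set.subset_sUnion_of_mem (hbs hA))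
  rw [this]
  exact IsConstructible.biUnion hbf fun A hA => hs A (hbs hA)

variable {S : Scheme.{u}} [QuasiSeparatedSpace ↥S] {X : Sp S}

/-- The preimage in an affine chart of a compact open is compact. -/
theorem isCompact_preimage_ofPt (hX : IsAlgSpace X) (hqs : IsQuasiSeparatedSp X) {U : Over S} [IsAffine U.left]
    {a : (yon S).obj U ⟶ X} (ha : RepWith @Etale a) {O : Set (Points X)} (hO : IsOpen O) (hOc : IsCompact O) :
    IsCompact (Points.ofPt a ⁻¹' O) := by
  have hch : ∀ x ∈ O, ∃ (V : Over S) (b : (yon S).obj V ⟶ X), IsAffine V.left ∧ RepWith @Etale b ∧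
      x ∈ Set.range (Points.ofPt b) ∧ Set.range (Points.ofPt b) ⊆ O := by
    intro x hx
    obtain ⟨V, b, v, -, hb, rfl⟩ := exists_affine_chart_at hX x
    obtain ⟨W, hW, hvW, hWO⟩ := exists_isAffineOpen_mem_and_subset
      (U := ⟨Points.ofPt b ⁻¹' O, hO.preimage (Points.continuous_ofPt b)⟩) (x := v) hx
    let ι : Over.mk (W.ι ≫ V.hom) ⟶ V := Over.homMk W.ι rfl
    refine ⟨_, (yon S).map ι ≫ b, hW, repWith_comp ((repWith_yon_map_iff _ ι).2
      (inferInstanceAs (Etale W.ι))) hb, ⟨(⟨v, hvW⟩ : W.toScheme), ofPt_comp _ _ _⟩, ?_⟩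
    rintro _ ⟨w, rfl⟩
    rw [ofPt_comp]
    exact hWO (w : W.toScheme).2
  choose V b hV hb hx hsub using hch
  obtain ⟨t, ht⟩ := hOc.elim_finite_subcover (fun x : O => Set.range (Points.ofPt (b x.1 x.2)))
    (fun x => (isOpenMap_ofPt (hb x.1 x.2)).isOpen_range) fun x hxO => Set.mem_iUnion.2 ⟨⟨x, hxO⟩, hx x hxO⟩
  have : O = ⋃ x ∈ t, Set.range (Points.ofPt (b x.1 x.2)) :=
    Set.Subset.antisymm ht (Set.iUnion₂_subset fun x _ => hsub x.1 x.2)
  rw [this, Set.preimage_iUnion₂]
  refine t.isCompact_biUnion fun x _ => ?_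
  have := hV x.1 x.2
  have hq : ∀ (W : Over S) [CompactSpace ↥W.left], IsQuasiCompactSp ((yon S).obj W) := fun W _ => by
    haveI : CompactSpace (Points ((yon S).obj W)) := (Points.schemeHomeo _).compactSpace
    exact (isQuasiCompactSp_iff (IsAlgSpace.yon_obj W)).2 ‹_›
  have sq := ha.rep.isPullback' (b x.1 x.2)
  have hP := isQuasiCompactMor_of_qc_qs (IsAlgSpace.yon_obj U) hX (hq U) hqs a (IsAlgSpace.yon_obj _) (hq (V x.1 x.2)) _ _ _ sq
  haveI : CompactSpace ↥(ha.rep.pullback (b x.1 x.2)).left :=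
    haveI := (isQuasiCompactSp_iff (IsAlgSpace.yon_obj _)).1 hP
    (Points.schemeHomeo (ha.rep.pullback (b x.1 x.2))).symm.compactSpace
  have e : Points.ofPt a ⁻¹' Set.range (Points.ofPt (b x.1 x.2)) = Set.range (ha.rep.fst' (b x.1 x.2)).left := by
    ext w
    constructor
    · rintro ⟨v, hv⟩
      obtain ⟨r, hr, -⟩ := exists_ofPt_of_eq sq hv.symm
      exact ⟨r, hr⟩
    · rintro ⟨r, rfl⟩
      refine ⟨(ha.rep.snd (b x.1 x.2)).left r, ?_⟩
      rw [← ofPt_comp, ← ofPt_comp, sq.w]
  rw [e]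
  exact isCompact_range (ha.rep.fst' (b x.1 x.2)).left.continuous

theorem prespectral_points (hX : IsAlgSpace X) : PrespectralSpace (Points X) := by
  refine .of_isTopologicalBasis (B := {A | IsOpen A ∧ IsCompact A}) ?_ fun A hA => hA.2
  refine isTopologicalBasis_of_isOpen_of_nhds (fun A hA => hA.1) fun x O hxO hO => ?_
  obtain ⟨U, a, u, -, ha, rfl⟩ := exists_affine_chart_at hX x
  obtain ⟨W, hW, huW, hWO⟩ := exists_isAffineOpen_mem_and_subset
    (U := ⟨Points.ofPt a ⁻¹' O, hO.preimage (Points.continuous_ofPt a)⟩) (x := u) hxO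
  exact ⟨Points.ofPt a '' (W : Set U.left), ⟨isOpenMap_ofPt ha _ W.2,
    hW.isCompact.image (Points.continuous_ofPt a)⟩, ⟨u, huW, rfl⟩, Set.image_subset_iff.2 hWO⟩

theorem quasiSeparated_points (hX : IsAlgSpace X) (hqs : IsQuasiSeparatedSp X) :
    QuasiSeparatedSpace (Points X) := by
  refine ⟨fun A A' hA hAc hA' hA'c => ?_⟩
  have hch : ∀ x ∈ A, ∃ (V : Over S) (b : (yon S).obj V ⟶ X), IsAffine V.left ∧ RepWith @Etale b ∧
      x ∈ Set.range (Points.ofPt b) ∧ Set.range (Points.ofPt b) ⊆ A := by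
    intro x hx
    obtain ⟨V, b, v, -, hb, rfl⟩ := exists_affine_chart_at hX x
    obtain ⟨W, hW, hvW, hWO⟩ := exists_isAffineOpen_mem_and_subset
      (U := ⟨Points.ofPt b ⁻¹' A, hA.preimage (Points.continuous_ofPt b)⟩) (x := v) hx
    let ι : Over.mk (W.ι ≫ V.hom) ⟶ V := Over.homMk W.ι rfl
    refine ⟨_, (yon S).map ι ≫ b, hW, repWith_comp ((repWith_yon_map_iff _ ι).2
      (inferInstanceAs (Etale W.ι))) hb, ⟨(⟨v, hvW⟩ : W.toScheme), ofPt_comp _ _ _⟩, ?_⟩
    rintro _ ⟨w, rfl⟩
    rw [ofPt_comp]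
    exact hWO (w : W.toScheme).2
  choose V b hV hb hx hsub using hch
  obtain ⟨t, ht⟩ := hAc.elim_finite_subcover (fun x : A => Set.range (Points.ofPt (b x.1 x.2)))
    (fun x => (isOpenMap_ofPt (hb x.1 x.2)).isOpen_range) fun x hxO => Set.mem_iUnion.2 ⟨⟨x, hxO⟩, hx x hxO⟩
  have : A ∩ A' = ⋃ x ∈ t, Points.ofPt (b x.1 x.2) '' (Points.ofPt (b x.1 x.2) ⁻¹' A') := by
    ext y
    simp only [Set.mem_inter_iff, Set.mem_iUnion, Set.mem_image, Set.mem_preimage]
    constructor
    · rintro ⟨h1, h2⟩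
      obtain ⟨x, hx, v, rfl⟩ := Set.mem_iUnion₂.1 (ht h1)
      exact ⟨x, hx, v, h2, rfl⟩
    · rintro ⟨x, -, v, hv, rfl⟩
      exact ⟨hsub x.1 x.2 ⟨v, rfl⟩, hv⟩
  rw [this]
  refine t.isCompact_biUnion fun x _ => ?_
  have := hV x.1 x.2
  exact (isCompact_preimage_ofPt hX hqs (hb x.1 x.2) hA' hA'c).image (Points.continuous_ofPt _)

theorem spectralSpace_compactOpen (hX : IsAlgSpace X) (hqs : IsQuasiSeparatedSp X) {W : Set (Points X)}
    (hW : IsOpen W) (hWc : IsCompact W) : SpectralSpace ↥W := by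
  have hd := isDecent_of_isQuasiSeparatedSp hX hqs
  haveI := t0Space_points hX hd
  haveI := quasiSober_points hX hd
  haveI := prespectral_points hX
  haveI := quasiSeparated_points hX hqs
  have he : IsOpenEmbedding (Subtype.val : W → Points X) := hW.isOpenEmbedding_subtypeVal
  haveI : CompactSpace ↥W := isCompact_iff_compactSpace.1 hWc
  haveI : QuasiSober ↥W := he.quasiSober
  haveI : QuasiSeparatedSpace ↥W := he.quasiSeparatedSpace
  haveI : PrespectralSpace ↥W := he.prespectralSpace
  haveI : T0Space ↥W := inferInstance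
  exact {}

/-- The map of an affine chart onto its image is spectral. -/
theorem isSpectralMap_chart (hX : IsAlgSpace X) (hqs : IsQuasiSeparatedSp X) {U : Over S} [IsAffine U.left]
    {a : (yon S).obj U ⟶ X} (ha : RepWith @Etale a) :
    IsSpectralMap (Set.rangeFactorization (Points.ofPt a)) := by
  refine ⟨(Points.continuous_ofPt a).subtype_mk _, fun O hO hOc => ?_⟩
  have h := isCompact_preimage_ofPt hX hqs ha
    ((isOpenMap_ofPt ha).isOpen_range.isOpenMap_subtype_val _ hO) (hOc.image continuous_subtype_val)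
  convert h using 1
  ext u
  constructor
  · intro hu; exact ⟨_, hu, rfl⟩
  · rintro ⟨w, hw, e⟩
    show Set.rangeFactorization (Points.ofPt a) u ∈ O
    rwa [show Set.rangeFactorization (Points.ofPt a) u = w from Subtype.ext e.symm]

/-- Constructibility on the image of an affine chart is tested on the chart. -/
theorem isConstructible_chart_iff (hX : IsAlgSpace X) (hqs : IsQuasiSeparatedSp X) {U : Over S} [IsAffine U.left]
    {a : (yon S).obj U ⟶ X} (ha : RepWith @Etale a) (E : Set ↥(Set.range (Points.ofPt a))) :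
    IsConstructible E ↔ IsConstructible (Set.rangeFactorization (Points.ofPt a) ⁻¹' E) := by
  haveI := spectralSpace_compactOpen hX hqs (isOpenMap_ofPt ha).isOpen_range
    (isCompact_range (Points.continuous_ofPt a))
  haveI := spectralSpace_of_isAffine U.left
  have hf := isSpectralMap_chart hX hqs ha
  constructor
  · intro h
    refine h.preimage hf.continuous fun O hO hO' => ?_
    rw [QuasiSeparatedSpace.isRetrocompact_iff_isCompact hO] at hO'
    exact (QuasiSeparatedSpace.isRetrocompact_iff_isCompact (hO.preimage hf.continuous)).2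
      (hf.isCompact_preimage_of_isOpen hO hO')
  · intro h
    have hs : Function.Surjective (Set.rangeFactorization (Points.ofPt a)) := Set.rangeFactorization_surjective
    have h1 := CC.image hf (cons_clopen h).1
    have h2 := CC.image hf (cons_clopen h).2.compl
    rw [Set.image_preimage_eq _ hs] at h1
    rw [← Set.preimage_compl, Set.image_preimage_eq _ hs] at h2
    exact isConstructible_of_cc_co h1 (compl_compl E ▸ h2.compl)

/-- Etale locally constructible is the same as locally constructible on the points of a quasi-separated space. -/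
theorem etaleLocallyConstructible_iff (hX : IsAlgSpace X) (hqs : IsQuasiSeparatedSp X) (E : Set (Points X)) :
    (∀ (U : Over S) (a : (yon S).obj U ⟶ X), RepWith @Etale a → IsLocallyConstructible (Points.ofPt a ⁻¹' E)) ↔
      IsLocallyConstructible E := by
  constructor
  · intro h x
    obtain ⟨U, a, u, hU, ha, rfl⟩ := exists_affine_chart_at hX x
    haveI : IsAffine U.left := hU
    refine ⟨_, (isOpenMap_ofPt ha).isOpen_range.mem_nhds ⟨u, rfl⟩, (isOpenMap_ofPt ha).isOpen_range, ?_⟩
    exact (isConstructible_chart_iff hX hqs ha _).2 (h U a ha).isConstructible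
  · intro h U a ha u
    obtain ⟨N, hN, hNo, hNc⟩ := h (Points.ofPt a u)
    obtain ⟨V, hV, huV, hVN⟩ := exists_isAffineOpen_mem_and_subset
      (U := ⟨Points.ofPt a ⁻¹' N, hNo.preimage (Points.continuous_ofPt a)⟩) (x := u) (show Points.ofPt a u ∈ N from mem_of_mem_nhds hN)
    let ι : Over.mk (V.ι ≫ U.hom) ⟶ U := Over.homMk V.ι rfl
    let b := (yon S).map ι ≫ a
    have hb : RepWith @Etale b :=
      repWith_comp ((repWith_yon_map_iff _ ι).2 (inferInstanceAs (Etale V.ι))) ha
    have : IsAffine (Over.mk (V.ι ≫ U.hom)).left := hV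
    have hbN : Set.range (Points.ofPt b) ⊆ N := by
      rintro _ ⟨w, rfl⟩
      rw [ofPt_comp]
      exact hVN (w : V.toScheme).2
    refine ⟨V, V.2.mem_nhds huV, V.2, ?_⟩
    have hc : IsConstructible ((Set.inclusion hbN) ⁻¹' (Subtype.val ⁻¹' E : Set N)) :=
      hNc.preimage_of_isOpenEmbedding (IsOpenEmbedding.inclusion hbN
        ((isOpenMap_ofPt hb).isOpen_range.preimage continuous_subtype_val))
    have := (isConstructible_chart_iff hX hqs hb _).1 hc
    refine (congrArg IsConstructible (Set.ext fun w : V.toScheme => ?_)).mp this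
    show Points.ofPt b w ∈ E ↔ Points.ofPt a w.1 ∈ E
    rw [ofPt_comp]
    rfl

end Groth.Agent.AlgSpDec
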