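import Groth.Agent.AlgSpDec.DecentDense
import Groth.Agent.AlgSpDec.Factor
import Groth.Agent.AlgSpDec.Fibres
import Groth.Agent.AlgSpDec.PointsSpectral
import Groth.Agent.AlgSpDec.MonoRep
import Groth.Agent.UnramMisc.FlatUnram
import Groth.Agent.MorLib.Birat

/-!
# Decent spaces with finitely many irreducible components
-/

set_option autoImplicit false
set_option backward.isDefEq.respectTransparency false
set_option backward.isDefEq.respectTransparency.types false

universe u

open CategoryTheory CategoryTheory.Limits AlgebraicGeometry AlgSp Groth.Agent.AlgSpLib Groth.Agent.AlgSpPts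
open Groth.Agent.EtCount (Lifts)

namespace Groth.Agent.AlgSpDec.DecentDenseScheme

variable {S : Scheme.{u}}

theorem map_eq_ofPt {F : Sp S} {W : Over S} (b : (yon S).obj W ⟶ F) (w : ↥W.left) :
    Points.map b (Points.schemeHomeo W w) = Points.ofPt b w := by
  change Points.map b (Points.ofPt (𝟙 _) w) = _
  rw [Points.map_ofPt, Category.id_comp]

theorem finite_irreducibleComponents_of_dense {Z : Type*} [TopologicalSpace Z] {G : Set Z} (hG : G.Finite)
    (hd : closure G = Set.univ) : (irreducibleComponents Z).Finite := by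
  classical
  refine (hG.image fun g => closure {g}).subset fun T hT => ?_
  have hcov : T ⊆ ⋃₀ ↑(hG.toFinset.image fun g => closure {g}) := fun z _ => by
    have hz : z ∈ closure G := hd.ge (Set.mem_univ z)
    rw [← Set.biUnion_of_singleton G, hG.closure_biUnion] at hz
    obtain ⟨g, hg, hzg⟩ := Set.mem_iUnion₂.1 hz
    exact ⟨closure {g}, by simpa using ⟨g, hg, rfl⟩, hzg⟩
  obtain ⟨c, hc, hTc⟩ := isIrreducible_iff_sUnion_isClosed.1 hT.1 _ (fun c hc => by
    obtain ⟨g, -, rfl⟩ : ∃ g ∈ G, closure {g} = c := by simpa using hc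
    exact isClosed_closure) hcov
  obtain ⟨g, hg, rfl⟩ : ∃ g ∈ G, closure {g} = c := by simpa using hc
  exact ⟨g, hg, (hT.2 isIrreducible_singleton.closure hTc).antisymm hTc⟩

/-- A dense open subscheme with finitely many components and quasi-compact generic points forces decency. -/
theorem isDecent_of_dense {X : Space S} {X' : Over S} {j : (yon S).obj X' ⟶ X.obj}
    (hj : RepWith @IsOpenImmersion j) (hd : Dense (Set.range (Points.ofPt j)))
    (hfin : (irreducibleComponents ↥X'.left).Finite)
    (hq : ∀ x' : ↥X'.left, (∃ T ∈ irreducibleComponents ↥X'.left, IsGenericPoint x' T) →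
      RepWith @QuasiCompact (FieldPt.ofPt j x').toHom) :
    IsDecent X.obj ∧ (irreducibleComponents (Points X.obj)).Finite := by
  have hG : (genericPoints ↥X'.left).Finite := genericPoints.finite hfin
  have hq' : ∀ g ∈ genericPoints ↥X'.left, RepWith @QuasiCompact (FieldPt.ofPt j g).toHom :=
    fun g hg => hq g ⟨_, (genericPoints.component ⟨g, hg⟩).2, genericPoints.isGenericPoint ⟨g, hg⟩⟩
  have hrange : IsOpen (Set.range (Points.ofPt j)) := by
    have h1 : Set.range (Points.map j) = Set.range (Points.ofPt j) := by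
      ext z
      constructor
      · rintro ⟨z₀, rfl⟩
        obtain ⟨o, rfl⟩ := (Points.schemeHomeo _).surjective z₀
        exact ⟨o, (map_eq_ofPt _ _).symm⟩
      · rintro ⟨o, rfl⟩
        exact ⟨_, map_eq_ofPt _ _⟩
    rw [← h1]
    exact (isOpenEmbedding_map' X.property hj).isOpen_range
  constructor
  · intro x
    refine exists_rep_of_finite X.property x fun U φ hU hφ R s t sq => ?_
    haveI := hU
    -- every point of the chart generalises to the preimage of a generic point
    let G := Points.ofPt φ ⁻¹' (Points.ofPt j '' genericPoints ↥X'.left)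
    have hGpt : ∀ g' ∈ genericPoints ↥X'.left, (Points.ofPt φ ⁻¹' {Points.ofPt j g'}).Finite := fun g' hg' =>
      finite_fibre_of_repWith hφ (FieldPt.ofPt j g') (hq' g' hg')
    have hGfin : G.Finite := ((hG.biUnion hGpt)).subset fun u ⟨g', hg', hu⟩ => Set.mem_biUnion hg' hu.symm
    have hgen : ∀ u : ↥U.left, ∃ g ∈ G, g ⤳ u := by
      intro u
      have hcl : u ∈ closure G := by
        rw [mem_closure_iff]
        intro O hO huO
        obtain ⟨x', hx'O, x₁, rfl⟩ := hd.inter_open_nonempty _ (isOpenMap_ofPt hφ O hO) ⟨_, u, huO, rfl⟩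
        obtain ⟨v, hvO, hv⟩ := hx'O
        obtain ⟨g', hg', hs⟩ := MorLib.Birat.exists_generic (X := X'.left) x₁
        obtain ⟨w, hwv, hw⟩ := exists_specializes_of_isOpenMap (isOpenMap_ofPt hφ) (hGpt g' hg') (v := v)
          (by rw [hv]; exact hs.map (Points.continuous_ofPt j))
        exact ⟨w, hwv.mem_open hO hvO, g', hg', hw.symm⟩
      rw [← Set.biUnion_of_singleton G, hGfin.closure_biUnion] at hcl
      obtain ⟨g, hg, hgu⟩ := Set.mem_iUnion₂.1 hcl
      exact ⟨g, hg, specializes_iff_mem_closure.2 hgu⟩
    -- the canonical kernel pair has finite fibres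
    let R₀ := hφ.rep.pullback φ
    let s₀ : R₀ ⟶ U := hφ.rep.snd φ
    haveI : Etale s₀.left := hφ.property_snd φ
    haveI : IsSeparated s₀.left := isSeparated_snd_of_isAffine hφ
    have hs₀ : ∀ u, (s₀.left ⁻¹' {u}).Finite := by
      intro u
      obtain ⟨g, ⟨g', hg', hgg'⟩, hgu⟩ := hgen u
      have hgfin : (s₀.left ⁻¹' {g}).Finite :=
        finite_preimage_snd_of_point hφ g (FieldPt.ofPt j g') hgg' (hq' g' hg')
      haveI := finite_geomFiber_of_finite_preimage s₀.left hgfin
      have hlt : ENat.card ↥(MoreMor.geomFiber s₀.left u) < ⊤ := by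
        by_contra hne
        have hu : u ∈ {z | ((Nat.card ↥(MoreMor.geomFiber s₀.left g) + 1 : ℕ) : ℕ∞) ≤
            ENat.card ↥(MoreMor.geomFiber s₀.left z)} := by
          show _ ≤ ENat.card _
          rw [not_lt_top_iff.1 hne]; exact le_top
        have := hgu.mem_open (EtCount.isOpen_le_card _ s₀.left) hu
        change _ ≤ ENat.card ↥(MoreMor.geomFiber s₀.left g) at this
        rw [ENat.card_eq_coe_natCard] at this
        exact absurd (Nat.cast_le.1 this) (by omega)
      haveI : Finite (Lifts s₀.left (EtCount.geomPt u)) :=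
        ENat.card_lt_top.1 (by rw [← EtCount.card_geomFiber]; exact hlt)
      exact (Set.finite_range fun l : Lifts s₀.left (EtCount.geomPt u) => l.1 (IsLocalRing.closedPoint _)).subset
        fun x hx => exists_lift_through s₀.left hx
    -- the fibre over the point
    have hsub : Points.ofPt ((yon S).map t ≫ φ) ⁻¹' {x} ⊆
        ⋃ u ∈ Points.ofPt φ ⁻¹' {x}, s.left ⁻¹' {u} := by
      intro r hr
      refine Set.mem_biUnion (x := s.left r) ?_ rfl
      show Points.ofPt φ (s.left r) = x
      rw [← ofPt_comp, ← sq.w]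
      exact hr
    obtain ⟨k, hk⟩ := (yon S).map_surjective (sq.isoIsPullback _ _ (hφ.rep.isPullback' φ)).hom
    have hks : k ≫ s₀ = s := (yon S).map_injective (by
      rw [Functor.map_comp, hk, IsPullback.isoIsPullback_hom_snd])
    haveI : IsIso k := by
      haveI : IsIso ((yon S).map k) := by rw [hk]; infer_instance
      exact isIso_of_fully_faithful (yon S) k
    have hkinj : Function.Injective k.left := (k.left).homeomorph.injective
    refine (Set.Finite.biUnion ?_ fun u _ => ?_).subset hsub
    · -- finitely many points of the chart over `x`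
      by_cases hne : (Points.ofPt φ ⁻¹' {x}).Nonempty
      · obtain ⟨u₀, hu₀⟩ := hne
        refine ((hs₀ u₀).image (hφ.rep.fst' φ).left).subset fun v hv => ?_
        obtain ⟨r, hr₁, hr₂⟩ := exists_ofPt_of_eq (hφ.rep.isPullback' φ) (u := v) (v := u₀)
          (Eq.trans hv (Eq.symm hu₀))
        exact ⟨r, hr₂, hr₁⟩
      · rw [Set.not_nonempty_iff_eq_empty.1 hne]; exact Set.finite_empty
    · refine ((hs₀ u).preimage hkinj.injOn).subset fun r hr => ?_
      show s₀.left (k.left r) = u
      rw [← Scheme.Hom.comp_apply, ← Over.comp_left, hks]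
      exact hr
  · refine finite_irreducibleComponents_of_dense (hG.image (Points.ofPt j)) (Set.eq_univ_of_univ_subset ?_)
    rw [← hd.closure_eq]
    refine closure_minimal ?_ isClosed_closure
    rintro _ ⟨x₁, rfl⟩
    obtain ⟨g', hg', hs⟩ := MorLib.Birat.exists_generic (X := X'.left) x₁
    exact (hs.map (Points.continuous_ofPt j)).mem_closed isClosed_closure
      (subset_closure ⟨g', hg', rfl⟩)

/-- A decent space with finitely many components has a dense open subscheme with quasi-compact generic points. -/
theorem exists_dense_of_isDecent {X : Space S} (hX : IsDecent X.obj)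
    (hfin : (irreducibleComponents (Points X.obj)).Finite) :
    ∃ (X' : Over S) (j : (yon S).obj X' ⟶ X.obj), RepWith @IsOpenImmersion j ∧
      Dense (Set.range (Points.ofPt j)) ∧ (irreducibleComponents ↥X'.left).Finite ∧
      ∀ x' : ↥X'.left, RepWith @QuasiCompact (FieldPt.ofPt j x').toHom := by
  obtain ⟨X', j, hj, hr, hd⟩ := exists_dense_open_subscheme_of_isDecent X hX
  obtain ⟨T, ⟨r⟩⟩ := hr.has_representation
  let e : (yon S).obj T ≅ X'.obj := isoOfRepresentableBy r
  have hje : RepWith @IsOpenImmersion (e.hom ≫ j.hom) := repWith_comp (repWith_of_isIso _ e.hom) hj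
  have hemb := isOpenEmbedding_map' X.property hje
  have hrange : Set.range (Points.ofPt (e.hom ≫ j.hom)) = Set.range (Points.map j.hom) := by
    ext z
    constructor
    · rintro ⟨o, rfl⟩
      exact ⟨Points.ofPt e.hom o, Points.map_ofPt _ _ _⟩
    · rintro ⟨z₀, rfl⟩
      obtain ⟨o, ho⟩ := (Points.schemeHomeo T).surjective (Points.map e.inv z₀)
      refine ⟨o, ?_⟩
      rw [← map_eq_ofPt, ho, ← Points.map_comp, Iso.inv_hom_id_assoc]
  refine ⟨T, e.hom ≫ j.hom, hje, hrange ▸ hd, ?_, fun x' => repWith_quasiCompact_toHom X.property hX _⟩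
  exact UnramMisc.finite_irreducibleComponents_of_isOpenEmbedding
    (hemb.comp (Points.schemeHomeo T).isOpenEmbedding) hfin

end Groth.Agent.AlgSpDec.DecentDenseScheme
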