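import Groth.Agent.MorLib.WeightDeg
import Groth.Agent.AlgSpDec.RedInduced
import Groth.Agent.AlgSpDec.FinLocFree
import Groth.Agent.AlgSpLib.Points
import Groth.Prelude.Def_W4decUnivBdd

/-!
# Stratification by the degree of the fibres
-/

set_option autoImplicit false
set_option backward.isDefEq.respectTransparency false
set_option backward.isDefEq.respectTransparency.types false

universe u

open CategoryTheory CategoryTheory.Limits AlgebraicGeometry AlgSp Groth.Agent.AlgSpLib Groth.Agent.AlgSpPts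

namespace Groth.Agent.AlgSpDec.DegStrat

open Groth.Agent.MorLib

theorem deg_baseChange {X S X' T : Scheme.{u}} {f : X ⟶ S} [Flat f] [LocallyOfFinitePresentation f]
    [IsSeparated f] [LocallyQuasiFinite f] {fst : X' ⟶ X} {f' : X' ⟶ T} {g : T ⟶ S}
    [Flat f'] [LocallyOfFinitePresentation f'] [IsSeparated f'] [LocallyQuasiFinite f']
    (sq : IsPullback fst f' f g) (hfin : ∀ s : S, (f ⁻¹' {s}).Finite) (t : T) :
    WT.deg f' t = WT.deg f (g t) := by
  have hfin' : ∀ t : T, (f' ⁻¹' {t}).Finite := fun t => GF.finite_preimage_baseChange sq t (hfin _)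
  obtain ⟨Ω, _, _, tb, rfl⟩ := GF.exists_geomPoint t
  let y := IsLocalRing.closedPoint Ω
  have h1 := WT.finrank_fibre_eq_deg hfin' tb y
  have h2 := WT.finrank_fibre_eq_deg hfin (tb ≫ g) y
  rw [Scheme.Hom.comp_apply] at h2
  refine h1.symm.trans (Eq.trans ?_ h2)
  have hc := (IsPullback.of_hasPullback f' tb).paste_horiz sq
  haveI := WT.isFinite_fibre hfin (tb ≫ g)
  haveI : Flat (pullback.snd f (tb ≫ g)) := MorphismProperty.pullback_snd _ _ inferInstance
  rw [← hc.isoPullback_hom_snd, Scheme.Hom.finrank_comp_left_of_isIso]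

theorem isFinLocFreeOfDeg_iff_self {X S : Scheme.{u}} (f : X ⟶ S) [Flat f] [LocallyOfFinitePresentation f]
    [IsSeparated f] [LocallyQuasiFinite f] (hfin : ∀ s : S, (f ⁻¹' {s}).Finite) (r : ℕ) :
    Mor2.IsFinLocFreeOfDeg r f ↔ ∀ s : S, WT.deg f s = r := by
  have h := WT.isFinLocFreeOfDeg_iff hfin (𝟙 S) r
  have sq : IsPullback (𝟙 X) f f (𝟙 S) := IsPullback.of_horiz_isIso ⟨by simp⟩
  have sq' : IsPullback (inv (pullback.fst f (𝟙 S))) f (pullback.snd f (𝟙 S)) (𝟙 S) :=
    IsPullback.of_horiz_isIso ⟨by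
      simp [IsIso.inv_comp_eq, pullback.condition]⟩
  constructor
  · intro hd
    simpa using h.1 (MorphismProperty.of_isPullback (P := finLocFreeOfDeg r) (IsPullback.of_hasPullback f (𝟙 S)) hd)
  · intro hd
    exact MorphismProperty.of_isPullback (P := finLocFreeOfDeg r) sq' (h.2 fun t => by simpa using hd t)

variable {S : Scheme.{u}} {X : Sp S} {W : Over S} {w : (yon S).obj W ⟶ X}

/-- Flat, separated, of finite presentation and quasi-finite with bounded fibres. -/
structure Good (w : (yon S).obj W ⟶ X) : Prop where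
  rep : Representable w
  flat : RepWith @Flat w
  lfp : RepWith @LocallyOfFinitePresentation w
  sep : RepWith @IsSeparated w
  lqf : RepWith @LocallyQuasiFinite w
  bdd : W4dec.HasUnivBddFibres w

namespace Good

variable (hw : Good w)

/-- The base change of `w` to a scheme. -/
noncomputable abbrev bc {T : Over S} (g : (yon S).obj T ⟶ X) : (hw.rep.pullback g).left ⟶ T.left :=
  (hw.rep.snd g).left

theorem flat_bc {T : Over S} (g : (yon S).obj T ⟶ X) : Flat (hw.bc g) := hw.flat.property_snd g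

theorem lfp_bc {T : Over S} (g : (yon S).obj T ⟶ X) : LocallyOfFinitePresentation (hw.bc g) :=
  hw.lfp.property_snd g

theorem sep_bc {T : Over S} (g : (yon S).obj T ⟶ X) : IsSeparated (hw.bc g) := hw.sep.property_snd g

theorem lqf_bc {T : Over S} (g : (yon S).obj T ⟶ X) : LocallyQuasiFinite (hw.bc g) := hw.lqf.property_snd g

theorem bdd_fibre {n : ℕ} (hn : W4dec.DegFibresLE n w) {T : Over S} (g : (yon S).obj T ⟶ X) (t : ↥T.left) :
    IsFinite (pullback.snd (hw.bc g) (T.left.fromSpecResidueField t)) ∧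
      ∀ s, (pullback.snd (hw.bc g) (T.left.fromSpecResidueField t)).finrank s ≤ n := by
  let q := FieldPt.ofPt g t
  let ι : q.pt ⟶ T := Over.homMk (T.left.fromSpecResidueField t) rfl
  have hq : q.toHom = (yon S).map ι ≫ g := FieldPt.toHom_ofPt g t
  let P : Over S := Over.mk (pullback.snd (hw.bc g) (T.left.fromSpecResidueField t) ≫ q.pt.hom)
  let c : P ⟶ q.pt := Over.homMk (pullback.snd (hw.bc g) (T.left.fromSpecResidueField t)) rfl
  let k : P ⟶ hw.rep.pullback g := Over.homMk (pullback.fst (hw.bc g) (T.left.fromSpecResidueField t)) (by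
    show pullback.fst (hw.bc g) _ ≫ (hw.rep.pullback g).hom = pullback.snd (hw.bc g) _ ≫ ι.left ≫ T.hom
    rw [← Over.w (hw.rep.snd g), pullback.condition_assoc]
    rfl)
  have sqk : IsPullback ((yon S).map c) ((yon S).map k) ((yon S).map ι) ((yon S).map (hw.rep.snd g)) := by
    refine IsPullback.map (yon S) (IsPullback.of_map (Over.forget S) (Over.OverMorphism.ext ?_) ?_)
    · exact pullback.condition.symm
    · exact (IsPullback.of_hasPullback (hw.bc g) (T.left.fromSpecResidueField t)).flip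
  exact hn q P c ((yon S).map k ≫ hw.rep.fst g) (by
    rw [hq]; exact sqk.paste_vert (hw.rep.isPullback g).flip)

theorem finite_fibre {T : Over S} (g : (yon S).obj T ⟶ X) (t : ↥T.left) : ((hw.bc g) ⁻¹' {t}).Finite := by
  obtain ⟨n, hn⟩ := hw.bdd
  haveI := (hw.bdd_fibre hn g t).1
  have hfin : (Set.univ : Set ↥(pullback (hw.bc g) (T.left.fromSpecResidueField t))).Finite :=
    ((pullback.snd (hw.bc g) (T.left.fromSpecResidueField t)).finite_preimage_singleton
      (IsLocalRing.closedPoint _ : ↥(Spec (T.left.residueField t)))).subset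
      fun z _ => Subsingleton.elim (α := PrimeSpectrum (T.left.residueField t)) _ _
  refine (hfin.image (pullback.fst (hw.bc g) (T.left.fromSpecResidueField t))).subset fun z hz => ?_
  obtain ⟨p, hp, -⟩ := Scheme.Pullback.exists_preimage_pullback z (IsLocalRing.closedPoint (T.left.residueField t))
    ((Set.mem_singleton_iff.1 hz).trans (Scheme.fromSpecResidueField_apply t _).symm)
  exact ⟨p, trivial, hp⟩

/-- The degree at a point of a scheme over the space. -/
noncomputable def degOn {T : Over S} (g : (yon S).obj T ⟶ X) (t : ↥T.left) : ℕ :=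
  haveI := hw.flat_bc g
  haveI := hw.lfp_bc g
  haveI := hw.sep_bc g
  haveI := hw.lqf_bc g
  WT.deg (hw.bc g) t

theorem degOn_le {n : ℕ} (hn : W4dec.DegFibresLE n w) {T : Over S} (g : (yon S).obj T ⟶ X) (t : ↥T.left) :
    hw.degOn g t ≤ n := by
  haveI := hw.flat_bc g
  haveI := hw.lfp_bc g
  haveI := hw.sep_bc g
  haveI := hw.lqf_bc g
  have h := WT.finrank_fibre_eq_deg (hw.finite_fibre g) (T.left.fromSpecResidueField t) (IsLocalRing.closedPoint _)
  have e := congrArg (WT.deg (hw.bc g)) (Scheme.fromSpecResidueField_apply t (IsLocalRing.closedPoint _))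
  exact (h.trans e).symm.trans_le ((hw.bdd_fibre hn g t).2 _)

theorem degOn_comp {T' T : Over S} (k : T' ⟶ T) (g : (yon S).obj T ⟶ X) (t : ↥T'.left) :
    hw.degOn ((yon S).map k ≫ g) t = hw.degOn g (k.left t) := by
  haveI := hw.flat_bc g
  haveI := hw.lfp_bc g
  haveI := hw.sep_bc g
  haveI := hw.lqf_bc g
  haveI := hw.flat_bc ((yon S).map k ≫ g)
  haveI := hw.lfp_bc ((yon S).map k ≫ g)
  haveI := hw.sep_bc ((yon S).map k ≫ g)
  haveI := hw.lqf_bc ((yon S).map k ≫ g)
  have sq := hw.rep.isPullback g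
  have sq' := hw.rep.isPullback ((yon S).map k ≫ g)
  obtain ⟨l, hl⟩ := (yon S).map_surjective (sq.lift (hw.rep.fst ((yon S).map k ≫ g))
    ((yon S).map (hw.rep.snd ((yon S).map k ≫ g)) ≫ (yon S).map k) (by rw [Category.assoc]; exact sq'.w))
  have sql : IsPullback ((yon S).map l) ((yon S).map (hw.rep.snd ((yon S).map k ≫ g)))
      ((yon S).map (hw.rep.snd g)) ((yon S).map k) := by
    refine IsPullback.of_right ?_ (by rw [hl, sq.lift_snd]) sq
    rw [hl, sq.lift_fst]
    exact sq'
  haveI : Flat ((Over.forget S).map (hw.rep.snd g)) := hw.flat_bc g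
  haveI : LocallyOfFinitePresentation ((Over.forget S).map (hw.rep.snd g)) := hw.lfp_bc g
  haveI : IsSeparated ((Over.forget S).map (hw.rep.snd g)) := hw.sep_bc g
  haveI : LocallyQuasiFinite ((Over.forget S).map (hw.rep.snd g)) := hw.lqf_bc g
  haveI : Flat ((Over.forget S).map (hw.rep.snd ((yon S).map k ≫ g))) := hw.flat_bc _
  haveI : LocallyOfFinitePresentation ((Over.forget S).map (hw.rep.snd ((yon S).map k ≫ g))) := hw.lfp_bc _
  haveI : IsSeparated ((Over.forget S).map (hw.rep.snd ((yon S).map k ≫ g))) := hw.sep_bc _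
  haveI : LocallyQuasiFinite ((Over.forget S).map (hw.rep.snd ((yon S).map k ≫ g))) := hw.lqf_bc _
  exact deg_baseChange ((sql.of_map_of_faithful (yon S)).map (Over.forget S)) (hw.finite_fibre g) t

theorem degOn_eq_chart {U : Over S} (a : (yon S).obj U ⟶ X) (ha : RepWith @Etale a) {T : Over S}
    (g : (yon S).obj T ⟶ X) {t : ↥T.left} {u : ↥U.left} (h : Points.ofPt a u = Points.ofPt g t) :
    hw.degOn g t = hw.degOn a u := by
  have sq := ha.rep.isPullback' g
  obtain ⟨z, hz1, hz2⟩ := exists_ofPt_of_eq sq h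
  rw [← hz1, ← hz2, ← hw.degOn_comp, ← hw.degOn_comp, sq.w]

/-- The degree at a point of the space. -/
noncomputable def degPt (hA : IsAlgSpace X) (x : Points X) : ℕ :=
  hw.degOn hA.atlas.choose_spec.choose (surjective_ofPt hA.atlas.choose_spec.choose_spec.2 x).choose

theorem degPt_ofPt (hA : IsAlgSpace X) {T : Over S} (g : (yon S).obj T ⟶ X) (t : ↥T.left) :
    hw.degPt hA (Points.ofPt g t) = hw.degOn g t :=
  (hw.degOn_eq_chart _ hA.atlas.choose_spec.choose_spec.1 g
    (surjective_ofPt hA.atlas.choose_spec.choose_spec.2 (Points.ofPt g t)).choose_spec).symm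

theorem isClosed_le (hA : IsAlgSpace X) (r : ℕ) : IsClosed {x | hw.degPt hA x ≤ r} := by
  obtain ⟨U, a, ha, ha'⟩ := hA.atlas
  haveI := hw.flat_bc a
  haveI := hw.lfp_bc a
  haveI := hw.sep_bc a
  haveI := hw.lqf_bc a
  rw [← (isQuotientMap_ofPt ha ha').isClosed_preimage]
  simp only [Set.preimage_setOf_eq, hw.degPt_ofPt hA]
  exact WT.isClosed_deg_le (hw.finite_fibre a) r

theorem isFinLocFreeOfDegMor_iff (hA : IsAlgSpace X) (r : ℕ) {T P : Sp S} (hT : IsAlgSpace T) (g : T ⟶ X)
    {fst : P ⟶ (yon S).obj W} {snd : P ⟶ T} (sq : IsPullback fst snd w g) :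
    IsFinLocFreeOfDegMor r snd ↔ ∀ z, hw.degPt hA (Points.map g z) = r := by
  have hsr : Representable snd := MorphismProperty.of_isPullback (P := (yon S).relativelyRepresentable) sq hw.rep
  have key : ∀ {A B : Over S} (b : (yon S).obj A ⟶ T) (fst' : (yon S).obj B ⟶ P) (snd' : B ⟶ A),
      IsPullback fst' ((yon S).map snd') snd b →
      (Mor2.IsFinLocFreeOfDeg r snd'.left ↔ ∀ t, hw.degOn (b ≫ g) t = r) := by
    intro A B b fst' snd' sq'
    haveI := hw.flat_bc (b ≫ g)
    haveI := hw.lfp_bc (b ≫ g)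
    haveI := hw.sep_bc (b ≫ g)
    haveI := hw.lqf_bc (b ≫ g)
    let e := (sq'.paste_horiz sq).isoIsPullback _ _ (hw.rep.isPullback (b ≫ g))
    obtain ⟨k, hk⟩ := (yon S).map_surjective e.hom
    haveI : IsIso k := by
      haveI : IsIso ((yon S).map k) := by rw [hk]; infer_instance
      exact isIso_of_fully_faithful (yon S) k
    have hks : k ≫ hw.rep.snd (b ≫ g) = snd' := (yon S).map_injective (by
      rw [Functor.map_comp, hk, IsPullback.isoIsPullback_hom_snd])
    rw [← hks, Over.comp_left]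
    show finLocFreeOfDeg r (k.left ≫ hw.bc (b ≫ g)) ↔ _
    rw [MorphismProperty.cancel_left_of_respectsIso (finLocFreeOfDeg r) k.left]
    exact isFinLocFreeOfDeg_iff_self (hw.bc (b ≫ g)) (hw.finite_fibre (b ≫ g)) r
  constructor
  · intro h z
    obtain ⟨A, b, t, -, rfl⟩ := exists_ofPt_eq z
    rw [Points.map_ofPt, hw.degPt_ofPt hA]
    exact (key b _ _ (h.rep.isPullback b)).1 (h.property_snd b) t
  · intro h
    exact ⟨hsr, fun A B b fst' snd' sq' => (key b fst' snd' sq').2 fun t => by
      rw [← hw.degPt_ofPt hA, ← Points.map_ofPt]; exact h _⟩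

end Good

/-- Closed reduced subspaces cutting out the degree of the fibres. -/
theorem exists_stratification (X : Space S) {w : (yon S).obj W ⟶ X.obj} (hw : Good w) :
    ∃ (n : ℕ) (Zs : ℕ → Space S) (i : ∀ r, Zs r ⟶ X),
      (∀ r, IsRedInduced (Set.range (Points.map (i r).hom)) (i r).hom) ∧
      IsEmpty (Points (Zs 0).obj) ∧ Set.range (Points.map (i (n + 1)).hom) = Set.univ ∧
      (∀ r, Set.range (Points.map (i r).hom) ⊆ Set.range (Points.map (i (r + 1)).hom)) ∧
      ∀ (r : ℕ) (T : Space S) (g : T ⟶ X) (P : Sp S) (fst : P ⟶ (yon S).obj W) (snd : P ⟶ T.obj),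
        IsPullback fst snd w g.hom →
          (IsFinLocFreeOfDegMor r snd ↔
            Set.range (Points.map g.hom) ⊆
              Set.range (Points.map (i (r + 1)).hom) \ Set.range (Points.map (i r).hom)) := by
  obtain ⟨n, hn⟩ := hw.bdd
  let D := hw.degPt X.property
  have hcl : ∀ r, IsClosed {x | D x < r} := by
    intro r
    cases r with
    | zero => simp
    | succ r => simpa [Nat.lt_succ_iff] using hw.isClosed_le X.property r
  choose Zs j hj using fun r => exists_reduced_induced X.property (hcl r)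
  refine ⟨n, Zs, fun r => ObjectProperty.homMk (j r), fun r => ?_, ?_, ?_, fun r => ?_, ?_⟩
  · show IsRedInduced (Set.range (Points.map (j r))) (j r)
    rw [(hj r).2.1]; exact hj r
  · refine ⟨fun z => ?_⟩
    have h : Points.map (j 0) z ∈ {x | D x < 0} := (hj 0).2.1 ▸ ⟨z, rfl⟩
    exact Nat.not_lt_zero _ h
  · show Set.range (Points.map (j (n + 1))) = _
    rw [(hj (n + 1)).2.1]
    refine Set.eq_univ_of_forall fun x => Nat.lt_succ_iff.2 ?_
    obtain ⟨A, b, t, -, rfl⟩ := exists_ofPt_eq x
    show hw.degPt _ _ ≤ n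
    rw [hw.degPt_ofPt]
    exact hw.degOn_le hn b t
  · show Set.range (Points.map (j r)) ⊆ Set.range (Points.map (j (r + 1)))
    rw [(hj r).2.1, (hj (r + 1)).2.1]
    exact fun x hx => Nat.lt_succ_of_lt hx
  · intro r T g P fst snd sq
    show _ ↔ _ ⊆ Set.range (Points.map (j (r + 1))) \ Set.range (Points.map (j r))
    rw [hw.isFinLocFreeOfDegMor_iff X.property r T.property g.hom sq, (hj r).2.1, (hj (r + 1)).2.1,
      Set.range_subset_iff]
    refine forall_congr' fun z => ?_
    simp only [Set.mem_sdiff, Set.mem_setOf_eq, D]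
    omega

end Groth.Agent.AlgSpDec.DegStrat
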