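import Groth.Agent.AlgSpDec.ResidualSpace
import Groth.Agent.AlgSpDec.EtField
import Groth.Agent.AlgSpLib.EtaleSmoothLocal
import Groth.Agent.AlgSpPts.Sep
import Groth.Agent.AlgSpPts.Misc
import Mathlib.AlgebraicGeometry.PullbackCarrier

/-!
# Points represented by monomorphisms and finiteness of fibres of charts
-/

set_option backward.isDefEq.respectTransparency false
set_option backward.isDefEq.respectTransparency.types false

universe u

open CategoryTheory Limits Opposite AlgebraicGeometry AlgSp Groth.Agent.AlgSpLib Groth.Agent.AlgSpPts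

namespace Groth.Agent.AlgSpDec

variable {S : Scheme.{u}} {X : Sp S}

theorem discreteTopology_of_etale_field {G : Scheme.{u}} {K : Type u} [Field K]
    (f : G ⟶ Spec (CommRingCat.of K)) [Etale f] : DiscreteTopology ↥G := by
  have h1 := f.isDiscrete_preimage_singleton (IsLocalRing.closedPoint K)
  rw [show f ⁻¹' {IsLocalRing.closedPoint K} = Set.univ from
    Set.eq_univ_of_forall fun x => Subsingleton.elim (α := PrimeSpectrum K) _ _] at h1
  exact isDiscrete_univ_iff.1 h1

theorem isFinite_of_etale_field {G : Scheme.{u}} {K : Type u} [Field K]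
    (f : G ⟶ Spec (CommRingCat.of K)) [Etale f] [Finite ↥G] : IsFinite f := by
  have : CompactSpace ↥G := Finite.compactSpace
  have : QuasiCompact f := HasAffineProperty.iff_of_isAffine.2 this
  exact IsFinite.of_locallyQuasiFinite f

theorem finite_of_compact_etale_field {G : Scheme.{u}} {K : Type u} [Field K]
    (f : G ⟶ Spec (CommRingCat.of K)) [Etale f] [CompactSpace ↥G] : Finite ↥G := by
  have := discreteTopology_of_etale_field f
  exact finite_of_compact_of_discrete

theorem finite_of_isFinite_field {G : Scheme.{u}} {K : Type u} [Field K]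
    (f : G ⟶ Spec (CommRingCat.of K)) [IsFinite f] : Finite ↥G := by
  refine Set.finite_univ_iff.1 ((f.finite_preimage_singleton (IsLocalRing.closedPoint K)).subset ?_)
  exact fun x _ => Subsingleton.elim (α := PrimeSpectrum K) _ _

theorem mono_left_fromSpec {U : Over S} (u : ↥U.left) :
    Mono (Over.homMk (U.left.fromSpecResidueField u) rfl :
      Over.mk (U.left.fromSpecResidueField u ≫ U.hom) ⟶ U) := by
  refine (Over.forget S).mono_of_mono_map ?_
  exact inferInstanceAs (Mono (U.left.fromSpecResidueField u))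

theorem mk_eq_of_ofPt {U : Over S} (φ : (yon S).obj U ⟶ X) (u : ↥U.left) :
    Points.mk (FieldPt.ofPt φ u) = Points.ofPt φ u := rfl

/-- The base change of a residue point of an etale chart along a field valued point is etale. -/
theorem etale_of_residue_pullback {U : Over S} {φ : (yon S).obj U ⟶ X} (hφ : RepWith @Etale φ)
    (u : ↥U.left) (p : FieldPt X) {G : Over S} {g₁ : G ⟶ (FieldPt.ofPt φ u).pt} {g₂ : G ⟶ p.pt}
    (sq : IsPullback ((yon S).map g₁) ((yon S).map g₂) (FieldPt.ofPt φ u).toHom p.toHom) :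
    Etale g₂.left := by
  let ι : (FieldPt.ofPt φ u).pt ⟶ U := Over.homMk (U.left.fromSpecResidueField u) rfl
  have hq : (FieldPt.ofPt φ u).toHom = (yon S).map ι ≫ φ := FieldPt.toHom_ofPt φ u
  let P := hφ.rep.pullback p.toHom
  let P₁ : P ⟶ U := hφ.rep.fst' p.toHom
  let P₂ : P ⟶ p.pt := hφ.rep.snd p.toHom
  have sqP : IsPullback ((yon S).map P₁) ((yon S).map P₂) φ p.toHom := hφ.rep.isPullback' p.toHom
  have : Etale P₂.left := hφ.property_snd p.toHom
  obtain ⟨k, hk⟩ := (yon S).map_surjective (sqP.lift ((yon S).map (g₁ ≫ ι)) ((yon S).map g₂) (by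
    rw [Functor.map_comp, Category.assoc, ← hq]; exact sq.w))
  have hk₁ : k ≫ P₁ = g₁ ≫ ι := (yon S).map_injective (by rw [Functor.map_comp, hk, sqP.lift_fst])
  have hk₂ : k ≫ P₂ = g₂ := (yon S).map_injective (by rw [Functor.map_comp, hk, sqP.lift_snd])
  have sqk : IsPullback ((yon S).map g₁) ((yon S).map k) ((yon S).map ι) ((yon S).map P₁) := by
    refine IsPullback.of_bot (?_ : IsPullback ((yon S).map g₁) ((yon S).map k ≫ (yon S).map P₂)
      ((yon S).map ι ≫ φ) p.toHom) (by rw [← Functor.map_comp, ← Functor.map_comp, hk₁]) sqP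
    rw [← Functor.map_comp, hk₂, ← hq]
    exact sq
  have : IsPreimmersion k.left := MorphismProperty.of_isPullback (P := @IsPreimmersion)
    (isPullback_of_yon sqk) (inferInstanceAs (IsPreimmersion (U.left.fromSpecResidueField u)))
  have : DiscreteTopology ↥P.left := discreteTopology_of_etale_field (K := p.K) P₂.left
  have : IsReduced p.pt.left := inferInstanceAs (IsReduced (Spec (CommRingCat.of p.K)))
  have : IsReduced P.left := isReduced_of_etaleMor P₂.left
  have := isOpenImmersion_of_discrete k.left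
  rw [← hk₂]
  exact inferInstanceAs (Etale (k.left ≫ P₂.left))

/-- A point represented by a monomorphism: the fibre of `U ×_X U` over a pair of points is finite. -/
theorem finite_pair_fibre_of_mono (p : FieldPt X) [Mono p.toHom] (hX : IsAlgSpace X) {U : Over S}
    {φ : (yon S).obj U ⟶ X} (hφ : RepWith @Etale φ) (u u' : ↥U.left)
    (hu : Points.ofPt φ u = Points.mk p) {R : Over S} {s t : R ⟶ U}
    (sqR : IsPullback ((yon S).map t) ((yon S).map s) φ φ) :
    {r : ↥R.left | s.left r = u ∧ t.left r = u'}.Finite := by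
  let T := hφ.rep.pullback p.toHom
  let T₁ : T ⟶ U := hφ.rep.fst' p.toHom
  let T₂ : T ⟶ p.pt := hφ.rep.snd p.toHom
  have sqT : IsPullback ((yon S).map T₁) ((yon S).map T₂) φ p.toHom := hφ.rep.isPullback' p.toHom
  have : Etale T₂.left := hφ.property_snd p.toHom
  have : Mono ((yon S).map T₁) := PullbackCone.mono_fst_of_is_pullback_of_mono sqT.isLimit
  have : Mono T₁ := (yon S).mono_of_mono_map this
  have : Mono T₁.left := inferInstanceAs (Mono ((Over.forget S).map T₁))
  let Q : Over S := Over.mk (pullback.fst T₂.left T₂.left ≫ T.hom)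
  let f₁ : Q ⟶ T := Over.homMk (pullback.fst T₂.left T₂.left) rfl
  let f₂ : Q ⟶ T := Over.homMk (pullback.snd T₂.left T₂.left) (by
    change pullback.snd T₂.left T₂.left ≫ T.hom = pullback.fst T₂.left T₂.left ≫ T.hom
    rw [← Over.w T₂, pullback.condition_assoc])
  have hf : f₁ ≫ T₂ = f₂ ≫ T₂ := Over.OverMorphism.ext pullback.condition
  obtain ⟨j, hj⟩ := (yon S).map_surjective (sqR.lift ((yon S).map (f₂ ≫ T₁)) ((yon S).map (f₁ ≫ T₁)) (by
    rw [Functor.map_comp, Functor.map_comp, Category.assoc, Category.assoc, sqT.w, ← Category.assoc,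
      ← Category.assoc, ← Functor.map_comp, ← Functor.map_comp, hf]))
  have hjt : j ≫ t = f₂ ≫ T₁ := (yon S).map_injective (by rw [Functor.map_comp, hj, sqR.lift_fst])
  have hjs : j ≫ s = f₁ ≫ T₁ := (yon S).map_injective (by rw [Functor.map_comp, hj, sqR.lift_snd])
  have hlift : ∀ r, s.left r = u → ∃ z : ↥Q.left, j.left z = r := by
    intro r hr
    have hrep : Representable p.toHom := representable_from_yon' hX p.toHom
    let g := (yon S).map s ≫ φ
    let M := hrep.pullback g
    let M₁ : M ⟶ p.pt := hrep.fst' g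
    let M₂ : M ⟶ R := hrep.snd g
    have sqM : IsPullback ((yon S).map M₁) ((yon S).map M₂) p.toHom g := hrep.isPullback' g
    obtain ⟨m, -, hm⟩ := exists_ofPt_of_eq sqM (u := IsLocalRing.closedPoint p.K) (v := r) (by
      rw [Points.ofPt_toHom, ofPt_comp, hr, hu])
    obtain ⟨α, hα⟩ := (yon S).map_surjective (sqT.lift ((yon S).map (M₂ ≫ s)) ((yon S).map M₁) (by
      rw [Functor.map_comp, Category.assoc]; exact sqM.w.symm))
    obtain ⟨β, hβ⟩ := (yon S).map_surjective (sqT.lift ((yon S).map (M₂ ≫ t)) ((yon S).map M₁) (by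
      rw [Functor.map_comp, Category.assoc, sqR.w]; exact sqM.w.symm))
    have hα₁ : α ≫ T₁ = M₂ ≫ s := (yon S).map_injective (by rw [Functor.map_comp, hα, sqT.lift_fst])
    have hα₂ : α ≫ T₂ = M₁ := (yon S).map_injective (by rw [Functor.map_comp, hα, sqT.lift_snd])
    have hβ₁ : β ≫ T₁ = M₂ ≫ t := (yon S).map_injective (by rw [Functor.map_comp, hβ, sqT.lift_fst])
    have hβ₂ : β ≫ T₂ = M₁ := (yon S).map_injective (by rw [Functor.map_comp, hβ, sqT.lift_snd])
    have hc : α.left ≫ T₂.left = β.left ≫ T₂.left :=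
      congrArg CommaMorphism.left (hα₂.trans hβ₂.symm)
    let γ : M ⟶ Q := CategoryTheory.Over.homMk (pullback.lift α.left β.left hc) (by
      change pullback.lift _ _ _ ≫ pullback.fst _ _ ≫ T.hom = M.hom
      rw [pullback.lift_fst_assoc, Over.w α])
    have hγ₁ : γ ≫ f₁ = α := Over.OverMorphism.ext (pullback.lift_fst _ _ _)
    have hγ₂ : γ ≫ f₂ = β := Over.OverMorphism.ext (pullback.lift_snd _ _ _)
    have hγj : γ ≫ j = M₂ := by
      apply (yon S).map_injective
      apply sqR.hom_ext
      · rw [← Functor.map_comp, ← Functor.map_comp, Category.assoc, hjt, ← Category.assoc, hγ₂, hβ₁]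
      · rw [← Functor.map_comp, ← Functor.map_comp, Category.assoc, hjs, ← Category.assoc, hγ₁, hα₁]
    refine ⟨γ.left m, ?_⟩
    rw [← Scheme.Hom.comp_apply, ← Over.comp_left, hγj, hm]
  by_cases hne : ({r : ↥R.left | s.left r = u ∧ t.left r = u'}).Nonempty
  swap
  · exact (Set.not_nonempty_iff_eq_empty.1 hne) ▸ Set.finite_empty
  obtain ⟨r₀, hr₀, hr₀'⟩ := hne
  obtain ⟨z₀, hz₀⟩ := hlift r₀ hr₀
  let a := f₁.left z₀
  let b := f₂.left z₀
  obtain ⟨A, hA, haA, -⟩ := exists_isAffineOpen_mem_and_subset (U := (⊤ : T.left.Opens)) (x := a) trivial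
  obtain ⟨B, hB, hbB, -⟩ := exists_isAffineOpen_mem_and_subset (U := (⊤ : T.left.Opens)) (x := b) trivial
  have : IsAffine A.toScheme := hA
  have : IsAffine B.toScheme := hB
  have : IsAffine p.pt.left := inferInstanceAs (IsAffine (Spec (CommRingCat.of p.K)))
  let m := pullback.map (A.ι ≫ T₂.left) (B.ι ≫ T₂.left) T₂.left T₂.left A.ι B.ι (𝟙 _)
    (by rw [Category.comp_id]) (by rw [Category.comp_id])
  have : Etale (A.ι ≫ T₂.left) := inferInstance
  have : Etale (B.ι ≫ T₂.left) := inferInstance
  have : Finite ↥(pullback (A.ι ≫ T₂.left) (B.ι ≫ T₂.left)) :=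
    finite_of_compact_etale_field (K := p.K) (pullback.fst (A.ι ≫ T₂.left) (B.ι ≫ T₂.left) ≫ A.ι ≫ T₂.left)
  refine ((Set.finite_range m).image j.left).subset ?_
  rintro r ⟨hr, hr'⟩
  obtain ⟨z, hz⟩ := hlift r hr
  refine ⟨z, ?_, hz⟩
  rw [Scheme.Pullback.range_map]
  have h1 : T₁.left (f₁.left z) = s.left r := by
    rw [← hz, ← Scheme.Hom.comp_apply, ← Scheme.Hom.comp_apply, ← Over.comp_left, ← Over.comp_left, hjs]
  have h2 : T₁.left (f₂.left z) = t.left r := by
    rw [← hz, ← Scheme.Hom.comp_apply, ← Scheme.Hom.comp_apply, ← Over.comp_left, ← Over.comp_left, hjt]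
  have h1' : T₁.left a = s.left r₀ := by
    rw [← hz₀, ← Scheme.Hom.comp_apply, ← Scheme.Hom.comp_apply, ← Over.comp_left, ← Over.comp_left, hjs]
  have h2' : T₁.left b = t.left r₀ := by
    rw [← hz₀, ← Scheme.Hom.comp_apply, ← Scheme.Hom.comp_apply, ← Over.comp_left, ← Over.comp_left, hjt]
  refine ⟨⟨⟨a, haA⟩, ?_⟩, ⟨⟨b, hbB⟩, ?_⟩⟩
  · exact T₁.left.injective (h1'.trans (hr₀.trans (hr.symm.trans h1.symm)))
  · exact T₁.left.injective (h2'.trans (hr₀'.trans (hr'.symm.trans h2.symm)))

/-- Descent of a monomorphism, with the kernel pair given as a finite scheme. -/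
theorem exists_mono_of_finite (hX : IsAlgSpace X) (q : FieldPt X) {G : Over S} {g₁ g₂ : G ⟶ q.pt}
    (sqG : IsPullback ((yon S).map g₁) ((yon S).map g₂) q.toHom q.toHom) (hg₂ : IsFinite g₂.left) :
    ∃ p : FieldPt X, Points.mk p = Points.mk q ∧ Mono p.toHom := by
  have : IsAffine q.pt.left := inferInstanceAs (IsAffine (Spec (CommRingCat.of q.K)))
  have : IsAffine G.left := isAffine_of_isAffineHom g₂.left
  let e : Over.mk (G.left.isoSpec.inv ≫ G.hom) ≅ G := Over.isoMk G.left.isoSpec.symm rfl
  have hfin : IsFinite (e.hom ≫ g₂).left := by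
    change IsFinite (G.left.isoSpec.inv ≫ g₂.left)
    infer_instance
  obtain ⟨p', i, hi, hs, hm⟩ := exists_mono_of_isPullback q.toHom hX (a₁ := e.hom ≫ g₁) (a₂ := e.hom ≫ g₂)
    (by
      rw [Functor.map_comp, Functor.map_comp]
      exact IsPullback.of_iso sqG ((yon S).mapIso e).symm (Iso.refl _) (Iso.refl _) (Iso.refl _)
        (by
          erw [Category.comp_id, ← Category.assoc, show ((yon S).mapIso e).symm.hom ≫ (yon S).map e.hom = 𝟙 _ from ((yon S).mapIso e).inv_hom_id, Category.id_comp])
        (by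
          erw [Category.comp_id, ← Category.assoc, show ((yon S).mapIso e).symm.hom ≫ (yon S).map e.hom = 𝟙 _ from ((yon S).mapIso e).inv_hom_id, Category.id_comp])
        (by simp) (by simp))
    hfin
  refine ⟨p', Eq.symm (Points.sound ?_), hm⟩
  refine ⟨q.K, inferInstance, q.str, 𝟙 _, i, ?_⟩
  have := congrArg (J S).uliftYonedaEquiv hi
  rw [← uliftYonedaEquiv_precomp, FieldPt.uliftYonedaEquiv_toHom, FieldPt.uliftYonedaEquiv_toHom] at this
  erw [op_id, Functor.map_id_apply]
  exact this.symm

/-- Finiteness of the fibre of `U ×_X U` over one pair gives a monomorphic representative. -/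
theorem exists_mono_of_finite_pair (hX : IsAlgSpace X) {U : Over S} {φ : (yon S).obj U ⟶ X}
    (hφ : RepWith @Etale φ) (u u' : ↥U.left) (he : Points.ofPt φ u = Points.ofPt φ u') {R : Over S}
    {s t : R ⟶ U} (sqR : IsPullback ((yon S).map t) ((yon S).map s) φ φ)
    (hfin : {r : ↥R.left | s.left r = u ∧ t.left r = u'}.Finite) :
    ∃ p : FieldPt X, Points.mk p = Points.ofPt φ u ∧ Mono p.toHom := by
  let q := FieldPt.ofPt φ u
  let q' := FieldPt.ofPt φ u'
  let ι : q.pt ⟶ U := Over.homMk (U.left.fromSpecResidueField u) rfl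
  let ι' : q'.pt ⟶ U := Over.homMk (U.left.fromSpecResidueField u') rfl
  have : Mono ι := mono_left_fromSpec u
  have : Mono ι' := mono_left_fromSpec u'
  have hq : q.toHom = (yon S).map ι ≫ φ := FieldPt.toHom_ofPt φ u
  have hq' : q'.toHom = (yon S).map ι' ≫ φ := FieldPt.toHom_ofPt φ u'
  have hrep : Representable q.toHom := representable_from_yon' hX q.toHom
  let G := hrep.pullback q.toHom
  let g₁ : G ⟶ q.pt := hrep.fst' q.toHom
  let g₂ : G ⟶ q.pt := hrep.snd q.toHom
  have sqG : IsPullback ((yon S).map g₁) ((yon S).map g₂) q.toHom q.toHom := hrep.isPullback' q.toHom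
  let G' := hrep.pullback q'.toHom
  let g₁' : G' ⟶ q.pt := hrep.fst' q'.toHom
  let g₂' : G' ⟶ q'.pt := hrep.snd q'.toHom
  have sqG' : IsPullback ((yon S).map g₁') ((yon S).map g₂') q.toHom q'.toHom := hrep.isPullback' q'.toHom
  obtain ⟨j, hj⟩ := (yon S).map_surjective (sqR.lift ((yon S).map (g₂' ≫ ι')) ((yon S).map (g₁' ≫ ι)) (by
    rw [Functor.map_comp, Functor.map_comp, Category.assoc, Category.assoc, ← hq, ← hq', sqG'.w]))
  have hjt : j ≫ t = g₂' ≫ ι' := (yon S).map_injective (by rw [Functor.map_comp, hj, sqR.lift_fst])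
  have hjs : j ≫ s = g₁' ≫ ι := (yon S).map_injective (by rw [Functor.map_comp, hj, sqR.lift_snd])
  have : Mono j := ⟨fun {Z} h h' e => by
    apply (yon S).map_injective
    apply sqG'.hom_ext
    · rw [← Functor.map_comp, ← Functor.map_comp]
      refine congrArg _ ((cancel_mono ι).1 ?_)
      rw [Category.assoc, Category.assoc, ← hjs, ← Category.assoc, e, Category.assoc]
    · rw [← Functor.map_comp, ← Functor.map_comp]
      refine congrArg _ ((cancel_mono ι').1 ?_)
      rw [Category.assoc, Category.assoc, ← hjt, ← Category.assoc, e, Category.assoc]⟩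
  have : Mono j.left := inferInstanceAs (Mono ((Over.forget S).map j))
  have : Finite ↥G'.left := by
    have h1 : Finite ↑{r : ↥R.left | s.left r = u ∧ t.left r = u'} := hfin.to_subtype
    refine Finite.of_injective (fun z => (⟨j.left z, ?_, ?_⟩ : {r : ↥R.left | s.left r = u ∧ t.left r = u'}))
      fun z z' h => j.left.injective (congrArg Subtype.val h)
    · rw [← Scheme.Hom.comp_apply, ← Over.comp_left, hjs]
      exact Scheme.fromSpecResidueField_apply u _
    · rw [← Scheme.Hom.comp_apply, ← Over.comp_left, hjt]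
      exact Scheme.fromSpecResidueField_apply u' _
  have : Etale g₂'.left := etale_of_residue_pullback hφ u q' sqG'
  have : IsFinite g₂'.left := isFinite_of_etale_field (K := q'.K) g₂'.left
  have : Etale g₂.left := etale_of_residue_pullback hφ u q sqG
  -- a common field
  obtain ⟨z, -, -⟩ := exists_ofPt_of_eq sqG' (u := IsLocalRing.closedPoint q.K)
    (v := IsLocalRing.closedPoint q'.K) (by
      rw [Points.ofPt_toHom, Points.ofPt_toHom]; exact he)
  let L : Over S := Over.mk (G'.left.fromSpecResidueField z ≫ G'.hom)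
  let l : L ⟶ G' := Over.homMk (G'.left.fromSpecResidueField z) rfl
  let a : L ⟶ q.pt := l ≫ g₁'
  let b : L ⟶ q'.pt := l ≫ g₂'
  have hab : (yon S).map a ≫ q.toHom = (yon S).map b ≫ q'.toHom := by
    simp only [a, b, Functor.map_comp, Category.assoc, sqG'.w]
  let E := hrep.pullback ((yon S).map a ≫ q.toHom)
  let E₁ : E ⟶ q.pt := hrep.fst' ((yon S).map a ≫ q.toHom)
  let E₂ : E ⟶ L := hrep.snd ((yon S).map a ≫ q.toHom)
  have sqE : IsPullback ((yon S).map E₁) ((yon S).map E₂) q.toHom ((yon S).map a ≫ q.toHom) :=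
    hrep.isPullback' _
  obtain ⟨k, hk⟩ := (yon S).map_surjective (sqG.lift ((yon S).map E₁) ((yon S).map (E₂ ≫ a)) (by
    rw [Functor.map_comp, Category.assoc]; exact sqE.w))
  obtain ⟨k', hk'⟩ := (yon S).map_surjective (sqG'.lift ((yon S).map E₁) ((yon S).map (E₂ ≫ b)) (by
    rw [Functor.map_comp, Category.assoc, ← hab]; exact sqE.w))
  have sqk : IsPullback ((yon S).map k) ((yon S).map E₂) ((yon S).map g₂) ((yon S).map a) := by
    refine IsPullback.of_right (?_ : IsPullback ((yon S).map k ≫ (yon S).map g₁) ((yon S).map E₂) q.toHom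
      ((yon S).map a ≫ q.toHom)) (by rw [hk, sqG.lift_snd, Functor.map_comp]) sqG
    rw [hk, sqG.lift_fst]; exact sqE
  have sqk' : IsPullback ((yon S).map k') ((yon S).map E₂) ((yon S).map g₂') ((yon S).map b) := by
    refine IsPullback.of_right (?_ : IsPullback ((yon S).map k' ≫ (yon S).map g₁') ((yon S).map E₂) q.toHom
      ((yon S).map b ≫ q'.toHom)) (by rw [hk', sqG'.lift_snd, Functor.map_comp]) sqG'
    rw [hk', sqG'.lift_fst, ← hab]; exact sqE
  have : IsFinite E₂.left := MorphismProperty.of_isPullback (P := @IsFinite) (isPullback_of_yon sqk') ‹_›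
  have : Finite ↥E.left := finite_of_isFinite_field (K := G'.left.residueField z) E₂.left
  have : Nonempty ↥L.left := inferInstanceAs (Nonempty (PrimeSpectrum (G'.left.residueField z)))
  have hsa : Surjective a.left := surjective_of_subsingleton _
  have : Surjective k.left := MorphismProperty.of_isPullback (P := @Surjective) (isPullback_of_yon sqk).flip hsa
  have : Finite ↥G.left := Finite.of_surjective _ k.left.surjective
  exact exists_mono_of_finite hX q sqG (isFinite_of_etale_field (K := q.K) g₂.left)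

/-- A monomorphism into a discrete reduced scheme is an open immersion. -/
theorem isOpenImmersion_of_mono_discrete {A B : Scheme.{u}} (f : A ⟶ B) [Mono f] [DiscreteTopology B]
    [IsReduced B] : IsOpenImmersion f := by
  have key : ∀ x : A, IsOpen ({x} : Set A) ∧ IsIso (f.stalkMap x) := by
    intro x
    let ι := B.fromSpecResidueField (f x)
    have := isOpenImmersion_of_discrete ι
    let σ := pullback.fst f ι
    let τ := pullback.snd f ι
    have hne : Nonempty ↥(pullback f ι) := by
      obtain ⟨w, -, -⟩ := Scheme.Pullback.exists_preimage_pullback x (IsLocalRing.closedPoint (B.residueField (f x)))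
        (Scheme.fromSpecResidueField_apply (f x) _).symm
      exact ⟨w⟩
    have : IsIso τ := isIso_of_mono_to_field (K := B.residueField (f x)) τ
    obtain ⟨w⟩ := hne
    have hr : Set.range σ = {x} := by
      rw [Scheme.Pullback.range_fst, Scheme.range_fromSpecResidueField, ← Set.image_singleton,
        f.injective.preimage_image]
    have hw : σ w = x := by simpa [hr] using Set.mem_range_self (f := σ) w
    refine ⟨hr ▸ σ.isOpenEmbedding.isOpen_range, ?_⟩
    have hcomp : IsOpenImmersion (σ ≫ f) := by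
      rw [show σ ≫ f = τ ≫ ι from pullback.condition]; infer_instance
    have h1 : IsIso ((σ ≫ f).stalkMap w) := inferInstance
    rw [Scheme.Hom.stalkMap_comp] at h1
    have h2 : IsIso (σ.stalkMap w) := inferInstance
    have h3 := IsIso.of_isIso_comp_right (f.stalkMap (σ w)) (σ.stalkMap w)
    exact hw ▸ h3
  refine IsOpenImmersion.iff_isIso_stalkMap.2 ⟨?_, fun x => (key x).2⟩
  have : DiscreteTopology A := discreteTopology_iff_isOpen_singleton.2 fun x => (key x).1
  exact Topology.IsOpenEmbedding.of_continuous_injective_isOpenMap f.continuous f.injective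
    fun s _ => isOpen_discrete _

theorem exists_mono_of_qc_etale {Y : Sp S} (hX : IsAlgSpace X) (hY : IsAlgSpace Y) (f : X ⟶ Y)
    (hq : IsQuasiCompactMor f) (he : IsEtaleMor f) (p : FieldPt X) [Mono p.toHom] :
    ∃ q : FieldPt Y, Points.mk q = Points.map f (Points.mk p) ∧ Mono q.toHom := by
  let q : FieldPt Y := p.map f
  have hqf : q.toHom = p.toHom ≫ f := FieldPt.toHom_map f p
  suffices ∃ (G : Over S) (g₁ g₂ : G ⟶ q.pt),
      IsPullback ((yon S).map g₁) ((yon S).map g₂) q.toHom q.toHom ∧ IsFinite g₂.left by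
    obtain ⟨G, g₁, g₂, sq, h⟩ := this
    obtain ⟨p', hp', hm⟩ := exists_mono_of_finite hY q sq h
    exact ⟨p', hp'.trans (Points.map_mk f p).symm, hm⟩
  have hyq : IsAlgSpace ((yon S).obj q.pt) := IsAlgSpace.yon_obj _
  have sqP := IsPullback.of_hasPullback f q.toHom
  have hP := isAlgSpace_pullback hX hyq hY f q.toHom
  obtain ⟨T, ⟨e⟩⟩ := exists_discrete_decomposition hP (pullback.snd f q.toHom)
    (isEtaleMor_of_isPullback sqP hX hY hyq he)
  obtain ⟨c, hc⟩ := (yon S).map_surjective (e.hom ≫ pullback.snd f q.toHom)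
  have sqT : IsPullback (e.hom ≫ pullback.fst f q.toHom) ((yon S).map c) f q.toHom := by
    refine IsPullback.of_iso sqP e.symm (Iso.refl _) (Iso.refl _) (Iso.refl _) ?_ ?_ ?_ ?_ <;>
      simp [hc]
  have : CompactSpace ↥T.left := (isQuasiCompactSp_yon_iff T).1
    (hq hyq ((isQuasiCompactSp_yon_iff q.pt).2 (inferInstanceAs (CompactSpace (PrimeSpectrum q.K)))) _ _ _ sqT)
  have : Etale c.left := (isEtaleMor_yon_map_iff c).1
    (isEtaleMor_of_isPullback sqT hX hY hyq he)
  have : Finite ↥T.left := finite_of_compact_etale_field (K := q.K) c.left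
  have : DiscreteTopology ↥T.left := discreteTopology_of_etale_field (K := q.K) c.left
  have : IsReduced q.pt.left := inferInstanceAs (IsReduced (Spec (CommRingCat.of q.K)))
  have : IsReduced T.left := isReduced_of_etaleMor c.left
  have hrep : Representable q.toHom := representable_from_yon' hY q.toHom
  let G := hrep.pullback q.toHom
  let g₁ : G ⟶ q.pt := hrep.fst' q.toHom
  let g₂ : G ⟶ q.pt := hrep.snd q.toHom
  have sqG : IsPullback ((yon S).map g₁) ((yon S).map g₂) q.toHom q.toHom := hrep.isPullback' q.toHom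
  let g₁' : G ⟶ p.pt := g₁
  obtain ⟨k, hk⟩ := (yon S).map_surjective (sqT.lift ((yon S).map g₁' ≫ p.toHom) ((yon S).map g₂) (by
    have := sqG.w
    rw [Category.assoc, ← hqf]
    exact this))
  have hk₂ : k ≫ c = g₂ := (yon S).map_injective (by rw [Functor.map_comp, hk, sqT.lift_snd])
  have : Mono k := ⟨fun {Z} h h' e' => by
    apply (yon S).map_injective
    apply sqG.hom_ext
    · refine (cancel_mono p.toHom).1 ?_
      have h1 := congrArg (fun m => (yon S).map m ≫ e.hom ≫ pullback.fst f q.toHom) e'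
      simp only [Functor.map_comp, Category.assoc, hk, sqT.lift_fst] at h1
      simp only [Category.assoc]
      exact h1
    · rw [← Functor.map_comp, ← Functor.map_comp, ← hk₂, ← Category.assoc, e', Category.assoc]⟩
  have : Mono k.left := inferInstanceAs (Mono ((Over.forget S).map k))
  have := isOpenImmersion_of_mono_discrete k.left
  have : Etale g₂.left := by
    rw [← hk₂]
    exact inferInstanceAs (Etale (k.left ≫ c.left))
  have : Finite ↥G.left := Finite.of_injective _ k.left.injective
  exact ⟨G, g₁, g₂, sqG, isFinite_of_etale_field (K := q.K) g₂.left⟩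

end Groth.Agent.AlgSpDec
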