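import Groth.Agent.AlgSpDec.FiniteQuot
import Groth.Agent.AlgSpDec.LqfScheme
import Groth.Agent.AlgSpDec.MonoPoint
import Groth.Agent.AlgSpDec.MonoCriterion
import Groth.Agent.AlgSpDec.MonoRep
import Groth.Agent.AlgSpDec.OnePoint

/-!
# Spaces with a monomorphism to a discrete scheme
-/

set_option autoImplicit false
set_option linter.style.haveILetI false
set_option backward.isDefEq.respectTransparency false
set_option backward.isDefEq.respectTransparency.types false

universe u

open CategoryTheory CategoryTheory.Limits AlgebraicGeometry AlgSp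

namespace Groth.Agent.AlgSpDec

open Groth.Agent.AlgSpLib

variable {S : Scheme.{u}}

theorem isFinite_of_etale_onePoint {R U : Scheme.{u}} (s : R ⟶ U) [Etale s] [IsAffineHom s]
    [Subsingleton ↥U] (u : ↥U) : IsFinite s := by
  let ι := U.fromSpecResidueField u
  have : IsClosedImmersion ι := isClosedImmersion_fromSpecResidueField (by
    rw [show ({u} : Set ↥U) = Set.univ from Set.eq_univ_of_forall fun x => Subsingleton.elim x u]
    exact isClosed_univ)
  have : Surjective ι := ⟨fun x => ⟨IsLocalRing.closedPoint _, Subsingleton.elim _ x⟩⟩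
  have : IsAffineHom (pullback.snd s ι) := inferInstance
  have : CompactSpace ↥(pullback s ι) := by
    have : IsAffine (pullback s ι) := isAffine_of_isAffineHom (pullback.snd s ι)
    infer_instance
  have := finite_of_compact_etale_field (pullback.snd s ι)
  have := isFinite_of_etale_field (pullback.snd s ι)
  have : UniversallyClosed (pullback.fst s ι ≫ s) := by
    rw [pullback.condition]
    infer_instance
  have : UniversallyClosed s := UniversallyClosed.of_comp_surjective (pullback.fst s ι) s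
  rw [IsFinite.iff_isIntegralHom_and_locallyOfFiniteType, IsIntegralHom.iff_universallyClosed_and_isAffineHom]
  exact ⟨⟨inferInstance, inferInstance⟩, inferInstance⟩

theorem isLocalRing_of_subsingleton {U : Scheme.{u}} [IsAffine U] [Subsingleton ↥U] (u : ↥U) :
    IsLocalRing Γ(U, ⊤) := by
  let e := U.isoSpec.hom.homeomorph
  have : Subsingleton (PrimeSpectrum Γ(U, ⊤)) := e.toEquiv.symm.subsingleton
  let p : PrimeSpectrum Γ(U, ⊤) := e u
  obtain ⟨m, hm, -⟩ := Ideal.exists_le_maximal _ p.2.ne_top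
  refine IsLocalRing.of_unique_max_ideal ⟨m, hm, fun J hJ => ?_⟩
  exact congrArg PrimeSpectrum.asIdeal (Subsingleton.elim (⟨J, hJ.isPrime⟩ : PrimeSpectrum Γ(U, ⊤)) ⟨m, hm.isPrime⟩)

theorem exists_rep_of_mono_onePoint {P : Sp S} (hP : IsAlgSpace P) {T : Over S} [IsAffine T.left]
    [Subsingleton ↥T.left] (g : P ⟶ (yon S).obj T) [Mono g] (z : Points P) :
    ∃ Z : Over S, IsAffine Z.left ∧ Nonempty ((yon S).obj Z ≅ P) := by
  obtain ⟨W, c, w, hW, hc, -⟩ := exists_affine_chart_at hP z
  obtain ⟨h, hh⟩ := (yon S).map_surjective (c ≫ g)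
  let t := h.left w
  let κ : Over S := Over.mk (T.left.fromSpecResidueField t ≫ T.hom)
  let ι : κ ⟶ T := Over.homMk (T.left.fromSpecResidueField t) rfl
  have hκ : IsClosedImmersion ι.left := isClosedImmersion_fromSpecResidueField (by
    rw [show ({t} : Set ↥T.left) = Set.univ from Set.eq_univ_of_forall fun x => Subsingleton.elim x t]
    exact isClosed_univ)
  have sqP := IsPullback.of_hasPullback g ((yon S).map ι)
  have hPk := isAlgSpace_pullback hP (IsAlgSpace.yon_obj κ) (IsAlgSpace.yon_obj T) g ((yon S).map ι)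
  have hpts : ∀ z' : Points P, ∃ z₀, Points.map (pullback.fst g ((yon S).map ι)) z₀ = z' := fun z' => by
    obtain ⟨z₀, h₀, -⟩ := exists_point_of_isPullback sqP (x := z')
      (y := Points.ofScheme κ (IsLocalRing.closedPoint (T.left.residueField t))) (by
      obtain ⟨t', ht'⟩ := (Points.schemeHomeo T).surjective (Points.map g z')
      refine ht'.symm.trans (Eq.trans ?_ (Points.map_yon_map_apply ι _).symm)
      exact congrArg (Points.ofScheme T) (Subsingleton.elim _ _))
    exact ⟨z₀, h₀⟩
  obtain ⟨z₀, -⟩ := hpts z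
  have : IsIso (pullback.snd g ((yon S).map ι)) :=
    isIso_of_mono_field hPk (K := T.left.residueField t) (str := T.left.fromSpecResidueField t ≫ T.hom) _ z₀
  have hsub : Subsingleton (Points P) := ⟨fun z₁ z₂ => by
    obtain ⟨a₁, rfl⟩ := hpts z₁
    obtain ⟨a₂, rfl⟩ := hpts z₂
    congr 1
    refine (Function.LeftInverse.injective (g := Points.map (inv (pullback.snd g ((yon S).map ι))))
      (fun a => by rw [← Points.map_comp, IsIso.hom_inv_id, Points.map_id])) ?_
    obtain ⟨b₁, hb₁⟩ := (Points.schemeHomeo κ).surjective (Points.map (pullback.snd g ((yon S).map ι)) a₁)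
    obtain ⟨b₂, hb₂⟩ := (Points.schemeHomeo κ).surjective (Points.map (pullback.snd g ((yon S).map ι)) a₂)
    rw [← hb₁, ← hb₂]
    exact congrArg _ (Subsingleton.elim (α := PrimeSpectrum (T.left.residueField t)) b₁ b₂)⟩
  -- the chart is discrete
  have hsep : IsAffine T.left := inferInstance
  let Wk : Over S := pullback h ι
  have sW : IsPullback ((yon S).map (pullback.fst h ι)) ((yon S).map (pullback.snd h ι)) (c ≫ g) ((yon S).map ι) := by
    rw [← hh]
    exact (IsPullback.of_hasPullback h ι).map (yon S)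
  let l : (yon S).obj Wk ⟶ pullback g ((yon S).map ι) :=
    pullback.lift ((yon S).map (pullback.fst h ι) ≫ c) ((yon S).map (pullback.snd h ι)) (by
      rw [Category.assoc, sW.w])
  have sl : IsPullback ((yon S).map (pullback.fst h ι)) l c (pullback.fst g ((yon S).map ι)) := by
    refine IsPullback.of_bot ?_ (pullback.lift_fst _ _ _).symm sqP
    rw [pullback.lift_snd]
    exact sW
  have hle : RepWith @Etale l := repWith_of_isPullback sl hc
  have : Etale (pullback.snd h ι).left := (repWith_yon_map_iff _ _).1 (by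
    have := repWith_comp hle (repWith_of_isIso @Etale (pullback.snd g ((yon S).map ι)))
    rwa [pullback.lift_snd] at this)
  have : DiscreteTopology ↥Wk.left :=
    discreteTopology_of_etale_field (K := T.left.residueField t) (pullback.snd h ι).left
  have sF : IsPullback (pullback.fst h ι).left (pullback.snd h ι).left h.left ι.left :=
    (IsPullback.of_hasPullback h ι).map (Over.forget S)
  have : IsClosedImmersion (pullback.fst h ι).left := MorphismProperty.of_isPullback sF.flip hκ
  have : Surjective (pullback.fst h ι).left := MorphismProperty.of_isPullback (P := @Surjective) sF.flip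
    ⟨fun x => ⟨IsLocalRing.closedPoint (T.left.residueField t), Subsingleton.elim _ x⟩⟩
  have hopen : IsOpen ({w} : Set ↥W.left) := by
    have hemb := (pullback.fst h ι).left.isClosedEmbedding
    have he : Topology.IsOpenEmbedding (pullback.fst h ι).left :=
      ⟨hemb.isEmbedding, by rw [(pullback.fst h ι).left.surjective.range_eq]; exact isOpen_univ⟩
    rw [← Set.image_preimage_eq ({w} : Set ↥W.left) (pullback.fst h ι).left.surjective]
    exact he.isOpenMap _ (isOpen_discrete _)
  obtain ⟨A, hA, hwA, hAw⟩ := exists_isAffineOpen_mem_and_subset (U := (⟨{w}, hopen⟩ : W.left.Opens)) (x := w)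
    (Set.mem_singleton w)
  let W₀ : Over S := Over.mk (A.ι ≫ W.hom)
  let j₀ : W₀ ⟶ W := Over.homMk A.ι rfl
  let c₀ : (yon S).obj W₀ ⟶ P := (yon S).map j₀ ≫ c
  have hc₀ : RepWith @Etale c₀ :=
    repWith_comp ((repWith_yon_map_iff _ _).2 (inferInstanceAs (Etale A.ι))) hc
  haveI : IsAffine W₀.left := hA
  haveI : Subsingleton ↥W₀.left := ⟨fun a b => Subtype.ext ((hAw a.2).trans (hAw b.2).symm)⟩
  haveI := isLocalRing_of_subsingleton (U := W₀.left) ⟨w, hwA⟩
  have hc₀s : RepWith @Surjective c₀ := repWith_surjective_of_surjective hc₀.1 fun y =>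
    ⟨Points.ofScheme W₀ ⟨w, hwA⟩, Subsingleton.elim _ _⟩
  let R := hc₀.rep.pullback c₀
  let r₁ : R ⟶ W₀ := hc₀.rep.fst' c₀
  let r₂ : R ⟶ W₀ := hc₀.rep.snd c₀
  have sq : IsPullback ((yon S).map r₁) ((yon S).map r₂) c₀ c₀ := hc₀.rep.isPullback' c₀
  have sq' : IsPullback ((yon S).map r₁) ((yon S).map r₂) ((yon S).map (j₀ ≫ h)) ((yon S).map (j₀ ≫ h)) := by
    rw [Functor.map_comp _ j₀ h, hh, ← Category.assoc ((yon S).map j₀)]
    exact IsPullback.of_isLimit' ⟨by rw [reassoc_of% sq.w]⟩ (PullbackCone.isLimitOfCompMono c₀ c₀ g _ sq.isLimit)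
  have hsq : IsPullback r₁.left r₂.left (j₀ ≫ h).left (j₀ ≫ h).left := isPullback_of_yon sq'
  haveI : IsAffineHom (j₀ ≫ h).left := isAffineHom_of_isAffine _
  haveI : IsAffineHom r₂.left := MorphismProperty.of_isPullback hsq ‹IsAffineHom (j₀ ≫ h).left›
  haveI : Etale r₂.left := hc₀.property _ _ _ sq
  haveI : IsFinite r₂.left := isFinite_of_etale_onePoint r₂.left ⟨w, hwA⟩
  exact exists_iso_of_finite_relation hP hc₀ hc₀s sq

/-- An algebraic space with a monomorphism to a discrete scheme is a scheme. -/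
theorem exists_rep_of_mono_discrete {X : Sp S} (hX : IsAlgSpace X) {Y : Over S} [DiscreteTopology ↥Y.left]
    (f : X ⟶ (yon S).obj Y) [Mono f] : ∃ Q : Over S, Nonempty ((yon S).obj Q ≅ X) := by
  refine exists_rep_of_points hX fun x => ?_
  obtain ⟨y, hy⟩ := (Points.schemeHomeo Y).surjective (Points.map f x)
  obtain ⟨A, hA, hyA, hAy⟩ := exists_isAffineOpen_mem_and_subset
    (U := (⟨{y}, isOpen_discrete _⟩ : Y.left.Opens)) (x := y) (Set.mem_singleton y)
  let T : Over S := Over.mk (A.ι ≫ Y.hom)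
  let ιT : T ⟶ Y := Over.homMk A.ι rfl
  haveI : IsAffine T.left := hA
  haveI : Subsingleton ↥T.left := ⟨fun a b => Subtype.ext ((hAy a.2).trans (hAy b.2).symm)⟩
  have hι : RepWith @IsOpenImmersion ((yon S).map ιT) :=
    (repWith_yon_map_iff _ _).2 (inferInstanceAs (IsOpenImmersion A.ι))
  have sq := IsPullback.of_hasPullback f ((yon S).map ιT)
  let t₀ : ↥T.left := ⟨y, hyA⟩
  have ht₀ : ιT.left t₀ = y := rfl
  obtain ⟨z, hz, -⟩ := exists_point_of_isPullback sq (x := x) (y := Points.ofScheme T t₀) (by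
    refine hy.symm.trans (Eq.trans ?_ (Points.map_yon_map_apply ιT t₀).symm)
    exact congrArg (Points.ofScheme Y) ht₀.symm)
  obtain ⟨Z, -, ⟨e⟩⟩ := exists_rep_of_mono_onePoint
    (isAlgSpace_pullback hX (IsAlgSpace.yon_obj T) (IsAlgSpace.yon_obj Y) f ((yon S).map ιT))
    (pullback.snd f ((yon S).map ιT)) z
  obtain ⟨q, hq⟩ := (Points.schemeHomeo Z).surjective (Points.map e.inv z)
  refine ⟨Z, e.hom ≫ pullback.fst f ((yon S).map ιT), q,
    repWith_comp (repWith_of_isIso @IsOpenImmersion e.hom) (repWith_of_isPullback sq.flip hι), ?_⟩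
  rw [Points.ofPt_eq_map_ofScheme, Points.map_comp]
  change Points.map _ (Points.map _ ((Points.schemeHomeo Z) q)) = _
  rw [hq, ← Points.map_comp _ _ z, Iso.inv_hom_id, Points.map_id, hz]

end Groth.Agent.AlgSpDec

namespace Groth.Agent.AlgSpDec

open scoped TensorProduct in
theorem surjective_of_isEpi_artinian (A B : Type u) [CommRing A] [CommRing B] [Algebra A B] [IsArtinianRing A]
    [IsLocalRing A] [Algebra.IsEpi A B] : Function.Surjective (algebraMap A B) := by
  let m := IsLocalRing.maximalIdeal A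
  letI : Field (A ⧸ m) := Ideal.Quotient.field m
  let J := m.map (algebraMap A B)
  letI : Algebra (A ⧸ m) (B ⧸ J) := Ideal.Quotient.algebraQuotientOfLEComap Ideal.le_comap_map
  haveI : IsScalarTower A (A ⧸ m) (B ⧸ J) := IsScalarTower.of_algebraMap_eq fun _ => rfl
  have hq : Function.Surjective (algebraMap A (B ⧸ J)) := by
    rcases subsingleton_or_nontrivial (B ⧸ J) with h | h
    · exact fun b => ⟨0, Subsingleton.elim _ _⟩
    haveI : Algebra.IsEpi (A ⧸ m) (B ⧸ J) := (Algebra.isEpi_iff_forall_one_tmul_eq _ _).2 fun b => by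
      obtain ⟨b, rfl⟩ := Ideal.Quotient.mk_surjective b
      let p : B →ₐ[A] B ⧸ J := Ideal.Quotient.mkₐ A J
      let f : B ⊗[A] B →ₗ[A] (B ⧸ J) ⊗[A ⧸ m] (B ⧸ J) := TensorProduct.lift
        (((TensorProduct.mk (A ⧸ m) (B ⧸ J) (B ⧸ J)).restrictScalars₁₂ A A).compl₁₂ p.toLinearMap p.toLinearMap)
      have := congrArg f ((Algebra.isEpi_iff_forall_one_tmul_eq A B).1 inferInstance b)
      simpa [f, p] using this
    intro b
    obtain ⟨a, ha⟩ := Groth.Agent.AlgSpPts.surjective_algebraMap_of_isEpi (A ⧸ m) (B ⧸ J) b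
    obtain ⟨a, rfl⟩ := Ideal.Quotient.mk_surjective a
    exact ⟨a, ha⟩
  intro b
  suffices h : ∀ n, ∀ b : B, ∃ a, b - algebraMap A B a ∈ (m ^ n).map (algebraMap A B) by
    obtain ⟨n, hn⟩ : IsNilpotent m := by
      show IsNilpotent (IsLocalRing.maximalIdeal A)
      rw [← IsLocalRing.jacobson_eq_maximalIdeal ⊥ bot_ne_top]
      exact IsArtinianRing.isNilpotent_jacobson_bot
    obtain ⟨a, ha⟩ := h n b
    refine ⟨a, ?_⟩
    rw [hn, Ideal.zero_eq_bot, Ideal.map_bot, Ideal.mem_bot, sub_eq_zero] at ha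
    exact ha.symm
  intro n
  induction n with
  | zero => exact fun b => ⟨0, by simp [Ideal.map_top]⟩
  | succ n ih =>
    intro b
    obtain ⟨a, ha⟩ := ih b
    have : ∀ y ∈ (m ^ n).map (algebraMap A B), ∃ c ∈ m ^ n, y - algebraMap A B c ∈ (m ^ (n + 1)).map (algebraMap A B) := by
      intro y hy
      refine Submodule.span_induction ?_ ⟨0, zero_mem _, by simp⟩ ?_ ?_ hy
      · rintro _ ⟨c, hc, rfl⟩
        exact ⟨c, hc, by simp⟩
      · rintro y z - - ⟨c, hc, h1⟩ ⟨d, hd, h2⟩
        exact ⟨c + d, add_mem hc hd, by rw [map_add, add_sub_add_comm]; exact add_mem h1 h2⟩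
      · rintro s y - ⟨c, hc, h1⟩
        obtain ⟨t, ht⟩ := hq (Ideal.Quotient.mk J s)
        have hst : s - algebraMap A B t ∈ J := (Ideal.Quotient.eq).1 ht.symm
        refine ⟨t * c, Ideal.mul_mem_left _ _ hc, ?_⟩
        have e : s • y - algebraMap A B (t * c) =
            s * (y - algebraMap A B c) + (s - algebraMap A B t) * algebraMap A B c := by
          rw [smul_eq_mul, map_mul]; ring
        rw [e]
        refine add_mem (Ideal.mul_mem_left _ _ h1) ?_
        rw [pow_succ', Ideal.map_mul]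
        exact Ideal.mul_mem_mul hst (Ideal.mem_map_of_mem _ hc)
    obtain ⟨c, -, hc⟩ := this _ ha
    exact ⟨a + c, by rw [map_add, ← sub_sub]; exact hc⟩

theorem isClosedImmersion_of_mono_artinian {Q V : Scheme.{u}} (r : Q ⟶ V) [Mono r] [IsAffine Q] [IsAffine V]
    [IsLocallyArtinian V] [Subsingleton ↥V] : IsClosedImmersion r := by
  rcases isEmpty_or_nonempty ↥V with hV | ⟨⟨v⟩⟩
  · have := Function.isEmpty r
    infer_instance
  haveI : IsLocalRing Γ(V, ⊤) := isLocalRing_of_subsingleton v
  haveI : IsArtinianRing Γ(V, ⊤) := inferInstance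
  have e : Spec.map r.appTop = Q.isoSpec.inv ≫ r ≫ V.isoSpec.hom := by
    rw [Scheme.isoSpec_hom, Scheme.toSpecΓ_naturality, ← Scheme.isoSpec_hom, Iso.inv_hom_id_assoc]
  haveI : Mono (Spec.map r.appTop) := by rw [e]; infer_instance
  haveI : Epi r.appTop := ⟨fun g h w => Spec.map_injective
    ((cancel_mono (Spec.map r.appTop)).1 (by rw [← Spec.map_comp, ← Spec.map_comp, w]))⟩
  letI := r.appTop.hom.toAlgebra
  haveI : Algebra.IsEpi Γ(V, ⊤) Γ(Q, ⊤) := CommRingCat.epi_iff_epi.1 ‹Epi r.appTop›
  have := IsClosedImmersion.spec_of_surjective r.appTop (surjective_of_isEpi_artinian Γ(V, ⊤) Γ(Q, ⊤))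
  rw [e] at this
  exact (MorphismProperty.cancel_right_of_respectsIso @IsClosedImmersion _ _).1
    ((MorphismProperty.cancel_left_of_respectsIso @IsClosedImmersion _ _).1 this)

theorem lqf_lft_of_mono_artinian {Q V : Scheme.{u}} (r : Q ⟶ V) [Mono r] [IsLocallyArtinian V] :
    LocallyQuasiFinite r ∧ LocallyOfFiniteType r := by
  haveI : DiscreteTopology ↥Q := DiscreteTopology.of_continuous_injective r.continuous r.injective
  have key : ∀ q : Q, ∃ (A : Q.Opens), q ∈ A ∧ IsImmersion (A.ι ≫ r) := by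
    intro q
    obtain ⟨A, hA, hqA, hAq⟩ := exists_isAffineOpen_mem_and_subset
      (U := (⟨{q}, isOpen_discrete _⟩ : Q.Opens)) (x := q) (Set.mem_singleton q)
    obtain ⟨B, hB, hqB, hBq⟩ := exists_isAffineOpen_mem_and_subset
      (U := (⟨{r q}, isOpen_discrete _⟩ : V.Opens)) (x := r q) (Set.mem_singleton _)
    haveI : IsAffine (A : Scheme.{u}) := hA
    haveI : IsAffine (B : Scheme.{u}) := hB
    haveI : Subsingleton ↥(B : Scheme.{u}) := ⟨fun a b => Subtype.ext ((hBq a.2).trans (hBq b.2).symm)⟩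
    have hAB : A ≤ r ⁻¹ᵁ B := fun a ha => by
      have : a = q := hAq ha
      subst this
      exact hqB
    haveI : Mono (r.resLE B A hAB) := by
      haveI : Mono (r.resLE B A hAB ≫ B.ι) := by rw [Scheme.Hom.resLE_comp_ι]; infer_instance
      exact mono_of_mono _ B.ι
    haveI := isClosedImmersion_of_mono_artinian (r.resLE B A hAB)
    exact ⟨A, hqA, by rw [← Scheme.Hom.resLE_comp_ι r hAB]; infer_instance⟩
  choose A hqA hAr using key
  have hA : TopologicalSpace.IsOpenCover A :=
    TopologicalSpace.IsOpenCover.mk (top_le_iff.1 fun q _ => TopologicalSpace.Opens.mem_iSup.2 ⟨q, hqA q⟩)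
  constructor
  · refine (IsZariskiLocalAtSource.iff_of_openCover (P := @LocallyQuasiFinite)
      (Scheme.openCoverOfIsOpenCover Q A hA)).2 fun q => ?_
    haveI := hAr q
    exact (inferInstance : LocallyQuasiFinite ((A q).ι ≫ r))
  · refine (IsZariskiLocalAtSource.iff_of_openCover (P := @LocallyOfFiniteType)
      (Scheme.openCoverOfIsOpenCover Q A hA)).2 fun q => ?_
    haveI := hAr q
    exact (inferInstance : LocallyOfFiniteType ((A q).ι ≫ r))

end Groth.Agent.AlgSpDec
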