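import Groth.Agent.AlgSpDec.RatLift

/-!
# Elementary etale neighbourhoods in decent spaces
-/

set_option backward.isDefEq.respectTransparency false
set_option backward.isDefEq.respectTransparency.types false

universe u

open CategoryTheory Limits Opposite AlgebraicGeometry AlgSp Groth.Agent.AlgSpLib Groth.Agent.AlgSpPts

namespace Groth.Agent.AlgSpDec

variable {S : Scheme.{u}} {X : Sp S}

/-- A chart carrying a monomorphic point is an elementary neighbourhood. -/
theorem isElem_of_mono_lift (hX : IsAlgSpace X) (q : FieldPt X) [Mono q.toHom] {B : Over S}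
    {b : (yon S).obj B ⟶ X} (hb : RepWith @Etale b) (l : q.pt ⟶ B) (hl : (yon S).map l ≫ b = q.toHom) :
    IsElemEtaleNbhd b (l.left (IsLocalRing.closedPoint q.K)) (Points.mk q) := by
  let v := l.left (IsLocalRing.closedPoint q.K)
  have hv : Points.ofPt b v = Points.mk q := by rw [← ofPt_comp, hl, Points.ofPt_toHom]
  refine ⟨hb, hv, ?_⟩
  let r := FieldPt.ofPt b v
  obtain ⟨c, hc, -⟩ := existsUnique_factor q.toHom (representable_from_yon' hX _) r.toHom (by
    rw [← mk_eq_ofPt, ← mk_eq_ofPt]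
    exact hv.symm)
  have : IsReduced q.pt.left := inferInstanceAs (IsReduced (Spec (CommRingCat.of q.K)))
  obtain ⟨σ₀, hσ₀⟩ := exists_factor_residueField (T := q.pt.left) l.left v fun t => by
    rw [Subsingleton.elim t (IsLocalRing.closedPoint q.K)]
  let σ : q.pt ⟶ r.pt := CategoryTheory.Over.homMk σ₀ (by
    change σ₀ ≫ B.left.fromSpecResidueField v ≫ B.hom = _
    rw [reassoc_of% hσ₀, Over.w l])
  have hσ : σ ≫ (Over.homMk (B.left.fromSpecResidueField v) rfl : r.pt ⟶ B) = l := Over.OverMorphism.ext hσ₀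
  have hσr : (yon S).map σ ≫ r.toHom = q.toHom := by
    rw [FieldPt.toHom_ofPt, ← Category.assoc, ← Functor.map_comp, hσ, hl]
  have hσc : σ ≫ c = 𝟙 _ := by
    apply (yon S).map_injective
    refine (cancel_mono q.toHom).1 ?_
    rw [Functor.map_comp, Category.assoc, hc, hσr, CategoryTheory.Functor.map_id, Category.id_comp]
  have hσc' : σ.left ≫ c.left = 𝟙 _ := congrArg CommaMorphism.left hσc
  have : IsSplitMono σ.left := ⟨⟨⟨c.left, hσc'⟩⟩⟩
  have : IsIso σ.left := isIso_of_mono_to_field (K := r.K) σ.left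
  have : IsIso ((Over.forget S).map σ) := this
  have : IsIso σ := isIso_of_reflects_iso σ (Over.forget S)
  change Mono r.toHom
  rw [show r.toHom = inv ((yon S).map σ) ≫ q.toHom from (IsIso.eq_inv_comp _).2 hσr]
  exact mono_comp _ _

theorem exists_elem_affine (hX : IsAlgSpace X) (hd : IsDecent X) (x : Points X) :
    ∃ (U : Over S) (a : (yon S).obj U ⟶ X) (u : ↥U.left), IsAffine U.left ∧
      IsElemEtaleNbhd a u x ∧ Points.ofPt a ⁻¹' {x} = {u} := by
  obtain ⟨q, rfl, hqm, hq⟩ := hd x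
  obtain ⟨B, b, l, hB, hb, hl⟩ := RatLift.exists_affine_lift hX q
  have hel := isElem_of_mono_lift hX q hb l hl
  let v := l.left (IsLocalRing.closedPoint q.K)
  have hfinx : ∀ (V' : Over S) (b' : (yon S).obj V' ⟶ X), IsAffine V'.left → RepWith @Etale b' →
      (Points.ofPt b' ⁻¹' {Points.mk q}).Finite := fun V' b' _ hb' => finite_fibre_of_repWith hb' q hq
  obtain ⟨O, hO, hvO, hOF⟩ := isOpen_singleton_fibre (hfinx B b hB hb) (u := v) hel.ofPt_eq
    fun w hw hwv => (eq_of_specializes _ hfinx hb hel.ofPt_eq hw hwv).symm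
  obtain ⟨W, hW, hvW, hWO⟩ := exists_isAffineOpen_mem_and_subset (U := (⟨O, hO⟩ : B.left.Opens)) (x := v) hvO
  let U : Over S := Over.mk (W.ι ≫ B.hom)
  let j : U ⟶ B := Over.homMk W.ι rfl
  obtain ⟨l', hl'⟩ : ∃ l' : q.pt ⟶ U, l' ≫ j = l :=
    ⟨CategoryTheory.Over.homMk (IsOpenImmersion.lift W.ι l.left (Set.range_subset_iff.2 fun t =>
      ⟨⟨v, hvW⟩, congrArg l.left (Subsingleton.elim (IsLocalRing.closedPoint q.K) t)⟩)) (by
        change _ ≫ W.ι ≫ B.hom = _
        rw [IsOpenImmersion.lift_fac_assoc]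
        exact Over.w l), Over.OverMorphism.ext (IsOpenImmersion.lift_fac _ _ _)⟩
  have hel' := isElem_of_mono_lift hX q (B := U) (b := (yon S).map j ≫ b)
    (repWith_comp ((repWith_yon_map_iff _ j).2 (inferInstanceAs (Etale W.ι))) hb) l' (by
      rw [← Functor.map_comp_assoc, hl', hl])
  refine ⟨U, _, _, hW, hel', Set.eq_singleton_iff_unique_mem.2 ⟨hel'.ofPt_eq, fun w hw => ?_⟩⟩
  have h1 : W.ι w = v := hOF ⟨hWO w.2, by
    change Points.ofPt b (j.left w) = _
    rw [← ofPt_comp]; exact hw⟩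
  apply W.ι.injective
  rw [h1]
  change l.left _ = W.ι (l'.left _)
  rw [← hl']
  rfl

end Groth.Agent.AlgSpDec
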