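import Groth.Agent.AlgSpDec.ElemHenz
import Groth.Agent.AlgSpDec.ElemExists
import Groth.Agent.BrnchNbhd.Unibranch
import Groth.Agent.BrnchLib.NormBij
import Groth.Prelude.Def_CAlgX

/-!
# Branches along elementary etale neighbourhoods
-/

set_option backward.isDefEq.respectTransparency false
set_option backward.isDefEq.respectTransparency.types false

universe u

open CategoryTheory CategoryTheory.Limits Opposite AlgebraicGeometry IsLocalRing AlgSp Groth.Agent.AlgSpLib
  Groth.Agent.AlgSpPts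

namespace Groth.Agent.AlgSpDec.ElemBranches

/-- Minimal primes of a local ring are the components through the point. -/
theorem encard_minimalPrimes_stalk {X : Scheme.{u}} (x : X) :
    (minimalPrimes ↥(X.presheaf.stalk x)).encard = {Z : Set X | Z ∈ irreducibleComponents X ∧ x ∈ Z}.encard := by
  obtain ⟨V, hV, hx, -⟩ := exists_isAffineOpen_mem_and_subset (x := x) (U := (⊤ : X.Opens)) trivial
  rw [BrnchNbhd.encard_components_affine hV hx]
  letI : Algebra Γ(X, V) (X.presheaf.stalk x) := TopCat.Presheaf.algebra_section_stalk X.presheaf (⟨x, hx⟩ : V)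
  haveI : IsLocalization.AtPrime (X.presheaf.stalk x) (hV.primeIdealOf ⟨x, hx⟩).asIdeal :=
    hV.isLocalization_stalk ⟨x, hx⟩
  let p := (hV.primeIdealOf ⟨x, hx⟩).asIdeal
  let A := X.presheaf.stalk x
  have hmap : minimalPrimes A = Ideal.under Γ(X, V) ⁻¹' minimalPrimes Γ(X, V) := by
    rw [minimalPrimes, minimalPrimes, ← IsLocalization.minimalPrimes_map p.primeCompl A, Ideal.map_bot]
  have himg : Ideal.under Γ(X, V) '' minimalPrimes A = {q | q ∈ minimalPrimes Γ(X, V) ∧ q ≤ p} := by
    ext q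
    constructor
    · rintro ⟨r, hr, rfl⟩
      have h2 : Ideal.under Γ(X, V) r ∈ minimalPrimes Γ(X, V) := (hmap.subset hr :)
      refine ⟨h2, ?_⟩
      haveI := hr.1.1
      have := ((IsLocalization.isPrime_iff_isPrime_disjoint p.primeCompl A r).1 hr.1.1).2
      exact Set.disjoint_compl_left_iff_subset.1 this
    · rintro ⟨hq, hqp⟩
      have hd : Disjoint (p.primeCompl : Set Γ(X, V)) (q : Set Γ(X, V)) :=
        Set.disjoint_compl_left_iff_subset.2 hqp
      refine ⟨q.map (algebraMap Γ(X, V) A), hmap.superset ?_,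
        IsLocalization.under_map_of_isPrime_disjoint p.primeCompl A hq.1.1 hd⟩
      show Ideal.under Γ(X, V) _ ∈ minimalPrimes Γ(X, V)
      rw [IsLocalization.under_map_of_isPrime_disjoint p.primeCompl A hq.1.1 hd]
      exact hq
  rw [← himg]
  refine (Set.InjOn.encard_image fun a _ b _ h => ?_).symm
  rw [← IsLocalization.map_under p.primeCompl A a, ← IsLocalization.map_under p.primeCompl A b, h]

theorem components_le_numBranchesAt {X : Scheme.{u}} (x : X) :
    {Z : Set X | Z ∈ irreducibleComponents X ∧ x ∈ Z}.encard ≤ Brnch.numBranchesAt X x := by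
  rw [BrnchNbhd.numBranchesAt_eq]
  exact le_iSup_of_le X (le_iSup_of_le (𝟙 X) (le_iSup_of_le x
    (le_iSup_of_le (BrnchNbhd.isEtaleNbhd_id X x) le_rfl)))

theorem numBranchesAt_of_etale {X Y : Scheme.{u}} (g : X ⟶ Y) [Etale g] (x : X)
    (hres : Function.Bijective (g.residueFieldMap x)) :
    Brnch.numBranchesAt Y (g x) = Brnch.numBranchesAt X x := by
  let A := X.presheaf.stalk x
  let R := Groth.Agent.Hensel.LocalHenz A
  letI : Algebra (Y.presheaf.stalk (g x)) R := ((algebraMap A R).comp (g.stalkMap x).hom).toAlgebra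
  haveI : IsLocalHom (algebraMap (Y.presheaf.stalk (g x)) R) :=
    RingHom.isLocalHom_comp (algebraMap A R) (g.stalkMap x).hom
  haveI := ElemHenz.isHenselization_stalk g x hres R rfl
  exact (BrnchLib.card_minimalPrimes_henselization (Y.presheaf.stalk (g x)) R).symm.trans
    (BrnchLib.card_minimalPrimes_henselization A R)

variable {S : Scheme.{u}} {X : Sp S}

/-- The branch number does not depend on the elementary neighbourhood. -/
theorem numBranchesAt_eq_of_elem (hX : IsAlgSpace X) {x : Points X} {U U₀ : Over S}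
    {a : (yon S).obj U ⟶ X} {a₀ : (yon S).obj U₀ ⟶ X} {u : ↥U.left} {u₀ : ↥U₀.left}
    (h : IsElemEtaleNbhd a u x) (h₀ : IsElemEtaleNbhd a₀ u₀ x) :
    Brnch.numBranchesAt U.left u = Brnch.numBranchesAt U₀.left u₀ := by
  let p := FieldPt.ofPt a u
  let q := FieldPt.ofPt a₀ u₀
  haveI : Mono p.toHom := h.mono
  haveI : Mono q.toHom := h₀.mono
  obtain ⟨c, hc, -⟩ := existsUnique_factor p.toHom (representable_from_yon' hX _) q.toHom (by
    rw [← mk_eq_ofPt, ← mk_eq_ofPt]
    exact h.ofPt_eq.trans h₀.ofPt_eq.symm)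
  let ι : p.pt ⟶ U := Over.homMk (U.left.fromSpecResidueField u) rfl
  let ι₀ : q.pt ⟶ U₀ := Over.homMk (U₀.left.fromSpecResidueField u₀) rfl
  have e : p.toHom = (yon S).map ι ≫ a := FieldPt.toHom_ofPt a u
  have e₀ : q.toHom = (yon S).map ι₀ ≫ a₀ := FieldPt.toHom_ofPt a₀ u₀
  let P := h.etale.rep.pullback a₀
  let f : P ⟶ U := h.etale.rep.fst' a₀
  let g : P ⟶ U₀ := h.etale.rep.snd a₀
  have sq : IsPullback ((yon S).map f) ((yon S).map g) a a₀ := h.etale.rep.isPullback' a₀
  obtain ⟨l, hl⟩ := (yon S).map_surjective (sq.lift ((yon S).map (c ≫ ι)) ((yon S).map ι₀) (by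
    rw [Functor.map_comp, Category.assoc, ← e, hc, e₀]))
  have hlf : l ≫ f = c ≫ ι := (yon S).map_injective (by rw [Functor.map_comp, hl]; exact sq.lift_fst _ _ _)
  have hlg : l ≫ g = ι₀ := (yon S).map_injective (by rw [Functor.map_comp, hl]; exact sq.lift_snd _ _ _)
  have hb : RepWith @Etale ((yon S).map g ≫ a₀) :=
    repWith_comp ((repWith_yon_map_iff _ g).2 (h.etale.property_snd a₀)) h₀.etale
  have hv := isElem_of_mono_lift hX q hb l (by rw [← Category.assoc, ← Functor.map_comp, hlg, e₀])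
  let v := l.left (IsLocalRing.closedPoint q.K)
  have hfv : f.left v = u := by
    have : (l ≫ f).left (IsLocalRing.closedPoint q.K) = (c ≫ ι).left (IsLocalRing.closedPoint q.K) := by rw [hlf]
    exact this.trans (Scheme.fromSpecResidueField_apply u _)
  have hgv : g.left v = u₀ := by
    have : (l ≫ g).left (IsLocalRing.closedPoint q.K) = ι₀.left (IsLocalRing.closedPoint q.K) := by rw [hlg]
    exact this.trans (Scheme.fromSpecResidueField_apply u₀ _)
  haveI : Etale g.left := h.etale.property_snd a₀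
  haveI : Etale f.left := h₀.etale.property _ _ _ sq.flip
  have h1 := numBranchesAt_of_etale g.left v
    (ElemHenz.bijective_residueFieldMap_of_elem (a := a₀) g v (by rw [hgv]; exact h₀.mono) hv.mono)
  have h2 := numBranchesAt_of_etale f.left v
    (ElemHenz.bijective_residueFieldMap_of_elem (a := a) f v (by rw [hfv]; exact h.mono)
      (by rw [sq.w]; exact hv.mono))
  rw [hgv] at h1
  rw [hfv] at h2
  exact h2.trans h1.symm

/-- An etale neighbourhood of an elementary neighbourhood is elementary. -/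
theorem isElem_of_nbhd {x : Points X} {U₀ : Over S} {a₀ : (yon S).obj U₀ ⟶ X} {u₀ : ↥U₀.left}
    (h₀ : IsElemEtaleNbhd a₀ u₀ x) {W : Scheme.{u}} (g : W ⟶ U₀.left) (w : W)
    (hg : Hens2.IsEtaleNbhd g w u₀) :
    ∃ (U : Over S) (a : (yon S).obj U ⟶ X) (u : ↥U.left), IsElemEtaleNbhd a u x ∧
      {Z : Set U.left | Z ∈ irreducibleComponents U.left ∧ u ∈ Z}.encard =
        {Z : Set W | Z ∈ irreducibleComponents W ∧ w ∈ Z}.encard := by
  obtain ⟨he, hw, hb⟩ := hg
  subst hw
  let U : Over S := Over.mk (g ≫ U₀.hom)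
  let γ : U ⟶ U₀ := Over.homMk g rfl
  let a := (yon S).map γ ≫ a₀
  have ha : RepWith @Etale a := repWith_comp ((repWith_yon_map_iff _ γ).2 he) h₀.etale
  refine ⟨U, a, w, ⟨ha, ?_, ?_⟩, rfl⟩
  · rw [ofPt_comp]
    exact h₀.ofPt_eq
  · let ι : (FieldPt.ofPt a w).pt ⟶ U := Over.homMk (W.fromSpecResidueField w) rfl
    let ι₀ : (FieldPt.ofPt a₀ (g w)).pt ⟶ U₀ := Over.homMk (U₀.left.fromSpecResidueField (g w)) rfl
    let r : (FieldPt.ofPt a w).pt ⟶ (FieldPt.ofPt a₀ (g w)).pt :=
      Over.homMk (Spec.map (g.residueFieldMap w)) (by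
        show Spec.map (g.residueFieldMap w) ≫ U₀.left.fromSpecResidueField (g w) ≫ U₀.hom = _
        rw [Scheme.Hom.SpecMap_residueFieldMap_fromSpecResidueField_assoc]
        rfl)
    have hr : r ≫ ι₀ = ι ≫ γ :=
      Over.OverMorphism.ext (Scheme.Hom.SpecMap_residueFieldMap_fromSpecResidueField g w)
    haveI : IsIso (g.residueFieldMap w) := (ConcreteCategory.isIso_iff_bijective _).2 hb
    haveI : IsIso ((Over.forget S).map r) := inferInstanceAs (IsIso (Spec.map (g.residueFieldMap w)))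
    haveI : IsIso r := isIso_of_reflects_iso r (Over.forget S)
    haveI : Mono (FieldPt.ofPt a₀ (g w)).toHom := h₀.mono
    have : (FieldPt.ofPt a w).toHom = (yon S).map r ≫ (FieldPt.ofPt a₀ (g w)).toHom := by
      rw [FieldPt.toHom_ofPt, FieldPt.toHom_ofPt]
      show (yon S).map ι ≫ (yon S).map γ ≫ a₀ = (yon S).map r ≫ (yon S).map ι₀ ≫ a₀
      rw [← Category.assoc, ← Category.assoc, ← Functor.map_comp, ← Functor.map_comp, hr]
    rw [this]
    exact mono_comp _ _

/-- The counts over elementary neighbourhoods have maximum the branch number. -/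
theorem iff_eq (hX : IsAlgSpace X) {x : Points X} {U₀ : Over S} {a₀ : (yon S).obj U₀ ⟶ X} {u₀ : ↥U₀.left}
    (h₀ : IsElemEtaleNbhd a₀ u₀ x) (n : ℕ) :
    ((∀ (U : Over S) (a : (yon S).obj U ⟶ X) (u : ↥U.left), IsElemEtaleNbhd a u x →
        {Z : Set ↥U.left | Z ∈ irreducibleComponents ↥U.left ∧ u ∈ Z}.encard ≤ n) ∧
      (∃ (U : Over S) (a : (yon S).obj U ⟶ X) (u : ↥U.left), IsElemEtaleNbhd a u x ∧
        {Z : Set ↥U.left | Z ∈ irreducibleComponents ↥U.left ∧ u ∈ Z}.encard = n)) ↔
      Brnch.numBranchesAt U₀.left u₀ = n := by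
  constructor
  · rintro ⟨hle, U, a, u, h, he⟩
    refine le_antisymm ?_ (he ▸ (components_le_numBranchesAt u).trans_eq (numBranchesAt_eq_of_elem hX h h₀))
    rw [BrnchNbhd.numBranchesAt_eq]
    refine iSup_le fun W => iSup_le fun g => iSup_le fun w => iSup_le fun hg => ?_
    obtain ⟨U', a', u', h', e'⟩ := isElem_of_nbhd h₀ g w hg
    exact e' ▸ hle U' a' u' h'
  · intro hN
    have hle : ∀ (U : Over S) (a : (yon S).obj U ⟶ X) (u : ↥U.left), IsElemEtaleNbhd a u x →
        {Z : Set ↥U.left | Z ∈ irreducibleComponents ↥U.left ∧ u ∈ Z}.encard ≤ n := fun U a u h =>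
      hN ▸ (components_le_numBranchesAt u).trans_eq (numBranchesAt_eq_of_elem hX h h₀)
    refine ⟨hle, ?_⟩
    by_contra hne
    push Not at hne
    rcases Nat.eq_zero_or_pos n with hn | hn
    · have h1 := hle U₀ a₀ u₀ h₀
      have h2 := BrnchNbhd.one_le_encard u₀
      rw [hn] at h1
      exact absurd (h2.trans h1) (by norm_num)
    · have hlt : Brnch.numBranchesAt U₀.left u₀ ≤ ((n - 1 : ℕ) : ℕ∞) := by
        rw [BrnchNbhd.numBranchesAt_eq]
        refine iSup_le fun W => iSup_le fun g => iSup_le fun w => iSup_le fun hg => ?_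
        obtain ⟨U', a', u', h', e'⟩ := isElem_of_nbhd h₀ g w hg
        have hlt := lt_of_le_of_ne (hle U' a' u' h') (hne U' a' u' h')
        rw [← e']
        obtain ⟨m, hm⟩ := ENat.ne_top_iff_exists.1 (ne_top_of_lt hlt)
        rw [← hm] at hlt ⊢
        exact_mod_cast Nat.le_sub_one_of_lt (by exact_mod_cast hlt)
      rw [hN] at hlt
      have : n ≤ n - 1 := by exact_mod_cast hlt
      omega

end Groth.Agent.AlgSpDec.ElemBranches
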