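import Groth.Agent.Hensel.NbhdPoints
import Groth.Agent.AlgSpPts.Field
import Groth.Agent.AlgSpDec.MonoCriterion
import Groth.Prelude.Def_AlgSpDec
import Groth.Prelude.Def_Hensel
import Mathlib.RingTheory.Unramified.LocalRing

/-!
# The henselization does not change along elementary etale neighbourhoods
-/

set_option backward.isDefEq.respectTransparency false
set_option backward.isDefEq.respectTransparency.types false

universe u

open CategoryTheory CategoryTheory.Limits AlgebraicGeometry IsLocalRing AlgSp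

namespace Groth.Agent.AlgSpDec.ElemHenz

theorem isHenselization_of_etale_localization (R₀ S : Type u) [CommRing R₀] [CommRing S] [Algebra R₀ S]
    [Algebra.Etale R₀ S] (A B : Type u) [CommRing A] [IsLocalRing A] [CommRing B] [IsLocalRing B]
    [Algebra R₀ A] [Algebra S B] [Algebra R₀ B] [Algebra A B] [IsScalarTower R₀ A B] [IsScalarTower R₀ S B]
    [IsLocalHom (algebraMap A B)] (p : Ideal R₀) [p.IsPrime] [IsLocalization.AtPrime A p]
    (q : Ideal S) [q.IsPrime] [IsLocalization.AtPrime B q]
    (hres : Function.Bijective (ResidueField.map (algebraMap A B)))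
    (R : Type u) [CommRing R] [IsLocalRing R] [Algebra B R] [IsLocalHom (algebraMap B R)]
    [h : _root_.Hensel.IsHenselization B R] [Algebra A R] [IsLocalHom (algebraMap A R)]
    (hAR : algebraMap A R = (algebraMap B R).comp (algebraMap A B)) :
    _root_.Hensel.IsHenselization A R := by
  refine ⟨h.henselian, fun T _ _ f hf => ?_⟩
  haveI := hf
  letI : Algebra R₀ T := (f.comp (algebraMap R₀ A)).toAlgebra
  haveI : HenselianRing T (maximalIdeal T) := inferInstance
  let e := RingEquiv.ofBijective _ hres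
  let θ : S →+* T ⧸ maximalIdeal T :=
    ((ResidueField.map f).comp e.symm.toRingHom).comp ((residue B).comp (algebraMap S B))
  have he : ∀ a : A, e.symm (residue B (algebraMap A B a)) = residue A a := fun a =>
    e.symm_apply_eq.2 rfl
  let σ : S →ₐ[R₀] T ⧸ maximalIdeal T :=
    { θ with
      commutes' := fun r => by
        show (ResidueField.map f) (e.symm (residue B (algebraMap S B (algebraMap R₀ S r)))) = _
        rw [← IsScalarTower.algebraMap_apply, IsScalarTower.algebraMap_apply R₀ A B, he]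
        rfl }
  obtain ⟨ψ, hψ, huniq⟩ := Groth.Agent.Hensel.existsUnique_etale_lift_of_algebra (maximalIdeal T) σ
  have hψ' : ∀ s, residue T (ψ s) = σ s := fun s => AlgHom.congr_fun hψ s
  have hunit : ∀ s : q.primeCompl, IsUnit (ψ.toRingHom s) := fun s => by
    by_contra hs
    have h1 : σ s = 0 := (hψ' s).symm.trans ((residue_eq_zero_iff _).2 hs)
    have h2 : residue B (algebraMap S B s) = 0 :=
      (map_eq_zero_iff _ e.symm.injective).1 ((map_eq_zero (ResidueField.map f)).1 h1)
    exact (residue_ne_zero_iff_isUnit _).2 (IsLocalization.map_units B s) h2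
  let φ : B →+* T := IsLocalization.lift (M := q.primeCompl) (g := ψ.toRingHom) hunit
  have hφ : ∀ s, φ (algebraMap S B s) = ψ s := fun s => IsLocalization.lift_eq _ _
  haveI : Algebra.FormallyUnramified R₀ B :=
    haveI : Algebra.FormallyUnramified S B :=
      Algebra.FormallyUnramified.of_isLocalization q.primeCompl
    Algebra.FormallyUnramified.comp R₀ S B
  haveI : Algebra.FormallyUnramified A B := Algebra.FormallyUnramified.of_restrictScalars R₀ A B
  haveI : Algebra.EssFiniteType R₀ B :=
    haveI : Algebra.EssFiniteType S B := Algebra.EssFiniteType.of_isLocalization B q.primeCompl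
    Algebra.EssFiniteType.comp R₀ S B
  haveI : Algebra.EssFiniteType A B := Algebra.EssFiniteType.of_comp R₀ A B
  have hmax : (maximalIdeal A).map (algebraMap A B) = maximalIdeal B :=
    Algebra.FormallyUnramified.map_maximalIdeal
  -- any extension of `f` to `B` is local
  have hloc : ∀ χ : B →+* T, χ.comp (algebraMap A B) = f → IsLocalHom χ := fun χ hχ => by
    refine ((local_hom_TFAE χ).out 0 2 rfl rfl).mpr ?_
    rw [← hmax, Ideal.map_map, hχ]
    exact ((local_hom_TFAE f).out 0 2 rfl rfl).mp hf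
  have hφf : φ.comp (algebraMap A B) = f := IsLocalization.ringHom_ext p.primeCompl (RingHom.ext fun r => by
    show φ (algebraMap A B (algebraMap R₀ A r)) = f (algebraMap R₀ A r)
    rw [← IsScalarTower.algebraMap_apply, IsScalarTower.algebraMap_apply R₀ S B, hφ, ψ.commutes]
    rfl)
  obtain ⟨g, hg, hguniq⟩ := h.universal T φ (hloc φ hφf)
  refine ⟨g, by show g.comp (algebraMap A R) = f; rw [hAR, ← RingHom.comp_assoc, hg, hφf], fun g' hg' => hguniq g' ?_⟩
  let χ := g'.comp (algebraMap B R)
  have hχ : χ.comp (algebraMap A B) = f := by rw [RingHom.comp_assoc, ← hAR]; exact hg'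
  haveI := hloc χ hχ
  let ψ' : S →ₐ[R₀] T :=
    { χ.comp (algebraMap S B) with
      commutes' := fun r => by
        show χ (algebraMap S B (algebraMap R₀ S r)) = f (algebraMap R₀ A r)
        rw [← IsScalarTower.algebraMap_apply, IsScalarTower.algebraMap_apply R₀ A B, ← RingHom.comp_apply χ, hχ] }
  have h' : ψ' = ψ := huniq ψ' (AlgHom.ext fun s => by
    show residue T (χ (algebraMap S B s)) = σ s
    obtain ⟨x, hx⟩ := hres.2 (residue B (algebraMap S B s))
    obtain ⟨a, rfl⟩ := residue_surjective x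
    have hx' : residue B (algebraMap A B a) = residue B (algebraMap S B s) := hx
    show _ = ResidueField.map f (e.symm (residue B (algebraMap S B s)))
    rw [← hx', he]
    calc residue T (χ (algebraMap S B s)) = ResidueField.map χ (residue B (algebraMap S B s)) := rfl
      _ = ResidueField.map χ (residue B (algebraMap A B a)) := by rw [hx']
      _ = residue T (f a) := by rw [← hχ]; rfl)
  exact IsLocalization.ringHom_ext q.primeCompl (RingHom.ext fun s => by
    show χ (algebraMap S B s) = φ (algebraMap S B s)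
    rw [hφ, ← h']
    rfl)

theorem isHenselization_stalk {X Y : Scheme.{u}} (g : X ⟶ Y) [Etale g] (x : X)
    (hres : Function.Bijective (g.residueFieldMap x))
    (R : Type u) [CommRing R] [IsLocalRing R] [Algebra ↥(X.presheaf.stalk x) R]
    [IsLocalHom (algebraMap ↥(X.presheaf.stalk x) R)] [h : _root_.Hensel.IsHenselization ↥(X.presheaf.stalk x) R]
    [Algebra ↥(Y.presheaf.stalk (g x)) R] [IsLocalHom (algebraMap ↥(Y.presheaf.stalk (g x)) R)]
    (hR : algebraMap ↥(Y.presheaf.stalk (g x)) R = (algebraMap ↥(X.presheaf.stalk x) R).comp (g.stalkMap x).hom) :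
    _root_.Hensel.IsHenselization ↥(Y.presheaf.stalk (g x)) R := by
  obtain ⟨V, hV, hxV, -⟩ := exists_isAffineOpen_mem_and_subset (x := g x) (U := (⊤ : Y.Opens)) trivial
  obtain ⟨W, hW, hxW, hWV⟩ := exists_isAffineOpen_mem_and_subset (x := x) (U := g ⁻¹ᵁ V) hxV
  have e : W ≤ g ⁻¹ᵁ V := hWV
  letI : Algebra Γ(Y, V) Γ(X, W) := (g.appLE V W e).hom.toAlgebra
  haveI : Algebra.Etale Γ(Y, V) Γ(X, W) :=
    (HasRingHomProperty.appLE (P := @Etale) g ‹_› ⟨V, hV⟩ ⟨W, hW⟩ e : (g.appLE V W e).hom.Etale)
  letI : Algebra Γ(Y, V) (Y.presheaf.stalk (g x)) := (Y.presheaf.germ V (g x) hxV).hom.toAlgebra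
  letI : Algebra Γ(X, W) (X.presheaf.stalk x) := (X.presheaf.germ W x hxW).hom.toAlgebra
  letI : Algebra (Y.presheaf.stalk (g x)) (X.presheaf.stalk x) := (g.stalkMap x).hom.toAlgebra
  letI : Algebra Γ(Y, V) (X.presheaf.stalk x) :=
    ((g.stalkMap x).hom.comp (Y.presheaf.germ V (g x) hxV).hom).toAlgebra
  haveI : IsScalarTower Γ(Y, V) (Y.presheaf.stalk (g x)) (X.presheaf.stalk x) :=
    IsScalarTower.of_algebraMap_eq fun _ => rfl
  haveI : IsScalarTower Γ(Y, V) Γ(X, W) (X.presheaf.stalk x) := IsScalarTower.of_algebraMap_eq fun r => by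
    show g.stalkMap x (Y.presheaf.germ V (g x) hxV r) = X.presheaf.germ W x hxW (g.appLE V W e r)
    rw [Scheme.Hom.germ_stalkMap_apply, Scheme.Hom.appLE, CommRingCat.comp_apply, TopCat.Presheaf.germ_res_apply]
  haveI : IsLocalHom (algebraMap (Y.presheaf.stalk (g x)) (X.presheaf.stalk x)) :=
    inferInstanceAs (IsLocalHom (g.stalkMap x).hom)
  haveI : IsLocalization.AtPrime (Y.presheaf.stalk (g x)) (hV.primeIdealOf ⟨g x, hxV⟩).asIdeal :=
    hV.isLocalization_stalk ⟨g x, hxV⟩
  haveI : IsLocalization.AtPrime (X.presheaf.stalk x) (hW.primeIdealOf ⟨x, hxW⟩).asIdeal :=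
    hW.isLocalization_stalk ⟨x, hxW⟩
  exact isHenselization_of_etale_localization Γ(Y, V) Γ(X, W) _ _ (hV.primeIdealOf ⟨g x, hxV⟩).asIdeal
    (hW.primeIdealOf ⟨x, hxW⟩).asIdeal hres R hR

theorem bijective_residueFieldMap_of_elem {S : Scheme.{u}} {F : Sp S} {U U' : Over S} {a : (yon S).obj U ⟶ F}
    (g : U' ⟶ U) (u' : ↥U'.left) (ha : Mono (FieldPt.ofPt a (g.left u')).toHom)
    (ha' : Mono (FieldPt.ofPt ((yon S).map g ≫ a) u').toHom) :
    Function.Bijective (g.left.residueFieldMap u') := by
  let ι : Over.mk (U'.left.fromSpecResidueField u' ≫ U'.hom) ⟶ U' := Over.homMk (U'.left.fromSpecResidueField u') rfl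
  let ι₀ : Over.mk (U.left.fromSpecResidueField (g.left u') ≫ U.hom) ⟶ U :=
    Over.homMk (U.left.fromSpecResidueField (g.left u')) rfl
  let r : Over.mk (U'.left.fromSpecResidueField u' ≫ U'.hom) ⟶
      Over.mk (U.left.fromSpecResidueField (g.left u') ≫ U.hom) :=
    Over.homMk (Spec.map (g.left.residueFieldMap u')) (by
      show Spec.map (g.left.residueFieldMap u') ≫ U.left.fromSpecResidueField (g.left u') ≫ U.hom = _
      rw [Scheme.Hom.SpecMap_residueFieldMap_fromSpecResidueField_assoc, Over.w g]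
      rfl)
  have hr : r ≫ ι₀ = ι ≫ g :=
    Over.OverMorphism.ext (Scheme.Hom.SpecMap_residueFieldMap_fromSpecResidueField g.left u')
  have e1 : (FieldPt.ofPt a (g.left u')).toHom = (yon S).map ι₀ ≫ a := FieldPt.toHom_ofPt a _
  have e2 : (FieldPt.ofPt ((yon S).map g ≫ a) u').toHom = (yon S).map ι ≫ (yon S).map g ≫ a :=
    FieldPt.toHom_ofPt _ _
  have h1 : Mono ((yon S).map ι₀ ≫ a) := e1 ▸ ha
  have h2 : Mono ((yon S).map r ≫ (yon S).map ι₀ ≫ a) := by
    rw [← Category.assoc, ← Functor.map_comp, hr, Functor.map_comp, Category.assoc]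
    exact e2 ▸ ha'
  have h3 : Mono ((yon S).map r) := mono_of_mono _ ((yon S).map ι₀ ≫ a)
  have h4 : Mono r := (yon S).mono_of_mono_map h3
  haveI : Mono (Spec.map (g.left.residueFieldMap u')) := inferInstanceAs (Mono r.left)
  haveI : IsIso (Spec.map (g.left.residueFieldMap u')) :=
    Groth.Agent.AlgSpPts.isIso_of_mono_to_field (K := U.left.residueField (g.left u')) _
  haveI : IsIso (Scheme.Spec.map (g.left.residueFieldMap u').op) :=
    inferInstanceAs (IsIso (Spec.map (g.left.residueFieldMap u')))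
  haveI : IsIso (g.left.residueFieldMap u').op := isIso_of_reflects_iso _ Scheme.Spec
  haveI : IsIso (g.left.residueFieldMap u') := (isIso_op_iff _).1 inferInstance
  exact (ConcreteCategory.isIso_iff_bijective _).1 inferInstance

end Groth.Agent.AlgSpDec.ElemHenz
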