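import Groth.Agent.AlgSpLib.Sheaf
import Mathlib.CategoryTheory.Adhesive.Basic
import Mathlib.CategoryTheory.Sites.LocallyInjective

/-!
# Pushouts of sheaves along monomorphisms
-/

set_option linter.style.haveILetI false
set_option autoImplicit false
set_option backward.isDefEq.respectTransparency false
set_option backward.isDefEq.respectTransparency.types false

universe u v w

open CategoryTheory CategoryTheory.Limits Opposite AlgebraicGeometry AlgSp
open Groth.Agent.AlgSpLib

namespace Groth.Agent.AlgSpDec.SheafPush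

/-- Elements identified in a pushout of sets along an injection. -/
theorem eq_or_of_eq {A B C D : Type w} {m : A ⟶ B} {g : A ⟶ C} {i : B ⟶ D} {k : C ⟶ D}
    (sq : IsPushout m g i k) (hm : Function.Injective m) {x y : B} (h : i x = i y) :
    x = y ∨ ∃ a b, m a = x ∧ m b = y ∧ g a = g b := by
  classical
  let κ : B ⟶ (C ⊕ B : Type w) := ↾fun x => if h : ∃ a, m a = x then Sum.inl (g h.choose) else Sum.inr x
  let ν : C ⟶ (C ⊕ B : Type w) := ↾fun c => Sum.inl c
  have w₁ : m ≫ κ = g ≫ ν := by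
    ext a
    have ha : ∃ a', m a' = m a := ⟨a, rfl⟩
    change (if h : ∃ a', m a' = m a then Sum.inl (g h.choose) else Sum.inr (m a)) = Sum.inl (g a)
    rw [dif_pos ha, hm ha.choose_spec]
  have h1 : κ x = κ y := by
    have e := sq.inl_desc κ ν w₁
    rw [← e]
    change sq.desc κ ν w₁ (i x) = sq.desc κ ν w₁ (i y)
    rw [h]
  change (if h : ∃ a, m a = x then Sum.inl (g h.choose) else Sum.inr x) =
    (if h : ∃ a, m a = y then Sum.inl (g h.choose) else Sum.inr y : C ⊕ B) at h1
  by_cases hx : ∃ a, m a = x <;> by_cases hy : ∃ a, m a = y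
  · rw [dif_pos hx, dif_pos hy] at h1
    exact Or.inr ⟨_, _, hx.choose_spec, hy.choose_spec, Sum.inl_injective h1⟩
  · rw [dif_pos hx, dif_neg hy] at h1
    exact absurd h1 Sum.inl_ne_inr
  · rw [dif_neg hx, dif_pos hy] at h1
    exact absurd h1 Sum.inr_ne_inl
  · rw [dif_neg hx, dif_neg hy] at h1
    exact Or.inl (Sum.inr_injective h1)

variable {S : Scheme.{u}}

/-- Pushouts of sheaves along monomorphisms, with the description of the identified sections. -/
theorem exists_pushout {U V V' : Sp S} (m : V' ⟶ V) [Mono m] (g : V' ⟶ U) :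
    ∃ (W : Sp S) (j : U ⟶ W) (f : V ⟶ W), IsPushout m g f j ∧ IsPullback m g f j ∧ Mono j ∧
      ∀ {T : Over S} (x y : (yon S).obj T ⟶ V), x ≫ f = y ≫ f → ∃ R ∈ J S T, ∀ ⦃T' : Over S⦄ (φ : T' ⟶ T), R φ →
        (yon S).map φ ≫ x = (yon S).map φ ≫ y ∨ ∃ a b : (yon S).obj T' ⟶ V',
          a ≫ m = (yon S).map φ ≫ x ∧ b ≫ m = (yon S).map φ ≫ y ∧ a ≫ g = b ≫ g := by
  let P₀ := pushout m.hom g.hom
  let η := toSheafify (J S) P₀
  let W : Sp S := (presheafToSheaf (J S) (Type (u + 1))).obj P₀
  let j : U ⟶ W := ⟨pushout.inr m.hom g.hom ≫ η⟩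
  let f : V ⟶ W := ⟨pushout.inl m.hom g.hom ≫ η⟩
  have hw : m ≫ f = g ≫ j := ObjectProperty.hom_ext _ (by
    change m.hom ≫ pushout.inl m.hom g.hom ≫ η = g.hom ≫ pushout.inr m.hom g.hom ≫ η
    rw [pushout.condition_assoc])
  have hpo : IsPushout m g f j := by
    let d : ∀ s : PushoutCocone m g, W ⟶ s.pt := fun s => ⟨sheafifyLift (J S)
      (pushout.desc s.inl.hom s.inr.hom (congrArg InducedCategory.Hom.hom s.condition)) s.pt.property⟩
    refine ⟨⟨hw⟩, ⟨PushoutCocone.IsColimit.mk hw d (fun s => ObjectProperty.hom_ext _ ?_)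
      (fun s => ObjectProperty.hom_ext _ ?_) (fun s l h1 h2 => ObjectProperty.hom_ext _ ?_)⟩⟩
    · change (pushout.inl m.hom g.hom ≫ η) ≫ sheafifyLift (J S) _ _ = _
      rw [Category.assoc, toSheafify_sheafifyLift, pushout.inl_desc]
    · change (pushout.inr m.hom g.hom ≫ η) ≫ sheafifyLift (J S) _ _ = _
      rw [Category.assoc, toSheafify_sheafifyLift, pushout.inr_desc]
    · refine sheafifyLift_unique _ _ _ _ (pushout.hom_ext ?_ ?_)
      · rw [pushout.inl_desc, ← h1]
        exact (Category.assoc _ _ _).symm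
      · rw [pushout.inr_desc, ← h2]
        exact (Category.assoc _ _ _).symm
  refine ⟨W, j, f, hpo, Adhesive.isPullback_of_isPushout_of_mono_left hpo,
    Adhesive.mono_of_isPushout_of_mono_left hpo, fun {T} x y hxy => ?_⟩
  have hm : ∀ X, Function.Injective (m.hom.app X) := fun X => by
    have : Mono ((sheafToPresheaf (J S) (Type (u + 1))).map m) := inferInstance
    exact (mono_iff_injective _).1 ((NatTrans.mono_iff_mono_app _).1 this X)
  have h1 : η.app (op T) ((pushout.inl m.hom g.hom).app (op T) ((J S).uliftYonedaEquiv x)) =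
      η.app (op T) ((pushout.inl m.hom g.hom).app (op T) ((J S).uliftYonedaEquiv y)) := by
    have := congrArg (J S).uliftYonedaEquiv hxy
    rwa [GrothendieckTopology.uliftYonedaEquiv_comp, GrothendieckTopology.uliftYonedaEquiv_comp] at this
  refine ⟨_, Presheaf.equalizerSieve_mem (J S) η _ _ h1, fun T' φ hφ => ?_⟩
  have hn : ∀ z : V.obj.obj (op T), (pushout.inl m.hom g.hom).app (op T') (V.obj.map φ.op z) =
      P₀.map φ.op ((pushout.inl m.hom g.hom).app (op T) z) := fun z =>
    NatTrans.naturality_apply (pushout.inl m.hom g.hom) φ.op z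
  have h2 : (pushout.inl m.hom g.hom).app (op T') ((J S).uliftYonedaEquiv ((yon S).map φ ≫ x)) =
      (pushout.inl m.hom g.hom).app (op T') ((J S).uliftYonedaEquiv ((yon S).map φ ≫ y)) := by
    rw [← uliftYonedaEquiv_precomp, ← uliftYonedaEquiv_precomp, hn, hn]
    exact hφ
  rcases eq_or_of_eq ((IsPushout.of_hasPushout m.hom g.hom).map ((evaluation _ _).obj (op T'))) (hm _) h2 with
    h3 | ⟨a, b, ha, hb, hab⟩
  · exact Or.inl ((J S).uliftYonedaEquiv.injective h3)
  · refine Or.inr ⟨(J S).uliftYonedaEquiv.symm a, (J S).uliftYonedaEquiv.symm b, ?_, ?_, ?_⟩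
    all_goals apply (J S).uliftYonedaEquiv.injective
    · rw [GrothendieckTopology.uliftYonedaEquiv_comp, Equiv.apply_symm_apply]; exact ha
    · rw [GrothendieckTopology.uliftYonedaEquiv_comp, Equiv.apply_symm_apply]; exact hb
    · rw [GrothendieckTopology.uliftYonedaEquiv_comp, GrothendieckTopology.uliftYonedaEquiv_comp,
        Equiv.apply_symm_apply, Equiv.apply_symm_apply]
      exact hab

end Groth.Agent.AlgSpDec.SheafPush
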