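import Groth.Agent.AlgSpDec.EtaleFamilyQuot
import Groth.Agent.AlgSpDec.SheafPushout
import Groth.Agent.AlgSpDec.RedInduced
import Groth.Agent.AlgSpDec.LimOpen
import Groth.Agent.AlgSpLib.FpqcDescent
import Groth.Prelude.Def_AlgSpSub

/-!
# Elementary distinguished squares from etale morphisms out of open subspaces
-/

set_option linter.style.haveILetI false
set_option autoImplicit false
set_option backward.isDefEq.respectTransparency false
set_option backward.isDefEq.respectTransparency.types false

universe u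

open CategoryTheory CategoryTheory.Limits Opposite AlgebraicGeometry AlgSp
open Groth.Agent.AlgSpLib Groth.Agent.AlgSpPts

namespace Groth.Agent.AlgSpDec.ElemPush

variable {S : Scheme.{u}}

/-- The fibre square of two monomorphisms with the same map. -/
theorem exists_self_square {X W : Sp S} (q : X ⟶ W) [Mono q] (hX : IsAlgSpace X) :
    ∃ (A : Sp S) (a b : A ⟶ X), IsPullback a b q q ∧ IsAlgSpace A ∧ IsEtaleMor a ∧ IsEtaleMor b :=
  ⟨X, 𝟙 X, 𝟙 X, IsKernelPair.id_of_mono q, hX,
    isEtaleMor_of_repWith_isOpenImmersion (repWith_of_isIso @IsOpenImmersion _),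
    isEtaleMor_of_repWith_isOpenImmersion (repWith_of_isIso @IsOpenImmersion _)⟩

/-- The self-product of the etale leg. -/
theorem isAlgSpace_selfProd {U V V' W : Sp S} (hU : IsAlgSpace U) (hV : IsAlgSpace V) (hV' : IsAlgSpace V')
    {m : V' ⟶ V} (hm : RepWith @IsOpenImmersion m) {g : V' ⟶ U} (hg : IsEtaleMor g) {f : V ⟶ W} {j : U ⟶ W}
    (hw : m ≫ f = g ≫ j)
    (hcov : ∀ {T : Over S} (x y : (yon S).obj T ⟶ V), x ≫ f = y ≫ f → ∃ R ∈ J S T, ∀ ⦃T' : Over S⦄ (φ : T' ⟶ T), R φ →
        (yon S).map φ ≫ x = (yon S).map φ ≫ y ∨ ∃ a b : (yon S).obj T' ⟶ V',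
          a ≫ m = (yon S).map φ ≫ x ∧ b ≫ m = (yon S).map φ ≫ y ∧ a ≫ g = b ≫ g) :
    IsAlgSpace (pullback f f) ∧ IsEtaleMor (pullback.fst f f) ∧ IsEtaleMor (pullback.snd f f) := by
  have : Mono m := mono_of_openImmersion hm
  have hme := isEtaleMor_of_repWith_isOpenImmersion hm
  have hK : IsAlgSpace (pullback g g) := isAlgSpace_pullback hV' hV' hU g g
  have hk₁ : IsEtaleMor (pullback.fst g g) :=
    isEtaleMor_of_isPullback (IsPullback.of_hasPullback g g).flip hV' hU hV' hg
  have hk₂ : IsEtaleMor (pullback.snd g g) :=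
    isEtaleMor_of_isPullback (IsPullback.of_hasPullback g g) hV' hU hV' hg
  let δ : V ⟶ pullback f f := pullback.lift (𝟙 V) (𝟙 V) rfl
  let ε : pullback g g ⟶ pullback f f := pullback.lift (pullback.fst g g ≫ m) (pullback.snd g g ≫ m) (by
    rw [Category.assoc, Category.assoc, hw, pullback.condition_assoc])
  have hδ₁ : δ ≫ pullback.fst f f = 𝟙 V := pullback.lift_fst _ _ _
  have hδ₂ : δ ≫ pullback.snd f f = 𝟙 V := pullback.lift_snd _ _ _
  have hε₁ : ε ≫ pullback.fst f f = pullback.fst g g ≫ m := pullback.lift_fst _ _ _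
  have hε₂ : ε ≫ pullback.snd f f = pullback.snd g g ≫ m := pullback.lift_snd _ _ _
  have : Mono δ := mono_of_mono_fac hδ₁
  have : Mono ε := ⟨fun a b h => by
    refine pullback.hom_ext ?_ ?_
    · rw [← cancel_mono m, Category.assoc, Category.assoc, ← hε₁, reassoc_of% h]
    · rw [← cancel_mono m, Category.assoc, Category.assoc, ← hε₂, reassoc_of% h]⟩
  let Δ : V' ⟶ pullback g g := pullback.lift (𝟙 V') (𝟙 V') rfl
  have hΔ₁ : Δ ≫ pullback.fst g g = 𝟙 V' := pullback.lift_fst _ _ _
  have hΔ₂ : Δ ≫ pullback.snd g g = 𝟙 V' := pullback.lift_snd _ _ _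
  have hsq : IsPullback m Δ δ ε := by
    have w : m ≫ δ = Δ ≫ ε := pullback.hom_ext
      (by rw [Category.assoc, Category.assoc, hδ₁, hε₁, reassoc_of% hΔ₁, Category.comp_id])
      (by rw [Category.assoc, Category.assoc, hδ₂, hε₂, reassoc_of% hΔ₂, Category.comp_id])
    refine IsPullback.of_isLimit' ⟨w⟩ (PullbackCone.IsLimit.mk w (fun s => s.snd ≫ pullback.fst g g)
      (fun s => ?_) (fun s => ?_) (fun s l _ h2 => ?_))
    · rw [Category.assoc, ← hε₁, ← reassoc_of% s.condition, hδ₁, Category.comp_id]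
    · refine pullback.hom_ext ?_ ?_
      · rw [Category.assoc, hΔ₁, Category.comp_id]
      · rw [Category.assoc, hΔ₂, Category.comp_id, ← cancel_mono m, Category.assoc, Category.assoc, ← hε₁,
          ← hε₂, ← reassoc_of% s.condition, ← reassoc_of% s.condition, hδ₁, hδ₂]
    · rw [← h2, Category.assoc, hΔ₁, Category.comp_id]
  have hΔe : IsEtaleMor Δ := isEtaleMor_of_comp hV' hK hV'
    (by rw [hΔ₁]; exact isEtaleMor_of_repWith_isOpenImmersion (repWith_of_isIso @IsOpenImmersion _)) hk₁
  let X : ULift.{u} Bool → Sp S := fun i => bif i.down then pullback g g else V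
  let q : ∀ i, X i ⟶ pullback f f := fun ⟨i⟩ => match i with
    | true => ε
    | false => δ
  have hX : ∀ i, IsAlgSpace (X i) := by
    rintro ⟨_ | _⟩
    · exact hV
    · exact hK
  obtain ⟨hD, hq, -, hloc⟩ := EtFam.isAlgSpace_of_etale_family q hX (fun a b h => by
      refine Sheaf.hom_ext (NatTrans.ext (funext fun T => ?_))
      ext t
      have key : ∀ {T : Over S} (t : (yon S).obj T ⟶ pullback f f), t ≫ a = t ≫ b := fun {T} t => by
        obtain ⟨R, hR, hR'⟩ := hcov (t ≫ pullback.fst f f) (t ≫ pullback.snd f f)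
          (by rw [Category.assoc, Category.assoc, pullback.condition])
        refine hom_ext_of_covering _ _ hR fun T' φ hφ => ?_
        rcases hR' φ hφ with he | ⟨x, y, hx, hy, hxy⟩
        · have : (yon S).map φ ≫ t = ((yon S).map φ ≫ t ≫ pullback.fst f f) ≫ δ := pullback.hom_ext
            (by simp only [Category.assoc, hδ₁, Category.comp_id])
            (by simp only [Category.assoc, hδ₂, Category.comp_id]; exact he.symm)
          rw [← Category.assoc, ← Category.assoc, this]
          simp only [Category.assoc]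
          rw [show δ ≫ a = δ ≫ b from h ⟨false⟩]
        · have : (yon S).map φ ≫ t = pullback.lift x y hxy ≫ ε := pullback.hom_ext
            (by rw [Category.assoc, Category.assoc, hε₁, pullback.lift_fst_assoc, hx])
            (by rw [Category.assoc, Category.assoc, hε₂, pullback.lift_snd_assoc, hy])
          rw [← Category.assoc, ← Category.assoc, this]
          simp only [Category.assoc]
          rw [show ε ≫ a = ε ≫ b from h ⟨true⟩]
      let τ : (yon S).obj T.unop ⟶ pullback f f := (J S).uliftYonedaEquiv.{u + 1}.symm t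
      have h1 := congrArg (J S).uliftYonedaEquiv.{u + 1} (key τ)
      rwa [GrothendieckTopology.uliftYonedaEquiv_comp, GrothendieckTopology.uliftYonedaEquiv_comp,
        Equiv.apply_symm_apply] at h1)
    (by
      rintro ⟨_ | _⟩ ⟨_ | _⟩
      · exact exists_self_square δ hV
      · exact ⟨V', m, Δ, hsq, hV', hme, hΔe⟩
      · exact ⟨V', Δ, m, hsq.flip, hV', hΔe, hme⟩
      · exact exists_self_square ε hK)
  refine ⟨hD, hloc hV _ ?_, hloc hV _ ?_⟩
  · rintro ⟨_ | _⟩
    · change IsEtaleMor (δ ≫ _)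
      rw [hδ₁]
      exact isEtaleMor_of_repWith_isOpenImmersion (repWith_of_isIso @IsOpenImmersion _)
    · change IsEtaleMor (ε ≫ _)
      rw [hε₁]
      exact isEtaleMor_comp hK hV' hV hk₁ hme
  · rintro ⟨_ | _⟩
    · change IsEtaleMor (δ ≫ _)
      rw [hδ₂]
      exact isEtaleMor_of_repWith_isOpenImmersion (repWith_of_isIso @IsOpenImmersion _)
    · change IsEtaleMor (ε ≫ _)
      rw [hε₂]
      exact isEtaleMor_comp hK hV' hV hk₂ hme

/-- An etale morphism out of an open subspace extends to an elementary distinguished square. -/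
theorem exists_elemDistSq {U V V' : Space S} (jV : V' ⟶ V) (hjV : RepWith @IsOpenImmersion jV.hom)
    (f' : V' ⟶ U) (het : IsEtaleMor f'.hom) :
    ∃ (W : Space S) (j : U ⟶ W) (f : V ⟶ W), IsPushout jV f' f j ∧
      IsPullback jV.hom f'.hom f.hom j.hom ∧ IsElemDistSq j.hom f.hom := by
  have : Mono jV.hom := mono_of_openImmersion hjV
  have hme := isEtaleMor_of_repWith_isOpenImmersion hjV
  obtain ⟨W, j, f, hpo, hpb, hmj, hcov⟩ := SheafPush.exists_pushout jV.hom f'.hom
  obtain ⟨hD, hD₁, hD₂⟩ := isAlgSpace_selfProd U.property V.property V'.property hjV het hpo.w hcov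
  let X : ULift.{u} Bool → Sp S := fun i => bif i.down then V.obj else U.obj
  let q : ∀ i, X i ⟶ W := fun ⟨i⟩ => match i with
    | true => f
    | false => j
  have hX : ∀ i, IsAlgSpace (X i) := by
    rintro ⟨_ | _⟩
    · exact U.property
    · exact V.property
  obtain ⟨hW, hq, hpts, -⟩ := EtFam.isAlgSpace_of_etale_family q hX
    (fun a b h => hpo.hom_ext (h ⟨true⟩) (h ⟨false⟩)) (by
      rintro ⟨_ | _⟩ ⟨_ | _⟩
      · exact exists_self_square j U.property
      · exact ⟨V'.obj, f'.hom, jV.hom, hpb.flip, V'.property, het, hme⟩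
      · exact ⟨V'.obj, jV.hom, f'.hom, hpb, V'.property, hme, het⟩
      · exact ⟨pullback f f, _, _, IsPullback.of_hasPullback f f, hD, hD₁, hD₂⟩)
  have hje : IsEtaleMor j := hq ⟨false⟩
  have hfe : IsEtaleMor f := hq ⟨true⟩
  have hjo : RepWith @IsOpenImmersion j :=
    repWith_isOpenImmersion_of_mono_of_etale U.property hW j ((isEtaleMor_iff_locP U.property hW j).1 hje)
  obtain ⟨Z, i, hi⟩ := exists_reduced_induced hW (isOpen_range_openImm hW hjo).isClosed_compl
  have hP : IsAlgSpace (pullback i f) := isAlgSpace_pullback Z.property V.property hW i f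
  have hp₁e : IsEtaleMor (pullback.fst i f) :=
    isEtaleMor_of_isPullback (IsPullback.of_hasPullback i f).flip V.property hW Z.property hfe
  have hp₁s : Function.Surjective (Points.map (pullback.fst i f)) := fun z => by
    obtain ⟨⟨_ | _⟩, x, hx⟩ := hpts (Points.map i z)
    · have : Points.map i z ∈ (Set.range (Points.map j))ᶜ := hi.2.1 ▸ ⟨z, rfl⟩
      exact absurd ⟨x, hx⟩ this
    · obtain ⟨y, hy, -⟩ := exists_point_of_isPullback (IsPullback.of_hasPullback i f) hx.symm
      exact ⟨y, hy⟩
  have : Mono (pullback.fst i f) := mono_of_yon_injective fun T a b hab => by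
    obtain ⟨R, hR, hR'⟩ := hcov (a ≫ pullback.snd i f) (b ≫ pullback.snd i f) (by
      rw [Category.assoc, Category.assoc, ← pullback.condition, reassoc_of% hab])
    refine hom_ext_of_covering _ _ hR fun T' φ hφ => ?_
    rcases hR' φ hφ with he | ⟨x, y, hx, -, -⟩
    · exact pullback.hom_ext (by rw [Category.assoc, Category.assoc, hab])
        (by rw [Category.assoc, Category.assoc]; exact he)
    · have : IsEmpty ↥T'.left := ⟨fun t => by
        have h1 : (x ≫ f'.hom) ≫ j = ((yon S).map φ ≫ a ≫ pullback.fst i f) ≫ i := by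
          rw [Category.assoc, ← hpo.w, reassoc_of% hx]
          simp only [Category.assoc, pullback.condition]
        have h2 : Points.map i (Points.ofPt ((yon S).map φ ≫ a ≫ pullback.fst i f) t) ∈
            (Set.range (Points.map j))ᶜ := hi.2.1 ▸ ⟨_, rfl⟩
        exact h2 ⟨Points.ofPt (x ≫ f'.hom) t, by rw [Points.map_ofPt, Points.map_ofPt, h1]⟩⟩
      exact hom_ext_of_isEmpty _ _
  have : IsIso (pullback.fst i f) := isIso_of_openImm_surjective Z.property
    (repWith_isOpenImmersion_of_mono_of_etale hP Z.property _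
      ((isEtaleMor_iff_locP hP Z.property _).1 hp₁e)) hp₁s
  refine ⟨⟨W, hW⟩, ObjectProperty.homMk j, ObjectProperty.homMk f, ?_, hpb,
    hjo, hfe, Z.obj, pullback i f, i, _, _, hi, IsPullback.of_hasPullback i f, inferInstance⟩
  exact IsPushout.of_map (ObjectProperty.ι (IsAlgSpace (S := S))) (ObjectProperty.hom_ext _ hpo.w) hpo

end Groth.Agent.AlgSpDec.ElemPush
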