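import Groth.Agent.AlgSpDec.FiniteQuot
import Groth.Agent.AlgSpDec.LqfScheme
import Groth.Agent.AlgSpDec.MonoRep
import Groth.Agent.AlgSpDec.DiscreteMono
import Groth.Agent.AlgSpLib.EtLocalInst

/-!
# Locally quasi-finite algebraic spaces over a field are schemes
-/

set_option autoImplicit false
set_option linter.style.haveILetI false
set_option backward.isDefEq.respectTransparency false
set_option backward.isDefEq.respectTransparency.types false

universe u

open CategoryTheory CategoryTheory.Limits AlgebraicGeometry AlgSp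

namespace Groth.Agent.AlgSpDec

open Groth.Agent.AlgSpLib

variable {k : Type u} [Field k]

theorem lqfField_left {U : Over (Spec (CommRingCat.of k))} (v : U ⟶ Over.mk (𝟙 (Spec (CommRingCat.of k)))) :
    v.left = U.hom := by
  have := Over.w v
  simpa using this

/-- A locally quasi-finite algebraic space over a field is a scheme, locally quasi-finite over the field. -/
theorem exists_rep_of_lqf_field {X : Sp (Spec (CommRingCat.of k))} (hX : IsAlgSpace X)
    {p : X ⟶ (yon (Spec (CommRingCat.of k))).obj (Over.mk (𝟙 _))}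
    (hp : LocP (@LocallyQuasiFinite ⊓ @LocallyOfFiniteType) p) :
    ∃ Q : Over (Spec (CommRingCat.of k)), Nonempty ((yon _).obj Q ≅ X) ∧
      LocallyQuasiFinite Q.hom ∧ LocallyOfFiniteType Q.hom := by
  have hchart : ∀ {U : Over (Spec (CommRingCat.of k))} (a : (yon _).obj U ⟶ X), RepWith @Etale a →
      LocallyQuasiFinite U.hom ∧ LocallyOfFiniteType U.hom := by
    intro U a ha
    obtain ⟨v, hv⟩ := (yon (Spec (CommRingCat.of k))).map_surjective (a ≫ p)
    obtain ⟨h1, h2⟩ := hp a (𝟙 _) v ha (repWith_id _ _) (by rw [hv, Category.comp_id])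
    rw [lqfField_left v] at h1 h2
    exact ⟨h1, h2⟩
  obtain ⟨Q, hQ⟩ := exists_rep_of_points hX fun x => by
    obtain ⟨U, a, u, hU, ha, hu⟩ := exists_affine_chart_at hX x
    obtain ⟨hq₁, hq₂⟩ := hchart a ha
    haveI : IsLocallyArtinian U.left := IsLocallyArtinian.of_locallyQuasiFinite U.hom
    obtain ⟨A, hA, huA, hAu⟩ := exists_isAffineOpen_mem_and_subset
      (U := (⟨{u}, isOpen_discrete _⟩ : U.left.Opens)) (x := u) (Set.mem_singleton u)
    let W : Over (Spec (CommRingCat.of k)) := Over.mk (A.ι ≫ U.hom)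
    let jW : W ⟶ U := Over.homMk A.ι rfl
    let w : ↥W.left := ⟨u, huA⟩
    haveI : IsAffine W.left := hA
    haveI : Subsingleton ↥W.left := ⟨fun a b => Subtype.ext ((hAu a.2).trans (hAu b.2).symm)⟩
    haveI := isLocalRing_of_subsingleton (U := W.left) w
    let c := (yon _).map jW ≫ a
    have hc : RepWith @Etale c := repWith_comp ((repWith_yon_map_iff _ _).2 (inferInstanceAs (Etale A.ι))) ha
    obtain ⟨hW₁, hW₂⟩ := hchart c hc
    haveI : IsLocallyArtinian W.left := IsLocallyArtinian.of_locallyQuasiFinite W.hom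
    obtain ⟨P, j, c', hj, hc', hc'e, hc's⟩ := exists_image_chart hX hc
    have hP : IsAlgSpace P := Groth.Agent.AlgSpLib.isAlgSpace_of_representable j hj.rep hX
    haveI : Mono j := mono_of_openImmersion hj
    let R := hc'e.rep.pullback c'
    let r₁ : R ⟶ W := hc'e.rep.fst' c'
    let r₂ : R ⟶ W := hc'e.rep.snd c'
    have sq : IsPullback ((yon _).map r₁) ((yon _).map r₂) c' c' := hc'e.rep.isPullback' c'
    haveI : Etale r₂.left := hc'e.property _ _ _ sq
    let n : R.left ⟶ pullback W.hom W.hom := pullback.lift r₁.left r₂.left (by rw [Over.w r₁, Over.w r₂])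
    haveI hn : Mono n := ⟨fun {T} g₁ g₂ hg => by
      have e1 := hg =≫ pullback.fst _ _
      have e2 := hg =≫ pullback.snd _ _
      simp only [n, Category.assoc, pullback.lift_fst, pullback.lift_snd] at e1 e2
      exact rel_ext sq e1 e2⟩
    haveI : LocallyQuasiFinite (pullback.fst W.hom W.hom) := MorphismProperty.pullback_fst _ _ hW₁
    haveI : CompactSpace ↥(pullback W.hom W.hom) := inferInstance
    haveI : IsLocallyArtinian (pullback W.hom W.hom) := IsLocallyArtinian.of_locallyQuasiFinite (pullback.fst W.hom W.hom)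
    haveI : Finite ↥(pullback W.hom W.hom) := finite_of_compact_of_discrete
    haveI : Finite ↥R.left := Finite.of_injective _ n.injective
    haveI : CompactSpace ↥R.left := Finite.compactSpace
    haveI : QuasiCompact r₂.left := HasAffineProperty.iff_of_isAffine.2 ‹CompactSpace ↥R.left›
    haveI : IsFinite r₂.left := IsFinite.of_locallyQuasiFinite r₂.left
    obtain ⟨Z, -, ⟨e⟩⟩ := exists_iso_of_finite_relation hP hc'e hc's sq
    obtain ⟨q, hq⟩ := (Points.schemeHomeo Z).surjective (Points.map e.inv (Points.ofPt c' w))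
    refine ⟨Z, e.hom ≫ j, q, repWith_comp (repWith_of_isIso @IsOpenImmersion e.hom) hj, ?_⟩
    rw [Points.ofPt_eq_map_ofScheme, Points.map_comp]
    change Points.map _ (Points.map _ ((Points.schemeHomeo Z) q)) = _
    rw [hq, ← Points.map_comp _ _ (Points.ofPt c' w), Iso.inv_hom_id, Points.map_id, Points.map_ofPt, hc',
      ofPt_comp]
    exact hu
  exact ⟨Q, hQ, hchart hQ.some.hom (repWith_of_isIso _ _)⟩

theorem isSeparated_of_lqf_field {Q : Scheme.{u}} (v : Q ⟶ Spec (CommRingCat.of k)) [LocallyQuasiFinite v] :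
    Q.IsSeparated := by
  haveI : IsLocallyArtinian Q := IsLocallyArtinian.of_locallyQuasiFinite v
  haveI : LocallyQuasiFinite (pullback.fst v v) := MorphismProperty.pullback_fst _ _ ‹_›
  haveI : LocallyQuasiFinite (pullback.fst v v ≫ v) := inferInstance
  haveI : IsLocallyArtinian (pullback v v) := IsLocallyArtinian.of_locallyQuasiFinite (pullback.fst v v ≫ v)
  haveI : IsClosedImmersion (pullback.diagonal v) := .of_isPreimmersion _ (isClosed_discrete _)
  haveI : IsSeparated v := ⟨inferInstance⟩
  rw [Scheme.isSeparated_iff, ← terminal.comp_from v]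
  infer_instance

theorem isFinite_of_compact_lqf_field {Q : Scheme.{u}} (v : Q ⟶ Spec (CommRingCat.of k)) [LocallyQuasiFinite v]
    (V : Q.Opens) (hV : IsCompact (V : Set ↥Q)) : IsFinite (V.ι ≫ v) := by
  haveI : CompactSpace ↥(V : Scheme.{u}) := isCompact_iff_compactSpace.1 hV
  haveI : QuasiCompact (V.ι ≫ v) := HasAffineProperty.iff_of_isAffine.2 ‹CompactSpace ↥(V : Scheme.{u})›
  exact IsFinite.of_locallyQuasiFinite _

theorem isAffineOpen_of_compact_lqf_field {Q : Scheme.{u}} (v : Q ⟶ Spec (CommRingCat.of k)) [LocallyQuasiFinite v]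
    (V : Q.Opens) (hV : IsCompact (V : Set ↥Q)) : IsAffineOpen V := by
  haveI := isFinite_of_compact_lqf_field v V hV
  exact isAffine_of_isAffineHom (V.ι ≫ v)

end Groth.Agent.AlgSpDec
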