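import Groth.Prelude.Def_Flat
import Groth.Agent.AlgSpPts.Dim
import Groth.Agent.AlgSpDec.Basic
import Groth.Agent.AlgSpDec.LqfField
import Mathlib.AlgebraicGeometry.Artinian

/-!
# Isolated points of algebraic spaces locally of finite type over a field
-/

set_option autoImplicit false
set_option linter.style.haveILetI false
set_option backward.isDefEq.respectTransparency false
set_option backward.isDefEq.respectTransparency.types false

universe u

open CategoryTheory CategoryTheory.Limits AlgebraicGeometry AlgSp TopologicalSpace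

namespace Groth.Agent.AlgSpDec

open Groth.Agent.AlgSpLib Groth.Agent.AlgSpPts

/-- A set of points of constant codimension, stable under generization and locally closed, consists of open and
closed points. -/
theorem isOpen_and_isClosed_singleton {U : Scheme.{u}} [IsLocallyNoetherian U] [JacobsonSpace ↥U] {F W : Set ↥U}
    (hW : IsOpen W) (hFW : F ⊆ W) (hcl : closure F ∩ W ⊆ F) (hgen : ∀ u ∈ F, ∀ v, v ⤳ u → v ∈ F)
    (hco : ∀ u ∈ F, ∀ v ∈ F, Order.coheight u = Order.coheight v) {u : ↥U} (hu : u ∈ F) :
    IsOpen ({u} : Set ↥U) ∧ IsClosed ({u} : Set ↥U) := by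
  have hmax : ∀ w ∈ F, ∀ v, v ⤳ w → v = w := by
    intro w hw v hv
    let C := irreducibleComponent w
    have hC : IsIrreducible C := isIrreducible_irreducibleComponent
    let η := hC.genericPoint
    have hη : IsGenericPoint η C := hC.isGenericPoint_genericPoint isClosed_irreducibleComponent
    have hηw : η ⤳ w := hη.specializes mem_irreducibleComponent
    have hηmax : IsMax η := by
      intro z hz
      have h1 : C ⊆ closure {z} := by
        rw [← hη.def]
        exact closure_minimal (Set.singleton_subset_iff.2 (Specializes.mem_closure hz)) isClosed_closure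
      have h2 : closure {z} = C :=
        eq_irreducibleComponent isIrreducible_singleton.closure.isPreirreducible h1
      exact hη.specializes (h2 ▸ subset_closure rfl)
    have h0 : Order.coheight w = 0 := by
      rw [hco w hw η (hgen w hw η hηw)]
      exact Order.coheight_eq_zero.2 hηmax
    have := Order.coheight_eq_zero.1 h0 (show w ≤ v from hv)
    exact (hv.antisymm (show w ⤳ v from this)).eq
  have hlc : closure ({u} : Set ↥U) ∩ W = {u} := by
    refine Set.Subset.antisymm (fun v hv => ?_) (Set.singleton_subset_iff.2 ⟨subset_closure rfl, hFW hu⟩)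
    have hvF : v ∈ F := hcl ⟨closure_mono (Set.singleton_subset_iff.2 hu) hv.1, hv.2⟩
    exact (hmax v hvF u (specializes_iff_mem_closure.2 hv.1)).symm
  have hclosed : IsClosed ({u} : Set ↥U) := by
    apply isClosed_singleton_of_isLocallyClosed_singleton
    rw [← hlc]
    exact isClosed_closure.isLocallyClosed.inter hW.isLocallyClosed
  refine ⟨?_, hclosed⟩
  obtain ⟨A, hA, huA, -⟩ := exists_isAffineOpen_mem_and_subset (U := (⊤ : U.Opens)) (x := u) trivial
  haveI : IsNoetherianRing Γ(U, A) := IsLocallyNoetherian.component_noetherian ⟨A, hA⟩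
  haveI : NoetherianSpace ↥(A : Scheme.{u}) := noetherianSpace_of_isAffineOpen A hA
  let a : ↥(A : Scheme.{u}) := ⟨u, huA⟩
  have key : ({a}ᶜ : Set ↥(A : Scheme.{u})) =
      ⋃ C ∈ {C ∈ irreducibleComponents ↥(A : Scheme.{u}) | a ∉ C}, C := by
    ext v
    simp only [Set.mem_compl_iff, Set.mem_singleton_iff, Set.mem_iUnion, Set.mem_ofPred_eq, exists_prop]
    refine ⟨fun hv => ⟨irreducibleComponent v, ⟨irreducibleComponent_mem_irreducibleComponents v, fun ha => ?_⟩,
      mem_irreducibleComponent⟩, fun ⟨C, hCa, hvC⟩ hva => hCa.2 (hva ▸ hvC)⟩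
    have hC : IsIrreducible (irreducibleComponent v) := isIrreducible_irreducibleComponent
    have hη := hC.isGenericPoint_genericPoint isClosed_irreducibleComponent
    have e : A.ι hC.genericPoint = A.ι a := hmax u hu _ ((hη.specializes ha).map A.ι.continuous)
    have e' : hC.genericPoint = a := A.ι.injective e
    have h2 : a ⤳ v := e' ▸ hη.specializes mem_irreducibleComponent
    have h3 : A.ι v ∈ ({u} : Set ↥U) := hclosed.closure_subset_iff.2 subset_rfl
      (specializes_iff_mem_closure.1 (h2.map A.ι.continuous))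
    exact hv (A.ι.injective h3)
  have hop : IsOpen ({a} : Set ↥(A : Scheme.{u})) := by
    rw [← isClosed_compl_iff, key]
    exact (NoetherianSpace.finite_irreducibleComponents.subset (Set.sep_subset _ _)).isClosed_biUnion
      fun C hC => isClosed_of_mem_irreducibleComponents C hC.1
  have := A.ι.isOpenEmbedding.isOpenMap _ hop
  rwa [Set.image_singleton] at this

theorem zero_le_localDim {T : Type*} [TopologicalSpace T] (x : T) : 0 ≤ FlatMor.localDim T x := by
  refine le_iInf fun U => ?_
  haveI : Nonempty (IrreducibleCloseds (U.1 : Set T)) :=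
    ⟨⟨closure {⟨x, U.2⟩}, isIrreducible_singleton.closure, isClosed_closure⟩⟩
  exact Order.krullDim_nonneg

theorem localDim_eq_zero_of_isOpen {T : Type*} [TopologicalSpace T] {x : T} (h : IsOpen ({x} : Set T)) :
    FlatMor.localDim T x = 0 := by
  refine le_antisymm ((iInf_le _ ⟨⟨{x}, h⟩, Set.mem_singleton x⟩).trans ?_) (zero_le_localDim x)
  haveI : Subsingleton ↥({x} : Set T) := ⟨fun a b => Subtype.ext (a.2.trans b.2.symm)⟩
  exact topologicalKrullDim_zero_of_discreteTopology _

theorem exists_open_of_localDim_eq_zero {T : Type*} [TopologicalSpace T] {x : T} (h : FlatMor.localDim T x = 0) :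
    ∃ W : Opens T, x ∈ W ∧ topologicalKrullDim (W : Set T) ≤ 0 := by
  have : FlatMor.localDim T x < 1 := by rw [h]; exact zero_lt_one
  obtain ⟨U, hU⟩ := iInf_lt_iff.1 this
  refine ⟨U.1, U.2, ?_⟩
  revert hU
  generalize topologicalKrullDim ↥((U.1 : Opens T) : Set T) = d
  cases d with
  | bot => simp
  | coe n =>
    intro hn
    exact WithBot.coe_le_coe.2 (Order.lt_one_iff.1 (WithBot.coe_lt_coe.1 hn)).le

theorem isOpen_singleton_of_localDim_eq_zero {U : Scheme.{u}} [IsLocallyNoetherian U] {x : ↥U}
    (h : FlatMor.localDim ↥U x = 0) : IsOpen ({x} : Set ↥U) := by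
  obtain ⟨W, hx, hW⟩ := exists_open_of_localDim_eq_zero h
  let W : U.Opens := W
  haveI : IsLocallyArtinian (W : Scheme.{u}) := IsLocallyArtinian.of_topologicalKrullDim_le_zero hW
  have h1 := W.ι.isOpenEmbedding.isOpenMap _ (isOpen_discrete ({⟨x, hx⟩} : Set ↥(W : Scheme.{u})))
  rwa [Set.image_singleton] at h1

theorem eq_of_specializes_of_dim_le_zero {T : Type*} [TopologicalSpace T] [T0Space T] {W : Set T}
    (h : topologicalKrullDim W ≤ 0) {y z : T} (hy : y ∈ W) (hz : z ∈ W) (hyz : y ⤳ z) : y = z := by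
  let Z : IrreducibleCloseds W := ⟨closure {⟨z, hz⟩}, isIrreducible_singleton.closure, isClosed_closure⟩
  let Y : IrreducibleCloseds W := ⟨closure {⟨y, hy⟩}, isIrreducible_singleton.closure, isClosed_closure⟩
  have hs : (⟨y, hy⟩ : W) ⤳ ⟨z, hz⟩ := (subtype_specializes_iff _ _).2 hyz
  have hle : Z ≤ Y := closure_minimal (Set.singleton_subset_iff.2 hs.mem_closure) isClosed_closure
  have hZY : Z = Y := by
    by_contra hne
    have h1 : 0 < topologicalKrullDim W := Order.krullDim_pos_iff.2 ⟨Z, Y, lt_of_le_of_ne hle hne⟩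
    exact absurd h1 (not_lt.2 h)
  have hs' : (⟨z, hz⟩ : W) ⤳ ⟨y, hy⟩ := specializes_iff_mem_closure.2 (by
    have : (Z : Set W) = Y := congrArg SetLike.coe hZY
    show (⟨y, hy⟩ : W) ∈ (Z : Set W)
    rw [this]
    exact subset_closure rfl)
  exact (hyz.antisymm ((subtype_specializes_iff _ _).1 hs')).eq

variable {k : Type u} [Field k] {X : Sp (Spec (CommRingCat.of k))}
  {p : X ⟶ (yon (Spec (CommRingCat.of k))).obj (Over.mk (𝟙 _))}

theorem chart_package (hp : LocP @LocallyOfFiniteType p) {U : Over (Spec (CommRingCat.of k))}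
    {a : (yon _).obj U ⟶ X} (ha : RepWith @Etale a) :
    IsLocallyNoetherian U.left ∧ JacobsonSpace ↥U.left := by
  obtain ⟨v, hv⟩ := (yon (Spec (CommRingCat.of k))).map_surjective (a ≫ p)
  have hl := hp a (𝟙 _) v ha (repWith_id _ _) (by rw [hv, Category.comp_id])
  let v' : U.left ⟶ Spec (CommRingCat.of k) := v.left
  haveI : LocallyOfFiniteType v' := hl
  exact ⟨LocallyOfFiniteType.isLocallyNoetherian v', LocallyOfFiniteType.jacobsonSpace v'⟩

/-- A point without proper generization which is closed in some open set is isolated on every chart, and is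
open and closed. -/
theorem isolated_point (hX : IsAlgSpace X) (hp : LocP @LocallyOfFiniteType p) {x : Points X} {W : Set (Points X)}
    (hW : IsOpen W) (hxW : x ∈ W) (hcl : closure {x} ∩ W ⊆ {x}) (hgen : ∀ x', x' ⤳ x → x' = x) :
    (∀ {U : Over (Spec (CommRingCat.of k))} (a : (yon _).obj U ⟶ X) (u : ↥U.left), RepWith @Etale a →
      Points.ofPt a u = x → IsOpen ({u} : Set ↥U.left)) ∧ IsOpen ({x} : Set (Points X)) ∧
      IsClosed ({x} : Set (Points X)) := by
  have key : ∀ {U : Over (Spec (CommRingCat.of k))} (a : (yon _).obj U ⟶ X) (u : ↥U.left), RepWith @Etale a →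
      Points.ofPt a u = x → IsOpen ({u} : Set ↥U.left) ∧ IsClosed ({u} : Set ↥U.left) := by
    intro U a u ha hu
    obtain ⟨_, _⟩ := chart_package hp ha
    have hc := Points.continuous_ofPt a
    refine isOpen_and_isClosed_singleton (F := Points.ofPt a ⁻¹' {x}) (W := Points.ofPt a ⁻¹' W) (hW.preimage hc)
      (fun v hv => by rw [Set.mem_preimage, Set.mem_singleton_iff.1 hv]; exact hxW)
      (fun v hv => hcl ⟨hc.closure_preimage_subset _ hv.1, hv.2⟩)
      (fun v hv w hw => hgen _ (by rw [← Set.mem_singleton_iff.1 hv]; exact hw.map hc))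
      (fun v hv w hw => coheight_eq_of_charts ha ha (hv.trans hw.symm)) hu
  obtain ⟨U, a, ha, ha'⟩ := hX.atlas
  refine ⟨fun a u ha hu => (key a u ha hu).1, ?_, ?_⟩
  · obtain ⟨u, hu⟩ := surjective_ofPt ha' x
    have := isOpenMap_ofPt ha _ (key a u ha hu).1
    rwa [Set.image_singleton, hu] at this
  · rw [← isOpen_compl_iff, isOpen_iff_chart ha ha', Set.preimage_compl, isOpen_compl_iff,
      ← isOpen_compl_iff]
    refine isOpen_iff_forall_mem_open.2 fun v hv => ?_
    obtain ⟨_, _⟩ := chart_package hp ha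
    obtain ⟨A, hA, hvA, -⟩ := exists_isAffineOpen_mem_and_subset (U := (⊤ : U.left.Opens)) (x := v) trivial
    haveI : IsNoetherianRing Γ(U.left, A) := IsLocallyNoetherian.component_noetherian ⟨A, hA⟩
    haveI : NoetherianSpace ↥(A : Scheme.{u}) := noetherianSpace_of_isAffineOpen A hA
    let F' : Set ↥(A : Scheme.{u}) := A.ι ⁻¹' (Points.ofPt a ⁻¹' {x})
    haveI : DiscreteTopology F' := discreteTopology_iff_isOpen_singleton.2 fun w =>
      ⟨A.ι ⁻¹' {A.ι w.1}, (key a _ ha w.2).1.preimage A.ι.continuous, Set.ext fun z =>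
        ⟨fun h => Subtype.ext (A.ι.injective h), fun h => congrArg A.ι (congrArg Subtype.val h)⟩⟩
    have hfin : (A.ι '' F').Finite := by
      haveI : CompactSpace F' := inferInstance
      haveI : Finite F' := finite_of_compact_of_discrete
      exact (Set.toFinite F').image _
    refine ⟨(A : Set ↥U.left) \ A.ι '' F', fun w hw hwF => hw.2 ⟨⟨w, hw.1⟩, hwF, rfl⟩, ?_, hvA, ?_⟩
    · refine A.2.sdiff ?_
      rw [← Set.biUnion_of_singleton (A.ι '' F')]
      exact hfin.isClosed_biUnion fun w hw => by
        obtain ⟨z, hz, rfl⟩ := hw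
        exact (key a _ ha hz).2
    · rintro ⟨z, hz, rfl⟩
      exact hv hz

theorem no_gen_of_isOpen {T : Type*} [TopologicalSpace T] {x : T} (h : IsOpen ({x} : Set T)) {x' : T}
    (hx' : x' ⤳ x) : x' = x :=
  hx'.mem_open h rfl

/-- An isolated point is isolated on every chart and closed. -/
theorem isolated_of_isOpen (hX : IsAlgSpace X) (hp : LocP @LocallyOfFiniteType p) {x : Points X}
    (h : IsOpen ({x} : Set (Points X))) :
    (∀ {U : Over (Spec (CommRingCat.of k))} (a : (yon _).obj U ⟶ X) (u : ↥U.left), RepWith @Etale a →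
      Points.ofPt a u = x → IsOpen ({u} : Set ↥U.left)) ∧ IsClosed ({x} : Set (Points X)) :=
  let h' := isolated_point hX hp h rfl (fun _ hv => hv.2) fun _ => no_gen_of_isOpen h
  ⟨h'.1, h'.2.2⟩

end Groth.Agent.AlgSpDec
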