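import Groth.Agent.AlgSpDec.FiniteLevel
import Groth.Agent.AlgSpDec.PointsLftField
import Groth.Agent.AlgSpDec.More
import Groth.Agent.AlgSpLib.LocP
import Mathlib.AlgebraicGeometry.AlgClosed.Basic

/-!
# A space whose base change to the algebraic closure is a scheme with enough affines
-/

set_option backward.isDefEq.respectTransparency false
set_option backward.isDefEq.respectTransparency.types false

universe u

open CategoryTheory CategoryTheory.Limits AlgebraicGeometry Opposite AlgSp Groth.Agent.AlgSpLib
  Groth.Agent.AlgSpDec.BcConn Groth.Agent.AlgSpDec.GeomRed Groth.Agent.AlgSpDec.AffineBc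
open scoped TensorProduct

namespace Groth.Agent.AlgSpDec.EnoughAffines

variable {k : Type u} [Field k] {X : Sp (Spec (CommRingCat.of k))}

theorem finite_of_isCompact_of_isClosed_of_closed_points {Y : Scheme.{u}} [IsLocallyNoetherian Y] {S : Set Y}
    (hc : IsCompact S) (hcl : IsClosed S) (hpts : ∀ z ∈ S, IsClosed ({z} : Set Y)) : S.Finite := by
  choose A hA hxA using fun x : Y => Groth.Agent.GrpdLib.exists_affineOpen_mem x
  obtain ⟨t, ht⟩ := hc.elim_finite_subcover (fun x => (A x : Set Y)) (fun x => (A x).2)
    fun x _ => Set.mem_iUnion.2 ⟨x, hxA x⟩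
  refine (t.finite_toSet.biUnion fun x _ => (?_ : (S ∩ (A x : Set Y)).Finite)).subset fun z hz => ?_
  swap
  · obtain ⟨x, hx, hzx⟩ := Set.mem_iUnion₂.1 (ht hz)
    exact Set.mem_biUnion hx ⟨hz, hzx⟩
  haveI : TopologicalSpace.NoetherianSpace ↥(A x : Set Y) :=
    haveI : IsNoetherianRing Γ(Y, A x) := IsLocallyNoetherian.component_noetherian ⟨A x, hA x⟩
    noetherianSpace_of_isAffineOpen (A x) (hA x)
  let S' : Set (A x : Set Y) := Subtype.val ⁻¹' S
  haveI : TopologicalSpace.NoetherianSpace S' := inferInstance
  haveI : T1Space S' := ⟨fun w => by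
    have := (hpts _ w.2).preimage (continuous_subtype_val.comp continuous_subtype_val :
      Continuous fun v : S' => ((v : (A x : Set Y)) : Y))
    rwa [show ({w} : Set S') = (fun v : S' => ((v : (A x : Set Y)) : Y)) ⁻¹' {((w : (A x : Set Y)) : Y)} from
      Set.ext fun v => ⟨fun h => congrArg (fun v : S' => ((v : (A x : Set Y)) : Y)) h,
        fun h => Subtype.ext (Subtype.ext h)⟩]⟩
  haveI : QuasiSober (A x : Set Y) := (A x).2.isOpenEmbedding_subtypeVal.quasiSober
  haveI : QuasiSober S' :=
    ((hcl.preimage continuous_subtype_val).isClosedEmbedding_subtypeVal).quasiSober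
  have hfin : Finite S' := by
    have hf : (irreducibleComponents S').Finite := TopologicalSpace.NoetherianSpace.finite_irreducibleComponents
    have hu : (Set.univ : Set S') ⊆ ⋃₀ irreducibleComponents S' := sUnion_irreducibleComponents.symm.subset
    refine Set.finite_univ_iff.1 ((hf.sUnion fun Z hZ => ?_).subset hu)
    obtain ⟨η, hη⟩ := QuasiSober.sober hZ.1 (isClosed_of_mem_irreducibleComponents Z hZ)
    refine (Set.finite_singleton η).subset ?_
    rw [← hη.def, closure_singleton]
  refine ((Set.finite_range fun v : S' => ((v : (A x : Set Y)) : Y))).subset fun z hz => ⟨⟨⟨z, hz.2⟩, hz.1⟩, rfl⟩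

/-- The theorem. -/
theorem isRepresentable (hX : IsAlgSpace X) (hdec : IsDecent X)
    (p : X ⟶ (yon (Spec (CommRingCat.of k))).obj (Over.mk (𝟙 _))) (hp : LocP @LocallyOfFiniteType p)
    (K : Type u) [Field K] [Algebra k K] [IsAlgClosed K] [Algebra.IsAlgebraic k K]
    (T : Over (Spec (CommRingCat.of k))) (e : (yon _).obj T ≅ X ⨯ (yon _).obj (ext (k := k) K))
    (q : T ⟶ ext (k := k) K) (hq : (yon _).map q = e.hom ≫ Limits.prod.snd)
    (h3 : ∀ s : Finset ↥T.left,
      (∀ t ∈ s, ∃ σ : Spec (CommRingCat.of K) ⟶ T.left, σ ≫ q.left = 𝟙 _ ∧ σ (IsLocalRing.closedPoint K) = t) →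
        ∃ W : T.left.Opens, IsAffineOpen W ∧ ∀ t ∈ s, t ∈ W) :
    X.obj.IsRepresentable := by
  classical
  have hN : IsLocNoethSp X := by
    obtain ⟨U, a, ha, has⟩ := hX.atlas
    exact ⟨U, a, ha, has, (chart_package hp ha).1⟩
  have hqs := isQuasiSeparatedSp_of_locNoeth hX hN hdec
  let E := (yon _).obj (ext (k := k) K)
  have hXK : IsAlgSpace (X ⨯ E) := Groth.Agent.AlgSpPts.isAlgSpace_prod hX (IsAlgSpace.yon_obj _)
  have hsnd : LocP @LocallyOfFiniteType (prod.snd : X ⨯ E ⟶ E) := by
    obtain rfl : p = (Groth.Agent.AlgSpPts.isTerminalYon _).from X :=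
      (Groth.Agent.AlgSpPts.isTerminalYon _).hom_ext _ _
    exact locP_of_isPullback (AlgSpDec.SpreadOut.isPullback_prod X (ext (k := k) K)) hX (IsAlgSpace.yon_obj _) (IsAlgSpace.yon_obj _) hp
  have hlft : LocallyOfFiniteType q.left :=
    hsnd e.hom (𝟙 _) q (repWith_of_isIso _ _) (repWith_id _ _) (by rw [Category.comp_id, hq])
  haveI : LocallyOfFiniteType q.left := hlft
  let v : T.left ⟶ Spec (CommRingCat.of K) := q.left
  haveI : LocallyOfFiniteType v := hlft
  haveI : IsLocallyNoetherian T.left := LocallyOfFiniteType.isLocallyNoetherian v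
  haveI : JacobsonSpace ↥T.left := LocallyOfFiniteType.jacobsonSpace v
  let φ : ↥T.left → Points (X ⨯ E) := fun t => Points.map e.hom (Points.ofScheme T t)
  let ψ : Points (X ⨯ E) → ↥T.left := fun z => Points.toScheme T (Points.map e.inv z)
  have hφψ : ∀ z, φ (ψ z) = z := fun z => by
    simp only [φ, ψ]
    rw [Points.ofScheme_toScheme, ← Points.map_comp, e.inv_hom_id, Points.map_id]
  let π : ↥T.left → Points X := fun t => Points.map prod.fst (φ t)
  have hπc : Continuous π := by
    have : π = Points.ofPt (e.hom ≫ prod.fst) := by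
      funext t
      simp only [π, φ]
      rw [← Points.map_comp, Points.ofPt_eq_map_ofScheme]
    rw [this]
    exact Points.continuous_ofPt _
  have hπcl : ∀ C : Set T.left, IsClosed C → IsClosed (π '' C) := fun C hC => by
    have h1 : IsClosed (φ '' C) := by
      have : φ '' C = Points.map e.inv ⁻¹' (Points.schemeHomeo T '' C) := by
        ext z
        constructor
        · rintro ⟨t, ht, rfl⟩
          exact ⟨t, ht, by simp only [φ]; rw [← Points.map_comp, e.hom_inv_id, Points.map_id]; rfl⟩
        · rintro ⟨t, ht, h⟩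
          exact ⟨t, ht, by
            show Points.map e.hom (Points.schemeHomeo T t) = z
            rw [h, ← Points.map_comp, e.inv_hom_id, Points.map_id]⟩
      rw [this]
      exact ((Points.schemeHomeo T).isClosedMap _ hC).preimage (Points.continuous_map _)
    have := isClosedMap_fst (K := K) hX _ h1
    rwa [← Set.image_comp] at this
  have hπs : Function.Surjective π := fun x => by
    obtain ⟨F, _, _, ξ, hξ⟩ := FibreChart.exists_field_rep x
    obtain ⟨r⟩ : Nonempty (PrimeSpectrum (TensorProduct k F K)) := inferInstance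
    refine ⟨ψ (Points.ofPt (SpreadOut.psi ξ K) r), ?_⟩
    simp only [π]
    rw [hφψ, Points.map_ofPt]
    have : SpreadOut.psi ξ K ≫ prod.fst =
        (yon _).map (specMapOver (Algebra.TensorProduct.includeLeft : F →ₐ[k] F ⊗[k] K)) ≫ ξ := prod.lift_fst _ _
    rw [this, AlgSpLib.ofPt_comp, ← hξ]
    congr 1
    exact Subsingleton.elim (α := PrimeSpectrum F) _ _
  -- closed points have affine neighbourhoods
  have key : ∀ x : Points X, IsClosed ({x} : Set (Points X)) →
      ∃ (Z : Over (Spec (CommRingCat.of k))) (j : (yon _).obj Z ⟶ X),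
        RepWith @IsOpenImmersion j ∧ x ∈ Set.range (Points.map j) := by
    intro x hx
    obtain ⟨F, _, _, ξ, hξ⟩ := FibreChart.exists_field_rep x
    let S : Set T.left := π ⁻¹' {x}
    have hScl : IsClosed S := hx.preimage hπc
    have hpts : ∀ t ∈ S, IsClosed ({t} : Set T.left) := by
      intro t ht
      obtain ⟨t₀, ht₀, ht₀c⟩ : ∃ t₀ ∈ S, IsClosed ({t₀} : Set T.left) :=
        nonempty_inter_closedPoints ⟨t, ht⟩ hScl.isLocallyClosed
      haveI : IsAlgClosure k K := ⟨inferInstance, inferInstance⟩
      haveI : Normal k K := inferInstance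
      obtain ⟨σ, -, hσ⟩ := BcConn.exists_gal (BcConn.toSelf K) (BcConn.chg_eq_of_fst_eq
        (z := φ t₀) (z' := φ t) (by
          have h1 : π t₀ = x := ht₀
          have h2 : π t = x := ht
          exact h1.trans h2.symm))
      let g : ↥T.left → ↥T.left := fun u => ψ (Points.map (chg (galHom σ) X) (φ u))
      have hgt : g t₀ = t := by
        simp only [g]
        rw [hσ]
        simp only [ψ, φ]
        rw [← Points.map_comp, e.hom_inv_id, Points.map_id]
        exact (Points.schemeEquiv T).left_inv t
      have hgc : IsClosed (g '' {t₀}) := by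
        have h1 : IsClosed (φ '' {t₀}) := by
          rw [Set.image_singleton]
          have : ({φ t₀} : Set (Points (X ⨯ E))) = Points.map e.inv ⁻¹' {Points.ofScheme T t₀} := by
            ext z
            simp only [φ, Set.mem_singleton_iff, Set.mem_preimage]
            constructor
            · rintro rfl; rw [← Points.map_comp, e.hom_inv_id, Points.map_id]
            · intro h; rw [← h, ← Points.map_comp, e.inv_hom_id, Points.map_id]
          rw [this]
          refine IsClosed.preimage (Points.continuous_map _) ?_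
          rw [show ({Points.ofScheme T t₀} : Set _) = Points.schemeHomeo T '' {t₀} from (Set.image_singleton).symm]
          exact (Points.schemeHomeo T).isClosedMap _ ht₀c
        have h2 := BcConn.isClosedMap_chg (galHom σ) hX _ h1
        rw [Set.image_singleton, Set.image_singleton] at h2
        rw [Set.image_singleton]
        have : ({g t₀} : Set T.left) = (fun u => Points.ofScheme T u) ⁻¹'
            (Points.map e.hom ⁻¹' {Points.map (chg (galHom σ) X) (φ t₀)}) := by
          ext u
          simp only [g, ψ, Set.mem_singleton_iff, Set.mem_preimage]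
          constructor
          · rintro rfl; rw [Points.ofScheme_toScheme, ← Points.map_comp, e.inv_hom_id, Points.map_id]
          · intro h
            rw [← h, ← Points.map_comp, e.hom_inv_id, Points.map_id]
            exact ((Points.schemeEquiv T).left_inv u).symm
        rw [this]
        exact (h2.preimage (Points.continuous_map _)).preimage (Points.schemeHomeo T).continuous
      rw [Set.image_singleton, hgt] at hgc
      exact hgc
    have hSc : IsCompact S := by
      have : S = Set.range (fun r => ψ (Points.ofPt (SpreadOut.psi ξ K) r)) := by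
        ext t
        constructor
        · intro ht
          obtain ⟨r, hr⟩ := SpreadOut.exists_psi_point ξ K (φ t) ((ht : π t = x).trans hξ.symm)
          refine ⟨r, ?_⟩
          simp only [hr, ψ, φ]
          rw [← Points.map_comp, e.hom_inv_id, Points.map_id]
          exact (Points.schemeEquiv T).left_inv t
        · rintro ⟨r, rfl⟩
          show π _ = x
          simp only [π]
          rw [hφψ, Points.map_ofPt]
          have : SpreadOut.psi ξ K ≫ prod.fst =
              (yon _).map (specMapOver (Algebra.TensorProduct.includeLeft : F →ₐ[k] F ⊗[k] K)) ≫ ξ := prod.lift_fst _ _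
          rw [this, AlgSpLib.ofPt_comp, ← hξ]
          congr 1
          exact Subsingleton.elim (α := PrimeSpectrum F) _ _
      rw [this]
      haveI : CompactSpace ↥(specOver k (F ⊗[k] K)).left := inferInstanceAs (CompactSpace (PrimeSpectrum _))
      exact isCompact_range ((Points.schemeHomeo T).symm.continuous.comp
        ((Points.continuous_map _).comp (Points.continuous_ofPt _)))
    have hSf := finite_of_isCompact_of_isClosed_of_closed_points hSc hScl hpts
    obtain ⟨V, hV, hSV⟩ := h3 hSf.toFinset fun t ht =>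
      ⟨pointOfClosedPoint v t (hpts t (hSf.mem_toFinset.1 ht)),
        pointOfClosedPoint_comp v t _, pointOfClosedPoint_apply v t _ _⟩
    let W : Over (Spec (CommRingCat.of k)) := Over.mk (V.ι ≫ T.hom)
    let ι : W ⟶ T := Over.homMk V.ι rfl
    haveI : IsAffine W.left := hV
    have hjW : RepWith @IsOpenImmersion ((yon _).map ι ≫ e.hom) :=
      MorphismProperty.RespectsIso.postcomp _ e.hom _ ((repWith_yon_map_iff _ ι).2 (inferInstanceAs (IsOpenImmersion V.ι)))
    obtain ⟨A, hA, O, hO, hcov⟩ := SpreadOut.exists_stage_all hX hqs ξ _ hjW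
    obtain ⟨s, rfl⟩ := hA
    let k' : IntermediateField k K := IntermediateField.adjoin k (s : Set K)
    haveI : FiniteDimensional k k' := IntermediateField.finiteDimensional_adjoin fun x _ =>
      (Algebra.IsAlgebraic.isAlgebraic (R := k) x).isIntegral
    have hle : Algebra.adjoin k (s : Set K) ≤ k'.toSubalgebra :=
      IntermediateField.algebra_adjoin_le_adjoin k _
    obtain ⟨U, jU, hU, hjU, hUcov⟩ := hcov k' (Subalgebra.inclusion hle)
    haveI := hU
    obtain ⟨Z, j, -, hj, hxj⟩ := FibreAffine.exists_affine_nhd' hX jU hjU ξ (fun z hz => by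
      obtain ⟨y, rfl⟩ := BcConn.surjective_chg (fieldHom k') (X := X) z
      rw [BcConn.fst_chg] at hz
      obtain ⟨r, hr⟩ := SpreadOut.exists_psi_point ξ K y hz
      have hψ : SpreadOut.psi ξ K ≫ chg (fieldHom k') X =
          (yon _).map (specMapOver (Algebra.TensorProduct.map (AlgHom.id k F) k'.val)) ≫
            SpreadOut.psi ξ k' := SpreadOut.psi_natural ξ k'.val
      rw [← hr, Points.map_ofPt, hψ, AlgSpLib.ofPt_comp]
      refine hUcov _ ?_
      have e2 : (Algebra.TensorProduct.map (AlgHom.id k F) k'.val).comp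
          (Algebra.TensorProduct.map (AlgHom.id k F) (Subalgebra.inclusion hle)) =
          Algebra.TensorProduct.map (AlgHom.id k F) (Algebra.adjoin k (s : Set K)).val :=
        Algebra.TensorProduct.ext' fun a b => rfl
      have hrW : Points.ofPt (SpreadOut.psi ξ K) r ∈ Set.range (Points.map ((yon _).map ι ≫ e.hom)) := by
        rw [hr]
        have hyS : ψ y ∈ S := by
          show π (ψ y) = x
          simp only [π]
          rw [hφψ, hz, hξ]
        refine ⟨Points.ofScheme W ⟨ψ y, hSV _ (hSf.mem_toFinset.2 hyS)⟩, ?_⟩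
        rw [Points.map_comp]
        erw [Points.map_yon_map_apply]
        exact hφψ y
      have h0 := hO r hrW
      rw [← e2] at h0
      exact h0)
    exact ⟨Z, j, hj, hξ ▸ hxj⟩
  refine GroupScheme.isRepresentable_of_nhds hX fun x => ?_
  by_contra hno
  let G : Set (Points X) := {y | ∃ (Z : Over (Spec (CommRingCat.of k))) (j : (yon _).obj Z ⟶ X),
    RepWith @IsOpenImmersion j ∧ y ∈ Set.range (Points.map j)}
  have hG : IsOpen G := isOpen_iff_forall_mem_open.2 fun y ⟨Z, j, hj, hy⟩ =>
    ⟨Set.range (Points.map j), fun w hw => ⟨Z, j, hj, hw⟩, (Groth.Agent.AlgSpPts.isOpenMap_map (repWith_mono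
      (fun A B g (hg : IsOpenImmersion g) => (inferInstance : UniversallyOpen g)) _ hj)).isOpen_range, hy⟩
  obtain ⟨t, ht⟩ := hπs x
  obtain ⟨t₀, ht₀, ht₀c⟩ : ∃ t₀ ∈ π ⁻¹' Gᶜ, IsClosed ({t₀} : Set T.left) :=
    nonempty_inter_closedPoints ⟨t, show π t ∈ Gᶜ by rw [ht]; exact hno⟩
      (hG.isClosed_compl.preimage hπc).isLocallyClosed
  exact ht₀ (key _ (by simpa using hπcl _ ht₀c))

end Groth.Agent.AlgSpDec.EnoughAffines
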