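import Groth.Agent.AlgSpLib.Rep
import Groth.Agent.AlgSpPts.Descent
import Mathlib.CategoryTheory.Sites.LocallySurjective
import Mathlib.CategoryTheory.Limits.Types.Pullbacks

/-!
# Base change of epimorphisms of sheaves of sets
-/

set_option backward.isDefEq.respectTransparency false
set_option backward.isDefEq.respectTransparency.types false

universe u

open CategoryTheory CategoryTheory.Limits AlgebraicGeometry Opposite AlgSp

namespace Groth.Agent.AlgSpDec

variable {S : Scheme.{u}}

/-- The base change of an epimorphism of sheaves is an epimorphism. -/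
theorem epi_of_isPullback_sheaf {P X Y Z : Sp S} {a : P ⟶ X} {b : P ⟶ Y} {f : X ⟶ Z} {g : Y ⟶ Z}
    (sq : IsPullback a b f g) [Epi f] : Epi b := by
  haveI hf : Sheaf.IsLocallySurjective f := (Sheaf.isLocallySurjective_iff_epi f).2 inferInstance
  refine (Sheaf.isLocallySurjective_iff_epi b).1 ⟨fun {T} y => ?_⟩
  refine (J S).superset_covering ?_ (Presheaf.imageSieve_mem (J S) f.hom (g.hom.app (op T) y))
  intro V i ⟨x, hx⟩
  have h := ((sq.map (sheafToPresheaf (J S) (Type (u + 1)))).map
    ((evaluation (Over S)ᵒᵖ (Type (u + 1))).obj (op V)))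
  obtain ⟨z, -, hz⟩ := Types.exists_of_isPullback h x (Y.obj.map i.op y) (by
    refine hx.trans ?_
    exact (ConcreteCategory.congr_hom (g.hom.naturality i.op) y).symm)
  exact ⟨z, hz⟩

end Groth.Agent.AlgSpDec
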