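import Groth.Agent.AlgSpDec.SpQuot
import Groth.Agent.AlgSpDec.OpenCoverSpace
import Groth.Agent.AlgSpLib.EtaleSmoothLocal
import Groth.Agent.AlgSpPts.Univ

/-!
# Sheaves covered by a family with etale fibre products are algebraic spaces
-/

set_option linter.style.haveILetI false
set_option autoImplicit false
set_option backward.isDefEq.respectTransparency false
set_option backward.isDefEq.respectTransparency.types false

universe u

open CategoryTheory CategoryTheory.Limits Opposite AlgebraicGeometry AlgSp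
open Groth.Agent.AlgSpLib Groth.Agent.AlgSpPts

namespace Groth.Agent.AlgSpDec.EtFam

variable {S : Scheme.{u}}

/-- Etale morphisms are recognized on a Zariski covering of the source. -/
theorem isEtaleMor_of_zarCover {ι : Type u} {G H : Sp S} {Y : ι → Sp S} {j : ∀ i, Y i ⟶ G}
    (hj : IsZarCover Y j) (hY : ∀ i, IsAlgSpace (Y i)) (hH : IsAlgSpace H) (f : G ⟶ H)
    (h : ∀ i, IsEtaleMor (j i ≫ f)) : IsEtaleMor f := by
  refine (isEtaleMor_iff_locP (isAlgSpace_of_zarCover hj hY) hH f).2 fun U V a b k ha hb w => ?_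
  have hopen : ∀ i, IsOpenImmersion ((hj.1 i).rep.snd a).left := fun i => (hj.1 i).property_snd a
  let O : ι → U.left.Opens := fun i => ((hj.1 i).rep.snd a).left.opensRange
  have hO : iSup O = ⊤ := top_le_iff.1 fun u _ => by
    obtain ⟨i, y, hy⟩ := hj.2 (Points.ofPt a u)
    obtain ⟨v, -, hv⟩ := exists_lift ((hj.1 i).rep.isPullback a) hy
    exact TopologicalSpace.Opens.mem_iSup.2 ⟨i, v, hv⟩
  refine IsZariskiLocalAtSource.of_iSup_eq_top O hO fun i => ?_
  have hd : RepWith @Etale ((hj.1 i).rep.fst a) :=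
    repWith_of_isPullback ((hj.1 i).rep.isPullback a).flip ha
  have he : Etale ((hj.1 i).rep.snd a ≫ k).left :=
    locP_etale_of_isEtaleMor (h i) ((hj.1 i).rep.fst a) b ((hj.1 i).rep.snd a ≫ k) hd hb (by
      rw [← Category.assoc, (hj.1 i).rep.w, Category.assoc, w, Functor.map_comp, Category.assoc])
  have h2 : (O i).ι ≫ k.left = (Scheme.Hom.isoOpensRange ((hj.1 i).rep.snd a).left).inv ≫
      ((hj.1 i).rep.snd a ≫ k).left := by
    rw [Over.comp_left, ← Category.assoc, Scheme.Hom.isoOpensRange_inv_comp]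
  rw [h2]
  exact (MorphismProperty.cancel_left_of_respectsIso (P := @Etale) _ _).2 he

/-- A sheaf with an epimorphism from an algebraic space with etale kernel pair is an algebraic space. -/
theorem isAlgSpace_of_etale_kernelPair_sp {X R W : Sp S} {p : X ⟶ W} [Epi p] {t s : R ⟶ X}
    (sq : IsPullback t s p p) (hX : IsAlgSpace X) (hR : IsAlgSpace R) (ht : IsEtaleMor t) (hs : IsEtaleMor s) :
    IsAlgSpace W ∧ IsEtaleMor p ∧ IsSurjectiveMor p := by
  have hj : IsEqvRelSp s t := by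
    refine ⟨fun T r r' h1 h2 => sq.hom_ext h1 h2, fun T => ⟨fun a => ?_, ?_, ?_⟩⟩
    · exact ⟨sq.lift a a rfl, sq.lift_fst _ _ _, sq.lift_snd _ _ _⟩
    · rintro _ _ ⟨r, rfl, rfl⟩
      exact ⟨sq.lift (r ≫ s) (r ≫ t) (by rw [Category.assoc, Category.assoc, sq.w]), sq.lift_fst _ _ _,
        sq.lift_snd _ _ _⟩
    · rintro _ _ c ⟨r, rfl, rfl⟩ ⟨r', h, rfl⟩
      exact ⟨sq.lift (r ≫ t) (r' ≫ s) (by rw [Category.assoc, Category.assoc, sq.w, ← reassoc_of% h, sq.w]),
        sq.lift_fst _ _ _, sq.lift_snd _ _ _⟩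
  have hfl : ∀ {f : R ⟶ X}, IsEtaleMor f → LocP @Flat f ∧ LocP @LocallyOfFinitePresentation f := fun hf =>
    ⟨locP_mono (fun _ _ g (_ : Etale g) => inferInstanceAs (Flat g)) (locP_etale_of_isEtaleMor hf),
      locP_mono (fun _ _ g (_ : Etale g) => inferInstanceAs (LocallyOfFinitePresentation g))
        (locP_etale_of_isEtaleMor hf)⟩
  have hQ := isAlgSpace_quotSp hR hX hj (hfl hs) (hfl ht)
  let φ : quotSp s t ⟶ W := quotSpDesc p sq.w.symm
  have hφ : quotSpπ s t ≫ φ = p := coequalizer.π_desc _ _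
  have : EffectiveEpi p := by
    have := IsRegularEpiCategory.regularEpiOfEpi p
    infer_instance
  have hwd : ∀ {Z : Sp S} (g₁ g₂ : Z ⟶ X), g₁ ≫ p = g₂ ≫ p → g₁ ≫ quotSpπ s t = g₂ ≫ quotSpπ s t :=
    fun g₁ g₂ h => by
      rw [← sq.lift_fst g₁ g₂ h, Category.assoc, ← quotSp_condition, ← Category.assoc, sq.lift_snd]
  let ψ : W ⟶ quotSp s t := EffectiveEpi.desc p (quotSpπ s t) hwd
  have hψ : p ≫ ψ = quotSpπ s t := EffectiveEpi.fac p _ _
  have : Epi (quotSpπ s t) := coequalizer.π_epi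
  have : IsIso φ := ⟨ψ, by rw [← cancel_epi (quotSpπ s t), Category.comp_id, reassoc_of% hφ, hψ], by
    rw [← cancel_epi p, Category.comp_id, reassoc_of% hψ, hφ]⟩
  have hW : IsAlgSpace W := hQ.of_iso (asIso φ)
  obtain ⟨U, c, hc, hcs⟩ := hX.atlas
  have hr : Representable (c ≫ p) := hW.representable_from_yon _
  have hec := epi_of_etale_surjective hc hcs
  have : Epi (c ≫ p) := epi_comp _ _
  have : Sheaf.IsLocallySurjective (c ≫ p) := (Sheaf.isLocallySurjective_iff_epi _).2 inferInstance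
  have hP₁ : IsAlgSpace (pullback c t) := isAlgSpace_pullback (IsAlgSpace.yon_obj U) hR hX c t
  have h2 : IsPullback (pullback.fst c t) (pullback.snd c t ≫ s) (c ≫ p) p :=
    (IsPullback.of_hasPullback c t).paste_vert sq
  have hg : IsEtaleMor (pullback.snd c t ≫ s) := isEtaleMor_comp hP₁ hR hX
    (isEtaleMor_of_isPullback (IsPullback.of_hasPullback c t) (IsAlgSpace.yon_obj U) hX hR
      (isEtaleMor_of_repWith c hc)) hs
  let R' := hr.pullback (c ≫ p)
  have sq' : IsPullback ((yon S).map (hr.fst' (c ≫ p))) ((yon S).map (hr.snd (c ≫ p))) (c ≫ p) (c ≫ p) :=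
    hr.isPullback' _
  let l : (yon S).obj R' ⟶ pullback c t :=
    h2.lift ((yon S).map (hr.fst' (c ≫ p))) ((yon S).map (hr.snd (c ≫ p)) ≫ c) (by rw [Category.assoc]; exact sq'.w)
  have hl : IsPullback l ((yon S).map (hr.snd (c ≫ p))) (pullback.snd c t ≫ s) c :=
    IsPullback.of_right (by rw [h2.lift_fst]; exact sq') (h2.lift_snd _ _ _) h2
  have he : Etale (hr.snd (c ≫ p)).left :=
    (isEtaleMor_yon_map_iff _).1 (isEtaleMor_of_isPullback hl hP₁ hX (IsAlgSpace.yon_obj U) hg)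
  have := isLocalAtTarget_fppf (@Etale : MorphismProperty Scheme.{u})
  have hsurj : IsSurjectiveMor p := fun x => by
    have hls : Sheaf.IsLocallySurjective p := (Sheaf.isLocallySurjective_iff_epi p).2 inferInstance
    obtain ⟨-, y, hy⟩ := exists_mem_range_of_covering (ι := PUnit.{u + 1}) (fun _ => p) (fun T t' => by
      obtain ⟨R, hR, h⟩ := exists_covering_lifts p t'
      exact ⟨R, hR, fun T' φ hφ => ⟨⟨⟩, h φ hφ⟩⟩) x
    exact ⟨y, hy⟩
  exact ⟨hW, (isEtaleMor_iff_locP hX hW p).2 (locP_of_precomp hc hcs (locP_of_repWith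
    (repWith_of_locallySurjective hr _ sq' @Etale ((repWith_yon_map_iff _ _).2 he)))), hsurj⟩

/-- A sheaf with a jointly epimorphic family whose fibre products are etale over the members. -/
theorem isAlgSpace_of_etale_family {ι : Type u} {X : ι → Sp S} {W : Sp S} (q : ∀ i, X i ⟶ W)
    (hX : ∀ i, IsAlgSpace (X i))
    (hepi : ∀ {Z : Sp S} (a b : W ⟶ Z), (∀ i, q i ≫ a = q i ≫ b) → a = b)
    (h : ∀ i k, ∃ (A : Sp S) (a : A ⟶ X i) (b : A ⟶ X k), IsPullback a b (q i) (q k) ∧ IsAlgSpace A ∧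
      IsEtaleMor a ∧ IsEtaleMor b) :
    IsAlgSpace W ∧ (∀ i, IsEtaleMor (q i)) ∧ (∀ w, ∃ i x, Points.map (q i) x = w) ∧
      ∀ {Z : Sp S}, IsAlgSpace Z → ∀ g : W ⟶ Z, (∀ i, IsEtaleMor (q i ≫ g)) → IsEtaleMor g := by
  have hc : IsColimit (Cofan.mk (∐ X) (Sigma.ι X)) := coproductIsCoproduct X
  have hXs : IsAlgSpace (∐ X) := isAlgSpace_coproduct hc hX
  have hι : IsZarCover X (Sigma.ι X) := isZarCover_inj hc
  have hιe : ∀ i, IsEtaleMor (Sigma.ι X i) := fun i => isEtaleMor_of_repWith_isOpenImmersion (hι.1 i)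
  let p := Sigma.desc q
  have hp : ∀ i, Sigma.ι X i ≫ p = q i := Sigma.ι_desc q
  have : Epi p := ⟨fun a b hab => hepi a b fun i => by rw [← hp i, Category.assoc, hab, Category.assoc]⟩
  choose A a b sqA hA ha hb using h
  let R := pullback p p
  let e : ∀ x : ι × ι, A x.1 x.2 ⟶ R := fun x =>
    pullback.lift (a x.1 x.2 ≫ Sigma.ι X x.1) (b x.1 x.2 ≫ Sigma.ι X x.2) (by
      rw [Category.assoc, Category.assoc, hp, hp]; exact (sqA x.1 x.2).w)
  have sq1 : ∀ i, IsPullback (pullback.snd (pullback.fst p p) (Sigma.ι X i))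
      (pullback.fst (pullback.fst p p) (Sigma.ι X i) ≫ pullback.snd p p) (Sigma.ι X i ≫ p) p := fun i =>
    (IsPullback.of_hasPullback (pullback.fst p p) (Sigma.ι X i)).flip.paste_vert (IsPullback.of_hasPullback p p)
  let l : ∀ i k, A i k ⟶ pullback (pullback.fst p p) (Sigma.ι X i) := fun i k =>
    (sq1 i).lift (a i k) (b i k ≫ Sigma.ι X k) (by rw [Category.assoc, hp, hp]; exact (sqA i k).w)
  have hl : ∀ i k, IsPullback (l i k) (b i k)
      (pullback.fst (pullback.fst p p) (Sigma.ι X i) ≫ pullback.snd p p) (Sigma.ι X k) := fun i k =>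
    IsPullback.of_right (by rw [(sq1 i).lift_fst, hp, hp]; exact sqA i k) ((sq1 i).lift_snd _ _ _) (sq1 i)
  have hel : ∀ x : ι × ι, e x = l x.1 x.2 ≫ pullback.fst (pullback.fst p p) (Sigma.ι X x.1) := fun x => by
    refine pullback.hom_ext ?_ ?_
    · rw [pullback.lift_fst, Category.assoc, pullback.condition, ← Category.assoc, (sq1 x.1).lift_fst]
    · rw [pullback.lift_snd, Category.assoc, (sq1 x.1).lift_snd]
  have he : IsZarCover (fun x : ι × ι => A x.1 x.2) e := by
    refine ⟨fun x => ?_, fun z => ?_⟩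
    · rw [hel]
      exact repWith_comp (repWith_of_isPullback (hl x.1 x.2).flip (hι.1 x.2))
        (repWith_of_isPullback (IsPullback.of_hasPullback (pullback.fst p p) (Sigma.ι X x.1)).flip (hι.1 x.1))
    · obtain ⟨i, y, hy⟩ := hι.2 (Points.map (pullback.fst p p) z)
      obtain ⟨z₁, hz₁, -⟩ := exists_point_of_isPullback
        (IsPullback.of_hasPullback (pullback.fst p p) (Sigma.ι X i)) hy.symm
      obtain ⟨k, y', hy'⟩ := hι.2
        (Points.map (pullback.fst (pullback.fst p p) (Sigma.ι X i) ≫ pullback.snd p p) z₁)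
      obtain ⟨z₂, hz₂, -⟩ := exists_point_of_isPullback (hl i k) hy'.symm
      exact ⟨(i, k), z₂, by rw [hel, Points.map_comp, hz₂, hz₁]⟩
  have hR : IsAlgSpace R := isAlgSpace_of_zarCover he fun x => hA x.1 x.2
  have ht : IsEtaleMor (pullback.fst p p) := isEtaleMor_of_zarCover he (fun x => hA x.1 x.2) hXs _ fun x => by
    rw [pullback.lift_fst]
    exact isEtaleMor_comp (hA _ _) (hX _) hXs (ha _ _) (hιe _)
  have hs : IsEtaleMor (pullback.snd p p) := isEtaleMor_of_zarCover he (fun x => hA x.1 x.2) hXs _ fun x => by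
    rw [pullback.lift_snd]
    exact isEtaleMor_comp (hA _ _) (hX _) hXs (hb _ _) (hιe _)
  obtain ⟨hW, hpe, hps⟩ := isAlgSpace_of_etale_kernelPair_sp (IsPullback.of_hasPullback p p) hXs hR ht hs
  refine ⟨hW, fun i => hp i ▸ isEtaleMor_comp (hX i) hXs hW (hιe i) hpe, fun w => ?_, fun {Z} hZ g hg => ?_⟩
  · obtain ⟨x, rfl⟩ := hps w
    obtain ⟨i, y, rfl⟩ := hι.2 x
    exact ⟨i, y, by rw [← hp i, Points.map_comp]⟩
  · have hpg : IsEtaleMor (p ≫ g) := isEtaleMor_of_zarCover hι hX hZ _ fun i => by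
      rw [← Category.assoc, hp]; exact hg i
    obtain ⟨U, c, hc, hcs⟩ := hXs.atlas
    have h1 : RepWith @Etale (c ≫ p) := hpe c hc
    have h2 : RepWith @Surjective (c ≫ p) := repWith_surjective_of_surjective h1.rep fun w => by
      obtain ⟨x, rfl⟩ := hps w
      obtain ⟨v, rfl⟩ := surjective_map_of_repWith hcs x
      exact ⟨v, by rw [Points.map_comp]⟩
    refine (isEtaleMor_iff_locP hW hZ g).2 (locP_of_precomp h1 h2 ?_)
    rw [Category.assoc]
    exact locP_comp (IsAlgSpace.yon_obj U) hXs hZ (locP_of_repWith hc) (locP_etale_of_isEtaleMor hpg)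

end Groth.Agent.AlgSpDec.EtFam
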