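import Groth.Agent.AlgSpDec.FibreAffineQs
import Groth.Agent.AlgSpDec.GroupScheme
import Groth.Agent.QuotLib.CatModuli

/-!
# A space which is a scheme over a geometrically irreducible field extension is a scheme
-/

set_option backward.isDefEq.respectTransparency false
set_option backward.isDefEq.respectTransparency.types false

universe u

open CategoryTheory CategoryTheory.Limits AlgebraicGeometry Opposite AlgSp Groth.Agent.AlgSpLib
  Groth.Agent.AlgSpDec.BcConn Groth.Agent.AlgSpDec.GeomRed Groth.Agent.AlgSpDec.AffineBc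
open scoped TensorProduct

namespace Groth.Agent.AlgSpDec.ExtScheme

variable {k : Type u} [Field k]

theorem isRepresentable_of_bc_geomIrreducible {X : Sp (Spec (CommRingCat.of k))} (hX : IsAlgSpace X)
    (hqs : IsQuasiSeparatedSp X) (Ω : Type u) [Field Ω] [Algebra k Ω]
    (hirr : ∀ (F : Type u) [Field F] [Algebra k F], (nilradical (F ⊗[k] Ω)).IsPrime)
    (h : (X ⨯ (yon _).obj (specOver k Ω)).obj.IsRepresentable) : X.obj.IsRepresentable := by
  obtain ⟨Y, ⟨e⟩⟩ := Groth.Agent.QuotLib.exists_iso_yon h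
  refine GroupScheme.isRepresentable_of_nhds hX fun x => ?_
  obtain ⟨F, _, _, ξ, rfl⟩ := FibreChart.exists_field_rep x
  let q : PrimeSpectrum (F ⊗[k] Ω) := ⟨_, hirr F⟩
  let y := Points.toScheme Y (Points.map e.inv (Points.ofPt (SpreadOut.psi ξ Ω) q))
  obtain ⟨V, hV, hyV, -⟩ := exists_isAffineOpen_mem_and_subset (x := y) (U := (⊤ : Y.left.Opens)) trivial
  let W : Over (Spec (CommRingCat.of k)) := Over.mk (V.ι ≫ Y.hom)
  let ι : W ⟶ Y := Over.homMk V.ι rfl
  haveI : IsAffine W.left := hV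
  have hjW : RepWith @IsOpenImmersion ((yon _).map ι ≫ e.hom) :=
    MorphismProperty.RespectsIso.postcomp _ e.hom _ ((repWith_yon_map_iff _ ι).2 (inferInstanceAs (IsOpenImmersion V.ι)))
  have hq : Points.ofPt (SpreadOut.psi ξ Ω) q ∈ Set.range (Points.map ((yon _).map ι ≫ e.hom)) := by
    refine ⟨Points.ofScheme W ⟨y, hyV⟩, ?_⟩
    rw [Points.map_comp]
    erw [Points.map_yon_map_apply]
    change Points.map e.hom (Points.ofScheme Y y) = _
    rw [Points.ofScheme_toScheme, ← Points.map_comp, e.inv_hom_id, Points.map_id]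
  obtain ⟨L, _, _, _, T, jT, hT, hjT, hcov⟩ :=
    SpreadOut.exists_affine_of_spread hX hqs ξ (hirr F) _ hjW hq
  haveI := hT
  obtain ⟨Z, j, -, hj, hxj⟩ := FibreAffine.exists_affine_nhd' hX jT hjT ξ hcov
  exact ⟨Z, j, hj, hxj⟩

theorem isPrime_nilradical_fractionRing (ι : Type u) (F : Type u) [Field F] [Algebra k F] :
    (nilradical (F ⊗[k] FractionRing (MvPolynomial ι k))).IsPrime := by
  let P := MvPolynomial ι k
  let K := FractionRing P
  haveI : IsDomain (F ⊗[k] P) := MulEquiv.isDomain (MvPolynomial ι F) (MvPolynomial.algebraTensorAlgEquiv k F (σ := ι)).toMulEquiv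
  have key : ∀ z : F ⊗[k] K, ∃ (d : P) (w : F ⊗[k] P), d ≠ 0 ∧
      z * (1 ⊗ₜ algebraMap P K d) = Algebra.TensorProduct.map (AlgHom.id k F) (IsScalarTower.toAlgHom k P K) w := by
    intro z
    induction z using TensorProduct.induction_on with
    | zero => exact ⟨1, 0, one_ne_zero, by simp⟩
    | tmul a b =>
      obtain ⟨c, d, hd, rfl⟩ := IsFractionRing.div_surjective P b
      refine ⟨d, a ⊗ₜ c, nonZeroDivisors.ne_zero hd, ?_⟩
      rw [Algebra.TensorProduct.tmul_mul_tmul, mul_one, div_mul_cancel₀]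
      · rfl
      · exact fun h => nonZeroDivisors.ne_zero hd ((IsFractionRing.injective P K) (h.trans (map_zero _).symm))
    | add z₁ z₂ h₁ h₂ =>
      obtain ⟨d₁, w₁, hd₁, e₁⟩ := h₁
      obtain ⟨d₂, w₂, hd₂, e₂⟩ := h₂
      refine ⟨d₁ * d₂, w₁ * (1 ⊗ₜ d₂) + w₂ * (1 ⊗ₜ d₁), mul_ne_zero hd₁ hd₂, ?_⟩
      simp only [map_add, map_mul, ← e₁, ← e₂, Algebra.TensorProduct.map_tmul, AlgHom.coe_id, id_eq,
        IsScalarTower.coe_toAlgHom', mul_assoc, Algebra.TensorProduct.tmul_mul_tmul, mul_one, add_mul,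
        mul_comm (algebraMap P K d₂) (algebraMap P K d₁)]
  have hinj : Function.Injective (Algebra.TensorProduct.map (AlgHom.id k F) (IsScalarTower.toAlgHom k P K)) :=
    Module.Flat.lTensor_preserves_injective_linearMap (M := F) (IsScalarTower.toAlgHom k P K).toLinearMap
      (IsFractionRing.injective P K)
  have hu : ∀ d : P, d ≠ 0 → IsUnit ((1 : F) ⊗ₜ[k] algebraMap P K d) := fun d hd =>
    ((isUnit_iff_ne_zero.2 fun h => hd ((IsFractionRing.injective P K) (h.trans (map_zero _).symm))).map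
      (Algebra.TensorProduct.includeRight (R := k) (A := F) (B := K)))
  haveI : NoZeroDivisors (F ⊗[k] K) := ⟨fun {x y} hxy => by
    obtain ⟨dx, wx, hdx, ex⟩ := key x
    obtain ⟨dy, wy, hdy, ey⟩ := key y
    have : Algebra.TensorProduct.map (AlgHom.id k F) (IsScalarTower.toAlgHom k P K) (wx * wy) = 0 := by
      rw [map_mul, ← ex, ← ey, mul_mul_mul_comm, hxy, zero_mul]
    rcases mul_eq_zero.1 (hinj (this.trans (map_zero _).symm)) with h | h
    · exact Or.inl ((hu dx hdx).mul_left_eq_zero.1 (by rw [ex, h, map_zero]))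
    · exact Or.inr ((hu dy hdy).mul_left_eq_zero.1 (by rw [ey, h, map_zero]))⟩
  haveI : IsDomain (F ⊗[k] K) := NoZeroDivisors.to_isDomain _
  rw [nilradical_eq_zero]
  exact Ideal.isPrime_bot

end Groth.Agent.AlgSpDec.ExtScheme
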