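import Groth.Agent.AlgSpDec.BcGalois
import Groth.Agent.AlgSpPts.Descent

/-!
# A space times the spectrum of an algebra as a limit over finitely generated subalgebras
-/

set_option backward.isDefEq.respectTransparency false
set_option backward.isDefEq.respectTransparency.types false

universe u

open CategoryTheory CategoryTheory.Limits AlgebraicGeometry Opposite AlgSp Groth.Agent.AlgSpLib
  Groth.Agent.AlgSpDec.BcConn

namespace Groth.Agent.AlgSpDec.FgSys

variable (k : Type u) [Field k] (Ω : Type u) [CommRing Ω] [Algebra k Ω]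

/-- Finitely generated subalgebras. -/
abbrev Idx : Type u := {B : Subalgebra k Ω // B.FG}

instance : IsDirectedOrder (Idx k Ω) :=
  ⟨fun a b => ⟨⟨a.1 ⊔ b.1, a.2.sup b.2⟩, (le_sup_left : a.1 ≤ a.1 ⊔ b.1), (le_sup_right : b.1 ≤ a.1 ⊔ b.1)⟩⟩

instance : Nonempty (Idx k Ω) := ⟨⟨⊥, Subalgebra.fg_bot⟩⟩

/-- The rings of the system. -/
noncomputable def ringDiag : Idx k Ω ⥤ CommRingCat.{u} where
  obj B := CommRingCat.of B.1
  map {B B'} h := CommRingCat.ofHom (Subalgebra.inclusion (leOfHom h : B.1 ≤ B'.1)).toRingHom

/-- The cocone of the algebra. -/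
noncomputable def ringCocone : Cocone (ringDiag k Ω) where
  pt := CommRingCat.of Ω
  ι := { app := fun B => CommRingCat.ofHom B.1.val.toRingHom }

noncomputable def isColimit_ringCocone : IsColimit (ringCocone k Ω) := by
  haveI : ReflectsColimitsOfShape (Idx k Ω) (CategoryTheory.forget CommRingCat.{u}) :=
    reflectsColimitsOfShape_of_reflectsIsomorphisms
  refine isColimitOfReflects (CategoryTheory.forget CommRingCat.{u}) ?_
  refine Types.FilteredColimit.isColimitOf _ _ (fun x => ?_) fun i j xi xj h => ?_
  · obtain ⟨B, hB⟩ : ∃ B : Idx k Ω, (id x : Ω) ∈ B.1 :=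
      ⟨⟨Algebra.adjoin k {(id x : Ω)}, ⟨{(id x : Ω)}, by simp⟩⟩, Algebra.self_mem_adjoin_singleton k (id x : Ω)⟩
    exact ⟨B, ⟨_, hB⟩, rfl⟩
  · refine ⟨⟨i.1 ⊔ j.1, i.2.sup j.2⟩, homOfLE (le_sup_left : i.1 ≤ i.1 ⊔ j.1),
      homOfLE (le_sup_right : j.1 ≤ i.1 ⊔ j.1), Subtype.ext h⟩

/-- The schemes of the system. -/
noncomputable def schDiag : (Idx k Ω)ᵒᵖ ⥤ Over (Spec (CommRingCat.of k)) where
  obj B := specOver k B.unop.1
  map {B B'} h := Over.homMk (Spec.map ((ringDiag k Ω).map h.unop)) (by
    simp only [Over.mk_hom]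
    rw [← Spec.map_comp]
    congr 1)
  map_id B := Over.OverMorphism.ext (by simp; rfl)
  map_comp f g := Over.OverMorphism.ext (by simp)

/-- The limit cone of schemes. -/
noncomputable def schCone : Cone (schDiag k Ω) where
  pt := specOver k Ω
  π :=
    { app := fun B => Over.homMk (Spec.map ((ringCocone k Ω).ι.app B.unop)) (by
        exact (Spec.map_comp _ _).symm.trans (congrArg Spec.map rfl))
      naturality := fun B B' f => Over.OverMorphism.ext (by
        simp only [Functor.const_obj_obj, Functor.const_obj_map, Category.id_comp]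
        exact (congrArg Spec.map ((ringCocone k Ω).w f.unop)).symm.trans (Spec.map_comp _ _)) }

noncomputable def isLimit_schCone : IsLimit (schCone k Ω) := by
  have := IsCofiltered.isConnected (Idx k Ω)ᵒᵖ
  refine isLimitOfReflects (Over.forget _) ?_
  exact isLimitOfPreserves Scheme.Spec (isColimit_ringCocone k Ω).op

variable {k} (X : Sp (Spec (CommRingCat.of k)))

/-- The system of spaces. -/
noncomputable def spDiag : (Idx k Ω)ᵒᵖ ⥤ Sp (Spec (CommRingCat.of k)) where
  obj B := X ⨯ (yon _).obj ((schDiag k Ω).obj B)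
  map f := prod.map (𝟙 X) ((yon _).map ((schDiag k Ω).map f))
  map_id B := by simp
  map_comp f g := by simp [prod.map_map]

/-- The limit cone of spaces. -/
noncomputable def spCone : Cone (spDiag Ω X) where
  pt := X ⨯ (yon _).obj (specOver k Ω)
  π :=
    { app := fun B => prod.map (𝟙 X) ((yon _).map ((schCone k Ω).π.app B))
      naturality := fun B B' f => by
        simp only [Functor.const_obj_obj, Functor.const_obj_map, Category.id_comp, spDiag, prod.map_map,
          ← Functor.map_comp, Cone.w] }

noncomputable def isLimit_spCone : IsLimit (spCone Ω X) := by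
  let hy := isLimitOfPreserves (yon _) (isLimit_schCone k Ω)
  have := IsCofiltered.isConnected (Idx k Ω)ᵒᵖ
  let B₀ : (Idx k Ω)ᵒᵖ := op ⟨⊥, Subalgebra.fg_bot⟩
  let snds : ∀ s : Cone (spDiag Ω X), Cone (schDiag k Ω ⋙ yon _) := fun s =>
    { pt := s.pt
      π :=
        { app := fun B => s.π.app B ≫ prod.snd
          naturality := fun B B' f => by
            have := s.w f =≫ prod.snd
            simp only [spDiag, Category.assoc, prod.map_snd] at this
            simpa using this.symm } }
  have hfst : ∀ (s : Cone (spDiag Ω X)) B, s.π.app B ≫ prod.fst = s.π.app B₀ ≫ prod.fst := fun s B => by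
    have := constant_of_preserves_morphisms (fun B => s.π.app B ≫ (prod.fst : (spDiag Ω X).obj B ⟶ X))
      (fun B B' f => by
        have := s.w f =≫ prod.fst
        simp only [spDiag, Category.assoc, prod.map_fst, Category.comp_id] at this
        exact this)
    exact this B B₀
  refine
    { lift := fun s => prod.lift (s.π.app B₀ ≫ prod.fst) (hy.lift (snds s))
      fac := fun s B => ?_
      uniq := fun s m hm => ?_ }
  · apply Limits.prod.hom_ext
    · simp only [spCone, Category.assoc, prod.map_fst, Category.comp_id, prod.lift_fst, hfst s B]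
    · simp only [spCone, Category.assoc, prod.map_snd, prod.lift_snd_assoc]
      exact hy.fac (snds s) B
  · apply Limits.prod.hom_ext
    · rw [prod.lift_fst, ← hm B₀]
      simp [spCone]
    · rw [prod.lift_snd]
      refine hy.uniq (snds s) _ fun B => ?_
      have := hm B =≫ prod.snd
      simp only [spCone, Category.assoc, prod.map_snd] at this
      simpa [snds] using this

theorem isAffineMor_spDiag_map {B B' : (Idx k Ω)ᵒᵖ} (f : B ⟶ B') : IsAffineMor ((spDiag Ω X).map f) := by
  refine AlgSpDec.isAffineMor_of_repWith le_rfl (repWith_of_isPullback (BcConn.isPullback_prodMap X ((yon _).map ((schDiag k Ω).map f)))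
    ((repWith_yon_map_iff _ _).2 ?_))
  exact inferInstanceAs (IsAffineHom (Spec.map _))

end Groth.Agent.AlgSpDec.FgSys
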