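import Groth.Agent.AlgSpDec.AffineFlfQuot
import Groth.Agent.AlgSpDec.FinsetAffine
import Groth.Agent.AlgSpLib.LargestOpen
import Groth.Agent.AlgSpDec.LimOpen

/-!
The schematic locus of the target of a finite locally free cover.
-/

set_option backward.isDefEq.respectTransparency false
set_option backward.isDefEq.respectTransparency.types false

universe u

open CategoryTheory CategoryTheory.Limits AlgebraicGeometry AlgSp Groth.Agent.AlgSpLib Groth.Agent.AlgSpPts

namespace Groth.Agent.AlgSpDec

variable {S : Scheme.{u}} {X : Sp S} {U : Over S}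

/-- A space receiving a finite flat surjection of finite presentation from a scheme in which finite sets lie in
affine opens is a scheme. -/
theorem exists_iso_of_finLocFree_of_finset (a : (yon S).obj U ⟶ X) (ha : RepWith @Flat a)
    (hl : RepWith @LocallyOfFinitePresentation a) (hf : RepWith @IsFinite a) (hs : RepWith @Surjective a)
    (hU : ∀ T : Set U.left, T.Finite → ∃ W : U.left.Opens, IsAffineOpen W ∧ T ⊆ W) :
    ∃ Z : Over S, Nonempty ((yon S).obj Z ≅ X) := by
  let R := ha.rep.pullback a
  let t : R ⟶ U := ha.rep.fst' a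
  let s : R ⟶ U := ha.rep.snd a
  have sq : IsPullback ((yon S).map t) ((yon S).map s) a a := ha.rep.isPullback' a
  have hse : Flat s.left := ha.property_snd a
  have hsl : LocallyOfFinitePresentation s.left := hl.property a _ _ (ha.rep.isPullback a)
  have hsf : IsFinite s.left := hf.property a _ _ (ha.rep.isPullback a)
  obtain ⟨G, hGU, hR, hgs, hgt, hpU, hpR⟩ := exists_groupoid_over sq
  obtain ⟨GU, GR, pU, pR, gs, gt, ge, gi, gc, h1, h2, h3, h4, h5, h6, h7, h8, h9, h10, h11, h12, h13⟩ := G
  subst hGU hR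
  obtain rfl : gs = s.left := eq_of_heq hgs
  obtain rfl : gt = t.left := eq_of_heq hgt
  obtain rfl : pU = U.hom := eq_of_heq hpU
  obtain rfl : pR = R.hom := eq_of_heq hpR
  let G : Grpd.GroupoidScheme S :=
    ⟨_, _, U.hom, R.hom, _, _, ge, gi, gc, h1, h2, h3, h4, h5, h6, h7, h8, h9, h10, h11, h12, h13⟩
  have hfl : Mor2.IsFinLocFree G.s :=
    ⟨hsf, inferInstanceAs (Flat s.left), inferInstanceAs (LocallyOfFinitePresentation s.left)⟩
  have heq : AlgSp.IsEqvRel s t := by
    refine ⟨fun T r r' ht' hs' => ?_, fun T => ⟨fun y => ?_, ?_, ?_⟩⟩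
    · exact Over.OverMorphism.ext (rel_ext sq (congrArg Over.Hom.left ht') (congrArg Over.Hom.left hs'))
    · exact exists_rel_lift sq y y rfl
    · rintro y z ⟨r, rfl, rfl⟩
      refine exists_rel_lift sq _ _ ?_
      rw [(yon S).map_comp r t, (yon S).map_comp r s, Category.assoc, Category.assoc, sq.w]
    · rintro y z w ⟨r, rfl, hr⟩ ⟨r', rfl, rfl⟩
      refine exists_rel_lift sq _ _ ?_
      rw [(yon S).map_comp r t, Category.assoc, sq.w, ← Category.assoc, ← (yon S).map_comp r s, hr,
        (yon S).map_comp r' t, Category.assoc, sq.w, ← Category.assoc, ← (yon S).map_comp r' s]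
  obtain ⟨M, m, hm, hmsurj, hpb, -⟩ := FinLocFreeQuot.exists_quotient G hfl heq
    (fun Z _ ⟨z, hz⟩ => by
      obtain ⟨W, hW, hsub⟩ := hU (t.left '' (s.left ⁻¹' {z})) ((s.left.finite_preimage_singleton z).image _)
      exact ⟨z, hz, W, hW, fun r hr => hsub ⟨r, hr, rfl⟩⟩)
  let m' : U ⟶ M := m
  haveI : Flat m'.left := hm.2.1
  haveI : LocallyOfFinitePresentation m'.left := hm.2.2
  haveI : Surjective m'.left := hmsurj
  haveI : Sheaf.IsLocallySurjective a := isLocallySurjective_of_repWith ⟨ha.rep, fun T W g fst snd sq => by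
    have : Flat snd.left := ha.property g fst snd sq
    have : LocallyOfFinitePresentation snd.left := hl.property g fst snd sq
    have : Surjective snd.left := hs.property g fst snd sq
    exact fppf_of snd.left⟩
  haveI : Sheaf.IsLocallySurjective ((yon S).map m') :=
    isLocallySurjective_of_repWith ((repWith_yon_map_iff fppf m').2 (fppf_of m'.left))
  haveI : Epi a := (Sheaf.isLocallySurjective_iff_epi a).1 inferInstance
  haveI : Epi ((yon S).map m') := (Sheaf.isLocallySurjective_iff_epi _).1 inferInstance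
  have hpb' : IsPullback ((yon S).map t) ((yon S).map s) ((yon S).map m') ((yon S).map m') :=
    (IsPullback.of_map (Over.forget S) (f := t) (g := s) (h := m') (i := m')
      (Over.OverMorphism.ext hpb.w) hpb).map (yon S)
  exact ⟨M, nonempty_iso_of_same_kernelPair _ _ _ _ hpb' sq⟩

/-- Two open subspaces with the same points are isomorphic. -/
theorem exists_iso_of_range_eq {A B C : Sp S} (hA : IsAlgSpace A) (hB : IsAlgSpace B) (hC : IsAlgSpace C)
    {i : A ⟶ C} {j : B ⟶ C} (hi : RepWith @IsOpenImmersion i) (hj : RepWith @IsOpenImmersion j)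
    (h : Set.range (Points.map i) = Set.range (Points.map j)) : ∃ e : A ≅ B, e.hom ≫ j = i := by
  obtain ⟨l, hl⟩ := exists_lift_openImmersion hA hB hC hj i h.subset
  obtain ⟨m, hm⟩ := exists_lift_openImmersion hB hA hC hi j h.superset
  have : Mono i := mono_of_openImm hi
  have : Mono j := mono_of_openImm hj
  exact ⟨⟨l, m, (cancel_mono i).1 (by rw [Category.assoc, hm, hl, Category.id_comp]),
    (cancel_mono j).1 (by rw [Category.assoc, hl, hm, Category.id_comp])⟩, hl⟩

/-- A point whose fibre lies in an affine open has a neighbourhood which is a scheme. -/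
theorem exists_open_subscheme_of_fibre_affine {Y : Sp S} (hX : IsAlgSpace X) (hY : IsAlgSpace Y) (f : X ⟶ Y)
    (hflat : RepWith @Flat f) (hlp : RepWith @LocallyOfFinitePresentation f) (hfin : RepWith @IsFinite f)
    (hs : RepWith @Surjective f) (a : (yon S).obj U ⟶ X) [IsAffine U.left] (ha : RepWith @IsOpenImmersion a)
    (y : Points Y) (hy : Points.map f ⁻¹' {y} ⊆ Set.range (Points.ofPt a)) :
    ∃ (T : Over S) (j : (yon S).obj T ⟶ Y), RepWith @IsOpenImmersion j ∧ y ∈ Set.range (Points.map j) := by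
  have hoa : IsOpenMap (Points.map a) := isOpenMap_map (repWith_mono
    (fun A B g (hg : IsOpenImmersion g) => (inferInstance : UniversallyOpen g)) _ ha)
  have hra : Set.range (Points.map a) = Set.range (Points.ofPt a) := by
    ext x
    constructor
    · rintro ⟨z, rfl⟩
      exact ⟨Points.toScheme _ z, by rw [Points.ofPt_eq_map_ofScheme, Points.ofScheme_toScheme]⟩
    · rintro ⟨u, rfl⟩
      exact ⟨_, (Points.ofPt_eq_map_ofScheme a u).symm⟩
  have hcm : IsClosedMap (Points.map f) := isClosedMap_map (repWith_mono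
    (fun A B g (hg : IsFinite g) => (inferInstance : UniversallyClosed g)) _ hfin)
  let O : Set (Points Y) := (Points.map f '' (Set.range (Points.map a))ᶜ)ᶜ
  have hO : IsOpen O := (hcm _ hoa.isOpen_range.isClosed_compl).isOpen_compl
  have hyO : y ∈ O := by
    rintro ⟨x, hx, hxy⟩
    exact hx (hra ▸ hy hxy)
  obtain ⟨Y₀, j₀, hY₀, hj₀, hr₀⟩ := exists_open_subspace hY hO
  let U' : U.left.Opens := ⟨Points.ofPt a ⁻¹' (Points.map f ⁻¹' O),
    (hO.preimage (Points.continuous_map f)).preimage (Points.continuous_ofPt a)⟩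
  let V : Over S := Over.mk (U'.ι ≫ U.hom)
  let ι : V ⟶ U := Over.homMk U'.ι rfl
  have hi : RepWith @IsOpenImmersion ((yon S).map ι ≫ a) :=
    MorphismProperty.comp_mem _ _ _ ((repWith_yon_map_iff _ ι).2 (inferInstanceAs (IsOpenImmersion U'.ι))) ha
  have sq := IsPullback.of_hasPullback f j₀
  have hP := isAlgSpace_of_isPullback sq hX hY₀ hY
  have hq : RepWith @IsOpenImmersion (pullback.fst f j₀) := repWith_of_isPullback sq.flip hj₀
  have hr : Set.range (Points.map ((yon S).map ι ≫ a)) = Set.range (Points.map (pullback.fst f j₀)) := by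
    rw [range_map_snd_of_isPullback sq.flip, hr₀]
    ext x
    constructor
    · rintro ⟨z, rfl⟩
      rw [Points.map_comp]
      obtain ⟨v, rfl⟩ := (Points.schemeHomeo V).surjective z
      erw [Points.map_yon_map_apply]
      show Points.map f (Points.map a (Points.ofScheme U (ι.left v))) ∈ O
      rw [← Points.ofPt_eq_map_ofScheme]
      exact v.2
    · intro hx
      obtain ⟨u, rfl⟩ : x ∈ Set.range (Points.ofPt a) := hra ▸ by
        by_contra h
        exact (hx : Points.map f x ∈ O) ⟨x, h, rfl⟩
      refine ⟨Points.ofScheme V ⟨u, hx⟩, ?_⟩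
      rw [Points.map_comp]
      erw [Points.map_yon_map_apply]
      exact (Points.ofPt_eq_map_ofScheme a u).symm
  obtain ⟨e, he⟩ := exists_iso_of_range_eq (IsAlgSpace.yon_obj V) hP hX hi hq hr
  have sq' : IsPullback ((yon S).map ι ≫ a) (e.hom ≫ pullback.snd f j₀) f j₀ :=
    sq.of_iso e.symm (Iso.refl _) (Iso.refl _) (Iso.refl _)
      (by simp [← he]) (by simp) (by simp) (by simp)
  obtain ⟨Z, ⟨eZ⟩⟩ := exists_iso_of_finLocFree_of_finset (e.hom ≫ pullback.snd f j₀)
    (repWith_of_isPullback sq' hflat) (repWith_of_isPullback sq' hlp)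
    (repWith_of_isPullback sq' hfin) (repWith_of_isPullback sq' hs)
    (fun T hT => exists_affineOpen_of_finite U'.ι hT)
  refine ⟨Z, eZ.hom ≫ j₀, MorphismProperty.RespectsIso.precomp _ eZ.hom _ hj₀, ?_⟩
  obtain ⟨w, hw⟩ := hr₀.symm.subset hyO
  exact ⟨Points.map eZ.inv w, by rw [← Points.map_comp, eZ.inv_hom_id_assoc, hw]⟩

/-- A point of an open subscheme has its fibre in an affine open. -/
theorem exists_affine_of_subscheme {Y : Sp S} (hX : IsAlgSpace X) (f : X ⟶ Y)
    (hfin : RepWith @IsFinite f) {T : Over S} (j : (yon S).obj T ⟶ Y) (hj : RepWith @IsOpenImmersion j)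
    (y : Points Y) (hy : y ∈ Set.range (Points.map j)) :
    ∃ (W : Over S) (a : (yon S).obj W ⟶ X), IsAffine W.left ∧ RepWith @IsOpenImmersion a ∧
      Points.map f ⁻¹' {y} ⊆ Set.range (Points.ofPt a) := by
  obtain ⟨z, rfl⟩ := hy
  obtain ⟨t, rfl⟩ := (Points.schemeHomeo T).surjective z
  obtain ⟨V, hV, htV, -⟩ := exists_isAffineOpen_mem_and_subset (x := t) (U := (⊤ : T.left.Opens)) trivial
  let W : Over S := Over.mk (V.ι ≫ T.hom)
  let ι : W ⟶ T := Over.homMk V.ι rfl
  haveI : IsAffine W.left := hV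
  have hi : RepWith @IsOpenImmersion ((yon S).map ι ≫ j) :=
    MorphismProperty.comp_mem _ _ _ ((repWith_yon_map_iff _ ι).2 (inferInstanceAs (IsOpenImmersion V.ι))) hj
  let g := (yon S).map ι ≫ j
  let P := hfin.rep.pullback g
  haveI : IsFinite (hfin.rep.snd g).left := hfin.property_snd g
  haveI : IsAffine P.left := isAffine_of_isAffineHom (hfin.rep.snd g).left
  refine ⟨P, hfin.rep.fst g, inferInstance, repWith_of_isPullback (hfin.rep.isPullback g).flip hi, ?_⟩
  intro x hx
  have hg : x ∈ Points.map f ⁻¹' Set.range (Points.map g) := by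
    refine ⟨Points.ofScheme W ⟨t, htV⟩, ?_⟩
    rw [Points.map_comp]
    erw [Points.map_yon_map_apply]
    exact hx.symm
  rw [← range_map_snd_of_isPullback (hfin.rep.isPullback g).flip] at hg
  obtain ⟨p, hp⟩ := hg
  exact ⟨Points.toScheme _ p, by rw [Points.ofPt_eq_map_ofScheme, Points.ofScheme_toScheme, hp]⟩

end Groth.Agent.AlgSpDec
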