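import Groth.Agent.AlgSpDec.SpreadOut
import Groth.Agent.AlgSpPts.Dim
import Groth.Agent.AlgSpDec.CodimZero

/-!
# Points of codimension zero in fibres of field extensions
-/

set_option backward.isDefEq.respectTransparency false
set_option backward.isDefEq.respectTransparency.types false

universe u

open CategoryTheory CategoryTheory.Limits AlgebraicGeometry Opposite AlgSp Groth.Agent.AlgSpLib
  Groth.Agent.AlgSpDec.BcConn Groth.Agent.AlgSpDec.GeomRed Groth.Agent.AlgSpDec.AffineBc Order
open scoped TensorProduct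

namespace Groth.Agent.AlgSpDec.FibreChart

attribute [local instance] specializationOrder

variable {k : Type u} [Field k]

/-- A scheme point as a morphism from the spectrum of a field. -/
theorem exists_res (T : Over (Spec (CommRingCat.of k))) (u : ↥T.left) :
    ∃ (κ : Type u) (_ : Field κ) (_ : Algebra k κ) (r : specOver k κ ⟶ T),
      IsPreimmersion r.left ∧ r.left (IsLocalRing.closedPoint κ) = u := by
  obtain ⟨φ, hφ⟩ := Spec.map_surjective (T.left.fromSpecResidueField u ≫ T.hom)
  let i : Algebra k (T.left.residueField u) := φ.hom.toAlgebra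
  refine ⟨T.left.residueField u, inferInstance, i, Over.homMk (T.left.fromSpecResidueField u) ?_,
    show IsPreimmersion (T.left.fromSpecResidueField u) from inferInstance, Scheme.fromSpecResidueField_apply u _⟩
  simp only [Over.mk_hom]
  rw [← hφ]
  rfl

/-- A point of a space as a morphism from the spectrum of a field. -/
theorem exists_field_rep {X : Sp (Spec (CommRingCat.of k))} (x : Points X) :
    ∃ (F : Type u) (_ : Field F) (_ : Algebra k F) (ξ : (yon _).obj (specOver k F) ⟶ X),
      Points.ofPt ξ (IsLocalRing.closedPoint F) = x := by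
  obtain ⟨T, g, t, -, rfl⟩ := exists_ofPt_eq x
  obtain ⟨F, hF, hA, r, -, hr⟩ := exists_res T t
  exact ⟨F, hF, hA, (yon _).map r ≫ g, by rw [ofPt_comp, hr]⟩

variable (L : Type u) [Field L] [Algebra k L] {κ : Type u} [Field κ] [Algebra k κ]
  {T : Over (Spec (CommRingCat.of k))} (r : specOver k κ ⟶ T)

/-- The fibre of a base change. -/
noncomputable def fib : specOver k (L ⊗[k] κ) ⟶ T ⨯ ext (k := k) L :=
  prod.lift (specMapOver Algebra.TensorProduct.includeRight ≫ r) (specMapOver Algebra.TensorProduct.includeLeft)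

/-- The comparison with the product. -/
noncomputable def cmp : specOver k (L ⊗[k] κ) ⟶ specOver k κ ⨯ ext (k := k) L :=
  prod.lift (specMapOver Algebra.TensorProduct.includeRight) (specMapOver Algebra.TensorProduct.includeLeft)

theorem isIso_cmp_left : IsIso (cmp (k := k) L (κ := κ)).left := by
  have sq := isPullback_SpecMap_of_isPushout _ _ _ _ (CommRingCat.isPushout_tensorProduct k L κ)
  have : (cmp (k := k) L (κ := κ)).left ≫ (Over.prodLeftIsoPullback (specOver k κ) (ext (k := k) L)).hom =
      sq.flip.isoPullback.hom := by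
    apply pullback.hom_ext
    · rw [Category.assoc, Over.prodLeftIsoPullback_hom_fst, ← Over.comp_left, cmp, prod.lift_fst]
      exact (IsPullback.isoPullback_hom_fst _).symm
    · rw [Category.assoc, Over.prodLeftIsoPullback_hom_snd, ← Over.comp_left, cmp, prod.lift_snd]
      exact (IsPullback.isoPullback_hom_snd _).symm
  have : (cmp (k := k) L (κ := κ)).left = sq.flip.isoPullback.hom ≫
      (Over.prodLeftIsoPullback (specOver k κ) (ext (k := k) L)).inv := by
    rw [← this, Category.assoc, Iso.hom_inv_id, Category.comp_id]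
  rw [this]; infer_instance

theorem fib_eq : fib L r = cmp L ≫ prod.map r (𝟙 _) := by
  apply Limits.prod.hom_ext <;> simp [fib, cmp]

theorem isPreimmersion_fib [IsPreimmersion r.left] : IsPreimmersion (fib L r).left := by
  rw [fib_eq, Over.comp_left]
  have := isIso_cmp_left (k := k) L (κ := κ)
  have sq := (BcConn.isPullback_prodMap' (ext (k := k) L) r).map (Over.forget _)
  have : IsPreimmersion (prod.map r (𝟙 (ext (k := k) L))).left :=
    MorphismProperty.of_isPullback (P := @IsPreimmersion) sq ‹IsPreimmersion r.left›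
  infer_instance

theorem fst_fib (q : PrimeSpectrum (L ⊗[k] κ)) :
    (prod.fst : T ⨯ ext (k := k) L ⟶ T).left ((fib L r).left q) = r.left (IsLocalRing.closedPoint κ) := by
  rw [← Scheme.Hom.comp_apply, ← Over.comp_left, fib, prod.lift_fst, Over.comp_left, Scheme.Hom.comp_apply]
  congr 1
  exact Subsingleton.elim (α := PrimeSpectrum κ) _ _

theorem exists_fib (w : ↥(T ⨯ ext (k := k) L).left)
    (hw : (prod.fst : T ⨯ ext (k := k) L ⟶ T).left w = r.left (IsLocalRing.closedPoint κ)) :
    ∃ q : PrimeSpectrum (L ⊗[k] κ), (fib L r).left q = w := by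
  have := isIso_cmp_left (k := k) L (κ := κ)
  have sq := (BcConn.isPullback_prodMap' (ext (k := k) L) r).map (Over.forget _)
  obtain ⟨z, -, hz⟩ := Scheme.Pullback.exists_preimage_pullback (f := r.left)
    (g := (prod.fst : T ⨯ ext (k := k) L ⟶ T).left) (IsLocalRing.closedPoint κ) w hw.symm
  refine ⟨inv (cmp L).left (sq.isoPullback.inv z), ?_⟩
  rw [fib_eq, Over.comp_left, Scheme.Hom.comp_apply, ← Scheme.Hom.comp_apply (inv (cmp L).left) (cmp L).left,
    IsIso.inv_hom_id, ← Scheme.Hom.comp_apply]
  change (sq.isoPullback.inv ≫ _) z = w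
  erw [sq.isoPullback_inv_snd]
  exact hz

/-- A minimal point of the fibre over a point of codimension zero has codimension zero. -/
theorem coheight_fib [IsPreimmersion r.left] (hu : coheight (r.left (IsLocalRing.closedPoint κ)) = 0)
    (q : PrimeSpectrum (L ⊗[k] κ)) (hq : ∀ q' : PrimeSpectrum (L ⊗[k] κ), q'.asIdeal ≤ q.asIdeal → q' = q) :
    coheight ((fib L r).left q) = 0 := by
  refine coheight_eq_zero.2 fun w hw => ?_
  have hw' : w ⤳ (fib L r).left q := Scheme.le_iff_specializes.1 hw
  have h1 : (prod.fst : T ⨯ ext (k := k) L ⟶ T).left w ⤳ r.left (IsLocalRing.closedPoint κ) := by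
    rw [← fst_fib L r q]
    exact hw'.map (Scheme.Hom.continuous _)
  obtain ⟨q', rfl⟩ := exists_fib L r w (eq_of_specializes_of_coheight hu h1)
  have := isPreimmersion_fib L r
  have h2 : q' ⤳ q := ((fib L r).left.isEmbedding.specializes_iff).1 hw'
  rw [hq q' ((PrimeSpectrum.le_iff_specializes q' q).2 h2)]

/-- Generalisations of a codimension zero point of an open subscheme. -/
theorem eq_of_specializes_openImm {S : Scheme.{u}} {Y : Sp S} (hY : IsAlgSpace Y) {V : Over S}
    {j : (yon S).obj V ⟶ Y} (hj : RepWith @IsOpenImmersion j) {v : ↥V.left} (hv : coheight v = 0) {p : Points Y}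
    (h : p ⤳ Points.ofPt j v) : p = Points.ofPt j v := by
  have he : RepWith @Etale j := repWith_mono (fun _ _ f (_ : IsOpenImmersion f) => inferInstanceAs (Etale f)) _ hj
  obtain ⟨v', -, rfl⟩ := h.mem_open (isOpenMap_ofPt he _ isOpen_univ) ⟨v, trivial, rfl⟩
  have hinj : Function.Injective (Points.ofPt j) := by
    have := mono_of_openImm hj
    intro a b hab
    rw [Points.ofPt_eq_map_ofScheme, Points.ofPt_eq_map_ofScheme] at hab
    exact (Points.schemeHomeo V).injective (injective_points_map_of_mono j hab)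
  have h2 : v' ⤳ v := by
    refine specializes_iff_forall_open.2 fun O hO hvO => ?_
    obtain ⟨a, ha, hav⟩ := h.mem_open (isOpenMap_ofPt he _ hO) ⟨v, hvO, rfl⟩
    exact hinj hav ▸ ha
  rw [eq_of_specializes_of_coheight hv h2]

/-- Generalisations lift along open maps with finite fibres. -/
theorem exists_generalization_lift {α : Type*} {β : Type*} [TopologicalSpace α] [TopologicalSpace β] {f : α → β}
    (hf : IsOpenMap f) {v : α} {p : β} (h : p ⤳ f v) (hfin : (f ⁻¹' {p}).Finite) : ∃ v', v' ⤳ v ∧ f v' = p := by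
  by_contra hc
  push Not at hc
  have hO : ∀ v' ∈ f ⁻¹' {p}, ∃ O : Set α, IsOpen O ∧ v ∈ O ∧ v' ∉ O := fun v' hv' => by
    by_contra h'
    push Not at h'
    exact hc v' (specializes_iff_forall_open.2 fun O hO hvO => h' O hO hvO) hv'
  choose O hOo hvO hOn using hO
  let W : Set α := ⋂ v' : ↥(f ⁻¹' {p}), O v'.1 v'.2
  have := hfin.to_subtype
  obtain ⟨a, ha, hap⟩ := h.mem_open (hf W (isOpen_iInter_of_finite fun v' => hOo v'.1 v'.2))
    ⟨v, Set.mem_iInter.2 fun v' => hvO v'.1 v'.2, rfl⟩
  exact hOn a hap (Set.mem_iInter.1 ha ⟨a, hap⟩)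

end Groth.Agent.AlgSpDec.FibreChart
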