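import Groth.Agent.AlgSpDec.GenFiniteSp
import Groth.Agent.AlgSpDec.FibreDimEtale
import Groth.Agent.DimFormula.QuasiSection
import Groth.Agent.MorLib.Birat

/-!
# Fibres over points of codimension zero
-/

set_option autoImplicit false
set_option backward.isDefEq.respectTransparency false
set_option backward.isDefEq.respectTransparency.types false

universe u

open CategoryTheory CategoryTheory.Limits AlgebraicGeometry AlgSp Groth.Agent.AlgSpLib Groth.Agent.AlgSpPts

namespace Groth.Agent.AlgSpDec.FibreCodim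

theorem eq_of_dim_zero {X Y : Scheme.{u}} (f : X ⟶ Y) [LocallyOfFiniteType f] {x z : X}
    (h : FlatMor.fibreDimAt f x = 0) (hs : x ⤳ z ∨ z ⤳ x) (he : f z = f x) : z = x := by
  haveI : LocallyOfFiniteType (f.fiberToSpecResidueField (f x)) :=
    MorphismProperty.pullback_snd (P := @LocallyOfFiniteType) _ _ ‹_›
  haveI : JacobsonSpace ↥(f.fiber (f x)) :=
    LocallyOfFiniteType.jacobsonSpace (f.fiberToSpecResidueField (f x))
  have ho := (fibreDimAt_eq_zero_iff f x).1 h
  have hc := isClosed_singleton_of_isLocallyClosed_singleton ho.isLocallyClosed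
  obtain ⟨z', hz'⟩ : z ∈ Set.range (f.fiberι (f x)) := by rw [Scheme.Hom.range_fiberι]; exact he
  have key : z' = f.asFiber x := by
    rcases hs with hs | hs
    · have h1 : f.asFiber x ⤳ z' := (f.fiberι (f x)).isEmbedding.isInducing.specializes_iff.1
        (by rwa [Scheme.Hom.fiberι_asFiber, hz'])
      exact (h1.mem_closed hc rfl : z' ∈ ({f.asFiber x} : Set _))
    · have h1 : z' ⤳ f.asFiber x := (f.fiberι (f x)).isEmbedding.isInducing.specializes_iff.1
        (by rwa [Scheme.Hom.fiberι_asFiber, hz'])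
      exact (h1.mem_open ho rfl : z' ∈ ({f.asFiber x} : Set _))
  rw [← hz', key, Scheme.Hom.fiberι_asFiber]

variable {S : Scheme.{u}}

theorem hasAt_iff_coheight {F : Sp S} {U : Over S} {a : (yon S).obj U ⟶ F} (ha : RepWith @Etale a) (u : ↥U.left) :
    HasAt (fun U u => ringKrullDim ↥(U.presheaf.stalk u) = 0) F (Points.ofPt a u) ↔ Order.coheight u = 0 := by
  constructor
  · rintro ⟨U', a', u', ha', hu, h0⟩
    rw [coheight_eq_of_charts ha ha' hu.symm]
    rw [ringKrullDim_stalk_eq_coheight] at h0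
    simpa using h0
  · intro h
    refine ⟨U, a, u, ha, rfl, ?_⟩
    show ringKrullDim ↥(U.left.presheaf.stalk u) = 0
    rw [ringKrullDim_stalk_eq_coheight]
    simp [h]

theorem fibre_iff {X Y : Space S} (f : X ⟶ Y) (hf : LocP @LocallyOfFiniteType f.hom) (y : Points Y.obj)
    (hy : HasAt (fun U u => ringKrullDim ↥(U.presheaf.stalk u) = 0) Y.obj y) :
    let C := fun x => HasAt (fun U u => ringKrullDim ↥(U.presheaf.stalk u) = 0) X.obj x
    let Q := fun x => PointLocus.At (fun {_ _} h u => FlatMor.fibreDimAt h u = 0) f.hom x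
    ((∀ x, Points.map f.hom x = y → C x) ↔ ∀ x, Points.map f.hom x = y → Q x) ∧
      ((∀ x, Points.map f.hom x = y → C x → Q x) → ∀ x, Points.map f.hom x = y → C x) := by
  intro C Q
  obtain ⟨U, W, a, b, h, ha, ha', hb, -, w⟩ := exists_chart X.property Y.property f.hom
  haveI : LocallyOfFiniteType h.left := hf a b h ha hb w
  have hgen : ∀ u, Points.map f.hom (Points.ofPt a u) = y → h.left u ∈ genericPoints ↥W.left := fun u hu =>
    GenFiniteSp.mem_genericPoints_of_hasAt hb _ (by rw [← ofPt_comp, ← w, ← Points.map_ofPt, hu]; exact hy)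
  have hsame : ∀ u z, Points.map f.hom (Points.ofPt a u) = y → z ⤳ u →
      h.left z = h.left u ∧ Points.map f.hom (Points.ofPt a z) = y := fun u z hu hz => by
    have he : h.left z = h.left u :=
      Groth.Agent.MorLib.Birat.eq_of_specializes_generic (hgen u hu) (hz.map h.left.continuous)
    refine ⟨he, ?_⟩
    rw [← hu, Points.map_ofPt, Points.map_ofPt, w, ofPt_comp, ofPt_comp, he]
  have hQ : ∀ u, Q (Points.ofPt a u) ↔ FlatMor.fibreDimAt h.left u = 0 := fun u =>
    PointLocus.at_iff_chart PointLocus.ptProp_lqf hf ha hb w u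
  have hC : ∀ u, C (Points.ofPt a u) ↔ Order.coheight u = 0 := fun u => hasAt_iff_coheight ha u
  refine ⟨⟨fun H x hx => ?_, fun H x hx => ?_⟩, fun H x hx => ?_⟩
  all_goals obtain ⟨u, rfl⟩ := surjective_ofPt ha' x
  · rw [hQ, FieldFibre.fibreDimAt_eq_zero_iff_rd]
    intro z hz hzu
    refine DimFormula.rd_eq_zero_of_closed h.left fun z' hz' hzz' => ?_
    have hzy := (hsame u z hx hz).2
    have hz'y : Points.map f.hom (Points.ofPt a z') = y := by
      rw [← hzy, Points.map_ofPt, Points.map_ofPt, w, ofPt_comp, ofPt_comp, hz']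
    exact (eq_of_specializes_of_coheight ((hC z').1 (H _ hz'y)) hzz').symm
  · rw [hC, Order.coheight_eq_zero]
    intro z hz
    exact (eq_of_dim_zero h.left ((hQ u).1 (H _ hx)) (Or.inr hz) (hsame u z hx hz).1 ▸ le_rfl)
  · obtain ⟨z, hzg, hzu⟩ := Groth.Agent.MorLib.Birat.exists_generic (X := U.left) u
    obtain ⟨hze, hzy⟩ := hsame u z hx hzu
    have hz0 : Order.coheight z = 0 := Order.coheight_eq_zero.2 fun t ht =>
      (Groth.Agent.MorLib.Birat.eq_of_specializes_generic hzg ht) ▸ le_rfl
    rw [hC, eq_of_dim_zero h.left ((hQ z).1 (H _ hzy ((hC z).2 hz0))) (Or.inl hzu) hze.symm]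
    exact hz0

end Groth.Agent.AlgSpDec.FibreCodim
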