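import Groth.Agent.AlgSpDec.RelDimSp
import Groth.Agent.AlgSpDec.ResTrdeg
import Groth.Agent.AlgSpDec.BaseChangeCharts
import Groth.Agent.DimFormula.Fibre
import Groth.Agent.FibDim.RelDim

/-!
# Dimension of the fibre local rings under base change
-/

set_option linter.style.haveILetI false
set_option autoImplicit false
set_option backward.isDefEq.respectTransparency false
set_option backward.isDefEq.respectTransparency.types false

universe u

open CategoryTheory CategoryTheory.Limits AlgebraicGeometry AlgSp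
open Groth.Agent.AlgSpLib Groth.Agent.AlgSpPts

namespace Groth.Agent.AlgSpDec.FibreDimBC

variable {S : Scheme.{u}} {F G F' G' : Sp S} {f : F ⟶ G}

theorem fb_congr (hf : LocP @LocallyOfFiniteType f) {U V U' V' : Over S} {a : (yon S).obj U ⟶ F}
    {b : (yon S).obj V ⟶ G} {h : U ⟶ V} {u : ↥U.left} {a' : (yon S).obj U' ⟶ F} {b' : (yon S).obj V' ⟶ G}
    {h' : U' ⟶ V'} {u' : ↥U'.left} (ha : RepWith @Etale a) (hb : RepWith @Etale b)
    (w : a ≫ f = (yon S).map h ≫ b) (ha' : RepWith @Etale a') (hb' : RepWith @Etale b')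
    (w' : a' ≫ f = (yon S).map h' ≫ b') (he : Points.ofPt a u = Points.ofPt a' u')
    [LocallyOfFiniteType h.left] [LocallyOfFiniteType h'.left] :
    DimFormula.fb h.left u = DimFormula.fb h'.left u' := by
  have h1 := RelDimSp.fibreDimAt_congr hf ha hb w ha' hb' w' he
  rw [DimFormula.fibreDimAt_eq_add, DimFormula.fibreDimAt_eq_add] at h1
  have h2 := ResTrdeg.rdeg_congr ha hb w ha' hb' w' he
  rw [← FibDim.rd_eq_rdeg, ← FibDim.rd_eq_rdeg] at h2
  have h1' : FibDim.rd h.left u + DimFormula.fb h.left u = FibDim.rd h'.left u' + DimFormula.fb h'.left u' := by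
    exact_mod_cast h1
  have h2' : FibDim.rd h.left u = FibDim.rd h'.left u' := by exact_mod_cast h2
  omega

theorem hasAtMor_fb (hf : LocP @LocallyOfFiniteType f) {U V : Over S} {a : (yon S).obj U ⟶ F}
    {b : (yon S).obj V ⟶ G} {h : U ⟶ V} (ha : RepWith @Etale a) (hb : RepWith @Etale b)
    (w : a ≫ f = (yon S).map h ≫ b) [LocallyOfFiniteType h.left] (u : ↥U.left) (e : WithBot ℕ∞) :
    HasAtMor (fun _ _ h u => ringKrullDim ↥((h.fiber (h u)).presheaf.stalk (h.asFiber u)) = e) f (Points.ofPt a u) ↔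
      ((DimFormula.fb h.left u : ℕ) : WithBot ℕ∞) = e := by
  refine ⟨?_, fun he => ⟨U, V, a, b, h, u, ha, hb, w, rfl, (DimFormula.ringKrullDim_stalk_fibre _ _).trans he⟩⟩
  rintro ⟨U', V', a', b', h', u', ha', hb', w', hx, he⟩
  haveI : LocallyOfFiniteType h'.left := hf a' b' h' ha' hb' w'
  rw [fb_congr hf ha hb w ha' hb' w' hx.symm, ← DimFormula.ringKrullDim_stalk_fibre]
  exact he

/-- The dimension of the fibre local ring and the residual transcendence degree under base change. -/
theorem baseChange {g : G' ⟶ G} {g' : F' ⟶ F} {f' : F' ⟶ G'} (sq : IsPullback g' f' f g) (hF : IsAlgSpace F)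
    (hG : IsAlgSpace G) (hG' : IsAlgSpace G') (hf : LocP @LocallyOfFiniteType f) :
    (∀ (x' : Points F') (e e' : WithBot ℕ∞) (r r' : Cardinal.{u}),
      HasAtMor (fun _ _ h u => ringKrullDim ↥((h.fiber (h u)).presheaf.stalk (h.asFiber u)) = e) f
          (Points.map g' x') →
      HasAtMor (fun _ _ h u => Dual3.resTrdeg h u = r) f (Points.map g' x') →
      HasAtMor (fun _ _ h u => ringKrullDim ↥((h.fiber (h u)).presheaf.stalk (h.asFiber u)) = e') f' x' →
      HasAtMor (fun _ _ h u => Dual3.resTrdeg h u = r') f' x' →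
        e' + ((Cardinal.toENat r' : ℕ∞) : WithBot ℕ∞) = e + ((Cardinal.toENat r : ℕ∞) : WithBot ℕ∞) ∧ e ≤ e') ∧
    (∀ (x : Points F) (y' : Points G') (e : WithBot ℕ∞),
      Points.map f x = Points.map g y' →
      HasAtMor (fun _ _ h u => ringKrullDim ↥((h.fiber (h u)).presheaf.stalk (h.asFiber u)) = e) f x →
        ∃ x' : Points F', Points.map g' x' = x ∧ Points.map f' x' = y' ∧
          HasAtMor (fun _ _ h u => ringKrullDim ↥((h.fiber (h u)).presheaf.stalk (h.asFiber u)) = e) f' x') := by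
  have hf' : LocP @LocallyOfFiniteType f' := locP_of_isPullback sq hF hG hG' hf
  obtain ⟨U, V, W, a, b, c, h, h₁, a', ha, hb, hc, w, ha', hs', w', w''⟩ :=
    exists_baseChange_charts sq hF hG hG'
  haveI : LocallyOfFiniteType h.left := hf a b h ha hb w
  haveI : LocallyOfFiniteType (pullback.snd h h₁).left := hf' a' c _ ha' hc w'
  have sq' : IsPullback (pullback.fst h h₁).left (pullback.snd h h₁).left h.left h₁.left :=
    (IsPullback.of_hasPullback h h₁).map (CategoryTheory.Over.forget S)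
  have hfst : ∀ z, Points.map g' (Points.ofPt a' z) = Points.ofPt a ((pullback.fst h h₁).left z) := fun z => by
    rw [Points.map_ofPt, w'', ofPt_comp]
  have hsnd : ∀ z, Points.map f' (Points.ofPt a' z) = Points.ofPt c ((pullback.snd h h₁).left z) := fun z => by
    rw [Points.map_ofPt, w', ofPt_comp]
  refine ⟨fun x' e e' r r' he hr he' hr' => ?_, fun x y' e hxy he => ?_⟩
  · obtain ⟨z, rfl⟩ := surjective_ofPt hs' x'
    rw [hfst, hasAtMor_fb hf ha hb w] at he
    rw [hfst, ResTrdeg.hasAtMor_iff ha hb w, ← FibDim.rd_eq_rdeg] at hr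
    rw [hasAtMor_fb hf' ha' hc w'] at he'
    rw [ResTrdeg.hasAtMor_iff ha' hc w', ← FibDim.rd_eq_rdeg] at hr'
    have h1 := FibDim.fibreDimAt_baseChange sq' z
    rw [DimFormula.fibreDimAt_eq_add, DimFormula.fibreDimAt_eq_add] at h1
    have h1' : FibDim.rd (pullback.snd h h₁).left z + DimFormula.fb (pullback.snd h h₁).left z =
        FibDim.rd h.left ((pullback.fst h h₁).left z) + DimFormula.fb h.left ((pullback.fst h h₁).left z) := by
      exact_mod_cast h1
    have h2 := FibDim.rd_baseChange_le sq' z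
    subst he he' hr hr'
    rw [Cardinal.toENat_nat, Cardinal.toENat_nat]
    refine ⟨?_, by exact_mod_cast (by omega : _ ≤ _)⟩
    exact_mod_cast (by omega : _ = _)
  · obtain ⟨x₀, hx₀, hy₀⟩ := exists_point_of_isPullback sq hxy
    obtain ⟨z, rfl⟩ := surjective_ofPt hs' x₀
    rw [hfst] at hx₀
    rw [hsnd] at hy₀
    obtain ⟨z', hz₁, hz₂, hz₃⟩ := FibDim.exists_rd_baseChange_eq sq' ((pullback.fst h h₁).left z)
      ((pullback.snd h h₁).left z) (by rw [← Scheme.Hom.comp_apply, sq'.w, Scheme.Hom.comp_apply])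
    refine ⟨Points.ofPt a' z', by rw [hfst, hz₁, hx₀], by rw [hsnd, hz₂, hy₀], ?_⟩
    rw [← hx₀, ← hz₁, hasAtMor_fb hf ha hb w] at he
    rw [hasAtMor_fb hf' ha' hc w', ← he]
    have h1 := FibDim.fibreDimAt_baseChange sq' z'
    rw [DimFormula.fibreDimAt_eq_add, DimFormula.fibreDimAt_eq_add] at h1
    have h1' : FibDim.rd (pullback.snd h h₁).left z' + DimFormula.fb (pullback.snd h h₁).left z' =
        FibDim.rd h.left ((pullback.fst h h₁).left z') + DimFormula.fb h.left ((pullback.fst h h₁).left z') := by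
      exact_mod_cast h1
    rw [← hz₁] at hz₃
    exact_mod_cast (by omega : DimFormula.fb (pullback.snd h h₁).left z' =
      DimFormula.fb h.left ((pullback.fst h h₁).left z'))

end Groth.Agent.AlgSpDec.FibreDimBC
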