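import Groth.Agent.AlgSpDec.AffineProps
import Groth.Agent.AlgSpDec.AffineRep
import Groth.Agent.AlgSpDec.FieldFibre
import Groth.Agent.AlgSpDec.LqfScheme
import Groth.Agent.AlgSpDec.PointLocusInst
import Groth.Agent.AlgSpPts.Sep
import Groth.Agent.AlgSpPts.UnivClosed
import Mathlib.AlgebraicGeometry.ZariskisMainTheorem
import Mathlib.AlgebraicGeometry.Artinian

/-!
# Finite morphisms are the universally closed separated morphisms with discrete fibres
-/

set_option autoImplicit false
set_option linter.style.haveILetI false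
set_option backward.isDefEq.respectTransparency false
set_option backward.isDefEq.respectTransparency.types false

universe u

open CategoryTheory CategoryTheory.Limits AlgebraicGeometry AlgSp

namespace Groth.Agent.AlgSpDec

open Groth.Agent.AlgSpLib Groth.Agent.AlgSpPts

variable {S : Scheme.{u}} {X Y : Sp S} {f : X ⟶ Y}

/-- Finite morphisms are proper and locally quasi-finite. -/
theorem proper_and_lqf_of_finite (hY : IsAlgSpace Y) (hf : IsFiniteMor f) :
    IsProperMor f ∧ LocP (@LocallyQuasiFinite ⊓ @LocallyOfFiniteType) f :=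
  ⟨((isFiniteMor_iff_affine_proper hY).1 hf).2,
    locP_of_repWith (repWith_mono (P := @IsFinite) (Q := (@LocallyQuasiFinite ⊓ @LocallyOfFiniteType : MorphismProperty Scheme.{u}))
      (fun _ _ φ (_ : IsFinite φ) => ⟨inferInstanceAs (LocallyQuasiFinite φ), inferInstanceAs (LocallyOfFiniteType φ)⟩) _
      (isFiniteMor_iff_repWith.1 hf))⟩

/-- The fibres of a locally quasi-finite morphism over fields have discrete spaces of points. -/
theorem discrete_fibre_of_lqf (hX : IsAlgSpace X) (hY : IsAlgSpace Y)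
    (hf : LocP (@LocallyQuasiFinite ⊓ @LocallyOfFiniteType) f) (k : FieldPt Y) {Xk : Sp S} {fst : Xk ⟶ X}
    {snd : Xk ⟶ (yon S).obj k.pt} (sq : IsPullback fst snd f k.toHom) : DiscreteTopology (Points Xk) := by
  obtain ⟨U, a, ha, ha'⟩ := (isAlgSpace_of_isPullback sq hX (IsAlgSpace.yon_obj k.pt) hY).atlas
  obtain ⟨v, hv⟩ := (yon S).map_surjective (a ≫ snd)
  obtain ⟨h1, -⟩ := locP_of_isPullback sq hX hY (IsAlgSpace.yon_obj k.pt) hf a (𝟙 _) v ha (repWith_id _ _)
    (by rw [hv, Category.comp_id])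
  let v' : U.left ⟶ Spec (CommRingCat.of k.K) := v.left
  haveI : LocallyQuasiFinite v' := h1
  haveI : IsLocallyArtinian U.left := IsLocallyArtinian.of_locallyQuasiFinite v'
  refine discreteTopology_iff_isOpen_singleton.2 fun z => ?_
  obtain ⟨u, rfl⟩ := surjective_ofPt ha' z
  have h2 := isOpenMap_ofPt ha _ (isOpen_discrete ({u} : Set ↥U.left))
  rwa [Set.image_singleton] at h2

/-- Discrete fibres over fields give local quasi-finiteness. -/
theorem lqf_of_discrete_fibres (hX : IsAlgSpace X) (hY : IsAlgSpace Y) (hl : LocP @LocallyOfFiniteType f)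
    (h : ∀ (k : FieldPt Y) (Xk : Sp S) (fst : Xk ⟶ X) (snd : Xk ⟶ (yon S).obj k.pt),
      IsPullback fst snd f k.toHom → DiscreteTopology (Points Xk)) :
    LocP (@LocallyQuasiFinite ⊓ @LocallyOfFiniteType) f := by
  intro U V a b m ha hb w
  haveI : LocallyOfFiniteType m.left := hl a b m ha hb w
  refine (PointLocus.lqf_iff_forall m.left).2 fun u => ?_
  refine (FieldFibre.hasAtMor_iff hl ha hb w u 0).1 ?_
  obtain ⟨r, hr⟩ := Points.mk_surjective (Points.map f (Points.ofPt a u))
  have sq := IsPullback.of_hasPullback f r.toHom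
  have hP : IsAlgSpace (pullback f r.toHom) := isAlgSpace_pullback hX (IsAlgSpace.yon_obj r.pt) hY f r.toHom
  haveI := h r _ _ _ sq
  obtain ⟨z, hz, -⟩ := exists_point_of_isPullback sq (x := Points.ofPt a u)
    (y := Points.ofScheme r.pt (IsLocalRing.closedPoint r.K))
    (by rw [← Points.ofPt_eq_map_ofScheme, Points.ofPt_toHom]; exact hr.symm)
  obtain ⟨W, c, hc, hc'⟩ := hP.atlas
  obtain ⟨q, hq⟩ := (yon S).map_surjective (c ≫ pullback.snd f r.toHom)
  obtain ⟨t, ht⟩ := surjective_ofPt hc' z
  haveI : LocallyOfFiniteType q.left :=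
    locP_of_isPullback sq hX hY (IsAlgSpace.yon_obj r.pt) hl c (𝟙 _) q hc (repWith_id _ _)
      (by rw [hq, Category.comp_id])
  have h0 := FieldFibre.fibreDimAt_zero_of_discrete (str := r.pt.hom) (q := pullback.snd f r.toHom) hc hq.symm t
  rw [← hz]
  exact FieldFibre.hasAtMor_zero_of_fibre sq hX hY hl z c hc q hq.symm t ht h0

/-- Universally closed, separated and locally quasi-finite morphisms are finite. -/
theorem finite_of_univClosed_lqf (hX : IsAlgSpace X) (hY : IsAlgSpace Y) (hc : IsUnivClosedMor f)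
    (hs : IsSeparatedMor f) (hq : LocP (@LocallyQuasiFinite ⊓ @LocallyOfFiniteType) f) : IsFiniteMor f := by
  have hr : Representable f := representable_of_lqf_separated hX hY f hq hs
  have hu : RepWith (topologically @IsClosedMap).universally f :=
    repWith_universally_of_univSp (Q := IsClosedMor) (fun V U g hg => by
      show IsClosedMap g.left
      rw [left_eq_conj g]
      exact (Points.schemeHomeo U).symm.isClosedMap.comp (IsClosedMap.comp hg (Points.schemeHomeo V).isClosedMap))
      hr hc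
  refine isFiniteMor_iff_repWith.2 ⟨hr, fun U V g fst snd sq => ?_⟩
  haveI : UniversallyClosed snd.left := ⟨hu.2 g fst snd sq⟩
  obtain ⟨h1, h2⟩ := locP_yon_map (locP_of_isPullback sq hX hY (IsAlgSpace.yon_obj U) hq)
  haveI : LocallyQuasiFinite snd.left := h1
  haveI : LocallyOfFiniteType snd.left := h2
  haveI : IsSeparated snd.left :=
    ⟨(repWith_diagonal_yon_map_iff _ snd).1 (isSeparatedMor_of_isPullback sq hs)⟩
  haveI : IsProper snd.left := {}
  exact @IsFinite.of_isProper_of_locallyQuasiFinite _ _ snd.left ‹IsProper snd.left› ‹LocallyQuasiFinite snd.left›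

end Groth.Agent.AlgSpDec

namespace Groth.Agent.AlgSpDec

open Groth.Agent.AlgSpLib Groth.Agent.AlgSpPts

variable {S : Scheme.{u}}

/-- Quasi-finiteness at a point is vanishing of the fibre dimension there. -/
theorem hasAtMor_qf_iff {F G : Sp S} {f : F ⟶ G} (hl : LocP @LocallyOfFiniteType f) (x : Points F) :
    HasAtMor (fun U _ h u => ∃ W : U.Opens, u ∈ W ∧ LocallyQuasiFinite (W.ι ≫ h) ∧ LocallyOfFiniteType (W.ι ≫ h)) f x ↔
      PointLocus.At (fun {_ _} h u => FlatMor.fibreDimAt h u = 0) f x := by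
  constructor
  · rintro ⟨U, V, a, b, h, u, ha, hb, w, hx, W, hu, h1, h2⟩
    haveI : LocallyOfFiniteType h.left := hl a b h ha hb w
    refine ⟨U, V, a, b, h, u, ha, hb, w, hx, ?_⟩
    exact (PointLocus.ptProp_lqf.precomp W.ι h.left ⟨u, hu⟩).1 ((PointLocus.lqf_iff_forall _).1 ⟨h1, h2⟩ _)
  · rintro ⟨U, V, a, b, h, u, ha, hb, w, hx, hu⟩
    haveI : LocallyOfFiniteType h.left := hl a b h ha hb w
    let W : U.left.Opens := ⟨{u | FlatMor.fibreDimAt h.left u = 0}, PointLocus.ptProp_lqf.isOpen h.left⟩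
    have hW := (PointLocus.lqf_iff_forall (W.ι ≫ h.left)).2 fun z =>
      (PointLocus.ptProp_lqf.precomp W.ι h.left z).2 z.2
    exact ⟨U, V, a, b, h, u, ha, hb, w, hx, W, hu, hW.1, hW.2⟩

/-- Over an open avoiding the image of the non quasi-finite locus a proper morphism is finite. -/
theorem finite_of_proper_of_qf {X Y P V : Sp S} (hX : IsAlgSpace X) (hY : IsAlgSpace Y) (hV : IsAlgSpace V)
    {f : X ⟶ Y} (hf : IsProperMor f) {fst : P ⟶ X} {snd : P ⟶ V} {j : V ⟶ Y} (sq : IsPullback fst snd f j)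
    (h : ∀ z, PointLocus.At (fun {_ _} h u => FlatMor.fibreDimAt h u = 0) f (Points.map fst z)) :
    IsFiniteMor snd := by
  have hP := isAlgSpace_of_isPullback sq hX hV hY
  have hp := isProperMor_of_isPullback sq hX hY hV hf
  exact finite_of_univClosed_lqf hP hV hp.2.2 hp.1
    ((PointLocus.locP_iff PointLocus.ptProp_lqf PointLocus.lqf_iff_forall hP hV hp.2.1.1).2 fun z =>
      (PointLocus.at_baseChange_iff PointLocus.ptProp_lqf sq hX hY hV hf.2.1.1 z).2 (h z))

end Groth.Agent.AlgSpDec
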