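import Groth.Agent.AlgSpDec.ExtScheme
import Groth.Agent.AlgSpDec.AffineFlfQuot
import Mathlib.FieldTheory.SeparableClosure

/-!
# A space which is a scheme over the algebraic closure is a scheme over a finite separable extension
-/

set_option backward.isDefEq.respectTransparency false
set_option backward.isDefEq.respectTransparency.types false

universe u

open CategoryTheory CategoryTheory.Limits AlgebraicGeometry Opposite AlgSp Groth.Agent.AlgSpLib
  Groth.Agent.AlgSpDec.BcConn Groth.Agent.AlgSpDec.GeomRed Groth.Agent.AlgSpDec.AffineBc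
open scoped TensorProduct

namespace Groth.Agent.AlgSpDec.FiniteLevel

variable {k : Type u} [Field k] {X : Sp (Spec (CommRingCat.of k))}

/-- An affine open of a base change at a finite level around the image of a point. -/
theorem exists_affine_level (hX : IsAlgSpace X) (hqs : IsQuasiSeparatedSp X) (K : Type u) [Field K]
    [Algebra k K] [Algebra.IsAlgebraic k K]
    (h : (X ⨯ (yon _).obj (ext (k := k) K)).obj.IsRepresentable)
    (y : Points (X ⨯ (yon _).obj (ext (k := k) K))) :
    ∃ (k' : IntermediateField k K) (_ : FiniteDimensional k k') (T : Over (Spec (CommRingCat.of k)))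
      (jT : (yon _).obj T ⟶ X ⨯ (yon _).obj (ext (k := k) k')), IsAffine T.left ∧
      RepWith @IsOpenImmersion jT ∧ Points.map (chg (fieldHom k') X) y ∈ Set.range (Points.map jT) := by
  obtain ⟨Y, ⟨e⟩⟩ := Groth.Agent.QuotLib.exists_iso_yon h
  obtain ⟨F, _, _, ξ, hξ⟩ := FibreChart.exists_field_rep (Points.map prod.fst y)
  obtain ⟨p, hp⟩ := SpreadOut.exists_psi_point ξ K y hξ.symm
  obtain ⟨V, hV, hzV, -⟩ := exists_isAffineOpen_mem_and_subset
    (x := Points.toScheme Y (Points.map e.inv y)) (U := (⊤ : Y.left.Opens)) trivial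
  let W : Over (Spec (CommRingCat.of k)) := Over.mk (V.ι ≫ Y.hom)
  let ι : W ⟶ Y := Over.homMk V.ι rfl
  haveI : IsAffine W.left := hV
  have hjW : RepWith @IsOpenImmersion ((yon _).map ι ≫ e.hom) :=
    MorphismProperty.RespectsIso.postcomp _ e.hom _ ((repWith_yon_map_iff _ ι).2 (inferInstanceAs (IsOpenImmersion V.ι)))
  have hq : Points.ofPt (SpreadOut.psi ξ K) p ∈ Set.range (Points.map ((yon _).map ι ≫ e.hom)) := by
    refine ⟨Points.ofScheme W ⟨_, hzV⟩, ?_⟩
    rw [Points.map_comp]
    erw [Points.map_yon_map_apply]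
    change Points.map e.hom (Points.ofScheme Y (Points.toScheme Y (Points.map e.inv y))) = _
    rw [Points.ofScheme_toScheme, ← Points.map_comp, e.inv_hom_id, Points.map_id, hp]
  obtain ⟨A, hA, O, hpO, hO⟩ := SpreadOut.exists_stage hX hqs ξ _ hjW p hq
  obtain ⟨s, rfl⟩ := hA
  let k' : IntermediateField k K := IntermediateField.adjoin k (s : Set K)
  haveI : FiniteDimensional k k' := IntermediateField.finiteDimensional_adjoin fun x _ =>
    (Algebra.IsAlgebraic.isAlgebraic (R := k) x).isIntegral
  have hle : Algebra.adjoin k (s : Set K) ≤ k'.toSubalgebra :=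
    IntermediateField.algebra_adjoin_le_adjoin k _
  obtain ⟨T, jT, hT, hjT, hcov⟩ := hO k' (Subalgebra.inclusion hle)
  refine ⟨k', inferInstance, T, jT, hT, hjT, ?_⟩
  have e1 : Points.map (chg (fieldHom k') X) y = Points.ofPt (SpreadOut.psi ξ k')
      (PrimeSpectrum.comap (Algebra.TensorProduct.map (AlgHom.id k F) k'.val).toRingHom p) := by
    rw [← hp, Points.map_ofPt]
    have : SpreadOut.psi ξ K ≫ chg (fieldHom k') X =
        (yon _).map (specMapOver (Algebra.TensorProduct.map (AlgHom.id k F) k'.val)) ≫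
          SpreadOut.psi ξ k' := SpreadOut.psi_natural ξ k'.val
    rw [this, AlgSpLib.ofPt_comp]
    rfl
  rw [e1]
  refine hcov _ ?_
  have e2 : (Algebra.TensorProduct.map (AlgHom.id k F) k'.val).comp
      (Algebra.TensorProduct.map (AlgHom.id k F) (Subalgebra.inclusion hle)) =
      Algebra.TensorProduct.map (AlgHom.id k F) (Algebra.adjoin k (s : Set K)).val := by
    refine Algebra.TensorProduct.ext' fun a b => ?_
    rfl
  rw [← e2] at hpO
  exact hpO

theorem compactSpace_bc (hX : IsAlgSpace X) (hqc : IsQuasiCompactSp X) (K : Type u) [Field K]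
    [Algebra k K] : CompactSpace (Points (X ⨯ (yon _).obj (ext (k := k) K))) := by
  obtain ⟨U, a, ha, has, (hU : CompactSpace ↥U.left)⟩ := hqc
  haveI : IsAffine (ext (k := k) K).left := inferInstanceAs (IsAffine (Spec _))
  have : CompactSpace ↥(U ⨯ ext (k := k) K).left := by
    haveI : IsAffineHom (ext (k := k) K).hom := isAffineHom_of_isAffine _
    haveI : CompactSpace ↥(pullback U.hom (ext (k := k) K).hom) :=
      QuasiCompact.compactSpace_of_compactSpace (pullback.fst U.hom (ext (k := k) K).hom)
    exact (Scheme.homeoOfIso (Over.prodLeftIsoPullback U (ext (k := k) K))).symm.compactSpace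
  refine ⟨?_⟩
  rw [← (surjective_bcChart (L := K) has).range_eq]
  exact isCompact_range (Points.continuous_ofPt _)

/-- Finitely many levels suffice. -/
theorem exists_finite_isRepresentable (hX : IsAlgSpace X) (hqc : IsQuasiCompactSp X)
    (hqs : IsQuasiSeparatedSp X) (K : Type u) [Field K] [Algebra k K] [Algebra.IsAlgebraic k K]
    (h : (X ⨯ (yon _).obj (ext (k := k) K)).obj.IsRepresentable) :
    ∃ (k' : IntermediateField k K), FiniteDimensional k k' ∧
      (X ⨯ (yon _).obj (ext (k := k) k')).obj.IsRepresentable := by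
  classical
  choose k₀ hf T jT hT hjT hy using exists_affine_level hX hqs K h
  haveI := compactSpace_bc hX hqc K
  have ho : ∀ y, IsOpen (Points.map (chg (fieldHom (k₀ y)) X) ⁻¹' Set.range (Points.map (jT y))) :=
    fun y => ((Groth.Agent.AlgSpPts.isOpenMap_map (repWith_mono
      (fun A B g (hg : IsOpenImmersion g) => (inferInstance : UniversallyOpen g)) _
      (hjT y))).isOpen_range).preimage (Points.continuous_map _)
  obtain ⟨s, hs⟩ := isCompact_univ.elim_finite_subcover _ ho fun y _ => Set.mem_iUnion.2 ⟨y, hy y⟩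
  let k' : IntermediateField k K := ⨆ y ∈ s, k₀ y
  haveI : FiniteDimensional k k' := by
    haveI := hf
    exact IntermediateField.finiteDimensional_iSup_of_finset (t := k₀) (s := s)
  refine ⟨k', inferInstance, GroupScheme.isRepresentable_of_nhds
    (Groth.Agent.AlgSpPts.isAlgSpace_prod hX (IsAlgSpace.yon_obj _)) fun z => ?_⟩
  obtain ⟨y, rfl⟩ := BcConn.surjective_chg (fieldHom k') (X := X) z
  obtain ⟨i, hi, hyi⟩ := Set.mem_iUnion₂.1 (hs (Set.mem_univ y))
  have hle : k₀ i ≤ k' := le_iSup₂ (f := fun y _ => k₀ y) i hi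
  have hc : RepWith @IsAffineHom (chg (inclHom hle) X) :=
    AlgSpLib.repWith_of_isPullback (isPullback_prodMap X _) ((repWith_yon_map_iff _ _).2 (by
      haveI : IsAffine (ext (k := k) k').left := inferInstanceAs (IsAffine (Spec _))
      haveI : IsAffine (ext (k := k) (k₀ i)).left := inferInstanceAs (IsAffine (Spec _))
      exact isAffineHom_of_isAffine _))
  refine ⟨_, hc.rep.fst (jT i),
    AlgSpLib.repWith_of_isPullback (hc.rep.isPullback (jT i)).flip (hjT i), ?_⟩
  rw [AlgSpLib.range_map_snd_of_isPullback (hc.rep.isPullback (jT i)).flip]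
  show _ ∈ Set.range (Points.map (jT i))
  rw [← Points.map_comp, chg_comp, fieldHom_incl hle]
  exact hyi

/-- Descent of scheme-ness along a purely inseparable extension. -/
theorem isRepresentable_of_purelyInseparable (hX : IsAlgSpace X) {K : Type u} [Field K] [Algebra k K]
    [FiniteDimensional k K] (F : IntermediateField k K) [IsPurelyInseparable F K]
    (h : (X ⨯ (yon _).obj (ext (k := k) K)).obj.IsRepresentable) :
    (X ⨯ (yon _).obj (ext (k := k) F)).obj.IsRepresentable := by
  obtain ⟨Y, ⟨e⟩⟩ := Groth.Agent.QuotLib.exists_iso_yon h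
  let g := fieldHom F
  have hgl : g.left = Spec.map (CommRingCat.ofHom (algebraMap F K)) := rfl
  have hfl : Flat g.left := by
    rw [hgl, HasRingHomProperty.Spec_iff (P := @Flat), CommRingCat.hom_ofHom, RingHom.flat_algebraMap_iff]
    infer_instance
  have hfi : IsFinite g.left := by
    rw [hgl, IsFinite.SpecMap_iff, CommRingCat.hom_ofHom, RingHom.finite_algebraMap]
    infer_instance
  have hlp : LocallyOfFinitePresentation g.left := by
    rw [hgl, HasRingHomProperty.Spec_iff (P := @LocallyOfFinitePresentation), CommRingCat.hom_ofHom,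
      RingHom.finitePresentation_algebraMap]
    exact (Algebra.FinitePresentation.of_finiteType).1 inferInstance
  have hsu : Surjective g.left :=
    ⟨fun x => ⟨IsLocalRing.closedPoint K, Subsingleton.elim (α := PrimeSpectrum F) _ _⟩⟩
  have hui : UniversallyInjective g.left := by
    refine (tfae_universallyInjective g.left).out 0 1 |>.2 fun E instE a b hab => ?_
    obtain ⟨α, rfl⟩ := Spec.map_surjective a
    obtain ⟨β, rfl⟩ := Spec.map_surjective b
    have hab' : Spec.map α ≫ g.left = Spec.map β ≫ g.left := hab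
    erw [hgl, ← Spec.map_comp, ← Spec.map_comp] at hab'
    letI := instE
    exact congrArg Spec.map (CommRingCat.hom_ext (IsPurelyInseparable.injective_comp_algebraMap F K E
      (congrArg CommRingCat.Hom.hom (Spec.map_injective hab'))))
  have bc : ∀ {P : MorphismProperty Scheme.{u}} [P.IsStableUnderBaseChange] [P.RespectsIso],
      P g.left → RepWith P (chg g X) := fun hP =>
    AlgSpLib.repWith_of_isPullback (isPullback_prodMap X _) ((repWith_yon_map_iff _ _).2 hP)
  have hc1 := bc (P := @Flat) hfl
  have hc2 := bc (P := @LocallyOfFinitePresentation) hlp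
  have hc3 := bc (P := @IsFinite) hfi
  have hc4 := bc (P := @Surjective) hsu
  have hinj : Function.Injective (Points.map (chg g X)) :=
    Groth.Agent.AlgSpPts.injective_map (repWith_mono (fun A B f (hf : UniversallyInjective f) => f.injective)
      _ (bc (P := @UniversallyInjective) hui))
  have hXK := Groth.Agent.AlgSpPts.isAlgSpace_prod hX (IsAlgSpace.yon_obj (ext (k := k) K))
  have hXF := Groth.Agent.AlgSpPts.isAlgSpace_prod hX (IsAlgSpace.yon_obj (ext (k := k) F))
  refine GroupScheme.isRepresentable_of_nhds hXF fun z => ?_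
  obtain ⟨y, rfl⟩ := BcConn.surjective_chg g (X := X) z
  obtain ⟨V, hV, hzV, -⟩ := exists_isAffineOpen_mem_and_subset
    (x := Points.toScheme Y (Points.map e.inv y)) (U := (⊤ : Y.left.Opens)) trivial
  let W : Over (Spec (CommRingCat.of k)) := Over.mk (V.ι ≫ Y.hom)
  let ι : W ⟶ Y := Over.homMk V.ι rfl
  haveI : IsAffine W.left := hV
  let jW := (yon _).map ι ≫ e.hom
  have hjW : RepWith @IsOpenImmersion jW :=
    MorphismProperty.RespectsIso.postcomp _ e.hom _ ((repWith_yon_map_iff _ ι).2 (inferInstanceAs (IsOpenImmersion V.ι)))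
  have hy : y ∈ Set.range (Points.map jW) := by
    refine ⟨Points.ofScheme W ⟨_, hzV⟩, ?_⟩
    rw [Points.map_comp]
    erw [Points.map_yon_map_apply]
    change Points.map e.hom (Points.ofScheme Y (Points.toScheme Y (Points.map e.inv y))) = _
    rw [Points.ofScheme_toScheme, ← Points.map_comp, e.inv_hom_id, Points.map_id]
  have hjo : IsOpen (Set.range (Points.map jW)) :=
    (Groth.Agent.AlgSpPts.isOpenMap_map (repWith_mono
      (fun A B f (hf : IsOpenImmersion f) => (inferInstance : UniversallyOpen f)) _ hjW)).isOpen_range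
  have hO : IsOpen (Points.map (chg g X) '' Set.range (Points.map jW)) := by
    have h0 := isClosedMap_chg g hX _ hjo.isClosed_compl
    rw [Set.image_compl_eq ⟨hinj, BcConn.surjective_chg g⟩] at h0
    exact isClosed_compl_iff.1 h0
  obtain ⟨X₀, j₀, hX₀, hj₀, hr₀⟩ := Groth.Agent.AlgSpPts.exists_open_subspace hXF hO
  have sq := IsPullback.of_hasPullback (chg g X) j₀
  have hP := AlgSpLib.isAlgSpace_of_isPullback sq hXK hX₀ hXF
  have hq : RepWith @IsOpenImmersion (pullback.fst (chg g X) j₀) :=
    AlgSpLib.repWith_of_isPullback sq.flip hj₀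
  have hrq : Set.range (Points.map (pullback.fst (chg g X) j₀)) = Set.range (Points.map jW) := by
    rw [AlgSpLib.range_map_snd_of_isPullback sq.flip, hr₀, Set.preimage_image_eq _ hinj]
  obtain ⟨l, hl⟩ := exists_lift_openImmersion (IsAlgSpace.yon_obj W) hP hXK hq jW hrq.symm.subset
  obtain ⟨m, hm⟩ := exists_lift_openImmersion hP (IsAlgSpace.yon_obj W) hXK hjW (pullback.fst (chg g X) j₀) hrq.subset
  have : Mono jW := mono_of_openImm hjW
  have : Mono (pullback.fst (chg g X) j₀) := mono_of_openImm hq
  let i : (yon _).obj W ≅ pullback (chg g X) j₀ := ⟨l, m,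
    (cancel_mono jW).1 (by rw [Category.assoc, hm, hl, Category.id_comp]),
    (cancel_mono (pullback.fst (chg g X) j₀)).1 (by rw [Category.assoc, hl, hm, Category.id_comp])⟩
  have sq' : IsPullback jW (i.hom ≫ pullback.snd (chg g X) j₀) (chg g X) j₀ :=
    sq.of_iso i.symm (Iso.refl _) (Iso.refl _) (Iso.refl _)
      (by simp [i, hl, hm]) (by simpa using (i.inv_hom_id_assoc _).symm) (by simp) (by simp)
  obtain ⟨Z, hZ, ⟨eZ⟩⟩ := exists_affine_iso_of_affine_finLocFree (i.hom ≫ pullback.snd (chg g X) j₀)
    (AlgSpLib.repWith_of_isPullback sq' hc1) (AlgSpLib.repWith_of_isPullback sq' hc2)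
    (AlgSpLib.repWith_of_isPullback sq' hc3) (AlgSpLib.repWith_of_isPullback sq' hc4)
  refine ⟨Z, eZ.hom ≫ j₀, MorphismProperty.RespectsIso.precomp _ eZ.hom _ hj₀, ?_⟩
  have : Points.map (chg g X) y ∈ Set.range (Points.map j₀) := hr₀.symm.subset ⟨y, hy, rfl⟩
  obtain ⟨w, hw⟩ := this
  exact ⟨Points.map eZ.inv w, by rw [← Points.map_comp, eZ.inv_hom_id_assoc, hw]⟩

end Groth.Agent.AlgSpDec.FiniteLevel
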