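import Mathlib.AlgebraicGeometry.Morphisms.FinitePresentation
import Mathlib.Algebra.Category.Ring.FilteredColimits
import Mathlib.CategoryTheory.Limits.Types.Filtered
import Mathlib.Algebra.Category.Ring.Colimits
import Mathlib.CategoryTheory.Limits.Preserves.Basic

/-!
# An affine scheme over an affine base is a cofiltered limit of affine schemes of finite presentation
-/

set_option autoImplicit false
set_option backward.isDefEq.respectTransparency false

universe u

open CategoryTheory Limits AlgebraicGeometry MvPolynomial Opposite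

namespace Groth.Agent.AlgSpDec.FpApprox

variable (R : Type u) [CommRing R] (A : Type u) [CommRing A] [Algebra R A]

/-- Finitely many elements with finitely generated relations. -/
structure Idx where
  s : Finset A
  J : Ideal (MvPolynomial {x // x ∈ s} R)
  fg : J.FG
  le : J ≤ RingHom.ker (aeval fun x : {x // x ∈ s} => (x : A)).toRingHom

variable {R A}

/-- Renaming variables along an inclusion. -/
noncomputable def incl {s t : Finset A} (h : s ⊆ t) : MvPolynomial {x // x ∈ s} R →+* MvPolynomial {x // x ∈ t} R :=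
  (rename fun x => (⟨x.1, h x.2⟩ : {x // x ∈ t})).toRingHom

theorem incl_incl {s t r : Finset A} (h : s ⊆ t) (h' : t ⊆ r) (p : MvPolynomial {x // x ∈ s} R) :
    incl h' (incl h p) = incl (R := R) (h.trans h') p := rename_rename _ _ p

theorem incl_refl {s : Finset A} (h : s ⊆ s) (p : MvPolynomial {x // x ∈ s} R) : incl (R := R) h p = p :=
  rename_id_apply p

theorem aeval_incl {s t : Finset A} (h : s ⊆ t) (p : MvPolynomial {x // x ∈ s} R) :
    aeval (fun x : {x // x ∈ t} => (x : A)) (incl h p) = aeval (fun x : {x // x ∈ s} => (x : A)) p :=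
  aeval_rename _ _ p

instance : Preorder (Idx R A) where
  le i j := ∃ h : i.s ⊆ j.s, i.J.map (incl h) ≤ j.J
  le_refl i := ⟨subset_rfl, Ideal.map_le_iff_le_comap.2 fun p hp => by
    rw [Ideal.mem_comap, incl_refl]; exact hp⟩
  le_trans i j k := fun ⟨h, hh⟩ ⟨h', hh'⟩ => ⟨h.trans h', Ideal.map_le_iff_le_comap.2 fun p hp => by
    rw [Ideal.mem_comap, ← incl_incl h h']
    exact hh' (Ideal.mem_map_of_mem _ (hh (Ideal.mem_map_of_mem _ hp)))⟩

theorem map_le_ker (i : Idx R A) {t : Finset A} (h : i.s ⊆ t) :
    i.J.map (incl h) ≤ RingHom.ker (aeval fun x : {x // x ∈ t} => (x : A)).toRingHom :=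
  Ideal.map_le_iff_le_comap.2 fun p hp => by
    rw [Ideal.mem_comap, RingHom.mem_ker]
    exact (aeval_incl h p).trans (i.le hp)

/-- The index with no elements. -/
noncomputable def base : Idx R A := ⟨∅, ⊥, Submodule.fg_bot, bot_le⟩

instance : Nonempty (Idx R A) := ⟨base⟩

instance : IsDirected (Idx R A) (· ≤ ·) where
  directed i j := by
    classical
    refine ⟨⟨i.s ∪ j.s, i.J.map (incl Finset.subset_union_left) ⊔ j.J.map (incl Finset.subset_union_right),
      Submodule.FG.sup (Ideal.FG.map i.fg _) (Ideal.FG.map j.fg _),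
      sup_le (map_le_ker i _) (map_le_ker j _)⟩, ⟨Finset.subset_union_left, le_sup_left⟩,
      ⟨Finset.subset_union_right, le_sup_right⟩⟩

variable (R A)

/-- The system of finitely presented algebras. -/
noncomputable def sys : Idx R A ⥤ CommRingCat.{u} where
  obj i := CommRingCat.of (MvPolynomial {x // x ∈ i.s} R ⧸ i.J)
  map {i j} f := CommRingCat.ofHom (Ideal.quotientMap j.J (incl (leOfHom f).choose)
    (Ideal.map_le_iff_le_comap.1 (leOfHom f).choose_spec))
  map_id i := by
    refine CommRingCat.hom_ext (RingHom.ext fun (x : MvPolynomial {x // x ∈ i.s} R ⧸ i.J) => ?_)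
    obtain ⟨p, rfl⟩ := Ideal.Quotient.mk_surjective x
    simp only [CommRingCat.hom_ofHom, CommRingCat.hom_id, RingHom.id_apply, Ideal.quotientMap_mk, incl_refl]
  map_comp {i j k} f g := by
    refine CommRingCat.hom_ext (RingHom.ext fun (x : MvPolynomial {x // x ∈ i.s} R ⧸ i.J) => ?_)
    obtain ⟨p, rfl⟩ := Ideal.Quotient.mk_surjective x
    simp only [CommRingCat.hom_ofHom, CommRingCat.hom_comp, RingHom.comp_apply, Ideal.quotientMap_mk, incl_incl]

/-- The map to the algebra. -/
noncomputable def cocone : Cocone (sys R A) where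
  pt := CommRingCat.of A
  ι :=
    { app := fun i => CommRingCat.ofHom (Ideal.Quotient.lift i.J (aeval fun x : {x // x ∈ i.s} => (x : A)).toRingHom
        fun p hp => i.le hp)
      naturality := fun i j f => by
        refine CommRingCat.hom_ext (RingHom.ext fun (x : MvPolynomial {x // x ∈ i.s} R ⧸ i.J) => ?_)
        obtain ⟨p, rfl⟩ := Ideal.Quotient.mk_surjective x
        simp only [sys, CommRingCat.hom_ofHom, CommRingCat.hom_comp, RingHom.comp_apply, Ideal.quotientMap_mk,
          Ideal.Quotient.lift_mk, Functor.const_obj_map, CommRingCat.hom_id, RingHom.id_apply]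
        exact aeval_incl _ p }

/-- The algebra is the colimit of the system. -/
noncomputable def isColimit : IsColimit (cocone R A) := by
  classical
  have : PreservesColimit (sys R A) (forget CommRingCat.{u}) := inferInstance
  have : ReflectsColimit (sys R A) (forget CommRingCat.{u}) := reflectsColimit_of_reflectsIsomorphisms _ _
  refine isColimitOfReflects (forget CommRingCat.{u}) (Types.FilteredColimit.isColimitOf _ _ (fun a => ?_) ?_)
  · let s : Finset A := {a}
    refine ⟨⟨s, ⊥, Submodule.fg_bot, bot_le⟩, Ideal.Quotient.mk _ (X ⟨a, Finset.mem_singleton_self a⟩), ?_⟩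
    show a = aeval (fun x : {x // x ∈ s} => (x : A)) (X ⟨a, Finset.mem_singleton_self a⟩)
    rw [aeval_X]
  · intro i j x y h
    obtain ⟨k, hik, hjk⟩ := exists_ge_ge i j
    obtain ⟨p, hp⟩ := Ideal.Quotient.mk_surjective ((sys R A).map (homOfLE hik) x)
    obtain ⟨q, hq⟩ := Ideal.Quotient.mk_surjective ((sys R A).map (homOfLE hjk) y)
    have hpq : p - q ∈ RingHom.ker (aeval fun x : {x // x ∈ k.s} => (x : A)).toRingHom := by
      rw [RingHom.mem_ker, map_sub, sub_eq_zero]
      have ex : ((cocone R A).ι.app k) ((sys R A).map (homOfLE hik) x) = (cocone R A).ι.app i x :=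
        congr($((cocone R A).w (homOfLE hik)).hom x)
      have ey : ((cocone R A).ι.app k) ((sys R A).map (homOfLE hjk) y) = (cocone R A).ι.app j y :=
        congr($((cocone R A).w (homOfLE hjk)).hom y)
      rw [← hp] at ex
      rw [← hq] at ey
      exact (ex.trans (h.trans ey.symm) : _)
    let l : Idx R A := ⟨k.s, k.J ⊔ Ideal.span {p - q}, Submodule.FG.sup k.fg ⟨{p - q}, by simp⟩,
      sup_le k.le ((Ideal.span_singleton_le_iff_mem _).2 hpq)⟩
    have hkl : k ≤ l := ⟨subset_rfl, Ideal.map_le_iff_le_comap.2 fun z hz => by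
      rw [Ideal.mem_comap, incl_refl]; exact Ideal.mem_sup_left hz⟩
    refine ⟨l, homOfLE (hik.trans hkl), homOfLE (hjk.trans hkl), ?_⟩
    have e : (sys R A).map (homOfLE hkl) ((sys R A).map (homOfLE hik) x) =
        (sys R A).map (homOfLE hkl) ((sys R A).map (homOfLE hjk) y) := by
      rw [← hp, ← hq]
      simp only [sys, CommRingCat.hom_ofHom, Ideal.quotientMap_mk, incl_refl]
      rw [Ideal.Quotient.eq, incl_refl, incl_refl]
      exact Ideal.mem_sup_right (Ideal.subset_span rfl)
    rw [← homOfLE_comp hik hkl, ← homOfLE_comp hjk hkl]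
    rw [Functor.map_comp, Functor.map_comp]
    exact e

variable {R A}

/-- The structure map of a stage. -/
noncomputable abbrev structHom (i : Idx R A) : R →+* MvPolynomial {x // x ∈ i.s} R ⧸ i.J :=
  (Ideal.Quotient.mk i.J).comp MvPolynomial.C

/-- An affine scheme over an affine scheme over `S` is a limit of ones of finite presentation. -/
theorem exists_limit {S : Scheme.{u}} {U V : Over S} [IsAffine U.left] [IsAffine V.left] (k : U ⟶ V) :
    ∃ (I : Type u) (_ : SmallCategory I) (_ : IsCofiltered I) (D : I ⥤ Over S) (c : Cone D) (e : U ≅ c.pt)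
      (p : ∀ i, D.obj i ⟶ V), Nonempty (IsLimit ((Over.forget S).mapCone c)) ∧ (∀ i, IsAffine (D.obj i).left) ∧
        (∀ i, LocallyOfFinitePresentation (p i).left) ∧ (∀ {i j} (f : i ⟶ j), D.map f ≫ p j = p i) ∧
        ∀ i, e.hom ≫ c.π.app i ≫ p i = k := by
  algebraize [k.left.appTop.hom]
  let G := sys Γ(V.left, ⊤) Γ(U.left, ⊤)
  have : PreservesLimitsOfSize.{u, u} Scheme.Spec.{u} := ΓSpec.adjunction.rightAdjoint_preservesLimits
  let str : ∀ i : (Idx Γ(V.left, ⊤) Γ(U.left, ⊤))ᵒᵖ, Spec (G.obj i.unop) ⟶ V.left := fun i =>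
    Spec.map (CommRingCat.ofHom (structHom i.unop)) ≫ V.left.isoSpec.inv
  have hstr : ∀ {i j : (Idx Γ(V.left, ⊤) Γ(U.left, ⊤))ᵒᵖ} (f : i ⟶ j),
      Spec.map (G.map f.unop) ≫ str j = str i := fun {i j} f => by
    simp only [str, ← Category.assoc, ← Spec.map_comp]
    congr 2
    ext r
    simp only [G, sys, structHom, CommRingCat.hom_ofHom, CommRingCat.hom_comp, RingHom.comp_apply, Ideal.quotientMap_mk]
    exact congrArg (Ideal.Quotient.mk i.unop.J) (rename_C _ r)
  let D : (Idx Γ(V.left, ⊤) Γ(U.left, ⊤))ᵒᵖ ⥤ Over S :=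
    { obj := fun i => Over.mk (str i ≫ V.hom)
      map := fun {i j} f => Over.homMk (Spec.map (G.map f.unop)) (by
        show _ ≫ str j ≫ V.hom = str i ≫ V.hom
        rw [← Category.assoc, hstr])
      map_id := fun i => by ext1; simp
      map_comp := fun f g => by ext1; simp }
  let cc := cocone Γ(V.left, ⊤) Γ(U.left, ⊤)
  have hcc : ∀ i : (Idx Γ(V.left, ⊤) Γ(U.left, ⊤))ᵒᵖ, Spec.map (cc.ι.app i.unop) ≫ str i =
      Spec.map k.left.appTop ≫ V.left.isoSpec.inv := fun i => by
    simp only [str, ← Category.assoc, ← Spec.map_comp]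
    congr 2
    ext r
    show aeval (fun x : {x // x ∈ i.unop.s} => (x : Γ(U.left, ⊤))) (MvPolynomial.C r) = k.left.appTop.hom r
    rw [aeval_C]
    rfl
  let c : Cone D :=
    { pt := Over.mk (Spec.map k.left.appTop ≫ V.left.isoSpec.inv ≫ V.hom)
      π :=
        { app := fun i => Over.homMk (Spec.map (cc.ι.app i.unop)) (by
            show _ ≫ str i ≫ V.hom = Spec.map k.left.appTop ≫ V.left.isoSpec.inv ≫ V.hom
            rw [← Category.assoc, hcc, Category.assoc])
          naturality := fun i j f => by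
            ext1
            show 𝟙 _ ≫ Spec.map (cc.ι.app j.unop) = Spec.map (cc.ι.app i.unop) ≫ Spec.map (G.map f.unop)
            rw [Category.id_comp, ← Spec.map_comp, cc.w f.unop] } }
  have hk : k.left = U.left.isoSpec.hom ≫ Spec.map k.left.appTop ≫ V.left.isoSpec.inv := by
    rw [Scheme.isoSpec_hom_naturality_assoc, Iso.hom_inv_id, Category.comp_id]
  refine ⟨_, inferInstance, inferInstance, D, c, Over.isoMk U.left.isoSpec (by
    show U.left.isoSpec.hom ≫ Spec.map k.left.appTop ≫ V.left.isoSpec.inv ≫ V.hom = U.hom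
    rw [← Over.w k]
    conv_rhs => rw [hk]
    simp only [Category.assoc]), fun i => Over.homMk (str i) rfl, ?_,
    fun i => inferInstanceAs (IsAffine (Spec _)), fun i => ?_, fun {i j} f => Over.OverMorphism.ext (hstr f),
    fun i => ?_⟩
  · refine ⟨IsLimit.equivOfNatIsoOfIso ?_ _ _ ?_ (isLimitOfPreserves Scheme.Spec (isColimit _ _).op)⟩
    · exact NatIso.ofComponents (fun i => Iso.refl _) fun f => by simp [D, G]
    · exact Cone.ext (Iso.refl _) fun i => by simp [c, cc]
  · show LocallyOfFinitePresentation (str i)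
    have hfp : (structHom i.unop).FinitePresentation :=
      RingHom.FinitePresentation.comp
        (RingHom.FinitePresentation.of_surjective _ Ideal.Quotient.mk_surjective (by rw [Ideal.mk_ker]; exact i.unop.fg))
        (RingHom.finitePresentation_algebraMap.mpr
          (inferInstance : Algebra.FinitePresentation Γ(V.left, ⊤) (MvPolynomial {x // x ∈ i.unop.s} Γ(V.left, ⊤))))
    have : LocallyOfFinitePresentation (Spec.map (CommRingCat.ofHom (structHom i.unop))) :=
      (LocallyOfFinitePresentation.SpecMap_iff _).2 hfp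
    exact inferInstanceAs (LocallyOfFinitePresentation (_ ≫ _))
  · ext1
    show U.left.isoSpec.hom ≫ Spec.map (cc.ι.app i.unop) ≫ str i = k.left
    rw [hcc]
    exact hk.symm

end Groth.Agent.AlgSpDec.FpApprox
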