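import Groth.Agent.AlgSpDec.FreeQuotSep
import Groth.Agent.Triage.CMBC
import Mathlib.RingTheory.Unramified.Field
import Mathlib.FieldTheory.PrimitiveElement
import Mathlib.FieldTheory.Galois.Basic

/-!
# Galois data of a field point of a quotient by a free action
-/

set_option linter.style.haveILetI false
set_option autoImplicit false
set_option backward.isDefEq.respectTransparency false
set_option backward.isDefEq.respectTransparency.types false

universe u

open CategoryTheory CategoryTheory.Limits AlgebraicGeometry IsLocalRing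

namespace Groth.Agent.AlgSpDec.GaloisData

theorem fieldPt_injective {X : Scheme.{u}} (x : X) {K : Type u} [Field K] {φ ψ : X.residueField x ⟶ CommRingCat.of K}
    (h : Spec.map φ ≫ X.fromSpecResidueField x = Spec.map ψ ≫ X.fromSpecResidueField x) : φ = ψ :=
  Spec.map_injective ((cancel_mono _).1 h)

theorem fieldPt_factor {X : Scheme.{u}} {K : Type u} [Field K] (f : Spec (CommRingCat.of K) ⟶ X) {x : X}
    (hx : f (closedPoint K) = x) :
    ∃ φ : X.residueField x ⟶ CommRingCat.of K, Spec.map φ ≫ X.fromSpecResidueField x = f := by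
  subst hx
  exact ⟨_, Scheme.descResidueField_stalkClosedPointTo_fromSpecResidueField K X f⟩

/-- A point of an etale scheme over a field with free transitive group action gives Galois data. -/
theorem galois_of_orbit {k : Type u} [Field k] {P : Scheme.{u}} (π : P ⟶ Spec (CommRingCat.of k)) [Etale π] (p : P)
    {G : Type u} [Group G] (σ : G → (P ⟶ P)) (h1 : σ 1 = 𝟙 P) (hm : ∀ g h, σ (g * h) = σ h ≫ σ g)
    (hπ : ∀ g, σ g ≫ π = π)
    (free : ∀ g, P.fromSpecResidueField p ≫ σ g = P.fromSpecResidueField p → g = 1)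
    (trans : ∀ (K : Type u) [Field K] (y₁ y₂ : Spec (CommRingCat.of K) ⟶ P), y₁ ≫ π = y₂ ≫ π →
      ∃ g, y₁ = y₂ ≫ σ g) :
    ∃ (k' : Type u) (_ : Field k') (_ : Algebra k k') (_ : FiniteDimensional k k') (_ : IsGalois k k')
      (H : Subgroup G) (_ : Finite H) (e : H ≃* (k' ≃ₐ[k] k')) (x : Spec (CommRingCat.of k') ⟶ P),
      x ≫ π = Spec.map (CommRingCat.ofHom (algebraMap k k')) ∧
      ∀ h : H, Spec.map (CommRingCat.ofHom (e h).symm.toRingEquiv.toRingHom) ≫ x = x ≫ σ (h : G) := by
  let k' : Type u := P.residueField p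
  let x : Spec (CommRingCat.of k') ⟶ P := P.fromSpecResidueField p
  letI : Algebra k k' := (Spec.preimage (x ≫ π)).hom.toAlgebra
  have hx : x ≫ π = Spec.map (CommRingCat.ofHom (algebraMap k k')) := (Spec.map_preimage (x ≫ π)).symm
  -- finite separable
  haveI : Algebra.FormallyUnramified k k' := by
    haveI : FormallyUnramified x := inferInstanceAs (FormallyUnramified (P.fromSpecResidueField p))
    have hu : FormallyUnramified (x ≫ π) := MorphismProperty.comp_mem @FormallyUnramified x π ‹_› inferInstance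
    rw [hx, HasRingHomProperty.Spec_iff (P := @FormallyUnramified)] at hu
    exact RingHom.formallyUnramified_algebraMap.1 hu
  haveI : Algebra.EssFiniteType k k' := by
    let q := π p
    obtain ⟨φ, hφ⟩ : ∃ φ : (Spec (CommRingCat.of k)).residueField q ⟶ CommRingCat.of k,
        Spec.map φ ≫ (Spec (CommRingCat.of k)).fromSpecResidueField q = 𝟙 _ :=
      fieldPt_factor _ (Subsingleton.elim (α := PrimeSpectrum k) _ _)
    have hl : Spec.map (π.residueFieldMap p) ≫ (Spec (CommRingCat.of k)).fromSpecResidueField q = x ≫ π :=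
      Scheme.Hom.SpecMap_residueFieldMap_fromSpecResidueField _ _
    have he : φ ≫ Spec.preimage (x ≫ π) = π.residueFieldMap p := by
      apply fieldPt_injective (K := k') q
      rw [hl, Spec.map_comp, Spec.map_preimage, Category.assoc, hφ, Category.comp_id]
    have hess := Triage.CMBC.essFiniteType_residueFieldMap π p
    rw [← he] at hess
    letI := φ.hom.toAlgebra
    letI := (φ ≫ Spec.preimage (x ≫ π)).hom.toAlgebra
    haveI : IsScalarTower ((Spec (CommRingCat.of k)).residueField q) k k' := IsScalarTower.of_algebraMap_eq fun _ => rfl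
    haveI : Algebra.EssFiniteType ((Spec (CommRingCat.of k)).residueField q) k' := hess
    exact Algebra.EssFiniteType.of_comp ((Spec (CommRingCat.of k)).residueField q) k k'
  haveI : FiniteDimensional k k' := Algebra.FormallyUnramified.finite_of_free k k'
  haveI : Algebra.IsSeparable k k' := Algebra.FormallyUnramified.isSeparable k k'
  -- the stabilizer
  let H : Subgroup G :=
    { carrier := {g | σ g p = p}
      one_mem' := by show σ 1 p = p; rw [h1]; rfl
      mul_mem' := fun {g h} (hg : σ g p = p) (hh : σ h p = p) => by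
        show σ (g * h) p = p
        rw [hm, Scheme.Hom.comp_apply, hh, hg]
      inv_mem' := fun {g} (hg : σ g p = p) => by
        show σ g⁻¹ p = p
        conv_lhs => rw [← hg]
        rw [← Scheme.Hom.comp_apply, ← hm, inv_mul_cancel, h1]
        rfl }
  have hψ : ∀ h : H, ∃ ψ : CommRingCat.of k' ⟶ CommRingCat.of k', Spec.map ψ ≫ x = x ≫ σ (h : G) := fun h =>
    fieldPt_factor _ (by
      rw [Scheme.Hom.comp_apply]
      erw [Scheme.fromSpecResidueField_apply]
      exact h.2)
  choose ψ hψ using hψ
  have hψm : ∀ g h : H, ψ (g * h) = ψ g ≫ ψ h := fun g h => by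
    apply fieldPt_injective (K := k') p
    show Spec.map _ ≫ x = Spec.map _ ≫ x
    rw [hψ, Spec.map_comp, Category.assoc, hψ, ← Category.assoc, hψ, Category.assoc, ← hm]
    rfl
  have hψ1 : ψ 1 = 𝟙 _ := by
    apply fieldPt_injective (K := k') p
    show Spec.map _ ≫ x = Spec.map _ ≫ x
    rw [hψ, Spec.map_id, Category.id_comp, OneMemClass.coe_one, h1, Category.comp_id]
  have hψk : ∀ (h : H) (a : k), ψ h (algebraMap k k' a) = algebraMap k k' a := fun h a => by
    have e : CommRingCat.ofHom (algebraMap k k') ≫ ψ h = CommRingCat.ofHom (algebraMap k k') := by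
      apply Spec.map_injective
      rw [Spec.map_comp, ← hx, ← Category.assoc, hψ, Category.assoc, hπ]
    exact congrArg (fun m => (m : CommRingCat.of k ⟶ CommRingCat.of k').hom a) e
  have hinv : ∀ (h : H) (a : k'), ψ h (ψ h⁻¹ a) = a := fun h a => by
    rw [← CommRingCat.comp_apply, ← hψm, inv_mul_cancel, hψ1]
    rfl
  have hinv' : ∀ (h : H) (a : k'), ψ h⁻¹ (ψ h a) = a := fun h a => by
    rw [← CommRingCat.comp_apply, ← hψm, mul_inv_cancel, hψ1]
    rfl
  let φ : H →* (k' ≃ₐ[k] k') :=
    { toFun := fun h =>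
        { toFun := ψ h⁻¹
          invFun := ψ h
          left_inv := hinv h
          right_inv := hinv' h
          map_mul' := map_mul (ψ h⁻¹).hom
          map_add' := map_add (ψ h⁻¹).hom
          commutes' := hψk h⁻¹ }
      map_one' := AlgEquiv.ext fun a => by
        show ψ (1 : H)⁻¹ a = a
        rw [inv_one, hψ1]; rfl
      map_mul' := fun g h => AlgEquiv.ext fun a => by
        show ψ (g * h)⁻¹ a = ψ g⁻¹ (ψ h⁻¹ a)
        rw [mul_inv_rev, hψm]; rfl }
  have hφi : Function.Injective φ := by
    intro g h e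
    have e' : ψ g⁻¹ = ψ h⁻¹ := CommRingCat.hom_ext (RingHom.ext fun a => AlgEquiv.congr_fun e a)
    have e'' : ψ (h * g⁻¹) = 𝟙 _ := by rw [hψm, e', ← hψm, mul_inv_cancel, hψ1]
    have := free ((h * g⁻¹ : H) : G) (by
      show x ≫ σ _ = x
      rw [← hψ, e'', Spec.map_id, Category.id_comp])
    exact (mul_inv_eq_one.1 (Subtype.ext this : h * g⁻¹ = 1)).symm
  -- every embedding comes from the stabilizer
  let Ω := AlgebraicClosure k
  let y₀ : k' →ₐ[k] Ω := IsAlgClosed.lift
  have hsurj : ∀ y : k' →ₐ[k] Ω, ∃ h : H, y₀.comp (φ h).toAlgHom = y := fun y => by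
    have hy : ∀ z : k' →ₐ[k] Ω, (Spec.map (CommRingCat.ofHom z.toRingHom) ≫ x) ≫ π =
        Spec.map (CommRingCat.ofHom (algebraMap k Ω)) := fun z => by
      rw [Category.assoc, hx, ← Spec.map_comp]
      congr 1
      ext a
      exact z.commutes a
    obtain ⟨g, hg⟩ := trans Ω (Spec.map (CommRingCat.ofHom y.toRingHom) ≫ x)
      (Spec.map (CommRingCat.ofHom y₀.toRingHom) ≫ x) ((hy y).trans (hy y₀).symm)
    have hgp : σ g p = p := by
      have := congrArg (fun m => m (closedPoint Ω)) hg
      simp only [Scheme.Hom.comp_apply] at this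
      erw [Scheme.fromSpecResidueField_apply, Scheme.fromSpecResidueField_apply] at this
      exact this.symm
    refine ⟨(⟨g, hgp⟩ : H)⁻¹, ?_⟩
    have e := hψ ⟨g, hgp⟩
    rw [Category.assoc, ← e, ← Category.assoc, ← Spec.map_comp] at hg
    have e2 := fieldPt_injective (K := Ω) p hg
    refine AlgHom.ext fun a => ?_
    show y₀ (ψ (⟨g, hgp⟩ : H)⁻¹⁻¹ a) = y a
    rw [inv_inv]
    exact (congrArg (fun m => (m : CommRingCat.of k' ⟶ CommRingCat.of Ω).hom a) e2).symm
  have hcard : Nat.card (k' ≃ₐ[k] k') = Module.finrank k k' := by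
    rw [← AlgHom.card k k' Ω, Fintype.card_eq_nat_card]
    refine Nat.card_eq_of_bijective (fun α => y₀.comp α.toAlgHom) ⟨fun α β e => AlgEquiv.ext fun a => ?_, fun y => ?_⟩
    · exact y₀.toRingHom.injective (AlgHom.congr_fun e a)
    · obtain ⟨h, hh⟩ := hsurj y
      exact ⟨φ h, hh⟩
  haveI : IsGalois k k' := IsGalois.of_card_aut_eq_finrank k k' hcard
  have hφs : Function.Surjective φ := fun α => by
    obtain ⟨h, hh⟩ := hsurj (y₀.comp α.toAlgHom)
    exact ⟨h, AlgEquiv.ext fun a => y₀.toRingHom.injective (AlgHom.congr_fun hh a)⟩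
  refine ⟨k', inferInstance, inferInstance, inferInstance, inferInstance, H, Finite.of_injective φ hφi,
    MulEquiv.ofBijective φ ⟨hφi, hφs⟩, x, hx, fun h => ?_⟩
  rw [show CommRingCat.ofHom ((MulEquiv.ofBijective φ ⟨hφi, hφs⟩ h).symm.toRingEquiv.toRingHom) = ψ h from
    CommRingCat.hom_ext (RingHom.ext fun a => rfl)]
  exact hψ h

end Groth.Agent.AlgSpDec.GaloisData
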