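import Groth.Agent.AlgSpDec.GaloisData

/-!
# Field points of a quotient by a free action
-/

set_option linter.style.haveILetI false
set_option autoImplicit false
set_option backward.isDefEq.respectTransparency false
set_option backward.isDefEq.respectTransparency.types false

universe u

open CategoryTheory CategoryTheory.Limits AlgebraicGeometry AlgSp IsLocalRing
open Groth.Agent.AlgSpLib Groth.Agent.AlgSpPts

namespace Groth.Agent.AlgSpDec.GaloisData

open FreeAction

variable {S : Scheme.{u}} {U : Over S} {G : Type u} [Group G] {ρ : G →* Aut U}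
  (hfree : ∀ (g : G) (x : U.left), g ≠ 1 →
    U.left.fromSpecResidueField x ≫ (ρ g).hom.left ≠ U.left.fromSpecResidueField x)
  {c : Cofan (fun _ : G => U)} (hc : IsColimit c) {s t : c.pt ⟶ U}
  (hs : ∀ g, c.inj g ≫ s = 𝟙 U) (ht : ∀ g, c.inj g ≫ t = (ρ g).hom)
include hfree hc hs ht

theorem repWith_quotMap : RepWith @Etale (quotMap s t) ∧ RepWith @Surjective (quotMap s t) := by
  have H := isEtaleEqvRel hfree hc hs ht
  haveI := H.etale_left
  haveI : Surjective s.left := ⟨fun u => ⟨(c.inj 1).left u, by rw [← Scheme.Hom.comp_apply, ← Over.comp_left, hs]; rfl⟩⟩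
  haveI : Sheaf.IsLocallySurjective (quotMap s t) := by
    have : Epi (QuotSh.quotπ Scheme.fppfPrecoverage s t) := by
      unfold QuotSh.quotπ
      infer_instance
    exact (CategoryTheory.Sheaf.isLocallySurjective_iff_epi (quotMap s t)).2 (epi_comp _ _)
  have sq := isPullback_quotMap H.toIsEqvRel
  have hr : Representable (quotMap s t) := representable_of_kernelPair sq
  haveI := isLocalAtTarget_fppf (@Etale : MorphismProperty Scheme.{u})
  haveI := isLocalAtTarget_fppf (@Surjective : MorphismProperty Scheme.{u})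
  exact ⟨repWith_of_locallySurjective hr _ sq @Etale ((repWith_yon_map_iff _ _).2 ‹Etale s.left›),
    repWith_of_locallySurjective hr _ sq @Surjective ((repWith_yon_map_iff _ _).2 ‹Surjective s.left›)⟩

theorem act_quotMap (g : G) : (yon S).map (ρ g).hom ≫ quotMap s t = quotMap s t := by
  have w := (isPullback_quotMap (isEtaleEqvRel hfree hc hs ht).toIsEqvRel).w
  have := congrArg ((yon S).map (c.inj g) ≫ ·) w
  simp only [← Category.assoc, ← Functor.map_comp, hs, ht] at this
  refine this.trans ?_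
  show (yon S).map (𝟙 U) ≫ quotMap s t = quotMap s t
  rw [(yon S).map_id, Category.id_comp]

theorem exists_galois_data (k : Type u) [Field k] (str : Spec (CommRingCat.of k) ⟶ S)
    (ξ : (yon S).obj (Over.mk str) ⟶ QuotSh.quot Scheme.fppfPrecoverage s t) :
    ∃ (k' : Type u) (_ : Field k') (_ : Algebra k k') (_ : FiniteDimensional k k') (_ : IsGalois k k')
      (H : Subgroup G) (_ : Finite H) (e : H ≃* (k' ≃ₐ[k] k'))
      (x' : Over.mk (Spec.map (CommRingCat.ofHom (algebraMap k k')) ≫ str) ⟶ U),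
      (∀ h : H, Spec.map (CommRingCat.ofHom (e h).symm.toRingEquiv.toRingHom) ≫ x'.left =
        x'.left ≫ (ρ (h : G)).hom.left) ∧
      (yon S).map x' ≫ quotMap s t =
        (yon S).map (CategoryTheory.Over.homMk (Spec.map (CommRingCat.ofHom (algebraMap k k'))) :
          Over.mk (Spec.map (CommRingCat.ofHom (algebraMap k k')) ≫ str) ⟶ Over.mk str) ≫ ξ := by
  obtain ⟨he, hsj⟩ := repWith_quotMap hfree hc hs ht
  let T : Over S := Over.mk str
  let P := he.rep.pullback ξ
  let π : P ⟶ T := he.rep.snd ξ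
  let f : P ⟶ U := he.rep.fst' ξ
  have sq : IsPullback ((yon S).map f) ((yon S).map π) (quotMap s t) ξ := he.rep.isPullback' ξ
  haveI : Etale π.left := he.property_snd ξ
  haveI : Surjective π.left := hsj.property _ _ _ sq
  obtain ⟨p, -⟩ := π.left.surjective (closedPoint k)
  have hext : ∀ {Z : Over S} (a b : Z ⟶ P), a ≫ f = b ≫ f → a ≫ π = b ≫ π → a = b := fun a b h1 h2 =>
    (yon S).map_injective (sq.hom_ext (by rw [← Functor.map_comp, ← Functor.map_comp, h1])
      (by rw [← Functor.map_comp, ← Functor.map_comp, h2]))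
  have hex : ∀ g, ∃ σ : P ⟶ P, σ ≫ f = f ≫ (ρ g).hom ∧ σ ≫ π = π := fun g => by
    obtain ⟨σ, hσ⟩ := (yon S).map_surjective (sq.lift ((yon S).map (f ≫ (ρ g).hom)) ((yon S).map π) (by
      rw [Functor.map_comp, Category.assoc, act_quotMap hfree hc hs ht, sq.w]))
    exact ⟨σ, (yon S).map_injective (by rw [Functor.map_comp, hσ, sq.lift_fst]),
      (yon S).map_injective (by rw [Functor.map_comp, hσ, sq.lift_snd])⟩
  choose σ hσf hσπ using hex
  have hfree' : ∀ g, P.left.fromSpecResidueField p ≫ (σ g).left = P.left.fromSpecResidueField p → g = 1 := fun g e => by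
    refine eq_of_comp_eq hfree p f (g := g) (h := 1) ?_
    have e1 : f.left ≫ (ρ g).hom.left = (σ g).left ≫ f.left := congrArg CommaMorphism.left (hσf g).symm
    rw [e1, ← Category.assoc, e, map_one]
    show _ = P.left.fromSpecResidueField p ≫ f.left ≫ 𝟙 U.left
    rw [Category.comp_id]
  have htrans : ∀ (K : Type u) [Field K] (y₁ y₂ : Spec (CommRingCat.of K) ⟶ P.left),
      y₁ ≫ π.left = y₂ ≫ π.left → ∃ g, y₁ = y₂ ≫ (σ g).left := by
    intro K _ y₁ y₂ hy
    let Z : Over S := Over.mk (y₁ ≫ P.hom)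
    let a₁ : Z ⟶ P := CategoryTheory.Over.homMk y₁ rfl
    let a₂ : Z ⟶ P := CategoryTheory.Over.homMk y₂ (by
      show y₂ ≫ P.hom = y₁ ≫ P.hom
      rw [← Over.w π, ← Category.assoc, ← Category.assoc, hy])
    have hπ : a₁ ≫ π = a₂ ≫ π := by ext1; exact hy
    have sqR := isPullback_quotMap (isEtaleEqvRel hfree hc hs ht).toIsEqvRel
    obtain ⟨r, hr⟩ := (yon S).map_surjective (sqR.lift ((yon S).map (a₁ ≫ f)) ((yon S).map (a₂ ≫ f)) (by
      rw [Functor.map_comp, Functor.map_comp, Category.assoc, Category.assoc, sq.w, ← Category.assoc,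
        ← Category.assoc, ← Functor.map_comp, ← Functor.map_comp, hπ]))
    have hrt : r ≫ t = a₁ ≫ f := (yon S).map_injective (by rw [Functor.map_comp, hr, sqR.lift_fst])
    have hrs : r ≫ s = a₂ ≫ f := (yon S).map_injective (by rw [Functor.map_comp, hr, sqR.lift_snd])
    obtain ⟨g, v, hv⟩ := exists_inj hc (r.left (closedPoint K))
    haveI := isOpenImmersion_inj hc g
    have hsub : Set.range r.left ⊆ Set.range (c.inj g).left := by
      rintro _ ⟨w, rfl⟩
      exact ⟨v, hv.trans (congrArg r.left (Subsingleton.elim (α := PrimeSpectrum K) _ _))⟩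
    let z : Z ⟶ U := CategoryTheory.Over.homMk (IsOpenImmersion.lift (c.inj g).left r.left hsub) (by
      rw [← Over.w (c.inj g), IsOpenImmersion.lift_fac_assoc]; exact Over.w r)
    have hz : z ≫ c.inj g = r := by ext1; exact IsOpenImmersion.lift_fac _ _ _
    rw [← hz, Category.assoc, ht] at hrt
    rw [← hz, Category.assoc, hs, Category.comp_id] at hrs
    refine ⟨g, congrArg CommaMorphism.left (hext a₁ (a₂ ≫ σ g) ?_ ?_)⟩
    · rw [Category.assoc, hσf, ← Category.assoc, ← hrs, hrt]
    · rw [Category.assoc, hσπ, hπ]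
  obtain ⟨k', iF, iA, iD, iG, H, iH, e, x, hxπ, hx⟩ := galois_of_orbit π.left p (fun g => (σ g).left)
    (by
      have : σ 1 = 𝟙 P := hext _ _ (by rw [hσf, map_one]; exact (Category.comp_id _).trans (Category.id_comp _).symm)
        (by rw [hσπ, Category.id_comp])
      show (σ 1).left = _
      rw [this]; rfl)
    (fun g h => congrArg CommaMorphism.left (hext (σ (g * h)) (σ h ≫ σ g) (by
      rw [hσf, Category.assoc, hσf, ← Category.assoc, hσf, Category.assoc, ← hom_mul])
      (by rw [Category.assoc, hσπ, hσπ, hσπ])))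
    (fun g => congrArg CommaMorphism.left (hσπ g)) hfree' htrans
  let Z : Over S := Over.mk (Spec.map (CommRingCat.ofHom (algebraMap k k')) ≫ str)
  let x₀ : Z ⟶ P := CategoryTheory.Over.homMk x (by
    show x ≫ P.hom = Spec.map (CommRingCat.ofHom (algebraMap k k')) ≫ str
    rw [← hxπ, Category.assoc]
    exact congrArg (x ≫ ·) (Over.w π).symm)
  have hx₀ : x₀ ≫ π = CategoryTheory.Over.homMk (Spec.map (CommRingCat.ofHom (algebraMap k k'))) rfl := by
    ext1; exact hxπ
  refine ⟨k', iF, iA, iD, iG, H, iH, e, x₀ ≫ f, fun h => ?_, ?_⟩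
  · show Spec.map _ ≫ x ≫ f.left = (x ≫ f.left) ≫ (ρ (h : G)).hom.left
    rw [← Category.assoc, hx h, Category.assoc, Category.assoc]
    exact congrArg (x ≫ ·) (congrArg CommaMorphism.left (hσf h))
  · rw [Functor.map_comp, Category.assoc, sq.w, ← Category.assoc, ← Functor.map_comp, hx₀]

end Groth.Agent.AlgSpDec.GaloisData
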