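import Groth.Prelude.Def_AlgSp4
import Groth.Agent.AlgSpDec.PointLocusInst
import Groth.Agent.AlgSpDec.ClosedImmCrit
import Groth.Agent.AlgSpLib.FlatAt
import Groth.Agent.AlgSpLib.OpenMor
import Groth.Agent.AlgSpPts.Misc
import Groth.Agent.RegKinds.Near
import Groth.Agent.S9938

/-!
# The loci in the base over which a morphism becomes unramified, flat, surjective, universally injective
-/

set_option autoImplicit false
set_option linter.style.haveILetI false
set_option backward.isDefEq.respectTransparency false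
set_option backward.isDefEq.respectTransparency.types false

universe u

open CategoryTheory CategoryTheory.Limits AlgebraicGeometry AlgSp

namespace Groth.Agent.AlgSpDec.Where

open Groth.Agent.AlgSpLib Groth.Agent.AlgSpPts

variable {S : Scheme.{u}}

/-- A closed set of the base cuts out the open subspace over which the property holds. -/
theorem exists_where {X Y Z : Space S} (f : X ⟶ Y) (q : Y ⟶ Z) (P : ∀ {X' Y' : Space S}, (X' ⟶ Y') → Prop)
    {C : Set (Points Z.obj)} (hC : IsClosed C)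
    (H : ∀ (Z' Y' X' : Space S) (g : Z' ⟶ Z) (gY : Y' ⟶ Y) (q' : Y' ⟶ Z') (gX : X' ⟶ X) (f' : X' ⟶ Y'),
      IsPullback gY.hom q'.hom q.hom g.hom → IsPullback gX.hom f'.hom f.hom gY.hom →
      ((∀ z, Points.map g.hom z ∉ C) ↔ P f')) :
    ∃ (W : Space S) (w : W ⟶ Z), RepWith @IsOpenImmersion w.hom ∧
      ∀ (Z' : Space S) (g : Z' ⟶ Z),
        (∃ k : Z' ⟶ W, k ≫ w = g) ↔
          ∀ (Y' : Space S) (gY : Y' ⟶ Y) (q' : Y' ⟶ Z'),
            IsPullback gY.hom q'.hom q.hom g.hom →
            ∀ (X' : Space S) (gX : X' ⟶ X) (f' : X' ⟶ Y'),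
              IsPullback gX.hom f'.hom f.hom gY.hom → P f' := by
  obtain ⟨W, w, hW, hw, hr⟩ := exists_open_subspace Z.property hC.isOpen_compl
  refine ⟨⟨W, hW⟩, ObjectProperty.homMk w, hw, fun Z' g => ⟨?_, fun hall => ?_⟩⟩
  · rintro ⟨k, rfl⟩ Y' gY q' hY X' gX f' hX
    refine (H Z' Y' X' _ gY q' gX f' hY hX).1 fun z => ?_
    have : Points.map w (Points.map k.hom z) ∈ Cᶜ := hr ▸ ⟨_, rfl⟩
    rw [← Points.map_comp] at this
    exact this
  · have hY : IsAlgSpace (pullback q.hom g.hom) := isAlgSpace_pullback Y.property Z'.property Z.property _ _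
    let gY : (⟨_, hY⟩ : Space S) ⟶ Y := ObjectProperty.homMk (pullback.fst q.hom g.hom)
    let q' : (⟨_, hY⟩ : Space S) ⟶ Z' := ObjectProperty.homMk (pullback.snd q.hom g.hom)
    have hX : IsAlgSpace (pullback f.hom gY.hom) := isAlgSpace_pullback X.property hY Y.property _ _
    let gX : (⟨_, hX⟩ : Space S) ⟶ X := ObjectProperty.homMk (pullback.fst f.hom gY.hom)
    let f' : (⟨_, hX⟩ : Space S) ⟶ ⟨_, hY⟩ := ObjectProperty.homMk (pullback.snd f.hom gY.hom)
    have h := (H Z' _ _ g gY q' gX f' (IsPullback.of_hasPullback _ _) (IsPullback.of_hasPullback _ _)).2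
      (hall _ gY q' (IsPullback.of_hasPullback _ _) _ gX f' (IsPullback.of_hasPullback _ _))
    obtain ⟨k, hk⟩ := exists_lift_openImmersion Z'.property hW Z.property hw g.hom (by
      rw [hr]
      rintro _ ⟨z, rfl⟩
      exact h z)
    exact ⟨ObjectProperty.homMk k, ObjectProperty.hom_ext _ hk⟩

/-- A morphism avoids the image of a set iff the base change avoids its inverse image. -/
theorem avoid_image_iff {A B A' B' : Sp S} {p : A ⟶ B} {g : B' ⟶ B} {gA : A' ⟶ A} {p' : A' ⟶ B'}
    (sq : IsPullback gA p' p g) (C : Set (Points A)) :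
    (∀ z, Points.map g z ∉ Points.map p '' C) ↔ ∀ x', Points.map gA x' ∉ C := by
  refine ⟨fun h x' hx' => h (Points.map p' x') ⟨_, hx', ?_⟩, fun h z ⟨x, hx, he⟩ => ?_⟩
  · rw [← Points.map_comp, sq.w, Points.map_comp]
  · obtain ⟨x', h1, -⟩ := exists_point_of_isPullback sq he
    exact h x' (h1 ▸ hx)

section

variable {X Y Z Z' Y' X' : Space S} {f : X ⟶ Y} {p : X ⟶ Z} {q : Y ⟶ Z} {g : Z' ⟶ Z} {gY : Y' ⟶ Y}
  {q' : Y' ⟶ Z'} {gX : X' ⟶ X} {f' : X' ⟶ Y'}

theorem hom_comp (hc : f ≫ q = p) : f.hom ≫ q.hom = p.hom := congrArg (·.hom) hc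

theorem sqX (hc : f ≫ q = p) (hY : IsPullback gY.hom q'.hom q.hom g.hom)
    (hX : IsPullback gX.hom f'.hom f.hom gY.hom) : IsPullback gX.hom (f'.hom ≫ q'.hom) p.hom g.hom := by
  rw [← hom_comp hc]
  exact hX.paste_vert hY

theorem lft_of_comp (hc : f ≫ q = p) (hp : LocP @LocallyOfFiniteType p.hom) :
    LocP @LocallyOfFiniteType f.hom :=
  locP_of_comp (P := @LocallyOfFiniteType) (fun f g h => by haveI := h; exact locallyOfFiniteType_of_comp f g)
    Z.property (g := q.hom) (by rw [hom_comp hc]; exact hp)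

theorem lfp_of_comp (hc : f ≫ q = p) (hp : LocP @LocallyOfFinitePresentation p.hom)
    (hq : LocP @LocallyOfFiniteType q.hom) : LocP @LocallyOfFinitePresentation f.hom :=
  locP_lofp_of_comp X.property Y.property Z.property f.hom q.hom (by rw [hom_comp hc]; exact hp) hq

theorem univClosed_of_comp_separated {A B C : Sp S} (hA : IsAlgSpace A) (hB : IsAlgSpace B) (hC : IsAlgSpace C)
    {h : A ⟶ B} {k : B ⟶ C} (hc : IsUnivClosedMor (h ≫ k)) (hs : IsSeparatedMor k) : IsUnivClosedMor h := by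
  have h1 := (isProperMor_of_closedImmersion (graph_property (f := h) hs)).2.2
  have h2 : IsUnivClosedMor (pullback.snd (h ≫ k) k) := isUnivClosedMor_of_isPullback (IsPullback.of_hasPullback _ _) hc
  have := isUnivClosedMor_comp (isAlgSpace_pullback hA hB hC _ _) hB h1 h2
  rwa [pullback.lift_snd] at this

/-- The locus where a morphism is unramified. -/
abbrev unrSet {A B : Sp S} (φ : A ⟶ B) : Set (Points A) :=
  {x | PointLocus.At (fun {_ _} h u => Groth.Agent.MorLib.UnrLocus.Loc h u) φ x}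

theorem unr_iff (hX : IsAlgSpace X.obj) (hY : IsAlgSpace Y.obj) (hl : LocP @LocallyOfFiniteType f.hom) :
    LocP (@LocallyOfFiniteType ⊓ @FormallyUnramified) f.hom ↔ ∀ x, x ∈ unrSet f.hom :=
  PointLocus.locP_iff PointLocus.ptProp_unram PointLocus.unram_iff_forall hX hY hl

theorem unr_bc_iff (hl : LocP @LocallyOfFiniteType f.hom) (hX : IsPullback gX.hom f'.hom f.hom gY.hom) :
    LocP (@LocallyOfFiniteType ⊓ @FormallyUnramified) f'.hom ↔ ∀ x', Points.map gX.hom x' ∈ unrSet f.hom := by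
  rw [unr_iff X'.property Y'.property (locP_of_isPullback hX X.property Y.property Y'.property hl)]
  exact forall_congr' fun x' => PointLocus.at_baseChange_iff PointLocus.ptProp_unram hX X.property Y.property
    Y'.property hl x'

theorem unr_avoid_iff (hc : f ≫ q = p) (hl : LocP @LocallyOfFiniteType f.hom)
    (hY : IsPullback gY.hom q'.hom q.hom g.hom) (hX : IsPullback gX.hom f'.hom f.hom gY.hom) :
    (∀ z, Points.map g.hom z ∉ Points.map p.hom '' (unrSet f.hom)ᶜ) ↔
      LocP (@LocallyOfFiniteType ⊓ @FormallyUnramified) f'.hom := by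
  rw [avoid_image_iff (sqX hc hY hX), unr_bc_iff hl hX]
  simp only [Set.notMem_compl_iff]

theorem locP_flat_iff {A B : Sp S} (φ : A ⟶ B) : LocP @Flat φ ↔ ∀ x, IsFlatAtMor φ x := by
  refine ⟨fun h x U V a b k u ha hb w _ => ?_, fun h U V a b k ha hb w => ?_⟩
  · exact (Flat.iff_flat_stalkMap k.left).1 (h a b k ha hb w) u
  · exact (Flat.iff_flat_stalkMap k.left).2 fun u => h _ a b k u ha hb w rfl

theorem flat_bc_iff (hc : f ≫ q = p) (hp1 : LocP @LocallyOfFinitePresentation p.hom) (hp2 : LocP @Flat p.hom)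
    (hq : LocP @LocallyOfFiniteType q.hom) (hY : IsPullback gY.hom q'.hom q.hom g.hom)
    (hX : IsPullback gX.hom f'.hom f.hom gY.hom) :
    LocP @Flat f'.hom ↔ ∀ x', IsFlatAtMor f.hom (Points.map gX.hom x') := by
  have h := (isOpen_flatLocus_and_baseChange X.property Y.property Z.property f.hom q.hom
    (by rw [hom_comp hc]; exact hp1) (by rw [hom_comp hc]; exact hp2) hq).2 X'.property Y'.property Z'.property
    g.hom f'.hom q'.hom gX.hom gY.hom hY hX
  rw [locP_flat_iff]
  exact forall_congr' fun x' => Set.ext_iff.1 h x'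

theorem flat_avoid_iff (hc : f ≫ q = p) (hp1 : LocP @LocallyOfFinitePresentation p.hom) (hp2 : LocP @Flat p.hom)
    (hq : LocP @LocallyOfFiniteType q.hom) (hY : IsPullback gY.hom q'.hom q.hom g.hom)
    (hX : IsPullback gX.hom f'.hom f.hom gY.hom) :
    (∀ z, Points.map g.hom z ∉ Points.map p.hom '' {x | IsFlatAtMor f.hom x}ᶜ) ↔ LocP @Flat f'.hom := by
  rw [avoid_image_iff (sqX hc hY hX), flat_bc_iff hc hp1 hp2 hq hY hX]
  simp only [Set.notMem_compl_iff, Set.mem_ofPred_eq]

end

/-- The closed set over which flatness fails. -/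
theorem exists_flat_set {X Y Z : Space S} (f : X ⟶ Y) (p : X ⟶ Z) (q : Y ⟶ Z) (hc : f ≫ q = p)
    (hp1 : LocP @LocallyOfFinitePresentation p.hom) (hp2 : LocP @Flat p.hom) (hp3 : IsClosedMor p.hom)
    (hq : LocP @LocallyOfFiniteType q.hom) :
    ∃ C : Set (Points Z.obj), IsClosed C ∧
      ∀ (Z' Y' X' : Space S) (g : Z' ⟶ Z) (gY : Y' ⟶ Y) (q' : Y' ⟶ Z') (gX : X' ⟶ X) (f' : X' ⟶ Y'),
        IsPullback gY.hom q'.hom q.hom g.hom → IsPullback gX.hom f'.hom f.hom gY.hom →
        ((∀ z, Points.map g.hom z ∉ C) ↔ LocP @Flat f'.hom) := by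
  have ho := (isOpen_flatLocus_and_baseChange X.property Y.property Z.property f.hom q.hom
    (by rw [hom_comp hc]; exact hp1) (by rw [hom_comp hc]; exact hp2) hq).1
  exact ⟨_, hp3 _ ho.isClosed_compl, fun _ _ _ _ _ _ _ _ hY hX => flat_avoid_iff hc hp1 hp2 hq hY hX⟩

/-- The closed set over which flatness or surjectivity fails. -/
theorem exists_flat_surj_set {X Y Z : Space S} (f : X ⟶ Y) (p : X ⟶ Z) (q : Y ⟶ Z) (hc : f ≫ q = p)
    (hp1 : LocP @LocallyOfFinitePresentation p.hom) (hp2 : LocP @Flat p.hom) (hp3 : IsClosedMor p.hom)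
    (hq : LocP @LocallyOfFiniteType q.hom) (hq2 : IsClosedMor q.hom) :
    ∃ C : Set (Points Z.obj), IsClosed C ∧
      ∀ (Z' Y' X' : Space S) (g : Z' ⟶ Z) (gY : Y' ⟶ Y) (q' : Y' ⟶ Z') (gX : X' ⟶ X) (f' : X' ⟶ Y'),
        IsPullback gY.hom q'.hom q.hom g.hom → IsPullback gX.hom f'.hom f.hom gY.hom →
        ((∀ z, Points.map g.hom z ∉ C) ↔ IsSurjectiveMor f'.hom ∧ LocP @Flat f'.hom) := by
  have ho := (isOpen_flatLocus_and_baseChange X.property Y.property Z.property f.hom q.hom
    (by rw [hom_comp hc]; exact hp1) (by rw [hom_comp hc]; exact hp2) hq).1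
  let L : Set (Points X.obj) := {x | IsFlatAtMor f.hom x}
  obtain ⟨X₁, j, hX₁, hj, hr⟩ := exists_open_subspace X.property (W := L) ho
  have hje : RepWith @Etale j := repWith_mono (P := @IsOpenImmersion) (Q := @Etale)
    (fun _ _ φ (_ : IsOpenImmersion φ) => inferInstanceAs (Etale φ)) _ hj
  have hfl : LocP @LocallyOfFinitePresentation f.hom := lfp_of_comp hc hp1 hq
  have hopen : IsOpen (Points.map f.hom '' L) := by
    have hflat : LocP @Flat (j ≫ f.hom) := fun U V a b k ha hb w => by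
      refine (Flat.iff_flat_stalkMap k.left).2 fun u => ?_
      have hmem : Points.ofPt (a ≫ j) u ∈ L := by
        rw [← hr]
        exact ⟨Points.ofPt a u, Points.map_ofPt _ _ _⟩
      exact hmem (a ≫ j) b k u (repWith_comp ha hje) hb (by rw [Category.assoc]; exact w) rfl
    have h := (isOpenMap_map_of_fppf hX₁ Y.property (j ≫ f.hom) hflat
      (fun U V a b k ha hb w => hfl (a ≫ j) b k (repWith_comp ha hje) hb (by rw [Category.assoc]; exact w))).isOpen_range
    rwa [show Points.map (j ≫ f.hom) = Points.map f.hom ∘ Points.map j from funext (Points.map_comp _ _),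
      Set.range_comp, hr] at h
  refine ⟨_, (hp3 _ ho.isClosed_compl).union (hq2 _ hopen.isClosed_compl),
    fun Z' Y' X' g gY q' gX f' hY hX => ?_⟩
  simp only [Set.mem_union, not_or, forall_and]
  rw [flat_avoid_iff hc hp1 hp2 hq hY hX, avoid_image_iff hY, and_comm]
  refine and_congr_left fun hfl' => ?_
  simp only [Set.notMem_compl_iff]
  constructor
  · intro h y'
    obtain ⟨x, -, hx⟩ := h y'
    obtain ⟨x', -, h2⟩ := exists_point_of_isPullback hX hx
    exact ⟨x', h2⟩
  · intro h y'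
    obtain ⟨x', rfl⟩ := h y'
    refine ⟨Points.map gX.hom x', (flat_bc_iff hc hp1 hp2 hq hY hX).1 hfl' x', ?_⟩
    rw [← Points.map_comp, hX.w, Points.map_comp]

theorem repWith_etale_diagonal_of_unr {A B : Sp S} (hA : IsAlgSpace A) (hB : IsAlgSpace B) (f : A ⟶ B)
    (hu : LocP (@LocallyOfFiniteType ⊓ @FormallyUnramified) f) : RepWith @Etale (pullback.diagonal f) := by
  refine repWith_of_locP (isAlgSpace_pullback hA hA hB f f) (diagonal_package hA hB f).1 (locP_of_comp'
    (Q := (@LocallyOfFiniteType ⊓ @FormallyUnramified : MorphismProperty Scheme.{u})) (fun a b hab hb => ?_) hA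
    (g := pullback.fst f f) (by rw [pullback.diagonal_fst]; exact locP_of_repWith (repWith_of_isIso _ _))
    (locP_of_isPullback (IsPullback.of_hasPullback f f).flip hA hB hA hu))
  obtain ⟨_, _⟩ := hb
  have h1 : Etale (pullback.lift (𝟙 _) a (by simp) : _ ⟶ pullback (a ≫ b) b) :=
    MorphismProperty.of_isPullback (pullback_lift_diagonal_isPullback a b)
      (inferInstanceAs (Etale (pullback.diagonal b)))
  have h2 : Etale (pullback.snd (a ≫ b) b) := MorphismProperty.pullback_snd _ _ hab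
  have h3 := MorphismProperty.comp_mem (@Etale) _ _ h1 h2
  rwa [pullback.lift_snd] at h3

/-- The closed set over which being unramified or universal injectivity fails. -/
theorem exists_unr_inj_set {X Y Z XX : Space S} (f : X ⟶ Y) (p : X ⟶ Z) (q : Y ⟶ Z) (hc : f ≫ q = p)
    (pr0 pr1 : XX ⟶ X) (hXX : IsPullback pr0.hom pr1.hom f.hom f.hom)
    (hp1 : LocP @LocallyOfFiniteType p.hom) (hp2 : IsClosedMor p.hom) (hp3 : IsClosedMor (pr1 ≫ p).hom) :
    ∃ C : Set (Points Z.obj), IsClosed C ∧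
      ∀ (Z' Y' X' : Space S) (g : Z' ⟶ Z) (gY : Y' ⟶ Y) (q' : Y' ⟶ Z') (gX : X' ⟶ X) (f' : X' ⟶ Y'),
        IsPullback gY.hom q'.hom q.hom g.hom → IsPullback gX.hom f'.hom f.hom gY.hom →
        ((∀ z, Points.map g.hom z ∉ C) ↔
          LocP (@LocallyOfFiniteType ⊓ @FormallyUnramified) f'.hom ∧ IsUnivInjectiveMor f'.hom) := by
  have hl := lft_of_comp hc hp1
  have ho : IsOpen (unrSet f.hom) := PointLocus.isOpen_at PointLocus.ptProp_unram hl
  obtain ⟨X₁, j, hX₁, hj, hr⟩ := exists_open_subspace X.property ho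
  have hje : RepWith @Etale j := repWith_mono (P := @IsOpenImmersion) (Q := @Etale)
    (fun _ _ φ (_ : IsOpenImmersion φ) => inferInstanceAs (Etale φ)) _ hj
  have hl₁ : LocP @LocallyOfFiniteType (j ≫ f.hom) := fun U V a b k ha hb w =>
    hl (a ≫ j) b k (repWith_comp ha hje) hb (by rw [Category.assoc]; exact w)
  have hu₁ : LocP (@LocallyOfFiniteType ⊓ @FormallyUnramified) (j ≫ f.hom) := fun U V a b k ha hb w => by
    haveI : LocallyOfFiniteType k.left := hl₁ a b k ha hb w
    refine (PointLocus.unram_iff_forall k.left).2 fun u => ?_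
    refine (PointLocus.at_iff_chart PointLocus.ptProp_unram hl (repWith_comp ha hje) hb
      (by rw [Category.assoc]; exact w) u).1 ?_
    exact hr.le ⟨Points.ofPt a u, Points.map_ofPt _ _ _⟩
  let Δ : X.obj ⟶ XX.obj := hXX.lift (𝟙 _) (𝟙 _) rfl
  let m : pullback (j ≫ f.hom) (j ≫ f.hom) ⟶ XX.obj :=
    hXX.lift (pullback.fst _ _ ≫ j) (pullback.snd _ _ ≫ j) (by
      rw [Category.assoc, Category.assoc, pullback.condition])
  have hm : RepWith @Etale m :=
    RegKinds.repWith_etale_pullback_lift (i₃ := 𝟙 _) (by simp) (by simp) hje hje (repWith_of_isIso _ _)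
      (IsPullback.of_hasPullback _ _) hXX m (hXX.lift_fst _ _ _) (hXX.lift_snd _ _ _)
  have hl' : RepWith @Etale (pullback.diagonal (j ≫ f.hom) ≫ m) :=
    repWith_comp (repWith_etale_diagonal_of_unr hX₁ Y.property _ hu₁) hm
  have hjΔ : pullback.diagonal (j ≫ f.hom) ≫ m = j ≫ Δ := by
    refine hXX.hom_ext ?_ ?_ <;> simp [m, Δ]
  have hopen : IsOpen (Points.map Δ '' unrSet f.hom) := by
    have h := (isOpenMap_map (repWith_mono (P := @Etale) (Q := @UniversallyOpen)
      (fun _ _ φ (_ : Etale φ) => inferInstanceAs (UniversallyOpen φ)) _ hl')).isOpen_range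
    rwa [hjΔ, show Points.map (j ≫ Δ) = Points.map Δ ∘ Points.map j from funext (Points.map_comp _ _),
      Set.range_comp, hr] at h
  refine ⟨_, (hp2 _ ho.isClosed_compl).union (hp3 _ hopen.isClosed_compl),
    fun Z' Y' X' g gY q' gX f' hY hX => ?_⟩
  let π : pullback f'.hom f'.hom ⟶ XX.obj :=
    hXX.lift (pullback.fst _ _ ≫ gX.hom) (pullback.snd _ _ ≫ gX.hom) (by
      rw [Category.assoc, Category.assoc, hX.w, pullback.condition_assoc])
  have sπ : IsPullback π (pullback.snd f'.hom f'.hom) pr1.hom gX.hom := by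
    refine IsPullback.of_right ?_ (hXX.lift_snd _ _ _) hXX
    rw [IsPullback.lift_fst, hX.w]
    exact (IsPullback.of_hasPullback f'.hom f'.hom).paste_horiz hX
  have sΔ : IsPullback gX.hom (pullback.diagonal f'.hom) Δ π := by
    refine IsPullback.of_bot ?_ ?_ sπ
    · rw [pullback.diagonal_snd, hXX.lift_snd]
      exact IsPullback.of_vert_isIso ⟨by simp⟩
    · refine hXX.hom_ext ?_ ?_ <;> simp [π, Δ]
  have sXX : IsPullback π (pullback.snd f'.hom f'.hom ≫ f'.hom ≫ q'.hom) (pr1 ≫ p).hom g.hom :=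
    sπ.paste_vert (sqX hc hY hX)
  simp only [Set.mem_union, not_or, forall_and]
  rw [unr_avoid_iff hc hl hY hX, avoid_image_iff sXX]
  refine and_congr_right fun hu' => ?_
  simp only [Set.notMem_compl_iff]
  rw [(Groth.Agent.S9938.result f').2]
  have hrange := range_map_snd_of_isPullback sΔ
  constructor
  · intro h ξ
    obtain ⟨x, -, hx⟩ := h ξ
    obtain ⟨x', -, h2⟩ := exists_point_of_isPullback sΔ hx
    exact ⟨x', h2⟩
  · intro h ξ
    obtain ⟨x', rfl⟩ := h ξ
    refine ⟨Points.map gX.hom x', (unr_bc_iff hl hX).1 hu' x', ?_⟩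
    rw [← Points.map_comp, sΔ.w, Points.map_comp]

theorem isClosedMor_of_univClosed {A B : Sp S} (hB : IsAlgSpace B) {h : A ⟶ B} (hh : IsUnivClosedMor h) :
    IsClosedMor h :=
  hh hB (𝟙 _) (𝟙 _) h (IsPullback.of_horiz_isIso ⟨by simp⟩)

/-- The closed set over which being a closed immersion fails. -/
theorem exists_closedImm_set {X Y Z : Space S} (f : X ⟶ Y) (p : X ⟶ Z) (q : Y ⟶ Z) (hc : f ≫ q = p)
    (hp1 : LocP @LocallyOfFiniteType p.hom) (hp2 : IsUnivClosedMor p.hom) (hq : IsSeparatedMor q.hom) :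
    ∃ C : Set (Points Z.obj), IsClosed C ∧
      ∀ (Z' Y' X' : Space S) (g : Z' ⟶ Z) (gY : Y' ⟶ Y) (q' : Y' ⟶ Z') (gX : X' ⟶ X) (f' : X' ⟶ Y'),
        IsPullback gY.hom q'.hom q.hom g.hom → IsPullback gX.hom f'.hom f.hom gY.hom →
        ((∀ z, Points.map g.hom z ∉ C) ↔ RepWith @IsClosedImmersion f'.hom) := by
  have hfc : IsUnivClosedMor f.hom :=
    univClosed_of_comp_separated X.property Y.property Z.property (by rw [hom_comp hc]; exact hp2) hq
  have hXXa := isAlgSpace_pullback X.property X.property Y.property f.hom f.hom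
  let XX : Space S := ⟨_, hXXa⟩
  let pr0 : XX ⟶ X := ObjectProperty.homMk (pullback.fst f.hom f.hom)
  let pr1 : XX ⟶ X := ObjectProperty.homMk (pullback.snd f.hom f.hom)
  have hpr : IsUnivClosedMor pr1.hom := isUnivClosedMor_of_isPullback (IsPullback.of_hasPullback f.hom f.hom) hfc
  have hp3 : IsClosedMor (pr1 ≫ p).hom :=
    isClosedMor_of_univClosed Z.property (isUnivClosedMor_comp X.property Z.property hpr hp2)
  obtain ⟨C, hC, H⟩ := exists_unr_inj_set f p q hc pr0 pr1 (IsPullback.of_hasPullback _ _) hp1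
    (isClosedMor_of_univClosed Z.property hp2) hp3
  refine ⟨C, hC, fun Z' Y' X' g gY q' gX f' hY hX => (H Z' Y' X' g gY q' gX f' hY hX).trans ?_⟩
  have hf'c : IsUnivClosedMor f'.hom := univClosed_of_comp_separated X'.property Y'.property Z'.property
    (isUnivClosedMor_of_isPullback (sqX hc hY hX) hp2) (isSeparatedMor_of_isPullback hY hq)
  obtain ⟨hab, hac, -, -⟩ := Groth.Agent.S10613.result f'
  rw [closedImmersion_iff_univClosed_mono, ← hac, hab]
  exact ⟨fun h => ⟨hf'c, h⟩, fun h => h.2⟩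

/-- The closed set over which being an isomorphism fails. -/
theorem exists_iso_set {X Y Z : Space S} (f : X ⟶ Y) (p : X ⟶ Z) (q : Y ⟶ Z) (hc : f ≫ q = p)
    (hp1 : LocP @LocallyOfFinitePresentation p.hom) (hp2 : LocP @Flat p.hom) (hp3 : IsUnivClosedMor p.hom)
    (hq1 : LocP @LocallyOfFiniteType q.hom) (hq2 : IsClosedMor q.hom) (hq3 : IsSeparatedMor q.hom) :
    ∃ C : Set (Points Z.obj), IsClosed C ∧
      ∀ (Z' Y' X' : Space S) (g : Z' ⟶ Z) (gY : Y' ⟶ Y) (q' : Y' ⟶ Z') (gX : X' ⟶ X) (f' : X' ⟶ Y'),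
        IsPullback gY.hom q'.hom q.hom g.hom → IsPullback gX.hom f'.hom f.hom gY.hom →
        ((∀ z, Points.map g.hom z ∉ C) ↔ IsIso f'.hom) := by
  obtain ⟨C₁, hC₁, H₁⟩ := exists_closedImm_set f p q hc
    (locP_mono (P := @LocallyOfFinitePresentation)
      (fun _ _ φ (_ : LocallyOfFinitePresentation φ) => inferInstanceAs (LocallyOfFiniteType φ)) hp1) hp3 hq3
  obtain ⟨C₂, hC₂, H₂⟩ := exists_flat_surj_set f p q hc hp1 hp2 (isClosedMor_of_univClosed Z.property hp3) hq1 hq2
  refine ⟨C₁ ∪ C₂, hC₁.union hC₂, fun Z' Y' X' g gY q' gX f' hY hX => ?_⟩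
  simp only [Set.mem_union, not_or, forall_and]
  rw [H₁ Z' Y' X' g gY q' gX f' hY hX, H₂ Z' Y' X' g gY q' gX f' hY hX]
  constructor
  · rintro ⟨hcl, hs, hfl⟩
    haveI : Mono f'.hom := ProperSub.mono_closedImmersion hcl
    refine isIso_of_mono_of_etale_surjective X'.property Y'.property f'.hom (fun U V a b k ha hb w => ?_) hs
    haveI : Flat k.left := hfl a b k ha hb w
    haveI : LocallyOfFinitePresentation k.left :=
      locP_of_isPullback hX X.property Y.property Y'.property (lfp_of_comp hc hp1 hq1) a b k ha hb w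
    have hu := (Groth.Agent.S10613.result f').2.1.2
      ⟨((closedImmersion_iff_univClosed_mono f').1 hcl).2.1, ‹Mono f'.hom›⟩
    haveI : FormallyUnramified k.left := (hu.1 a b k ha hb w).2
    exact Etale.of_formallyUnramified_of_flat _
  · intro _
    exact ⟨repWith_of_isIso _ _, surjective_map_of_repWith (repWith_of_isIso _ f'.hom),
      locP_of_repWith (repWith_of_isIso _ _)⟩

end Groth.Agent.AlgSpDec.Where
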