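import Groth.Agent.AlgSpDec.GenFiniteSp
import Groth.Agent.AlgSpDec.FibreCodim
import Groth.Agent.AlgSpDec.Fibres
import Groth.Agent.AlgSpDec.Glue
import Groth.Agent.MorLib.Birat
import Groth.Agent.AlgSpDec.WhereLocus
import Groth.Agent.AlgSpLib.ClosedImmDesc

/-!
# Finiteness over a dense open subspace
-/

set_option autoImplicit false
set_option backward.isDefEq.respectTransparency false
set_option backward.isDefEq.respectTransparency.types false

universe u

open CategoryTheory CategoryTheory.Limits AlgebraicGeometry AlgSp Groth.Agent.AlgSpLib Groth.Agent.AlgSpPts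

namespace Groth.Agent.AlgSpDec.GenFiniteDense

variable {S : Scheme.{u}}

theorem coheight_of_generic {T : Scheme.{u}} {t : ↥T} (h : t ∈ genericPoints ↥T) : Order.coheight t = 0 :=
  Order.coheight_eq_zero.2 fun _ hz => (MorLib.Birat.eq_of_specializes_generic h hz) ▸ le_rfl

/-- A separated morphism locally of finite type all of whose generic points lie over a generic point with
finite fibre is finite near that point. -/
theorem exists_finite_restrict_sep {T W : Scheme.{u}} [IsAffine W] (τ : T ⟶ W) [LocallyOfFiniteType τ]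
    [IsSeparated τ] {w : ↥W} (hw : w ∈ genericPoints ↥W) (hfin : (τ ⁻¹' {w}).Finite)
    (hgen : ∀ t ∈ genericPoints ↥T, τ t = w) (V' : W.Opens) (hV' : w ∈ V') :
    ∃ V : W.Opens, IsAffineOpen V ∧ w ∈ V ∧ V ≤ V' ∧ IsFinite (τ ∣_ V) := by
  haveI := hfin.to_subtype
  choose A hA hxA using fun x : ↥(τ ⁻¹' {w}) =>
    (⟨_, (exists_isAffineOpen_mem_and_subset (U := (⊤ : T.Opens)) (x := x.1) trivial).choose_spec.1,
      (exists_isAffineOpen_mem_and_subset (U := (⊤ : T.Opens)) (x := x.1) trivial).choose_spec.2.1⟩ :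
      ∃ A : T.Opens, IsAffineOpen A ∧ x.1 ∈ A)
  let T₀ : T.Opens := ⨆ x, A x
  have hc : IsCompact (T₀ : Set ↥T) := by
    rw [TopologicalSpace.Opens.coe_iSup]
    exact isCompact_iUnion fun x => (hA x).isCompact
  haveI : CompactSpace ↥(T₀ : T.Opens).toScheme := isCompact_iff_compactSpace.1 hc
  let τ₀ : T₀.toScheme ⟶ W := T₀.ι ≫ τ
  haveI : QuasiCompact τ₀ := HasAffineProperty.iff_of_isAffine.2 ‹CompactSpace ↥T₀.toScheme›
  have hfin₀ : (τ₀ ⁻¹' {w}).Finite := (hfin.preimage (f := T₀.ι) T₀.ι.injective.injOn : _)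
  have hdim : ∀ t, τ₀ t = w → FlatMor.fibreDimAt τ₀ t = 0 := by
    intro t ht
    haveI := hfin₀.to_subtype
    haveI : DiscreteTopology ↥(τ₀ ⁻¹' {w}) := by
      haveI : Finite (τ₀.fiber w) := Finite.of_equiv _ (τ₀.fiberHomeo w).symm.toEquiv
      exact (τ₀.fiberHomeo w).discreteTopology
    rw [fibreDimAt_eq_zero_iff]
    haveI : DiscreteTopology ↥(τ₀.fiber (τ₀ t)) := by
      rw [ht]; exact (τ₀.fiberHomeo w).isEmbedding.discreteTopology
    exact isOpen_discrete _
  obtain ⟨V, hVa, hwV, hVle, hV⟩ := GenFiniteSp.exists_finite_restrict τ₀ hw hdim V' hV'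
  refine ⟨V, hVa, hwV, hVle, ?_⟩
  haveI := hV
  haveI hcomp : IsFinite (T₀.ι ∣_ (τ ⁻¹ᵁ V) ≫ τ ∣_ V) := by
    rw [← morphismRestrict_comp]; exact hV
  haveI : IsFinite (T₀.ι ∣_ (τ ⁻¹ᵁ V)) := MorphismProperty.of_postcomp (W := @IsFinite) (W' := @IsSeparated)
    _ (τ ∣_ V) (inferInstanceAs (IsSeparated (τ ∣_ V))) hcomp
  have hcl : IsClosed (Set.range (T₀.ι ∣_ (τ ⁻¹ᵁ V))) := (T₀.ι ∣_ (τ ⁻¹ᵁ V)).isClosedMap.isClosed_range
  haveI : Surjective (T₀.ι ∣_ (τ ⁻¹ᵁ V)) := ⟨fun t => by
    by_contra hne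
    obtain ⟨O, hO, hO'⟩ := isOpen_induced_iff.1 hcl.isOpen_compl
    have htO : t.1 ∈ O := (Set.ext_iff.1 hO' t).2 hne
    obtain ⟨g, hg, hgt⟩ := MorLib.Birat.exists_generic (X := T) t.1
    have hgV : g ∈ τ ⁻¹ᵁ V := hgt.mem_open (τ ⁻¹ᵁ V).isOpen t.2
    have hgO : g ∈ O := hgt.mem_open hO htO
    have hgT : g ∈ T₀ :=
      TopologicalSpace.Opens.mem_iSup.2 ⟨⟨g, hgen g hg⟩, hxA ⟨g, hgen g hg⟩⟩
    refine (Set.ext_iff.1 hO' ⟨g, hgV⟩).1 hgO ⟨⟨⟨g, hgT⟩, hgV⟩, Subtype.ext ?_⟩
    show (τ ⁻¹ᵁ V).ι ((T₀.ι ∣_ (τ ⁻¹ᵁ V)) _) = g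
    rw [← Scheme.Hom.comp_apply, morphismRestrict_ι]
    rfl⟩
  haveI : IsIso (T₀.ι ∣_ (τ ⁻¹ᵁ V)) :=
    (isIso_iff_isOpenImmersion_and_surjective _).mpr ⟨inferInstance, inferInstance⟩
  rw [show τ ∣_ V = inv (T₀.ι ∣_ (τ ⁻¹ᵁ V)) ≫ (T₀.ι ∣_ (τ ⁻¹ᵁ V) ≫ τ ∣_ V) by simp]
  infer_instance

/-- Finiteness near a generic point for a space with an affine etale cover. -/
theorem exists_finite_nhd_cover {W : Over S} [IsAffine W.left] {P : Sp S} (hP : IsAlgSpace P)
    (q : P ⟶ (yon S).obj W) (hl : LocP @LocallyOfFiniteType q) {w : ↥W.left}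
    (hw : w ∈ genericPoints ↥W.left) {U : Over S} [IsAffine U.left] (a : (yon S).obj U ⟶ P)
    (ha : RepWith @Etale a) (has : RepWith @Surjective a)
    (h0 : ∀ z, Points.map q z = Points.schemeHomeo W w →
      PointLocus.At (fun {_ _} h u => FlatMor.fibreDimAt h u = 0) q z)
    (hgen : ∀ z, HasAt (fun U u => ringKrullDim ↥(U.presheaf.stalk u) = 0) P z →
      Points.map q z = Points.schemeHomeo W w) :
    ∃ O : W.left.Opens, w ∈ O ∧ IsFiniteMor (pullback.snd q ((yon S).map (openOverι W O))) := by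
  obtain ⟨τ, hτ⟩ := (yon S).map_surjective (a ≫ q)
  haveI : LocallyOfFiniteType τ.left := hl a (𝟙 _) τ ha (repWith_id _ _) (by rw [Category.comp_id, hτ])
  haveI : QuasiCompact τ.left := HasAffineProperty.iff_of_isAffine.2 (inferInstanceAs (CompactSpace ↥U.left))
  haveI : IsSeparated τ.left := inferInstance
  have hpt : ∀ t, Points.map q (Points.ofPt a t) = Points.schemeHomeo W (τ.left t) := fun t => by
    rw [Points.map_ofPt, ← hτ, ← Category.comp_id ((yon S).map τ), ofPt_comp]; rfl
  have hdim : ∀ t, τ.left t = w → FlatMor.fibreDimAt τ.left t = 0 := fun t ht =>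
    (PointLocus.at_iff_chart PointLocus.ptProp_lqf hl ha (repWith_id _ _)
      (by rw [Category.comp_id, hτ]) t).1 (h0 _ (by rw [hpt, ht]))
  have hgU : ∀ t, Order.coheight t = 0 → τ.left t = w := fun t ht =>
    (Points.schemeHomeo W).injective
      ((hpt t).symm.trans (hgen _ ((FibreCodim.hasAt_iff_coheight ha t).2 ht)))
  let R := ha.rep.pullback a
  let t : R ⟶ U := ha.rep.fst' a
  let s : R ⟶ U := ha.rep.snd a
  have sqR : IsPullback ((yon S).map t) ((yon S).map s) a a := ha.rep.isPullback' a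
  haveI : Etale s.left := ha.property_snd a
  have hts : t ≫ τ = s ≫ τ := (yon S).map_injective (by
    rw [Functor.map_comp, Functor.map_comp, hτ, ← Category.assoc, sqR.w, Category.assoc])
  let i : R ⟶ pullback τ τ := pullback.lift t s hts
  haveI : Mono i := ⟨fun {Z} x y h => (yon S).map_injective (sqR.hom_ext
    (by rw [← Functor.map_comp, ← Functor.map_comp]; exact congrArg _ (by simpa [i] using congrArg (· ≫ pullback.fst τ τ) h))
    (by rw [← Functor.map_comp, ← Functor.map_comp]; exact congrArg _ (by simpa [i] using congrArg (· ≫ pullback.snd τ τ) h)))⟩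
  haveI : Mono i.left := inferInstanceAs (Mono ((Over.forget S).map i))
  have sqUU := (IsPullback.of_hasPullback τ τ).map (Over.forget S)
  haveI : QuasiCompact (pullback.snd τ τ).left :=
    MorphismProperty.of_isPullback (P := @QuasiCompact) sqUU ‹QuasiCompact τ.left›
  haveI : IsSeparated (pullback.snd τ τ).left :=
    MorphismProperty.of_isPullback (P := @IsSeparated) sqUU ‹IsSeparated τ.left›
  haveI : LocallyOfFiniteType (pullback.snd τ τ).left :=
    MorphismProperty.of_isPullback (P := @LocallyOfFiniteType) sqUU ‹LocallyOfFiniteType τ.left›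
  let r : R ⟶ W := s ≫ τ
  haveI : LocallyOfFiniteType r.left := inferInstanceAs (LocallyOfFiniteType (s.left ≫ τ.left))
  have hs : s.left = i.left ≫ (pullback.snd τ τ).left := by
    rw [← Over.comp_left, pullback.lift_snd]
  haveI : IsSeparated s.left := by rw [hs]; infer_instance
  haveI : IsSeparated r.left := inferInstanceAs (IsSeparated (s.left ≫ τ.left))
  have hfinU : (τ.left ⁻¹' {w}).Finite :=
    (FieldFibre.finite_qf_points τ.left w).subset fun t ht => ⟨ht, hdim t ht⟩
  have hfinR : (r.left ⁻¹' {w}).Finite := by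
    have hsub : r.left ⁻¹' {w} ⊆ i.left ⁻¹' (⋃ u ∈ τ.left ⁻¹' {w},
        {z | (pullback.snd τ τ).left z = u ∧ FlatMor.fibreDimAt (pullback.snd τ τ).left z = 0}) := by
      intro z hz
      refine Set.mem_biUnion (x := s.left z) hz ⟨?_, ?_⟩
      · rw [← Scheme.Hom.comp_apply, ← hs]
      · rw [show FlatMor.fibreDimAt (pullback.snd τ τ).left (i.left z) =
            FlatMor.fibreDimAt τ.left ((pullback.fst τ τ).left (i.left z)) from by
              haveI : LocallyOfFiniteType ((Over.forget S).map τ) := ‹LocallyOfFiniteType τ.left›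
              haveI : LocallyOfFiniteType ((Over.forget S).map (pullback.snd τ τ)) := ‹LocallyOfFiniteType (pullback.snd τ τ).left›
              exact FibDim.fibreDimAt_baseChange sqUU _]
        refine hdim _ ?_
        rw [← Scheme.Hom.comp_apply, ← Scheme.Hom.comp_apply, ← Over.comp_left, ← Over.comp_left,
          pullback.condition]
        show (i ≫ pullback.snd τ τ ≫ τ).left z = w
        rw [← Category.assoc, pullback.lift_snd]
        exact hz
    exact ((hfinU.biUnion fun u _ => FieldFibre.finite_qf_points (pullback.snd τ τ).left u).preimage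
      i.left.injective.injOn).subset hsub
  have hgR : ∀ z ∈ genericPoints ↥R.left, r.left z = w := fun z hz => by
    have h1 := coheight_eq_of_charts (repWith_comp ((repWith_yon_map_iff _ s).2 ‹Etale s.left›) ha) ha
      (show Points.ofPt ((yon S).map s ≫ a) z = Points.ofPt a (s.left z) from ofPt_comp _ _ _)
    exact hgU (s.left z) (h1.symm.trans (coheight_of_generic hz))
  obtain ⟨O₁, -, hwO₁, -, hfin₁⟩ := GenFiniteSp.exists_finite_restrict τ.left hw hdim ⊤ trivial
  obtain ⟨O, -, hwO, hOle, hfin₂⟩ := exists_finite_restrict_sep r.left hw hfinR hgR O₁ hwO₁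
  have hfinO : IsFinite (τ.left ∣_ O) := by
    have h1 : IsFinite (τ.left ∣_ O₁ ∣_ (O₁.ι ⁻¹ᵁ O)) :=
      IsZariskiLocalAtTarget.restrict (P := @IsFinite) hfin₁ _
    have h2 := (MorphismProperty.arrow_mk_iso_iff @IsFinite (morphismRestrictRestrict τ.left O₁ (O₁.ι ⁻¹ᵁ O))).1 h1
    rwa [Scheme.Hom.image_preimage_eq_opensRange_inf, Scheme.Opens.opensRange_ι, inf_eq_right.mpr hOle] at h2
  exact ⟨O, hwO, GenFiniteSp.finite_restrict_of_charts hP q a ha has hτ O hfinO hfin₂⟩

/-- Finiteness near a generic point for a separated space whose fibre is covered by an affine etale chart. -/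
theorem exists_finite_nhd_sep {W : Over S} [IsAffine W.left] {P : Sp S} (hP : IsAlgSpace P)
    (q : P ⟶ (yon S).obj W) (hl : LocP @LocallyOfFiniteType q) (hsep : IsSeparatedMor q) {w : ↥W.left}
    (hw : w ∈ genericPoints ↥W.left) {U : Over S} [IsAffine U.left] (a : (yon S).obj U ⟶ P)
    (ha : RepWith @Etale a)
    (hcov : ∀ z, Points.map q z = Points.schemeHomeo W w → z ∈ Set.range (Points.ofPt a))
    (h0 : ∀ z, Points.map q z = Points.schemeHomeo W w →
      PointLocus.At (fun {_ _} h u => FlatMor.fibreDimAt h u = 0) q z)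
    (hgen : ∀ z, HasAt (fun U u => ringKrullDim ↥(U.presheaf.stalk u) = 0) P z →
      Points.map q z = Points.schemeHomeo W w) :
    ∃ O : W.left.Opens, w ∈ O ∧ IsFiniteMor (pullback.snd q ((yon S).map (openOverι W O))) := by
  obtain ⟨P₀, j, hP₀, hj, hjr⟩ := exists_open_subspace hP (isOpenMap_ofPt ha).isOpen_range
  have hje : RepWith @Etale j := repWith_mono (P := @IsOpenImmersion) (Q := @Etale)
    (fun _ _ e (_ : IsOpenImmersion e) => inferInstanceAs (Etale e)) _ hj
  haveI : Mono j := mono_of_openImmersion hj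
  obtain ⟨a₀, ha₀⟩ := exists_lift_openImmersion (IsAlgSpace.yon_obj U) hP₀ hP hj a (by
    rintro _ ⟨z, rfl⟩
    obtain ⟨t, rfl⟩ := (Points.schemeHomeo U).surjective z
    rw [hjr]
    exact ⟨t, by
      change _ = Points.map a (Points.ofPt (𝟙 _) t)
      rw [Points.map_ofPt, Category.id_comp]⟩)
  have ha₀e : RepWith @Etale a₀ := repWith_etale_of_comp a₀ j (by rw [ha₀]; exact ha) hje
  have ha₀s : RepWith @Surjective a₀ := repWith_surjective_of_surjective ha₀e.rep fun z => by
    obtain ⟨t, ht⟩ : Points.map j z ∈ Set.range (Points.ofPt a) := hjr ▸ ⟨z, rfl⟩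
    refine ⟨Points.ofPt (𝟙 _) t, injective_points_map_of_mono j ?_⟩
    rw [← Points.map_comp, ha₀, Points.map_ofPt, Category.id_comp, ht]
  have hlj : LocP @LocallyOfFiniteType j := locP_of_repWith (repWith_mono (P := @Etale)
    (Q := @LocallyOfFiniteType) (fun _ _ e (_ : Etale e) => inferInstanceAs (LocallyOfFiniteType e)) _ hje)
  have hl₀ : LocP @LocallyOfFiniteType (j ≫ q) := locP_comp hP₀ hP (IsAlgSpace.yon_obj W) hlj hl
  have hat : ∀ z, (PointLocus.At (fun {_ _} h u => FlatMor.fibreDimAt h u = 0) q (Points.map j z) →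
      PointLocus.At (fun {_ _} h u => FlatMor.fibreDimAt h u = 0) (j ≫ q) z) := by
    intro z hz
    obtain ⟨U₁, W₁, a₁, b₁, h₁, ha₁, ha₁', hb₁, -, w₁⟩ := exists_chart hP₀ (IsAlgSpace.yon_obj W) (j ≫ q)
    obtain ⟨t, rfl⟩ := surjective_ofPt ha₁' z
    rw [Points.map_ofPt] at hz
    exact (PointLocus.at_iff_chart PointLocus.ptProp_lqf hl₀ ha₁ hb₁ w₁ t).2
      ((PointLocus.at_iff_chart PointLocus.ptProp_lqf hl (repWith_comp ha₁ hje) hb₁
        (by rw [Category.assoc]; exact w₁) t).1 hz)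
  obtain ⟨O, hwO, hfin⟩ := exists_finite_nhd_cover hP₀ (j ≫ q) hl₀ hw a₀ ha₀e ha₀s
    (fun z hz => hat z (h0 _ (by rwa [← Points.map_comp])))
    (fun z hz => by
      rw [Points.map_comp]
      refine hgen _ ?_
      obtain ⟨V, c, v, hc, rfl, hv⟩ := hz
      exact ⟨V, c ≫ j, v, repWith_comp hc hje, (Points.map_ofPt _ _ _).symm, hv⟩)
  refine ⟨O, hwO, ?_⟩
  have sqP := IsPullback.of_hasPullback q ((yon S).map (openOverι W O))
  have hP' := isAlgSpace_of_isPullback sqP hP (IsAlgSpace.yon_obj _) (IsAlgSpace.yon_obj W)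
  have sq₀ := IsPullback.of_hasPullback (j ≫ q) ((yon S).map (openOverι W O))
  let k : pullback (j ≫ q) ((yon S).map (openOverι W O)) ⟶ pullback q ((yon S).map (openOverι W O)) :=
    pullback.lift (pullback.fst _ _ ≫ j) (pullback.snd _ _) (by rw [Category.assoc, sq₀.w])
  have sqk : IsPullback (pullback.fst _ _) k j (pullback.fst q ((yon S).map (openOverι W O))) := by
    refine IsPullback.of_bot ?_ (pullback.lift_fst _ _ _).symm sqP
    rw [pullback.lift_snd]
    exact sq₀
  have hk : RepWith @IsOpenImmersion k := repWith_of_isPullback sqk hj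
  have hk2 : k ≫ pullback.snd q ((yon S).map (openOverι W O)) = pullback.snd (j ≫ q) _ := pullback.lift_snd _ _ _
  have hkc : IsUnivClosedMor k := Where.univClosed_of_comp_separated
    (isAlgSpace_of_isPullback sq₀ hP₀ (IsAlgSpace.yon_obj _) (IsAlgSpace.yon_obj W)) hP' (IsAlgSpace.yon_obj _)
    (k := pullback.snd q ((yon S).map (openOverι W O)))
    (by rw [hk2]; exact (proper_and_lqf_of_finite (IsAlgSpace.yon_obj _) hfin).1.2.2)
    (isSeparatedMor_of_isPullback sqP hsep)
  have hks : Function.Surjective (Points.map k) := by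
    intro z
    by_contra hne
    have hcl : IsClosed (Set.range (Points.map k)) := by
      have h1 : IsClosedMor k := hkc hP' (𝟙 _) (𝟙 _) k (IsPullback.of_horiz_isIso ⟨by simp⟩)
      exact h1.isClosed_range
    obtain ⟨V, c, hc, hc'⟩ := hP'.atlas
    obtain ⟨v, rfl⟩ := surjective_ofPt hc' z
    obtain ⟨g, hg, hgv⟩ := MorLib.Birat.exists_generic (X := V.left) v
    have hgc : Points.ofPt c g ∉ Set.range (Points.map k) :=
      (hgv.map (Points.continuous_ofPt c)).mem_open hcl.isOpen_compl hne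
    have hιe : RepWith @Etale (pullback.fst q ((yon S).map (openOverι W O))) :=
      repWith_of_isPullback sqP.flip ((repWith_yon_map_iff _ (openOverι W O)).2 (inferInstanceAs (Etale O.ι)))
    have h2 : Points.map q (Points.map (pullback.fst q ((yon S).map (openOverι W O))) (Points.ofPt c g)) =
        Points.schemeHomeo W w := by
      refine hgen _ ?_
      rw [Points.map_ofPt]
      exact (FibreCodim.hasAt_iff_coheight (repWith_comp hc hιe) g).2 (coheight_of_generic hg)
    obtain ⟨z₀, hz₀⟩ : Points.map (pullback.fst q ((yon S).map (openOverι W O))) (Points.ofPt c g) ∈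
        Set.range (Points.map j) := hjr ▸ hcov _ h2
    obtain ⟨z₁, -, hz₁⟩ := exists_point_of_isPullback sqk hz₀
    exact hgc ⟨z₁, hz₁⟩
  haveI : IsIso k := (repWith_isomorphisms_iff k).1
    ⟨hk.rep, fun A B g fst snd hs => by
      haveI : IsOpenImmersion snd.left := hk.property g fst snd hs
      haveI : Surjective snd.left := (repWith_surjective_of_surjective hk.rep hks).property g fst snd hs
      exact (isIso_iff_isOpenImmersion_and_surjective _).mpr ⟨‹IsOpenImmersion snd.left›, ‹Surjective snd.left›⟩⟩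
  rw [show pullback.snd q ((yon S).map (openOverι W O)) = inv k ≫ pullback.snd (j ≫ q) _ by
    rw [← hk2]; simp]
  exact isFiniteMor_iff_repWith.2 (repWith_comp (repWith_of_isIso _ _) (isFiniteMor_iff_repWith.1 hfin))

end Groth.Agent.AlgSpDec.GenFiniteDense
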