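import Groth.Agent.AlgSpDec.MonoCriterion
import Groth.Agent.AlgSpPts.OpenSub
import Groth.Agent.AlgSpDec.LimOpen
import Groth.Agent.AlgSpPts.FppfTarget
import Groth.Prelude.Def_AlgSpCov
import Mathlib.AlgebraicGeometry.Morphisms.FlatMono

/-!
# Monomorphic points: fibres of products, elementary neighbourhoods, quasi-compact charts
-/

set_option backward.isDefEq.respectTransparency false
set_option backward.isDefEq.respectTransparency.types false

universe u

open CategoryTheory Limits Opposite AlgebraicGeometry AlgSp Groth.Agent.AlgSpLib Groth.Agent.AlgSpPts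

namespace Groth.Agent.AlgSpDec

variable {S : Scheme.{u}} {X : Sp S}

theorem exists_mono_of_etale_qc (hX : IsAlgSpace X) (q : FieldPt X)
    (h : ∀ (P : Sp S) (fst snd : P ⟶ (yon S).obj q.pt), IsPullback fst snd q.toHom q.toHom →
      RepWith @Etale fst ∧ RepWith @QuasiCompact fst) :
    ∃ p : FieldPt X, Points.mk p = Points.mk q ∧ Mono p.toHom := by
  have hrep : Representable q.toHom := representable_from_yon' hX q.toHom
  have sq := hrep.isPullback' q.toHom
  obtain ⟨he, hq⟩ := h _ _ _ sq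
  have : Etale (hrep.fst' q.toHom).left := (repWith_yon_map_iff _ _).1 he
  have : QuasiCompact (hrep.fst' q.toHom).left := (repWith_yon_map_iff _ _).1 hq
  have : CompactSpace ↥q.pt.left := inferInstanceAs (CompactSpace (PrimeSpectrum q.K))
  have : CompactSpace ↥(hrep.pullback q.toHom).left :=
    QuasiCompact.compactSpace_of_compactSpace (hrep.fst' q.toHom).left
  have : Finite ↥(hrep.pullback q.toHom).left := finite_of_compact_etale_field (K := q.K) (hrep.fst' q.toHom).left
  exact exists_mono_of_finite hX q sq.flip (isFinite_of_etale_field (K := q.K) (hrep.fst' q.toHom).left)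

theorem self_product_of_mono (p : FieldPt X) [Mono p.toHom] {P : Sp S} {fst snd : P ⟶ (yon S).obj p.pt}
    (sq : IsPullback fst snd p.toHom p.toHom) : IsIso fst := by
  have : Mono fst := PullbackCone.mono_fst_of_is_pullback_of_mono sq.isLimit
  have : IsSplitEpi fst := ⟨⟨⟨sq.lift (𝟙 _) (𝟙 _) rfl, sq.lift_fst _ _ _⟩⟩⟩
  exact isIso_of_mono_of_isSplitEpi fst

/-- Finitely many points of a product over a pair `(x, z)`. -/
theorem finite_product_fibre {Y Z W : Sp S} (hY : IsAlgSpace Y) {f : X ⟶ Y} {g : Z ⟶ Y} {p : W ⟶ X} {q : W ⟶ Z}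
    (hW : IsPullback p q f g) (x : Points X) (z : Points Z) (hxz : Points.map f x = Points.map g z)
    (hy : ∃ r : FieldPt Y, Points.mk r = Points.map g z ∧ Mono r.toHom)
    (hg : HasAtMor (fun U _ h u => ∃ W : U.Opens, u ∈ W ∧ LocallyQuasiFinite (W.ι ≫ h) ∧
      LocallyOfFiniteType (W.ι ≫ h)) g z) :
    {w : Points W | Points.map p w = x ∧ Points.map q w = z}.Finite := by
  obtain ⟨r, hr, hm⟩ := hy
  obtain ⟨U, V, a, b, h, u, ha, hb, hw, hu, O, huO, hO, hO'⟩ := hg
  induction x using Points.ind with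
  | h px =>
  -- the point of `X` maps to `Y` through `r`
  have hpr : Points.ofPt r.toHom (IsLocalRing.closedPoint r.K) =
      Points.ofPt (px.toHom ≫ f) (IsLocalRing.closedPoint px.K) := by
    rw [Points.ofPt_toHom, ← Points.map_ofPt, Points.ofPt_toHom, hr, hxz]
  obtain ⟨c, hc, -⟩ := existsUnique_factor r.toHom (representable_from_yon' hY _) (px.toHom ≫ f) hpr
  let U' : Over S := Over.mk (O.ι ≫ U.hom)
  let ι : U' ⟶ U := Over.homMk O.ι rfl
  let h' : U' ⟶ V := ι ≫ h
  have : LocallyQuasiFinite h'.left := hO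
  have : LocallyOfFiniteType h'.left := hO'
  -- the fibre over `Spec k`
  let Vk := hb.rep.pullback r.toHom
  let v₁ : Vk ⟶ V := hb.rep.fst' r.toHom
  let v₂ : Vk ⟶ r.pt := hb.rep.snd r.toHom
  have sqV : IsPullback ((yon S).map v₁) ((yon S).map v₂) b r.toHom := hb.rep.isPullback' r.toHom
  have : Etale v₂.left := hb.property_snd r.toHom
  have sqA := IsPullback.of_hasPullback h'.left v₁.left
  let A : Over S := Over.mk (pullback.fst h'.left v₁.left ≫ U'.hom)
  let A₁ : A ⟶ U' := Over.homMk (pullback.fst h'.left v₁.left) rfl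
  let A₂ : A ⟶ Vk := Over.homMk (pullback.snd h'.left v₁.left) (by
    change _ = pullback.fst h'.left v₁.left ≫ U'.hom
    rw [← Over.w v₁, ← Over.w h', pullback.condition_assoc])
  have hA : A₁ ≫ h' = A₂ ≫ v₁ := Over.OverMorphism.ext pullback.condition
  have : LocallyQuasiFinite A₂.left := MorphismProperty.pullback_snd (P := @LocallyQuasiFinite) _ _ hO
  have : LocallyOfFiniteType A₂.left := MorphismProperty.pullback_snd (P := @LocallyOfFiniteType) _ _ hO'
  let θ : A.left ⟶ r.pt.left := A₂.left ≫ v₂.left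
  have hθ : LocallyQuasiFinite θ := inferInstance
  have hθ' : LocallyOfFiniteType θ := inferInstance
  -- base change to `Spec L`
  let M : Over S := Over.mk (pullback.fst θ c.left ≫ A.hom)
  let M₁ : M ⟶ A := Over.homMk (pullback.fst θ c.left) rfl
  let M₂ : M ⟶ px.pt := Over.homMk (pullback.snd θ c.left) (by
    change _ = pullback.fst θ c.left ≫ A.hom
    rw [← Over.w c, ← pullback.condition_assoc]
    change pullback.fst θ c.left ≫ (A₂ ≫ v₂).left ≫ r.pt.hom = _
    rw [Over.w (A₂ ≫ v₂)])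
  have : LocallyQuasiFinite M₂.left := MorphismProperty.pullback_snd (P := @LocallyQuasiFinite) _ _ hθ
  have hM : M₁ ≫ A₂ ≫ v₂ = M₂ ≫ c := Over.OverMorphism.ext pullback.condition
  have hMW : ((yon S).map (M₂) ≫ px.toHom) ≫ f = ((yon S).map (M₁ ≫ A₁ ≫ ι) ≫ a) ≫ g := by
    rw [Category.assoc, Category.assoc, hw, ← hc, ← Category.assoc, ← Functor.map_comp, ← hM, Functor.map_comp,
      Functor.map_comp, Category.assoc, Category.assoc, ← sqV.w, ← Category.assoc ((yon S).map A₂),
      ← Functor.map_comp, ← hA]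
    simp [h', Functor.map_comp]
  let μ : (yon S).obj M ⟶ W := hW.lift _ _ hMW
  -- the points of `M` over `u` form a finite set
  have hfinM : ∀ m₀ : ↥A.left, (pullback.fst θ c.left ⁻¹' {m₀}).Finite := by
    intro m₀
    obtain ⟨B, hB, hmB, -⟩ := exists_isAffineOpen_mem_and_subset (U := (⊤ : A.left.Opens)) (x := m₀) trivial
    have : IsAffine r.pt.left := inferInstanceAs (IsAffine (Spec (CommRingCat.of r.K)))
    have : IsAffine px.pt.left := inferInstanceAs (IsAffine (Spec (CommRingCat.of px.K)))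
    have : IsAffineHom c.left := isAffineHom_of_isAffine c.left
    have : IsAffineHom (pullback.fst θ c.left) := MorphismProperty.pullback_fst (P := @IsAffineHom) _ _ this
    have hcpt : IsCompact ((pullback.fst θ c.left ⁻¹ᵁ B : (pullback θ c.left).Opens) : Set ↥(pullback θ c.left)) :=
      (hB.preimage (pullback.fst θ c.left)).isCompact
    have : DiscreteTopology ↥(pullback θ c.left) := by
      have h1 := (pullback.snd θ c.left).isDiscrete_preimage_singleton (IsLocalRing.closedPoint px.K)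
      rw [show pullback.snd θ c.left ⁻¹' {IsLocalRing.closedPoint px.K} = Set.univ from
        Set.eq_univ_of_forall fun x => Subsingleton.elim (α := PrimeSpectrum px.K) _ _] at h1
      exact isDiscrete_univ_iff.1 h1
    refine hcpt.finite_of_discrete.subset ?_
    intro m hm
    change pullback.fst θ c.left m ∈ B
    rw [Set.mem_preimage, Set.mem_singleton_iff] at hm
    exact hm ▸ hmB
  have : Mono ((yon S).map v₁) := PullbackCone.mono_fst_of_is_pullback_of_mono sqV.isLimit
  have : Mono v₁ := (yon S).mono_of_mono_map this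
  have : Mono v₁.left := inferInstanceAs (Mono ((Over.forget S).map v₁))
  have : Mono A₁.left := inferInstanceAs (Mono (pullback.fst h'.left v₁.left))
  have hfinA : {m : ↥A.left | (A₁ ≫ ι).left m = u}.Finite := by
    refine Set.Subsingleton.finite fun m hm m' hm' => A₁.left.injective (O.ι.injective ?_)
    exact (hm : O.ι (A₁.left m) = u).trans (hm' : O.ι (A₁.left m') = u).symm
  have hfin : {m : ↥M.left | (M₁ ≫ A₁ ≫ ι).left m = u}.Finite := by
    refine (hfinA.biUnion fun m₀ _ => hfinM m₀).subset fun m hm => ?_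
    exact Set.mem_biUnion (x := M₁.left m) (hm : (A₁ ≫ ι).left (M₁.left m) = u) rfl
  refine (hfin.image (Points.ofPt μ)).subset ?_
  rintro w ⟨hwp, hwq⟩
  -- lift `w` over `u`
  obtain ⟨w', hw'₁, hw'₂⟩ := exists_point_of_isPullback (IsPullback.of_hasPullback q ((yon S).map ι ≫ a))
    (x := w) (y := Points.ofScheme U' ⟨u, huO⟩) (by
      rw [← Points.ofPt_eq_map_ofScheme, ofPt_comp, hwq]; exact hu.symm)
  let P := pullback q ((yon S).map ι ≫ a)
  let π : P ⟶ X := pullback.fst q _ ≫ p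
  obtain ⟨w'', hw''₁, hw''₂⟩ := exists_point_of_isPullback (IsPullback.of_hasPullback π px.toHom)
    (x := w') (y := Points.ofScheme px.pt (IsLocalRing.closedPoint px.K)) (by
      rw [← Points.ofPt_eq_map_ofScheme, Points.ofPt_toHom, Points.map_comp, hw'₁, hwp])
  induction w'' using Points.ind with
  | h pw =>
  let T : Over S := pw.pt
  obtain ⟨α, hα⟩ := (yon S).map_surjective (pw.toHom ≫ pullback.fst π px.toHom ≫ pullback.snd q _ :
    (yon S).obj T ⟶ (yon S).obj U')
  obtain ⟨β, hβ⟩ := (yon S).map_surjective (pw.toHom ≫ pullback.snd π px.toHom :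
    (yon S).obj T ⟶ (yon S).obj px.pt)
  have hαβ : ((yon S).map (α ≫ h') : (yon S).obj T ⟶ _) ≫ b = (yon S).map (β ≫ c) ≫ r.toHom := by
    have h1 : (yon S).map α ≫ (yon S).map ι ≫ a ≫ g = (yon S).map β ≫ px.toHom ≫ f := by
      rw [hα, hβ]
      simp only [Category.assoc]
      have e1 : pullback.fst q ((yon S).map ι ≫ a) ≫ q ≫ g =
          pullback.snd q ((yon S).map ι ≫ a) ≫ (yon S).map ι ≫ a ≫ g := by
        rw [pullback.condition_assoc, Category.assoc]
      rw [← pullback.condition_assoc, ← e1]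
      simp only [π, Category.assoc, hW.w]
    rw [← hc] at h1
    simp only [h', Functor.map_comp, Category.assoc]
    rw [hw] at h1
    simpa only [Category.assoc] using h1
  obtain ⟨δ, hδ⟩ := (yon S).map_surjective (sqV.lift _ _ hαβ)
  have hδ₁ : δ ≫ v₁ = α ≫ h' := (yon S).map_injective (by rw [Functor.map_comp, hδ, sqV.lift_fst])
  have hδ₂ : δ ≫ v₂ = β ≫ c := (yon S).map_injective (by rw [Functor.map_comp, hδ, sqV.lift_snd])
  let η : T ⟶ A := CategoryTheory.Over.homMk (pullback.lift α.left δ.left (congrArg CommaMorphism.left hδ₁).symm) (by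
    change pullback.lift _ _ _ ≫ pullback.fst _ _ ≫ U'.hom = _
    rw [pullback.lift_fst_assoc, Over.w α])
  have hη₁ : η ≫ A₁ = α := Over.OverMorphism.ext (pullback.lift_fst _ _ _)
  have hη₂ : η ≫ A₂ = δ := Over.OverMorphism.ext (pullback.lift_snd _ _ _)
  have hηθ : η.left ≫ θ = β.left ≫ c.left := by
    have := congrArg CommaMorphism.left (show η ≫ A₂ ≫ v₂ = β ≫ c by rw [← Category.assoc, hη₂, hδ₂])
    exact this
  let ε : T ⟶ M := CategoryTheory.Over.homMk (pullback.lift η.left β.left hηθ) (by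
    change pullback.lift _ _ _ ≫ pullback.fst _ _ ≫ A.hom = _
    rw [pullback.lift_fst_assoc, Over.w η])
  have hε₁ : ε ≫ M₁ = η := Over.OverMorphism.ext (pullback.lift_fst _ _ _)
  have hε₂ : ε ≫ M₂ = β := Over.OverMorphism.ext (pullback.lift_snd _ _ _)
  have hεμ : (yon S).map ε ≫ μ = pw.toHom ≫ pullback.fst π px.toHom ≫ pullback.fst q _ := by
    apply hW.hom_ext
    · simp only [Category.assoc, μ, hW.lift_fst]
      rw [← Category.assoc, ← Functor.map_comp, hε₂, hβ, Category.assoc, ← pullback.condition]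
    · simp only [Category.assoc, μ, hW.lift_snd]
      rw [← Category.assoc, ← Functor.map_comp, ← Category.assoc ε, hε₁, ← Category.assoc η, hη₁,
        Functor.map_comp, hα, pullback.condition (f := q)]
      simp only [Category.assoc]
  let t := IsLocalRing.closedPoint pw.K
  refine ⟨ε.left t, ?_, ?_⟩
  · change (M₁ ≫ A₁ ≫ ι).left (ε.left t) = u
    rw [← Scheme.Hom.comp_apply, ← Over.comp_left, ← Category.assoc, hε₁, ← Category.assoc, hη₁]
    have h2 : Points.ofPt ((yon S).map α) t = Points.ofScheme U' ⟨u, huO⟩ := by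
      rw [hα, ← Points.map_ofPt, Points.ofPt_toHom, Points.map_comp, hw''₁, hw'₂]
    have h3 := congrArg (Points.toScheme U') h2
    rw [Points.toScheme_ofPt, Points.toScheme_ofScheme] at h3
    change O.ι (α.left t) = u
    rw [h3]
    rfl
  · rw [← ofPt_comp, hεμ, ← Points.map_ofPt, Points.ofPt_toHom, Points.map_comp, hw''₁, hw'₁]

/-- A lift of a monomorphic point gives an elementary neighbourhood. -/
theorem isElem_of_lift (hX : IsAlgSpace X) {x : Points X} {U₁ : Over S} {a₁ : (yon S).obj U₁ ⟶ X} {u₁ : ↥U₁.left}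
    (h₁ : IsElemEtaleNbhd a₁ u₁ x) {P : Over S} (h : P ⟶ U₁) (he : RepWith @Etale ((yon S).map h ≫ a₁))
    (l : (FieldPt.ofPt a₁ u₁).pt ⟶ P)
    (hl : l ≫ h = Over.homMk (U₁.left.fromSpecResidueField u₁) rfl) :
    IsElemEtaleNbhd ((yon S).map h ≫ a₁) (l.left (IsLocalRing.closedPoint (FieldPt.ofPt a₁ u₁).K)) x ∧
      h.left (l.left (IsLocalRing.closedPoint (FieldPt.ofPt a₁ u₁).K)) = u₁ := by
  let q := FieldPt.ofPt a₁ u₁
  let v := l.left (IsLocalRing.closedPoint q.K)
  have hv : h.left v = u₁ := by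
    change h.left (l.left _) = _
    rw [← Scheme.Hom.comp_apply, ← Over.comp_left, hl]
    exact Scheme.fromSpecResidueField_apply u₁ _
  have hvx : Points.ofPt ((yon S).map h ≫ a₁) v = x := by rw [ofPt_comp, hv, h₁.ofPt_eq]
  refine ⟨⟨he, hvx, ?_⟩, hv⟩
  let r := FieldPt.ofPt ((yon S).map h ≫ a₁) v
  have hq : Mono q.toHom := h₁.mono
  obtain ⟨c, hc, huq⟩ := existsUnique_factor q.toHom (representable_from_yon' hX _) r.toHom (by
    rw [← mk_eq_ofPt, ← mk_eq_ofPt]
    exact h₁.ofPt_eq.trans hvx.symm)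
  have : IsReduced q.pt.left := inferInstanceAs (IsReduced (Spec (CommRingCat.of q.K)))
  obtain ⟨σ₀, hσ₀⟩ := exists_factor_residueField (T := q.pt.left) l.left v fun t => by
    rw [Subsingleton.elim t (IsLocalRing.closedPoint q.K)]
  let σ : q.pt ⟶ r.pt := CategoryTheory.Over.homMk σ₀ (by
    change σ₀ ≫ P.left.fromSpecResidueField v ≫ P.hom = _
    rw [reassoc_of% hσ₀, Over.w l])
  have hσ : σ ≫ (Over.homMk (P.left.fromSpecResidueField v) rfl : r.pt ⟶ P) = l := Over.OverMorphism.ext hσ₀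
  have hσr : (yon S).map σ ≫ r.toHom = q.toHom := by
    rw [FieldPt.toHom_ofPt, ← Category.assoc, ← Functor.map_comp, hσ, ← Category.assoc, ← Functor.map_comp, hl]
    exact (FieldPt.toHom_ofPt a₁ u₁).symm
  have hσc : σ ≫ c = 𝟙 _ := by
    apply (yon S).map_injective
    refine (cancel_mono q.toHom).1 ?_
    rw [Functor.map_comp, Category.assoc, hc, hσr, CategoryTheory.Functor.map_id, Category.id_comp]
  have hσc' : σ.left ≫ c.left = 𝟙 _ := congrArg CommaMorphism.left hσc
  have : IsSplitMono σ.left := ⟨⟨⟨c.left, hσc'⟩⟩⟩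
  have : IsIso σ.left := isIso_of_mono_to_field (K := r.K) σ.left
  have : IsIso ((Over.forget S).map σ) := this
  have : IsIso σ := isIso_of_reflects_iso σ (Over.forget S)
  change Mono r.toHom
  rw [show r.toHom = inv ((yon S).map σ) ≫ q.toHom from (IsIso.eq_inv_comp _).2 hσr]
  exact mono_comp _ _

theorem exists_elem_dominate (hX : IsAlgSpace X) {x : Points X} {U₁ U₂ : Over S} {a₁ : (yon S).obj U₁ ⟶ X}
    {a₂ : (yon S).obj U₂ ⟶ X} {u₁ : ↥U₁.left} {u₂ : ↥U₂.left} (h₁ : IsElemEtaleNbhd a₁ u₁ x)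
    (h₂ : IsElemEtaleNbhd a₂ u₂ x) :
    ∃ (U : Over S) (a : (yon S).obj U ⟶ X) (v : ↥U.left) (k₁ : U ⟶ U₁) (k₂ : U ⟶ U₂),
      IsElemEtaleNbhd a v x ∧ (yon S).map k₁ ≫ a₁ = a ∧ (yon S).map k₂ ≫ a₂ = a ∧
        k₁.left v = u₁ ∧ k₂.left v = u₂ := by
  let q := FieldPt.ofPt a₁ u₁
  let q' := FieldPt.ofPt a₂ u₂
  have : Mono q'.toHom := h₂.mono
  obtain ⟨c, hc, -⟩ := existsUnique_factor q'.toHom (representable_from_yon' hX _) q.toHom (by
    rw [← mk_eq_ofPt, ← mk_eq_ofPt]
    exact h₂.ofPt_eq.trans h₁.ofPt_eq.symm)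
  let P := h₁.etale.rep.pullback a₂
  let p₁ : P ⟶ U₁ := h₁.etale.rep.fst' a₂
  let p₂ : P ⟶ U₂ := h₁.etale.rep.snd a₂
  have sq : IsPullback ((yon S).map p₁) ((yon S).map p₂) a₁ a₂ := h₁.etale.rep.isPullback' a₂
  let ι₁ : q.pt ⟶ U₁ := Over.homMk (U₁.left.fromSpecResidueField u₁) rfl
  let ι₂ : q'.pt ⟶ U₂ := Over.homMk (U₂.left.fromSpecResidueField u₂) rfl
  obtain ⟨l, hl⟩ := (yon S).map_surjective (sq.lift ((yon S).map ι₁) ((yon S).map (c ≫ ι₂)) (by
    rw [Functor.map_comp, Category.assoc, ← FieldPt.toHom_ofPt, ← FieldPt.toHom_ofPt]; exact hc.symm))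
  have hl₁ : l ≫ p₁ = ι₁ := (yon S).map_injective (by rw [Functor.map_comp, hl, sq.lift_fst])
  have hl₂ : l ≫ p₂ = c ≫ ι₂ := (yon S).map_injective (by rw [Functor.map_comp, hl, sq.lift_snd])
  have he : RepWith @Etale ((yon S).map p₁ ≫ a₁) := by
    rw [sq.w]
    exact repWith_comp ((repWith_yon_map_iff _ p₂).2 (h₁.etale.property_snd a₂)) h₂.etale
  obtain ⟨hel, hv⟩ := isElem_of_lift hX h₁ p₁ he l hl₁
  refine ⟨P, _, _, p₁, p₂, hel, rfl, sq.w.symm, hv, ?_⟩
  rw [← Scheme.Hom.comp_apply, ← Over.comp_left, hl₂]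
  exact Scheme.fromSpecResidueField_apply u₂ _

theorem exists_elem_equalize (hX : IsAlgSpace X) {x : Points X} {U₁ U₂ : Over S} {a₁ : (yon S).obj U₁ ⟶ X}
    {a₂ : (yon S).obj U₂ ⟶ X} {u₁ : ↥U₁.left} {u₂ : ↥U₂.left} (b c : U₁ ⟶ U₂)
    (h₁ : IsElemEtaleNbhd a₁ u₁ x) (h₂ : IsElemEtaleNbhd a₂ u₂ x) (hb : (yon S).map b ≫ a₂ = a₁)
    (hc : (yon S).map c ≫ a₂ = a₁) (hbu : b.left u₁ = u₂) (hcu : c.left u₁ = u₂) :
    ∃ (U : Over S) (a : (yon S).obj U ⟶ X) (v : ↥U.left) (h : U ⟶ U₁),
      IsElemEtaleNbhd a v x ∧ (yon S).map h ≫ a₁ = a ∧ h.left v = u₁ ∧ h ≫ b = h ≫ c := by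
  let R := h₂.etale.rep.pullback a₂
  let t : R ⟶ U₂ := h₂.etale.rep.fst' a₂
  let s : R ⟶ U₂ := h₂.etale.rep.snd a₂
  have sq : IsPullback ((yon S).map t) ((yon S).map s) a₂ a₂ := h₂.etale.rep.isPullback' a₂
  have : Etale s.left := h₂.etale.property_snd a₂
  obtain ⟨δ, hδ⟩ := (yon S).map_surjective (sq.lift (𝟙 _) (𝟙 _) rfl)
  have hδt : δ ≫ t = 𝟙 _ := (yon S).map_injective (by rw [Functor.map_comp, hδ, sq.lift_fst]; simp)
  have hδs : δ ≫ s = 𝟙 _ := (yon S).map_injective (by rw [Functor.map_comp, hδ, sq.lift_snd]; simp)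
  have hδs' : δ.left ≫ s.left = 𝟙 _ := congrArg CommaMorphism.left hδs
  have : IsSplitMono δ.left := ⟨⟨⟨s.left, hδs'⟩⟩⟩
  have : Etale (δ.left ≫ s.left) := by rw [hδs']; infer_instance
  have : Etale δ.left := Etale.of_comp δ.left s.left
  have : IsOpenImmersion δ.left := IsOpenImmersion.of_flat_of_mono δ.left
  obtain ⟨m, hm⟩ := (yon S).map_surjective (sq.lift ((yon S).map b) ((yon S).map c) (hb.trans hc.symm))
  have hmt : m ≫ t = b := (yon S).map_injective (by rw [Functor.map_comp, hm, sq.lift_fst])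
  have hms : m ≫ s = c := (yon S).map_injective (by rw [Functor.map_comp, hm, sq.lift_snd])
  let O : U₁.left.Opens := m.left ⁻¹ᵁ δ.left.opensRange
  let U : Over S := Over.mk (O.ι ≫ U₁.hom)
  let h : U ⟶ U₁ := Over.homMk O.ι rfl
  have hbc : h ≫ b = h ≫ c := by
    obtain ⟨n, hn⟩ : ∃ n : O.toScheme ⟶ U₂.left, n ≫ δ.left = O.ι ≫ m.left :=
      ⟨IsOpenImmersion.lift δ.left (O.ι ≫ m.left) (by
        rintro _ ⟨o, rfl⟩
        exact o.2), IsOpenImmersion.lift_fac _ _ _⟩
    apply Over.OverMorphism.ext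
    change O.ι ≫ b.left = O.ι ≫ c.left
    rw [← hmt, ← hms, Over.comp_left, Over.comp_left, ← Category.assoc, ← Category.assoc, ← hn, Category.assoc,
      Category.assoc, ← Over.comp_left, ← Over.comp_left, hδt, hδs]
  let q := FieldPt.ofPt a₁ u₁
  let q' := FieldPt.ofPt a₂ u₂
  have : Mono q'.toHom := h₂.mono
  let ι₁ : q.pt ⟶ U₁ := Over.homMk (U₁.left.fromSpecResidueField u₁) rfl
  let ι₂ : q'.pt ⟶ U₂ := Over.homMk (U₂.left.fromSpecResidueField u₂) rfl
  have : IsReduced q.pt.left := inferInstanceAs (IsReduced (Spec (CommRingCat.of q.K)))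
  have key : ∀ d : U₁ ⟶ U₂, d.left u₁ = u₂ → ∃ d' : q.pt ⟶ q'.pt, d' ≫ ι₂ = ι₁ ≫ d := by
    intro d hd
    obtain ⟨l, hl⟩ := exists_factor_residueField (T := q.pt.left) (ι₁.left ≫ d.left) u₂ fun z => by
      rw [Scheme.Hom.comp_apply]
      exact (congrArg _ (Scheme.fromSpecResidueField_apply u₁ z)).trans hd
    refine ⟨CategoryTheory.Over.homMk l ?_, Over.OverMorphism.ext hl⟩
    change l ≫ U₂.left.fromSpecResidueField u₂ ≫ U₂.hom = _
    rw [reassoc_of% hl, Over.w d, Over.w ι₁]
  obtain ⟨b', hb'⟩ := key b hbu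
  obtain ⟨c', hc'⟩ := key c hcu
  have hbc' : b' = c' := by
    apply (yon S).map_injective
    refine (cancel_mono q'.toHom).1 ?_
    rw [FieldPt.toHom_ofPt, ← Category.assoc, ← Category.assoc, ← Functor.map_comp, ← Functor.map_comp, hb', hc',
      Functor.map_comp, Functor.map_comp, Category.assoc, Category.assoc, hb, hc]
  have hιm : ι₁ ≫ m = ι₁ ≫ b ≫ δ := by
    apply (yon S).map_injective
    apply sq.hom_ext
    · rw [← Functor.map_comp, ← Functor.map_comp, Category.assoc, Category.assoc, Category.assoc, hmt, hδt,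
        Category.comp_id]
    · rw [← Functor.map_comp, ← Functor.map_comp, Category.assoc, Category.assoc, Category.assoc, hms, hδs,
        Category.comp_id, ← hb', ← hc', hbc']
  have hrange : Set.range ι₁.left ⊆ Set.range O.ι := by
    rw [Scheme.Opens.range_ι]
    rintro _ ⟨z, rfl⟩
    refine ⟨(ι₁ ≫ b).left z, ?_⟩
    change δ.left ((ι₁ ≫ b).left z) = m.left (ι₁.left z)
    rw [← Scheme.Hom.comp_apply, ← Scheme.Hom.comp_apply, ← Over.comp_left, ← Over.comp_left, hιm, Category.assoc]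
  let l : q.pt ⟶ U := CategoryTheory.Over.homMk (IsOpenImmersion.lift O.ι ι₁.left hrange) (by
    change IsOpenImmersion.lift _ _ _ ≫ O.ι ≫ U₁.hom = _
    rw [IsOpenImmersion.lift_fac_assoc, Over.w ι₁])
  obtain ⟨hel, hv⟩ := isElem_of_lift hX h₁ h
    (repWith_comp ((repWith_yon_map_iff _ h).2 (inferInstanceAs (Etale O.ι))) h₁.etale) l
    (Over.OverMorphism.ext (IsOpenImmersion.lift_fac _ _ _))
  exact ⟨U, _, _, h, hel, rfl, hv, hbc⟩

theorem exists_chart_of_qc_kernelPair (hX : IsAlgSpace X) {U : Over S} {φ : (yon S).obj U ⟶ X}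
    (hφ : RepWith @Etale φ)
    (hqc : ∀ (R : Over S) (s t : R ⟶ U), IsPullback ((yon S).map t) ((yon S).map s) φ φ → QuasiCompact s.left) :
    ∃ (X' : Sp S) (j : X' ⟶ X) (a : (yon S).obj U ⟶ X'), IsAlgSpace X' ∧ RepWith @IsOpenImmersion j ∧
      a ≫ j = φ ∧ Set.range (Points.map j) = Set.range (Points.ofPt φ) ∧
      RepWith @Etale a ∧ RepWith @Surjective a ∧ RepWith @QuasiCompact a := by
  have hW : IsOpen (Set.range (Points.ofPt φ)) := by
    rw [← Set.image_univ]; exact isOpenMap_ofPt hφ _ isOpen_univ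
  obtain ⟨X', j, hX', hj, hr⟩ := exists_open_subspace hX hW
  have hjm : Mono j := mono_of_repWith (repWith_mono (fun _ _ g hg => by
    have : IsOpenImmersion g := hg
    exact (inferInstance : Mono g)) _ hj)
  let P := hj.rep.pullback φ
  let fst : (yon S).obj P ⟶ X' := hj.rep.fst φ
  let snd : P ⟶ U := hj.rep.snd φ
  have sqP : IsPullback fst ((yon S).map snd) j φ := hj.rep.isPullback φ
  have : IsOpenImmersion snd.left := hj.property_snd φ
  have : Surjective snd.left := ⟨fun v => by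
    obtain ⟨x', hx'⟩ : Points.ofPt φ v ∈ Set.range (Points.map j) := hr ▸ ⟨v, rfl⟩
    obtain ⟨w, -, hw⟩ := exists_point_of_isPullback sqP (x := x') (y := Points.ofScheme U v) (by
      rw [hx', Points.ofPt_eq_map_ofScheme])
    obtain ⟨T, g, w, -, rfl⟩ := exists_ofPt_eq w
    obtain ⟨g', rfl⟩ := (yon S).map_surjective g
    refine ⟨g'.left w, ?_⟩
    have := congrArg (Points.toScheme U) hw
    rw [Points.map_ofPt, ← Functor.map_comp, Points.toScheme_ofPt, Points.toScheme_ofScheme, Over.comp_left,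
      Scheme.Hom.comp_apply] at this
    exact this⟩
  have : IsIso snd.left := (isIso_iff_isOpenImmersion_and_surjective _).2 ⟨inferInstance, inferInstance⟩
  have : IsIso ((Over.forget S).map snd) := this
  have : IsIso snd := isIso_of_reflects_iso snd (Over.forget S)
  let a : (yon S).obj U ⟶ X' := inv ((yon S).map snd) ≫ fst
  have haj : a ≫ j = φ := by simp only [a, Category.assoc, sqP.w, IsIso.inv_hom_id_assoc]
  have sqa : IsPullback (𝟙 ((yon S).obj U)) a φ j := by
    refine ⟨⟨by rw [Category.id_comp, haj]⟩, ⟨PullbackCone.IsLimit.mk _ (fun c => c.fst)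
      (fun c => Category.comp_id _) (fun c => ?_) fun c m h₁ _ => (Category.comp_id m).symm.trans h₁⟩⟩
    rw [← cancel_mono j, Category.assoc, haj]
    exact c.condition
  have hae : RepWith @Etale a := repWith_of_isPullback sqa hφ
  have has : RepWith @Surjective a := repWith_surjective_of_surjective hae.rep fun x' => by
    obtain ⟨v, hv⟩ : Points.map j x' ∈ Set.range (Points.ofPt φ) := hr ▸ ⟨x', rfl⟩
    have hinj : ∀ y : Points X', Points.map j y = Points.map j x' → y = x' :=
      fun y hy => injective_points_map_of_mono j hy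
    refine ⟨Points.ofScheme U v, hinj _ ?_⟩
    rw [← Points.map_comp, haj, ← Points.ofPt_eq_map_ofScheme, hv]
  refine ⟨X', j, a, hX', hj, haj, hr, hae, has, ?_⟩
  have sq := hae.rep.isPullback' a
  have sqφ : IsPullback ((yon S).map (hae.rep.fst' a)) ((yon S).map (hae.rep.snd a)) φ φ := by
    rw [← haj]
    exact IsPullback.of_isLimit' ⟨by rw [reassoc_of% sq.w]⟩ (PullbackCone.isLimitOfCompMono a a j _ sq.isLimit)
  have := isLocallySurjective_of_etale_surjective hae has
  have := isLocalAtTarget_fppf (@QuasiCompact : MorphismProperty Scheme.{u})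
  exact repWith_of_locallySurjective hae.rep a sq _ ((repWith_yon_map_iff _ _).2 (hqc _ _ _ sqφ))

end Groth.Agent.AlgSpDec
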