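import Groth.Agent.AlgSpDec.FiniteCrit
import Groth.Agent.AlgSpDec.FieldFibre
import Groth.Agent.AlgSpDec.WhereLocus
import Groth.Agent.AlgSpDec.ClosedImmCrit
import Groth.Agent.MorLib.ElemEtaleSplit
import Groth.Agent.S10389

/-!
# Splitting off finitely many quasi-finite points after an etale base change
-/

set_option autoImplicit false
set_option backward.isDefEq.respectTransparency false
set_option backward.isDefEq.respectTransparency.types false

universe u

open CategoryTheory CategoryTheory.Limits AlgebraicGeometry AlgSp Groth.Agent.AlgSpLib Groth.Agent.AlgSpPts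

namespace Groth.Agent.AlgSpDec.SplitQf

variable {S : Scheme.{u}}

abbrev QfAt {F G : Sp S} (f : F ⟶ G) (x : Points F) : Prop :=
  PointLocus.At (fun {_ _} h u => FlatMor.fibreDimAt h u = 0) f x

theorem map_yon_eq_ofPt {Y : Sp S} {W : Over S} (b : (yon S).obj W ⟶ Y) (w : ↥W.left) :
    Points.map b (Points.schemeHomeo W w) = Points.ofPt b w := by
  change Points.map b (Points.ofPt (𝟙 _) w) = _
  rw [Points.map_ofPt, Category.id_comp]

/-- Only finitely many quasi-finite points of the base change lie over a point of an affine chart and over a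
given finite set of points. -/
theorem finite_points {X Y : Space S} (f : X ⟶ Y) (hl : LocP @LocallyOfFiniteType f.hom) {W : Over S}
    [IsAffine W.left] (b : (yon S).obj W ⟶ Y.obj) (hb : RepWith @Etale b) (w : ↥W.left)
    (h4 : IsQuasiCompactMor f.hom ∨ IsDecent Y.obj) {PW : Sp S} {p : PW ⟶ X.obj} {q : PW ⟶ (yon S).obj W}
    (sq : IsPullback p q f.hom b) (xs : Finset (Points X.obj))
    (hxs : ∀ x ∈ xs, Points.map f.hom x = Points.ofPt b w) (hqf : ∀ x ∈ xs, QfAt f.hom x) :
    {z : Points PW | Points.map q z = Points.schemeHomeo W w ∧ Points.map p z ∈ xs}.Finite := by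
  have hP := isAlgSpace_of_isPullback sq X.property (IsAlgSpace.yon_obj W) Y.property
  have hlq := locP_of_isPullback sq X.property Y.property (IsAlgSpace.yon_obj W) hl
  rcases h4 with hqc | hdec
  · obtain ⟨U, a, ha, ha', hU⟩ := hqc (IsAlgSpace.yon_obj W) (AlgSpLib.isQuasiCompactSp_yon W) b p q sq
    obtain ⟨k, hk⟩ := (yon S).map_surjective (a ≫ q)
    haveI : LocallyOfFiniteType k.left := hlq a (𝟙 _) k ha (repWith_id _ _) (by rw [Category.comp_id, hk])
    haveI : CompactSpace ↥U.left := hU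
    haveI : QuasiCompact k.left := HasAffineProperty.iff_of_isAffine.2 ‹CompactSpace ↥U.left›
    refine ((FieldFibre.finite_qf_points k.left w).image (Points.ofPt a)).subset ?_
    rintro z ⟨hz1, hz2⟩
    obtain ⟨t, rfl⟩ := surjective_ofPt ha' z
    refine ⟨t, ⟨(Points.schemeHomeo W).injective ?_, ?_⟩, rfl⟩
    · rw [← hz1, Points.map_ofPt, ← hk]
      show Points.schemeHomeo W (k.left t) = Points.ofPt ((yon S).map k) t
      rw [← Category.comp_id ((yon S).map k), ofPt_comp]
      rfl
    · exact (PointLocus.at_iff_chart PointLocus.ptProp_lqf hlq ha (repWith_id _ _)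
        (by rw [Category.comp_id, hk]) t).1
        ((PointLocus.at_baseChange_iff PointLocus.ptProp_lqf sq X.property Y.property (IsAlgSpace.yon_obj W) hl _).2
          (hqf _ hz2))
  · have hbl : LocP @LocallyOfFiniteType b := locP_of_repWith (repWith_mono (P := @Etale)
      (Q := @LocallyOfFiniteType) (fun _ _ e (_ : Etale e) => inferInstanceAs (LocallyOfFiniteType e)) _ hb)
    have hqb : ∀ x : Points X.obj, Points.map f.hom x = Points.ofPt b w →
        {z : Points PW | Points.map p z = x ∧ Points.map q z = Points.schemeHomeo W w}.Finite := by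
      intro x hx
      obtain ⟨r, hr, hm, -⟩ := hdec (Points.ofPt b w)
      refine Groth.Agent.S10389.result (X := X) (Y := Y) (Z := (ofScheme S).obj W) (W := ⟨PW, hP⟩) f
        ((ObjectProperty.homMk b : (ofScheme S).obj W ⟶ Y)) ⟨p⟩ ⟨q⟩ sq x (Points.schemeHomeo W w)
        (by rw [hx]; exact (map_yon_eq_ofPt b w).symm) ⟨r, by rw [hr]; exact (map_yon_eq_ofPt b w).symm, hm⟩ ?_
      refine (hasAtMor_qf_iff hbl _).2 ⟨W, W, 𝟙 _, b, 𝟙 _, w, repWith_id _ _, hb, by simp, rfl, ?_⟩
      exact fibreDimAt_eq_zero_of_lqf (𝟙 W.left) w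
    refine ((xs.finite_toSet.biUnion fun x hx => hqb x (hxs x hx))).subset ?_
    rintro z ⟨hz1, hz2⟩
    exact Set.mem_biUnion hz2 ⟨rfl, hz1⟩

/-- An open subscheme of finitely many finite pieces is finite. -/
theorem isFinite_iSup {A U : Scheme.{u}} (q : A ⟶ U) [LocallyOfFiniteType q] [IsSeparated q] {ι : Type}
    [Finite ι] (V : ι → A.Opens) (h : ∀ i, IsFinite ((V i).ι ≫ q)) :
    IsFinite ((⨆ i, V i).ι ≫ q) := by
  let W : A.Opens := ⨆ i, V i
  haveI : LocallyQuasiFinite (W.ι ≫ q) := by
    rw [← Scheme.Hom.quasiFiniteLocus_eq_top_iff, Scheme.Hom.quasiFiniteLocus_comp, eq_top_iff]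
    rintro ⟨t, ht⟩ -
    obtain ⟨i, hi⟩ := TopologicalSpace.Opens.mem_iSup.mp ht
    haveI := h i
    exact MorLib.WT.quasiFiniteAt_of_mem _ (V i) hi
  haveI : UniversallyClosed (W.ι ≫ q) := by
    refine MorLib.WT.universallyClosed_of_cover _ (fun i => W.ι ⁻¹ᵁ V i)
      (fun t => by
        obtain ⟨i, hi⟩ := TopologicalSpace.Opens.mem_iSup.mp
          (show (t.1 : ↥A) ∈ ⨆ i, V i from t.2)
        exact ⟨i, hi⟩) fun i => ?_
    haveI := h i
    have hle : V i ≤ W := le_iSup V i
    haveI : IsIso (W.ι ∣_ V i) := by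
      haveI : Surjective (W.ι ∣_ V i) := ⟨fun t => ⟨⟨⟨t.1, hle t.2⟩, t.2⟩, Subtype.ext (by
        show (V i).ι ((W.ι ∣_ V i) _) = t.1
        rw [← Scheme.Hom.comp_apply, morphismRestrict_ι]; rfl)⟩⟩
      exact (isIso_iff_isOpenImmersion_and_surjective _).mpr ⟨inferInstance, inferInstance⟩
    rw [← Category.assoc, ← morphismRestrict_ι, Category.assoc]
    infer_instance
  haveI : IsProper (W.ι ≫ q) := ⟨⟩
  exact IsFinite.of_isProper_of_locallyQuasiFinite _

/-- Splitting off finitely many quasi-finite points after an etale base change. -/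
theorem exists_split {X Y : Space S} (f : X ⟶ Y) (y : Points Y.obj) (xs : Finset (Points X.obj))
    (hxs : ∀ x ∈ xs, Points.map f.hom x = y) (hl : LocP @LocallyOfFiniteType f.hom)
    (hs : IsSeparatedMor f.hom) (hqf : ∀ x ∈ xs, QfAt f.hom x)
    (h4 : IsQuasiCompactMor f.hom ∨ IsDecent Y.obj) :
    ∃ (U : Space S) (a : U ⟶ Y) (u : Points U.obj), IsEtaleMor a.hom ∧ Points.map a.hom u = y ∧
      ∀ (P : Space S) (prX : P ⟶ X) (prU : P ⟶ U), IsPullback prX.hom prU.hom f.hom a.hom →
        ∃ (V : Space S) (jV : V ⟶ P), RepWith @IsOpenImmersion jV.hom ∧ RepWith @IsClosedImmersion jV.hom ∧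
          IsFiniteMor (jV ≫ prU).hom ∧
          (∀ v : Points V.obj, Points.map (jV ≫ prU).hom v = u → Points.map (jV ≫ prX).hom v ∈ xs) ∧
          ∀ z : Points P.obj, z ∉ Set.range (Points.map jV.hom) → Points.map prU.hom z = u →
            Points.map prX.hom z ∉ xs := by
  obtain ⟨W, b, w, hW, hb, rfl⟩ := exists_affine_chart_at Y.property y
  haveI := hW
  -- the quasi-finite locus of the base change is a separated scheme over the chart
  have sq₁ := IsPullback.of_hasPullback f.hom b
  have hPW := isAlgSpace_of_isPullback sq₁ X.property (IsAlgSpace.yon_obj W) Y.property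
  have hlq := locP_of_isPullback sq₁ X.property Y.property (IsAlgSpace.yon_obj W) hl
  obtain ⟨Q₀, j, hQ₀, hj, hjr⟩ :=
    exists_open_subspace hPW (PointLocus.isOpen_at PointLocus.ptProp_lqf hlq)
  have hjl : LocP @LocallyOfFiniteType j := locP_of_repWith (repWith_mono (P := @IsOpenImmersion)
    (Q := @LocallyOfFiniteType) (fun _ _ e (_ : IsOpenImmersion e) => inferInstanceAs (LocallyOfFiniteType e)) _ hj)
  have hlc : LocP @LocallyOfFiniteType (j ≫ pullback.snd f.hom b) := locP_comp hQ₀ hPW (IsAlgSpace.yon_obj W) hjl hlq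
  have hjmono : Mono j := mono_of_repWith (repWith_mono (P := @IsOpenImmersion)
    (Q := MorphismProperty.monomorphisms Scheme.{u}) (fun _ _ e (_ : IsOpenImmersion e) => inferInstanceAs (Mono e)) _ hj)
  have hjs : IsSeparatedMor (j ≫ pullback.snd f.hom b) :=
    isSeparatedMor_comp (isSeparatedMor_of_mono j) (isSeparatedMor_of_isPullback sq₁ hs)
  have hjq : LocP (@LocallyQuasiFinite ⊓ @LocallyOfFiniteType) (j ≫ pullback.snd f.hom b) := by
    intro A B a c m ha hc hm
    haveI : LocallyOfFiniteType m.left := hlc a c m ha hc hm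
    refine (PointLocus.lqf_iff_forall m.left).2 fun t => ?_
    refine (PointLocus.at_iff_chart PointLocus.ptProp_lqf hlq
      (repWith_comp ha (repWith_mono (P := @IsOpenImmersion) (Q := @Etale)
        (fun _ _ e (_ : IsOpenImmersion e) => inferInstanceAs (Etale e)) _ hj)) hc
      (by rw [Category.assoc]; exact hm) t).1 ?_
    have ht : Points.ofPt (a ≫ j) t ∈ Set.range (Points.map j) := ⟨Points.ofPt a t, Points.map_ofPt _ _ _⟩
    rw [hjr] at ht
    exact ht
  obtain ⟨Q, ⟨e⟩⟩ := exists_iso_of_lqf_separated hQ₀ (j ≫ pullback.snd f.hom b) hjq hjs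
  obtain ⟨q, hq⟩ := (yon S).map_surjective (e.hom ≫ j ≫ pullback.snd f.hom b)
  let ι₁ : (yon S).obj Q ⟶ pullback f.hom b := e.hom ≫ j
  have hι₁ : RepWith @IsOpenImmersion ι₁ := repWith_comp (repWith_of_isIso _ e.hom) hj
  have hιr : Set.range (Points.ofPt ι₁) = {z | QfAt (pullback.snd f.hom b) z} := by
    rw [← hjr]
    ext z
    constructor
    · rintro ⟨t, rfl⟩
      exact ⟨Points.ofPt e.hom t, Points.map_ofPt _ _ _⟩
    · rintro ⟨z₀, rfl⟩
      obtain ⟨t, ht⟩ := (Points.schemeHomeo Q).surjective (Points.map e.inv z₀)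
      refine ⟨t, ?_⟩
      rw [← map_yon_eq_ofPt, ht, ← Points.map_comp]
      show Points.map (e.inv ≫ e.hom ≫ j) z₀ = _
      rw [Iso.inv_hom_id_assoc]
  have hιinj : Function.Injective (Points.ofPt ι₁) := by
    haveI : Mono ι₁ := mono_comp _ _
    intro s t hst
    apply (Points.schemeHomeo Q).injective
    apply injective_points_map_of_mono ι₁
    rwa [map_yon_eq_ofPt, map_yon_eq_ofPt]
  haveI hql : LocallyOfFiniteType q.left := hlc e.hom (𝟙 _) q (repWith_of_isIso _ e.hom) (repWith_id _ _)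
    (by rw [Category.comp_id, hq])
  haveI : LocallyQuasiFinite q.left := (hjq e.hom (𝟙 _) q (repWith_of_isIso _ e.hom) (repWith_id _ _)
    (by rw [Category.comp_id, hq])).1
  haveI hqs : IsSeparated q.left := ⟨(repWith_diagonal_yon_map_iff _ q).1 (show IsSeparatedMor ((yon S).map q) by
    rw [hq]; exact isSeparatedMor_comp (isSeparatedMor_of_mono e.hom) hjs)⟩
  -- the finitely many points
  let Zs : Set ↥Q.left := {t | q.left t = w ∧ Points.map (pullback.fst f.hom b) (Points.ofPt ι₁ t) ∈ xs}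
  have hqpt : ∀ t, Points.map (pullback.snd f.hom b) (Points.ofPt ι₁ t) = Points.schemeHomeo W (q.left t) := by
    intro t
    rw [Points.map_ofPt, show ι₁ ≫ pullback.snd f.hom b = (yon S).map q ≫ 𝟙 _ by
      rw [Category.comp_id, hq, Category.assoc], ofPt_comp]
    rfl
  have hfinZ : Zs.Finite := by
    refine Set.Finite.of_finite_image ((finite_points f hl b hb w h4 sq₁ xs hxs hqf).subset ?_) hιinj.injOn
    rintro _ ⟨t, ⟨ht1, ht2⟩, rfl⟩
    exact ⟨by rw [hqpt, ht1], ht2⟩
  haveI := hfinZ.to_subtype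
  let n := Nat.card Zs
  let eZ : Fin n ≃ Zs := (Finite.equivFin Zs).symm
  obtain ⟨U₀, g, u₀, hu₀, V, v, hV⟩ := MorLib.EEF.exists_elem_nbhd_multi q.left w
    (fun i => (eZ i).1) (fun i => (eZ i).2.1) (fun i => Scheme.Hom.quasiFiniteAt _ _)
  haveI := hu₀.etale
  let U : Over S := Over.mk (g ≫ W.hom)
  let gU : U ⟶ W := CategoryTheory.Over.homMk g rfl
  let aU : (ofScheme S).obj U ⟶ Y := ObjectProperty.homMk ((yon S).map gU ≫ b)
  have haU : RepWith @Etale ((yon S).map gU ≫ b) :=
    repWith_comp ((repWith_yon_map_iff _ gU).2 hu₀.etale) hb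
  refine ⟨(ofScheme S).obj U, aU, Points.schemeHomeo U u₀, ?_, ?_, ?_⟩
  · intro T φ hφ
    exact repWith_comp hφ haU
  · show Points.map ((yon S).map gU ≫ b) (Points.schemeHomeo U u₀) = _
    rw [map_yon_eq_ofPt, ofPt_comp]
    exact congrArg _ hu₀.base_eq
  intro P prX prU sqP
  -- the base change of the scheme to `U`
  let V₀ : (pullback q.left g).Opens := ⨆ i, V i
  haveI : LocallyOfFiniteType (pullback.snd q.left g) := MorphismProperty.pullback_snd (P := @LocallyOfFiniteType) _ _ hql
  haveI : IsSeparated (pullback.snd q.left g) := MorphismProperty.pullback_snd (P := @IsSeparated) _ _ hqs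
  haveI hfinV : IsFinite (V₀.ι ≫ pullback.snd q.left g) := isFinite_iSup _ V fun i => (hV i).2.1
  let QU : Over S := Over.mk (pullback.snd q.left g ≫ U.hom)
  let pQ : QU ⟶ Q := CategoryTheory.Over.homMk (pullback.fst q.left g) (by
    show _ = pullback.snd q.left g ≫ g ≫ W.hom
    rw [← Over.w q, pullback.condition_assoc])
  let pU : QU ⟶ U := CategoryTheory.Over.homMk (pullback.snd q.left g) rfl
  have sqQ : IsPullback ((yon S).map pQ) ((yon S).map pU) ((yon S).map q) ((yon S).map gU) := by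
    refine IsPullback.map (yon S) (IsPullback.of_map (Over.forget S) (Over.OverMorphism.ext ?_) ?_)
    · exact pullback.condition
    · exact IsPullback.of_hasPullback q.left g
  -- `P` as a base change of `P_W`
  let π : P.obj ⟶ pullback f.hom b := pullback.lift prX.hom (prU.hom ≫ (yon S).map gU)
    (by rw [Category.assoc]; exact sqP.w)
  have sqπ : IsPullback π prU.hom (pullback.snd f.hom b) ((yon S).map gU) := by
    refine IsPullback.of_right ?_ (pullback.lift_snd _ _ _) sq₁
    rw [pullback.lift_fst]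
    exact sqP
  let ι₂ : (yon S).obj QU ⟶ P.obj := sqπ.lift ((yon S).map pQ ≫ ι₁) ((yon S).map pU) (by
    rw [Category.assoc, show ι₁ ≫ pullback.snd f.hom b = (yon S).map q by rw [hq, Category.assoc]]
    exact sqQ.w)
  have sqι : IsPullback ((yon S).map pQ) ι₂ ι₁ π := by
    refine IsPullback.of_bot ?_ (sqπ.lift_fst _ _ _).symm sqπ
    rw [sqπ.lift_snd, show ι₁ ≫ pullback.snd f.hom b = (yon S).map q by rw [hq, Category.assoc]]
    exact sqQ
  have hι₂ : RepWith @IsOpenImmersion ι₂ := repWith_of_isPullback sqι hι₁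
  let VU : Over S := Over.mk (V₀.ι ≫ QU.hom)
  let iV : VU ⟶ QU := CategoryTheory.Over.homMk V₀.ι rfl
  let jV : (ofScheme S).obj VU ⟶ P := ObjectProperty.homMk ((yon S).map iV ≫ ι₂)
  have hjVo : RepWith @IsOpenImmersion jV.hom :=
    repWith_comp ((repWith_yon_map_iff _ iV).2 (inferInstanceAs (IsOpenImmersion V₀.ι))) hι₂
  have hcomp : (jV ≫ prU).hom = (yon S).map (iV ≫ pU) := by
    show ((yon S).map iV ≫ ι₂) ≫ prU.hom = _
    rw [Category.assoc, sqπ.lift_snd, ← Functor.map_comp]
  have hfin : IsFiniteMor (jV ≫ prU).hom := by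
    rw [hcomp]
    exact isFiniteMor_iff_repWith.2 ((repWith_yon_map_iff _ _).2 hfinV)
  have hfstpt : ∀ t : ↥QU.left, Points.map prX.hom (Points.ofPt ι₂ t) =
      Points.map (pullback.fst f.hom b) (Points.ofPt ι₁ (pQ.left t)) := fun t => by
    rw [Points.map_ofPt, Points.map_ofPt, ← pullback.lift_fst prX.hom (prU.hom ≫ (yon S).map gU)
      (by rw [Category.assoc]; exact sqP.w), ← Category.assoc]
    show Points.ofPt ((ι₂ ≫ π) ≫ pullback.fst f.hom b) t = _
    rw [sqπ.lift_fst, Category.assoc, ofPt_comp]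
  have hsndpt : ∀ t : ↥QU.left, Points.map prU.hom (Points.ofPt ι₂ t) =
      Points.schemeHomeo U (pU.left t) := fun t => by
    rw [Points.map_ofPt, sqπ.lift_snd, ← Category.comp_id ((yon S).map pU), ofPt_comp]
    rfl
  refine ⟨(ofScheme S).obj VU, jV, hjVo, ?_, hfin, ?_, ?_⟩
  · have hcl : IsUnivClosedMor jV.hom :=
      Where.univClosed_of_comp_separated (IsAlgSpace.yon_obj VU) P.property (IsAlgSpace.yon_obj U)
        (proper_and_lqf_of_finite (IsAlgSpace.yon_obj U) hfin).1.2.2
        (isSeparatedMor_of_isPullback sqπ (isSeparatedMor_of_isPullback sq₁ hs))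
    refine (closedImmersion_iff_univClosed_mono jV).2 ⟨hcl, locP_of_repWith (repWith_mono (P := @IsOpenImmersion)
      (Q := @LocallyOfFiniteType) (fun _ _ e (_ : IsOpenImmersion e) => inferInstanceAs (LocallyOfFiniteType e)) _ hjVo), ?_⟩
    exact mono_of_repWith (repWith_mono (P := @IsOpenImmersion)
      (Q := MorphismProperty.monomorphisms Scheme.{u}) (fun _ _ e (_ : IsOpenImmersion e) => inferInstanceAs (Mono e)) _ hjVo)
  · intro x hx
    obtain ⟨t, rfl⟩ := (Points.schemeHomeo VU).surjective x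
    have e1 : Points.map jV.hom (Points.schemeHomeo VU t) = Points.ofPt ι₂ (iV.left t) := by
      show Points.map ((yon S).map iV ≫ ι₂) _ = _
      rw [map_yon_eq_ofPt, ofPt_comp]
    change Points.map (jV.hom ≫ prU.hom) _ = _ at hx
    change Points.map (jV.hom ≫ prX.hom) _ ∈ xs
    rw [Points.map_comp, e1, hsndpt] at hx
    rw [Points.map_comp, e1, hfstpt]
    obtain ⟨i, hi⟩ := TopologicalSpace.Opens.mem_iSup.mp (show iV.left t ∈ ⨆ i, V i from t.2)
    rw [(hV i).2.2.2.1 _ hi ((Points.schemeHomeo U).injective hx),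
      show pQ.left (v i) = (eZ i).1 from (hV i).2.2.2.2.1]
    exact (eZ i).2.2
  · intro z hz hzu hzx
    have hzW : Points.map (pullback.snd f.hom b) (Points.map π z) = Points.schemeHomeo W w := by
      rw [← Points.map_comp, sqπ.w, Points.map_comp, hzu, Points.map_yon_map_apply]
      exact congrArg _ hu₀.base_eq
    have hzfst : Points.map (pullback.fst f.hom b) (Points.map π z) = Points.map prX.hom z := by
      rw [← Points.map_comp, pullback.lift_fst]
    have hπz : Points.map π z ∈ Set.range (Points.ofPt ι₁) := by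
      rw [hιr]
      exact (PointLocus.at_baseChange_iff PointLocus.ptProp_lqf sq₁ X.property Y.property
        (IsAlgSpace.yon_obj W) hl _).2 (by rw [hzfst]; exact hqf _ hzx)
    obtain ⟨t₀, ht₀⟩ := hπz
    obtain ⟨z', hz'1, hz'2⟩ := exists_point_of_isPullback sqι (x := Points.schemeHomeo Q t₀) (y := z)
      (by rw [map_yon_eq_ofPt]; exact ht₀)
    obtain ⟨t, rfl⟩ := (Points.schemeHomeo QU).surjective z'
    rw [map_yon_eq_ofPt] at hz'2
    rw [Points.map_yon_map_apply] at hz'1
    have ht : pQ.left t = t₀ := (Points.schemeHomeo Q).injective hz'1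
    have hZ : t₀ ∈ Zs := by
      refine ⟨(Points.schemeHomeo W).injective ?_, ?_⟩
      · rw [← hqpt, ht₀, hzW]
      · rw [ht₀, hzfst]; exact hzx
    let i := eZ.symm ⟨t₀, hZ⟩
    have hi : (eZ i).1 = t₀ := congrArg Subtype.val (eZ.apply_symm_apply _)
    rw [← hz'2, hsndpt] at hzu
    obtain ⟨z₁, -, -, -, huniq⟩ := MorLib.EEF.exists_unique_point (IsPullback.of_hasPullback q.left g)
      t₀ u₀ (by rw [hZ.1, hu₀.base_eq]) hu₀.residue_bijective
    have htv : t = v i := (huniq t ht ((Points.schemeHomeo U).injective hzu)).trans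
      (huniq (v i) ((hV i).2.2.2.2.1.trans hi) (hV i).2.2.1).symm
    refine hz ⟨Points.schemeHomeo VU (⟨t, ?_⟩ : V₀), ?_⟩
    · rw [htv]; exact TopologicalSpace.Opens.mem_iSup.mpr ⟨i, (hV i).1⟩
    · show Points.map ((yon S).map iV ≫ ι₂) _ = z
      rw [map_yon_eq_ofPt, ofPt_comp]
      exact hz'2

end Groth.Agent.AlgSpDec.SplitQf
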