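import Groth.Agent.AlgSpDec.GenFiniteDense
import Groth.Agent.AlgSpDec.SplitQf
import Groth.Agent.AlgSpDec.ZarCover
import Groth.Agent.AlgSpDec.OpenGlue
import Groth.Agent.AlgSpDec.PointsSpectral

/-!
# A dense open subspace over which a morphism is finite
-/

set_option autoImplicit false
set_option backward.isDefEq.respectTransparency false
set_option backward.isDefEq.respectTransparency.types false

universe u

open CategoryTheory CategoryTheory.Limits AlgebraicGeometry AlgSp Groth.Agent.AlgSpLib Groth.Agent.AlgSpPts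

namespace Groth.Agent.AlgSpDec.GenFiniteGlobal

variable {S : Scheme.{u}}

abbrev C0 (F : Sp S) (x : Points F) : Prop :=
  HasAt (fun U u => ringKrullDim ↥(U.presheaf.stalk u) = 0) F x

/-- A chart at a point of codimension zero with a single generic point. -/
theorem exists_chart_single {Y : Space S} (hY : IsDecent Y.obj) (hY0 : {y : Points Y.obj | C0 Y.obj y}.Finite)
    {y : Points Y.obj} (hy : C0 Y.obj y) :
    ∃ (W : Over S) (b : (yon S).obj W ⟶ Y.obj) (w : ↥W.left), IsAffine W.left ∧ RepWith @Etale b ∧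
      Points.ofPt b w = y ∧ w ∈ genericPoints ↥W.left ∧ ∀ v, Order.coheight v = 0 → v = w := by
  obtain ⟨W, b, w, hW, hb, rfl⟩ := exists_affine_chart_at Y.property y
  haveI := hW
  have hgw := GenFiniteSp.mem_genericPoints_of_hasAt hb w hy
  have hfinG : (genericPoints ↥W.left).Finite := by
    refine (hY0.biUnion (t := fun y => Points.ofPt b ⁻¹' {y}) fun y _ => ?_).subset fun v hv => ?_
    · obtain ⟨p, hp, -, hq⟩ := hY y
      rw [← hp]
      exact finite_fibre_of_repWith hb p hq
    · exact Set.mem_biUnion (x := Points.ofPt b v)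
        ((FibreCodim.hasAt_iff_coheight hb v).2 (GenFiniteDense.coheight_of_generic hv)) rfl
  have hcomp : (irreducibleComponents ↥W.left).Finite := by
    haveI := hfinG.to_subtype
    exact Set.finite_coe_iff.1 (Finite.of_equiv _ genericPoints.equiv)
  obtain ⟨N, hwN, hN⟩ := MorLib.Birat.exists_separating hcomp hgw
  obtain ⟨A, hA, hwA, hAN⟩ := exists_isAffineOpen_mem_and_subset (U := N) (x := w) hwN
  let ι : openOver W A ⟶ W := openOverι W A
  refine ⟨openOver W A, (yon S).map ι ≫ b, ⟨w, hwA⟩, hA,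
    repWith_comp ((repWith_yon_map_iff _ ι).2 (inferInstanceAs (Etale A.ι))) hb, ?_, ?_, ?_⟩
  · rw [ofPt_comp]; rfl
  · refine GenFiniteSp.mem_genericPoints_of_coheight (Order.coheight_eq_zero.2 fun z hz => ?_)
    have : A.ι z = w :=
      MorLib.Birat.eq_of_specializes_generic hgw ((hz : z ⤳ (⟨w, hwA⟩ : A.toScheme)).map A.ι.continuous)
    exact (show z = (⟨w, hwA⟩ : A.toScheme) from A.ι.injective this) ▸ le_rfl
  · intro v hv
    have h1 : (⟨w, hwA⟩ : A.toScheme) ⤳ v :=
      A.ι.isOpenEmbedding.isInducing.specializes_iff.1 (hN v.1 (hAN v.2))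
    exact (eq_of_specializes_of_coheight hv h1).symm

/-- An open subspace containing a codimension zero point over which the morphism is finite. -/
theorem exists_finite_open_at {X Y : Space S} (f : X ⟶ Y) (hf : LocP @LocallyOfFiniteType f.hom)
    (hY : IsDecent Y.obj) (hX0 : {x : Points X.obj | C0 X.obj x}.Finite)
    (hY0 : {y : Points Y.obj | C0 Y.obj y}.Finite)
    (hpre : ∀ x : Points X.obj, C0 X.obj x ↔ C0 Y.obj (Points.map f.hom x))
    (hqs : IsQuasiCompactMor f.hom ∨ IsSeparatedMor f.hom) {y : Points Y.obj} (hy : C0 Y.obj y) :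
    ∃ (Y' X' : Space S) (j : Y' ⟶ Y) (fst : X' ⟶ Y') (snd : X' ⟶ X), RepWith @IsOpenImmersion j.hom ∧
      y ∈ Set.range (Points.map j.hom) ∧ IsPullback fst.hom snd.hom j.hom f.hom ∧ IsFiniteMor fst.hom := by
  obtain ⟨W, b, w, hW, hb, rfl, hgw, huniq⟩ := exists_chart_single hY hY0 hy
  haveI := hW
  have sq₁ := IsPullback.of_hasPullback f.hom b
  have hP := isAlgSpace_of_isPullback sq₁ X.property (IsAlgSpace.yon_obj W) Y.property
  have hlq := locP_of_isPullback sq₁ X.property Y.property (IsAlgSpace.yon_obj W) hf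
  have hfe : RepWith @Etale (pullback.fst f.hom b) := repWith_of_isPullback sq₁.flip hb
  have hov : ∀ z, Points.map (pullback.snd f.hom b) z = Points.schemeHomeo W w →
      Points.map f.hom (Points.map (pullback.fst f.hom b) z) = Points.ofPt b w := fun z hz => by
    rw [← Points.map_comp, sq₁.w, Points.map_comp, hz, SplitQf.map_yon_eq_ofPt]
  have hQf : ∀ x, Points.map f.hom x = Points.ofPt b w →
      PointLocus.At (fun {_ _} h u => FlatMor.fibreDimAt h u = 0) f.hom x :=
    (FibreCodim.fibre_iff f hf _ hy).1.1 fun x hx => (hpre x).2 (by rw [hx]; exact hy)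
  have h0 : ∀ z, Points.map (pullback.snd f.hom b) z = Points.schemeHomeo W w →
      PointLocus.At (fun {_ _} h u => FlatMor.fibreDimAt h u = 0) (pullback.snd f.hom b) z := fun z hz =>
    (PointLocus.at_baseChange_iff PointLocus.ptProp_lqf sq₁ X.property Y.property (IsAlgSpace.yon_obj W) hf z).2
      (hQf _ (hov z hz))
  have hgen : ∀ z, C0 (pullback f.hom b) z → Points.map (pullback.snd f.hom b) z = Points.schemeHomeo W w := by
    intro z hz
    have hx : C0 X.obj (Points.map (pullback.fst f.hom b) z) := by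
      obtain ⟨V, c, v, hc, rfl, hv⟩ := hz
      exact ⟨V, c ≫ pullback.fst f.hom b, v, repWith_comp hc hfe, (Points.map_ofPt _ _ _).symm, hv⟩
    obtain ⟨v, hv⟩ := (Points.schemeHomeo W).surjective (Points.map (pullback.snd f.hom b) z)
    have h1 := (hpre _).1 hx
    rw [← Points.map_comp, sq₁.w, Points.map_comp, ← hv, SplitQf.map_yon_eq_ofPt] at h1
    rw [← hv, huniq v ((FibreCodim.hasAt_iff_coheight hb v).1 h1)]
  suffices h : ∃ O : W.left.Opens, w ∈ O ∧
      IsFiniteMor (pullback.snd (pullback.snd f.hom b) ((yon S).map (openOverι W O))) by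
    obtain ⟨O, hwO, hfin⟩ := h
    exact GenFiniteSp.exists_open_of_chart f hb O hfin hwO
  rcases hqs with hqc | hsep
  · obtain ⟨U, a, hU, ha, has⟩ := exists_affine_atlas
      (isQuasiCompactMor_of_isPullback sq₁ hqc (IsAlgSpace.yon_obj W) (AlgSpLib.isQuasiCompactSp_yon W)
        (𝟙 _) (𝟙 (pullback f.hom b)) (pullback.snd f.hom b) (IsPullback.of_horiz_isIso ⟨by simp⟩))
    haveI := hU
    exact GenFiniteDense.exists_finite_nhd_cover hP _ hlq hgw a ha has h0 hgen
  · classical
    let xs : Finset (Points X.obj) :=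
      ((hX0.subset (Set.sep_subset {x | C0 X.obj x} fun x => Points.map f.hom x = Points.ofPt b w))).toFinset
    have hxs : ∀ x ∈ xs, Points.map f.hom x = Points.ofPt b w := fun x hx => by
      simp only [xs, Set.Finite.mem_toFinset] at hx
      exact hx.2
    have hfin : {z | Points.map (pullback.snd f.hom b) z = Points.schemeHomeo W w}.Finite := by
      refine (SplitQf.finite_points f hf b hb w (Or.inr hY) sq₁ xs hxs fun x hx => hQf x (hxs x hx)).subset ?_
      intro z hz
      refine ⟨hz, ?_⟩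
      simp only [xs, Set.Finite.mem_toFinset]
      exact ⟨(hpre _).2 (by rw [hov z hz]; exact hy), hov z hz⟩
    obtain ⟨U₀, a₀, ha₀, ha₀'⟩ := hP.atlas
    choose pt hpt using fun z => surjective_ofPt ha₀' z
    haveI := hfin.to_subtype
    choose A hA hxA using fun z : {z | Points.map (pullback.snd f.hom b) z = Points.schemeHomeo W w} =>
      (⟨_, (exists_isAffineOpen_mem_and_subset (U := (⊤ : U₀.left.Opens)) (x := pt z.1) trivial).choose_spec.1,
        (exists_isAffineOpen_mem_and_subset (U := (⊤ : U₀.left.Opens)) (x := pt z.1) trivial).choose_spec.2.1⟩ :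
        ∃ A : U₀.left.Opens, IsAffineOpen A ∧ pt z.1 ∈ A)
    let T₀ : U₀.left.Opens := ⨆ z, A z
    have hT₀ : IsCompact (T₀ : Set ↥U₀.left) := by
      rw [TopologicalSpace.Opens.coe_iSup]
      exact isCompact_iUnion fun z => (hA z).isCompact
    haveI : CompactSpace ↥(openOver U₀ T₀).left := isCompact_iff_compactSpace.1 hT₀
    obtain ⟨U, c, hU, hc, hcs⟩ := exists_affine_atlas (AlgSpLib.isQuasiCompactSp_yon (openOver U₀ T₀))
    haveI := hU
    have hce : RepWith @Etale (c ≫ (yon S).map (openOverι U₀ T₀) ≫ a₀) :=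
      repWith_comp hc (repWith_comp ((repWith_yon_map_iff _ _).2 (inferInstanceAs (Etale T₀.ι))) ha₀)
    refine GenFiniteDense.exists_finite_nhd_sep hP _ hlq (isSeparatedMor_of_isPullback sq₁ hsep) hgw _ hce
      (fun z hz => ?_) h0 hgen
    obtain ⟨t, ht⟩ := surjective_ofPt hcs
      (Points.schemeHomeo (openOver U₀ T₀) ⟨pt z, TopologicalSpace.Opens.mem_iSup.2 ⟨⟨z, hz⟩, hxA ⟨z, hz⟩⟩⟩)
    refine ⟨t, ?_⟩
    rw [← Points.map_ofPt, ht, SplitQf.map_yon_eq_ofPt, ofPt_comp]
    exact hpt z

/-- A dense open subspace over which the morphism is finite. -/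
theorem exists_dense_open {X Y : Space S} (f : X ⟶ Y) (hf : LocP @LocallyOfFiniteType f.hom)
    (hY : IsDecent Y.obj) (hX0 : {x : Points X.obj | C0 X.obj x}.Finite)
    (hY0 : {y : Points Y.obj | C0 Y.obj y}.Finite)
    (hpre : ∀ x : Points X.obj, C0 X.obj x ↔ C0 Y.obj (Points.map f.hom x))
    (hqs : IsQuasiCompactMor f.hom ∨ IsSeparatedMor f.hom) :
    ∃ (V X' : Space S) (j : V ⟶ Y) (fst : X' ⟶ V) (snd : X' ⟶ X), RepWith @IsOpenImmersion j.hom ∧
      Dense (Set.range (Points.map j.hom)) ∧ IsPullback fst.hom snd.hom j.hom f.hom ∧ IsFiniteMor fst.hom := by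
  haveI := hY0.to_subtype
  let n := Nat.card {y : Points Y.obj | C0 Y.obj y}
  let e : Fin n ≃ {y : Points Y.obj | C0 Y.obj y} := (Finite.equivFin _).symm
  choose Yi Xi ji fsti sndi hji hmem sqi hfini using fun i : ULift.{u} (Fin n) =>
    exists_finite_open_at f hf hY hX0 hY0 hpre hqs (e i.down).2
  have hopen : IsOpen (⋃ i, Set.range (Points.map (ji i).hom)) :=
    isOpen_iUnion fun i => (isOpenEmbedding_map' Y.property (hji i)).isOpen_range
  obtain ⟨V₀, jV, hV₀, hjV, hjr⟩ := exists_open_subspace Y.property hopen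
  haveI : Mono jV := mono_of_openImmersion hjV
  choose ki hki using fun i => exists_lift_openImmersion (Yi i).property hV₀ Y.property hjV (ji i).hom
    (by rw [hjr]; exact Set.subset_iUnion (fun i => Set.range (Points.map (ji i).hom)) i)
  have sqV := IsPullback.of_hasPullback jV f.hom
  have hX' := isAlgSpace_of_isPullback sqV hV₀ X.property Y.property
  have hk : ∀ i, RepWith @IsOpenImmersion (ki i) := fun i => by
    have h1 : IsPullback (ki i) (𝟙 (Yi i).obj) jV (ji i).hom :=
      ⟨⟨by rw [hki, Category.id_comp]⟩, ⟨PullbackCone.IsLimit.mk _ (fun c => c.snd)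
        (fun c => by rw [← cancel_mono jV, Category.assoc, hki, c.condition]) (fun c => Category.comp_id _)
        (fun c m _ hm => by rw [← hm, Category.comp_id])⟩⟩
    exact repWith_of_isPullback h1.flip (hji i)
  have hcov : IsZarCover (fun i => (Yi i).obj) ki := ⟨hk, fun v => by
    obtain ⟨i, z, hz⟩ : ∃ i, Points.map jV v ∈ Set.range (Points.map (ji i).hom) :=
      Set.mem_iUnion.1 (hjr ▸ ⟨v, rfl⟩)
    exact ⟨i, z, injective_points_map_of_mono jV (by rw [← Points.map_comp, hki, hz])⟩⟩
  refine ⟨⟨V₀, hV₀⟩, ⟨_, hX'⟩, ⟨jV⟩, ⟨pullback.fst jV f.hom⟩, ⟨pullback.snd jV f.hom⟩, hjV, ?_, sqV, ?_⟩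
  · show Dense (Set.range (Points.map jV))
    rw [hjr, dense_iff_inter_open]
    rintro Z hZ ⟨z, hz⟩
    obtain ⟨U, a, ha, ha'⟩ := Y.property.atlas
    obtain ⟨u, rfl⟩ := surjective_ofPt ha' z
    obtain ⟨g, hg, hgu⟩ := MorLib.Birat.exists_generic (X := U.left) u
    have hg0 : C0 Y.obj (Points.ofPt a g) :=
      (FibreCodim.hasAt_iff_coheight ha g).2 (GenFiniteDense.coheight_of_generic hg)
    refine ⟨Points.ofPt a g, (hgu.map (Points.continuous_ofPt a)).mem_open hZ hz,
      Set.mem_iUnion.2 ⟨⟨e.symm ⟨_, hg0⟩⟩, ?_⟩⟩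
    have := hmem ⟨e.symm ⟨_, hg0⟩⟩
    rwa [Equiv.apply_symm_apply] at this
  · show IsFiniteMor (pullback.fst jV f.hom)
    refine isFiniteMor_iff_repWith.2 (repWith_of_zarCover hcov
      (fun i => IsPullback.of_hasPullback (pullback.fst jV f.hom) (ki i)) fun i => ?_)
    have sqA := (IsPullback.of_hasPullback (pullback.fst jV f.hom) (ki i)).paste_horiz sqV.flip
    rw [hki] at sqA
    rw [← IsPullback.isoIsPullback_hom_snd _ _ sqA (sqi i).flip]
    exact repWith_comp (repWith_of_isIso _ _) (isFiniteMor_iff_repWith.1 (hfini i))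

end Groth.Agent.AlgSpDec.GenFiniteGlobal
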