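import Groth.Agent.AlgSpDec.FiniteCrit
import Groth.Agent.AlgSpDec.FieldFibre
import Groth.Agent.AlgSpDec.LqfSplitZ
import Groth.Agent.AlgSpDec.LimDescent
import Groth.Agent.AlgSpDec.SpQuot
import Groth.Agent.AlgSpDec.CodimZero
import Groth.Agent.AlgSpDec.QuasiAffineMor
import Groth.Agent.MorLib.GenFinite
import Groth.Agent.AlgSpDec.LimOpen
import Groth.Agent.EtFound.Descent

/-!
# Generic finiteness for algebraic spaces
-/

set_option autoImplicit false
set_option backward.isDefEq.respectTransparency false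
set_option backward.isDefEq.respectTransparency.types false

universe u

open CategoryTheory CategoryTheory.Limits AlgebraicGeometry AlgSp Groth.Agent.AlgSpLib Groth.Agent.AlgSpPts

namespace Groth.Agent.AlgSpDec.GenFiniteSp

variable {S : Scheme.{u}}

theorem mem_genericPoints_of_coheight {T : Scheme.{u}} {w : ↥T} (h : Order.coheight w = 0) :
    w ∈ genericPoints ↥T := by
  refine ⟨isIrreducible_singleton.closure, fun t ht hle => ?_⟩
  obtain ⟨η, hη⟩ : ∃ η, IsGenericPoint η (closure t) := QuasiSober.sober ht.closure isClosed_closure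
  have hs : η ⤳ w := hη.specializes (subset_closure (hle (subset_closure rfl)))
  rw [← eq_of_specializes_of_coheight h hs]
  exact subset_closure.trans hη.def.ge

theorem mem_genericPoints_of_hasAt {Y : Sp S} {W : Over S} {b : (yon S).obj W ⟶ Y} (hb : RepWith @Etale b)
    (w : ↥W.left) (h : HasAt (fun U u => ringKrullDim ↥(U.presheaf.stalk u) = 0) Y (Points.ofPt b w)) :
    w ∈ genericPoints ↥W.left := by
  obtain ⟨U, a, u, ha, hu, h0⟩ := h
  refine mem_genericPoints_of_coheight ?_
  rw [coheight_eq_of_charts hb ha hu.symm]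
  rw [ringKrullDim_stalk_eq_coheight] at h0
  simpa using h0

/-- Universal closedness passes to a target of a surjection. -/
theorem isUnivClosedMor_of_surjective_comp {A B C : Sp S} {p : A ⟶ B} {f : B ⟶ C}
    (hp : Function.Surjective (Points.map p)) (h : IsUnivClosedMor (p ≫ f)) : IsUnivClosedMor f := by
  intro Z Z' hZ g fst snd sq
  have sq₁ := IsPullback.of_hasPullback p fst
  have h2 : IsClosedMap (Points.map (pullback.snd p fst ≫ snd)) := h hZ g _ _ (sq₁.paste_vert sq)
  intro C' hC
  have h3 := h2 _ (hC.preimage (Points.continuous_map (pullback.snd p fst)))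
  have hsurj := surjective_map_of_isPullback sq₁ hp
  have e : Points.map (pullback.snd p fst ≫ snd) = Points.map snd ∘ Points.map (pullback.snd p fst) :=
    funext (Points.map_comp _ _)
  rwa [e, Set.image_comp, Set.image_preimage_eq C' hsurj] at h3

/-- The kernel pair of a chart is the base change of the diagonal. -/
theorem isPullback_relation_diagonal {G : Sp S} {U R V : Over S} {a : (yon S).obj U ⟶ G} {t s : R ⟶ U}
    (sq : IsPullback ((yon S).map t) ((yon S).map s) a a)
    {f : G ⟶ (yon S).obj V} {τ : U ⟶ V} (hτ : (yon S).map τ = a ≫ f) {i : R ⟶ pullback τ τ}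
    (hi1 : i ≫ pullback.fst τ τ = t) (hi2 : i ≫ pullback.snd τ τ = s) :
    IsPullback ((yon S).map t ≫ a) ((yon S).map i) (pullback.diagonal f)
      (pullback.lift ((yon S).map (pullback.fst τ τ) ≫ a) ((yon S).map (pullback.snd τ τ) ≫ a) (by
        rw [Category.assoc, Category.assoc, ← hτ, ← Functor.map_comp, ← Functor.map_comp, pullback.condition]) :
        (yon S).obj (pullback τ τ) ⟶ pullback f f) := by
  refine ⟨⟨pullback.hom_ext ?_ ?_⟩, ⟨PullbackCone.isLimitAux' _ fun c => ?_⟩⟩
  · simp only [Category.assoc, pullback.diagonal_fst, pullback.lift_fst, ← Functor.map_comp_assoc, hi1,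
      Category.comp_id]
  · simp only [Category.assoc, pullback.diagonal_snd, pullback.lift_snd, ← Functor.map_comp_assoc, hi2,
      Category.comp_id, sq.w]
  have h1 : (c.snd ≫ (yon S).map (pullback.fst τ τ)) ≫ a = c.fst := by
    have := congrArg (· ≫ pullback.fst f f) c.condition
    simpa using this.symm
  have h2 : (c.snd ≫ (yon S).map (pullback.snd τ τ)) ≫ a = c.fst := by
    have := congrArg (· ≫ pullback.snd f f) c.condition
    simpa using this.symm
  refine ⟨sq.lift _ _ (h1.trans h2.symm), ?_, ?_, fun {m} _ hm => ?_⟩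
  · show sq.lift _ _ _ ≫ (yon S).map t ≫ a = c.fst
    rw [sq.lift_fst_assoc, h1]
  · show sq.lift _ _ _ ≫ (yon S).map i = c.snd
    refine ((IsPullback.of_hasPullback τ τ).map (yon S)).hom_ext ?_ ?_
    · exact (Category.assoc _ _ _).trans ((congrArg (sq.lift _ _ (h1.trans h2.symm) ≫ ·)
        (((yon S).map_comp _ _).symm.trans (congrArg _ hi1))).trans (sq.lift_fst _ _ _))
    · exact (Category.assoc _ _ _).trans ((congrArg (sq.lift _ _ (h1.trans h2.symm) ≫ ·)
        (((yon S).map_comp _ _).symm.trans (congrArg _ hi2))).trans (sq.lift_snd _ _ _))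
  · change m ≫ (yon S).map i = c.snd at hm
    let m' : c.pt ⟶ (yon S).obj R := m
    have hm' : m' ≫ (yon S).map i = c.snd := hm
    refine sq.hom_ext ?_ ?_
    · refine Eq.trans ?_ (sq.lift_fst _ _ _).symm
      show m' ≫ (yon S).map t = _
      rw [← hm', ← hi1]
      exact (congrArg (m' ≫ ·) ((yon S).map_comp _ _)).trans (Category.assoc _ _ _).symm
    · refine Eq.trans ?_ (sq.lift_snd _ _ _).symm
      show m' ≫ (yon S).map s = _
      rw [← hm', ← hi2]
      exact (congrArg (m' ≫ ·) ((yon S).map_comp _ _)).trans (Category.assoc _ _ _).symm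

theorem finite_of_restrict {T W P' : Over S} {τ : T ⟶ W} {O : W.left.Opens} {jT : P' ⟶ T}
    {τ' : P' ⟶ openOver W O} (sq : IsPullback jT τ' τ (openOverι W O)) (h : IsFinite (τ.left ∣_ O)) :
    IsFinite τ'.left := by
  have sq₁ : IsPullback (τ.left ⁻¹ᵁ O).ι (τ.left ∣_ O) τ.left O.ι := (isPullback_morphismRestrict τ.left O).flip
  have sq₂ : IsPullback jT.left τ'.left τ.left O.ι := sq.map (Over.forget S)
  rw [show τ'.left = (sq₂.isoIsPullback _ _ sq₁).hom ≫ (τ.left ∣_ O) from
    (IsPullback.isoIsPullback_hom_snd ..).symm]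
  infer_instance

theorem exists_finite_restrict {T W : Scheme.{u}} (τ : T ⟶ W) [LocallyOfFiniteType τ] [QuasiCompact τ]
    [QuasiSeparated τ] {w : ↥W} (hw : w ∈ genericPoints ↥W) (h0 : ∀ t, τ t = w → FlatMor.fibreDimAt τ t = 0)
    (V' : W.Opens) (hV' : w ∈ V') :
    ∃ V : W.Opens, IsAffineOpen V ∧ w ∈ V ∧ V ≤ V' ∧ IsFinite (τ ∣_ V) := by
  have hfin : (τ ⁻¹' {w}).Finite :=
    (FieldFibre.finite_qf_points τ w).subset fun t ht => ⟨ht, h0 t ht⟩
  exact MorLib.GenFinite.exists_isFinite τ hw hfin
    (fun x hx => MorLib.GenFinite.exists_open_of_finite_fibre τ hfin x hx)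
    (fun _ h1 h2 _ _ h3 h4 h5 h6 h7 => MorLib.GenFinite.exists_avoid_inf τ hw h1 h2 h3 h4 h5 h6 h7) V' hV'

/-- Finiteness over an open where an etale affine cover and its relation are finite. -/
theorem finite_restrict_of_charts {W : Over S} {P : Sp S} (hP : IsAlgSpace P) (q : P ⟶ (yon S).obj W)
    {U : Over S} (a : (yon S).obj U ⟶ P) (ha : RepWith @Etale a) (has : RepWith @Surjective a) {τ : U ⟶ W}
    (hτ : (yon S).map τ = a ≫ q) (O : W.left.Opens) (hfinO : IsFinite (τ.left ∣_ O))
    (hfin₂ : IsFinite ((ha.rep.snd a ≫ τ).left ∣_ O)) :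
    IsFiniteMor (pullback.snd q ((yon S).map (openOverι W O))) := by
  let R := ha.rep.pullback a
  let t : R ⟶ U := ha.rep.fst' a
  let s : R ⟶ U := ha.rep.snd a
  have sqR : IsPullback ((yon S).map t) ((yon S).map s) a a := ha.rep.isPullback' a
  have hts : t ≫ τ = s ≫ τ := (yon S).map_injective (by
    rw [Functor.map_comp, Functor.map_comp, hτ, ← Category.assoc, sqR.w, Category.assoc])
  -- restrict everything over `O`
  let ι : openOver W O ⟶ W := openOverι W O
  have sqP := IsPullback.of_hasPullback q ((yon S).map ι)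
  have hP' := isAlgSpace_of_isPullback sqP hP (IsAlgSpace.yon_obj _) (IsAlgSpace.yon_obj W)
  haveI hιm : Mono ι := (Over.forget S).mono_of_mono_map (inferInstanceAs (Mono O.ι))
  let U' : Over S := pullback τ ι
  let jU : U' ⟶ U := pullback.fst τ ι
  let τ' : U' ⟶ openOver W O := pullback.snd τ ι
  have sqU : IsPullback jU τ' τ ι := IsPullback.of_hasPullback τ ι
  have hτ'fin : IsFinite τ'.left := finite_of_restrict sqU hfinO
  let a' : (yon S).obj U' ⟶ pullback q ((yon S).map ι) :=
    sqP.lift ((yon S).map jU ≫ a) ((yon S).map τ') (by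
      rw [Category.assoc, ← hτ, ← Functor.map_comp, ← Functor.map_comp, sqU.w])
  have ha'τ : a' ≫ pullback.snd q ((yon S).map ι) = (yon S).map τ' := sqP.lift_snd _ _ _
  have sqA : IsPullback ((yon S).map jU) a' a (pullback.fst q ((yon S).map ι)) := by
    refine IsPullback.of_bot ?_ (sqP.lift_fst _ _ _).symm sqP
    rw [ha'τ, ← hτ]
    exact sqU.map (yon S)
  have ha' : RepWith @Etale a' := repWith_of_isPullback sqA ha
  have ha's : RepWith @Surjective a' := repWith_of_isPullback sqA has
  haveI := isLocallySurjective_of_etale_surjective ha' ha's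
  -- the restricted relation
  let R' : Over S := pullback s jU
  let jR : R' ⟶ R := pullback.fst s jU
  let s' : R' ⟶ U' := pullback.snd s jU
  have sqS : IsPullback jR s' s jU := IsPullback.of_hasPullback s jU
  obtain ⟨t', ht'⟩ : ∃ t' : R' ⟶ U', t' ≫ jU = jR ≫ t :=
    ⟨sqU.lift (jR ≫ t) (s' ≫ τ') (by
      rw [Category.assoc, hts, ← Category.assoc, sqS.w, Category.assoc, sqU.w, Category.assoc]),
      sqU.lift_fst _ _ _⟩
  have sqR' : IsPullback ((yon S).map t') ((yon S).map s') a' a' := by
    refine IsPullback.of_right ?_ ?_ sqA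
    · rw [← Functor.map_comp, ht', Functor.map_comp, ← sqA.w]
      exact (sqS.map (yon S)).paste_horiz sqR
    · haveI : Mono ((yon S).map ι) := inferInstance
      haveI : Mono (pullback.fst q ((yon S).map ι)) := inferInstance
      rw [← cancel_mono (pullback.fst q ((yon S).map ι)), Category.assoc, Category.assoc, ← sqA.w,
        ← Category.assoc, ← Category.assoc, ← Functor.map_comp, ← Functor.map_comp, ht', ← sqS.w,
        Functor.map_comp, Functor.map_comp, Category.assoc, Category.assoc, sqR.w]
  have hr'fin : IsFinite (s' ≫ τ').left := finite_of_restrict (sqS.paste_vert sqU) hfin₂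
  have hts' : t' ≫ τ' = s' ≫ τ' := (yon S).map_injective (by
    rw [Functor.map_comp, Functor.map_comp, ← ha'τ, ← Category.assoc, sqR'.w, Category.assoc])
  let i' : R' ⟶ pullback τ' τ' := pullback.lift t' s' hts'
  haveI : Mono i' := ⟨fun {Z} x y h => (yon S).map_injective (sqR'.hom_ext
    (by rw [← Functor.map_comp, ← Functor.map_comp]; exact congrArg _ (by simpa [i'] using congrArg (· ≫ pullback.fst τ' τ') h))
    (by rw [← Functor.map_comp, ← Functor.map_comp]; exact congrArg _ (by simpa [i'] using congrArg (· ≫ pullback.snd τ' τ') h)))⟩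
  haveI : Mono i'.left := inferInstanceAs (Mono ((Over.forget S).map i'))
  haveI : IsClosedImmersion i'.left := by
    have sqUU' := (IsPullback.of_hasPullback τ' τ').map (Over.forget S)
    haveI : IsFinite (pullback.snd τ' τ').left := MorphismProperty.of_isPullback (P := @IsFinite) sqUU' hτ'fin
    haveI := hτ'fin
    haveI hc : IsFinite (i'.left ≫ (pullback.snd τ' τ').left ≫ τ'.left) := by
      rw [← Over.comp_left, ← Over.comp_left, ← Category.assoc, pullback.lift_snd]
      exact hr'fin
    haveI : IsFinite i'.left := MorphismProperty.of_postcomp (W := @IsFinite) (W' := @IsSeparated)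
      i'.left _ (inferInstanceAs (IsSeparated ((pullback.snd τ' τ').left ≫ τ'.left))) hc
    exact (IsClosedImmersion.iff_isFinite_and_mono _).2 ⟨inferInstance, inferInstance⟩
  have hsep : IsSeparatedMor (pullback.snd q ((yon S).map ι)) :=
    isSeparatedMor_of_closed_relation hP' sqR' ha'τ.symm (pullback.lift_fst t' s' hts')
      (pullback.lift_snd t' s' hts')
  have hfinC : IsFiniteMor (a' ≫ pullback.snd q ((yon S).map ι)) := by
    rw [ha'τ]
    exact isFiniteMor_iff_repWith.2 ((repWith_yon_map_iff _ _).2 hτ'fin)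
  obtain ⟨hpr, hq'⟩ := proper_and_lqf_of_finite (IsAlgSpace.yon_obj _) hfinC
  refine finite_of_univClosed_lqf hP' (IsAlgSpace.yon_obj _)
    (isUnivClosedMor_of_surjective_comp (surjective_map_of_repWith ha's) hpr.2.2) hsep
    (locP_of_precomp ha' ha's hq')


/-- Over an affine base, a quasi-compact quasi-separated space of finite type which is quasi-finite over a
generic point is finite over a neighbourhood of that point. -/
theorem exists_finite_nhd {W : Over S} [IsAffine W.left] {P : Sp S} (hP : IsAlgSpace P)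
    (q : P ⟶ (yon S).obj W) (hl : LocP @LocallyOfFiniteType q) (hqc : IsQuasiCompactMor q)
    (hqs : IsQuasiSeparatedMor q) {w : ↥W.left} (hw : w ∈ genericPoints ↥W.left)
    (h0 : ∀ z, Points.map q z = Points.schemeHomeo W w →
      PointLocus.At (fun {_ _} h u => FlatMor.fibreDimAt h u = 0) q z) :
    ∃ O : W.left.Opens, w ∈ O ∧ IsFiniteMor (pullback.snd q ((yon S).map (openOverι W O))) := by
  obtain ⟨U, a, hU, ha, has⟩ := exists_affine_atlas
    (hqc (IsAlgSpace.yon_obj W) (AlgSpLib.isQuasiCompactSp_yon W) (𝟙 _) (𝟙 P) q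
      (IsPullback.of_horiz_isIso ⟨by simp⟩))
  haveI := hU
  obtain ⟨τ, hτ⟩ := (yon S).map_surjective (a ≫ q)
  haveI : LocallyOfFiniteType τ.left := hl a (𝟙 _) τ ha (repWith_id _ _) (by rw [Category.comp_id, hτ])
  haveI : QuasiCompact τ.left := HasAffineProperty.iff_of_isAffine.2 (inferInstanceAs (CompactSpace ↥U.left))
  haveI : IsSeparated τ.left := inferInstance
  have hdim : ∀ t, τ.left t = w → FlatMor.fibreDimAt τ.left t = 0 := fun t ht =>
    (PointLocus.at_iff_chart PointLocus.ptProp_lqf hl ha (repWith_id _ _)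
      (by rw [Category.comp_id, hτ]) t).1 (h0 _ (by
        rw [Points.map_ofPt, ← hτ, ← Category.comp_id ((yon S).map τ), ofPt_comp, ht]; rfl))
  -- the relation
  let R := ha.rep.pullback a
  let t : R ⟶ U := ha.rep.fst' a
  let s : R ⟶ U := ha.rep.snd a
  have sqR : IsPullback ((yon S).map t) ((yon S).map s) a a := ha.rep.isPullback' a
  haveI : Etale s.left := ha.property_snd a
  have hts : t ≫ τ = s ≫ τ := (yon S).map_injective (by
    rw [Functor.map_comp, Functor.map_comp, hτ, ← Category.assoc, sqR.w, Category.assoc])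
  let i : R ⟶ pullback τ τ := pullback.lift t s hts
  haveI : QuasiCompact i.left := (repWith_yon_map_iff _ i).1
    (repWith_of_isPullback (isPullback_relation_diagonal sqR hτ (pullback.lift_fst _ _ _)
      (pullback.lift_snd _ _ _)) hqs)
  haveI : Mono i := ⟨fun {Z} x y h => (yon S).map_injective (sqR.hom_ext
    (by rw [← Functor.map_comp, ← Functor.map_comp]; exact congrArg _ (by simpa [i] using congrArg (· ≫ pullback.fst τ τ) h))
    (by rw [← Functor.map_comp, ← Functor.map_comp]; exact congrArg _ (by simpa [i] using congrArg (· ≫ pullback.snd τ τ) h)))⟩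
  haveI : Mono i.left := inferInstanceAs (Mono ((Over.forget S).map i))
  let r : R ⟶ W := s ≫ τ
  haveI : LocallyOfFiniteType r.left := inferInstanceAs (LocallyOfFiniteType (s.left ≫ τ.left))
  have sqUU := (IsPullback.of_hasPullback τ τ).map (Over.forget S)
  haveI : QuasiCompact (pullback.snd τ τ).left :=
    MorphismProperty.of_isPullback (P := @QuasiCompact) sqUU ‹QuasiCompact τ.left›
  haveI : IsSeparated (pullback.snd τ τ).left :=
    MorphismProperty.of_isPullback (P := @IsSeparated) sqUU ‹IsSeparated τ.left›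
  have hs : s.left = i.left ≫ (pullback.snd τ τ).left := by
    rw [← Over.comp_left, pullback.lift_snd]
  haveI : QuasiCompact s.left := by rw [hs]; infer_instance
  haveI : IsSeparated s.left := by rw [hs]; infer_instance
  haveI : QuasiCompact r.left := inferInstanceAs (QuasiCompact (s.left ≫ τ.left))
  haveI : QuasiSeparated r.left := inferInstanceAs (QuasiSeparated (s.left ≫ τ.left))
  obtain ⟨O₁, -, hwO₁, -, hfin₁⟩ := exists_finite_restrict τ.left hw hdim ⊤ trivial
  obtain ⟨O, -, hwO, hOle, hfin₂⟩ := exists_finite_restrict r.left hw (fun z hz => by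
    show FlatMor.fibreDimAt (s.left ≫ τ.left) z = 0
    rw [fibreDimAt_etale_comp]
    exact hdim _ hz) O₁ hwO₁
  have hfinO : IsFinite (τ.left ∣_ O) := by
    have h1 : IsFinite (τ.left ∣_ O₁ ∣_ (O₁.ι ⁻¹ᵁ O)) :=
      IsZariskiLocalAtTarget.restrict (P := @IsFinite) hfin₁ _
    have h2 := (MorphismProperty.arrow_mk_iso_iff @IsFinite (morphismRestrictRestrict τ.left O₁ (O₁.ι ⁻¹ᵁ O))).1 h1
    rwa [Scheme.Hom.image_preimage_eq_opensRange_inf, Scheme.Opens.opensRange_ι, inf_eq_right.mpr hOle] at h2
  exact ⟨O, hwO, finite_restrict_of_charts hP q a ha has hτ O hfinO hfin₂⟩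

/-- A chart over which a morphism is finite gives an open subspace over which it is finite. -/
theorem exists_open_of_chart {X Y : Space S} (f : X ⟶ Y) {W : Over S} {b : (yon S).obj W ⟶ Y.obj}
    (hb : RepWith @Etale b) (O : W.left.Opens)
    (hfin : IsFiniteMor (pullback.snd (pullback.snd f.hom b) ((yon S).map (openOverι W O))))
    {w : ↥W.left} (hwO : w ∈ O) :
    ∃ (Y' X' : Space S) (j : Y' ⟶ Y) (fst : X' ⟶ Y') (snd : X' ⟶ X), RepWith @IsOpenImmersion j.hom ∧
      Points.ofPt b w ∈ Set.range (Points.map j.hom) ∧ IsPullback fst.hom snd.hom j.hom f.hom ∧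
      IsFiniteMor fst.hom := by
  have sq₁ := IsPullback.of_hasPullback f.hom b
  let ι : openOver W O ⟶ W := openOverι W O
  let bO : (yon S).obj (openOver W O) ⟶ Y.obj := (yon S).map ι ≫ b
  have hbO : RepWith @Etale bO :=
    repWith_comp ((repWith_yon_map_iff _ ι).2 (inferInstanceAs (Etale O.ι))) hb
  obtain ⟨Y₀, jY, hY₀, hjY, hjr⟩ := exists_open_subspace Y.property
    (W := Set.range (Points.map bO)) (by
      have : Set.range (Points.map bO) = Set.range (Points.ofPt bO) := by
        ext z
        constructor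
        · rintro ⟨z₀, rfl⟩
          obtain ⟨o, rfl⟩ := (Points.schemeHomeo _).surjective z₀
          exact ⟨o, by change _ = Points.map bO (Points.ofPt (𝟙 _) o); rw [Points.map_ofPt, Category.id_comp]⟩
        · rintro ⟨o, rfl⟩
          exact ⟨Points.ofPt (𝟙 _) o, by rw [Points.map_ofPt, Category.id_comp]⟩
      rw [this]
      exact (isOpenMap_ofPt hbO).isOpen_range)
  obtain ⟨c, hc⟩ := exists_lift_openImmersion (IsAlgSpace.yon_obj _) hY₀ Y.property hjY bO hjr.ge
  have hjYe : RepWith @Etale jY := repWith_mono (P := @IsOpenImmersion) (Q := @Etale)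
    (fun _ _ e (_ : IsOpenImmersion e) => inferInstanceAs (Etale e)) _ hjY
  have hce : RepWith @Etale c := repWith_etale_of_comp c jY (by rw [hc]; exact hbO) hjYe
  haveI : Mono jY := mono_of_openImmersion hjY
  have hcs : RepWith @Surjective c := repWith_surjective_of_surjective hce.rep fun z => by
    obtain ⟨o, ho⟩ : Points.map jY z ∈ Set.range (Points.map bO) := hjr ▸ ⟨z, rfl⟩
    exact ⟨o, injective_points_map_of_mono jY (by rw [← Points.map_comp, hc, ho])⟩
  have sqX := IsPullback.of_hasPullback jY f.hom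
  have hX' := isAlgSpace_of_isPullback sqX hY₀ X.property Y.property
  refine ⟨⟨Y₀, hY₀⟩, ⟨_, hX'⟩, ⟨jY⟩, ⟨pullback.fst jY f.hom⟩, ⟨pullback.snd jY f.hom⟩, hjY,
    hjr ▸ ⟨Points.ofPt (𝟙 _) (⟨w, hwO⟩ : O), ?_⟩, sqX, ?_⟩
  · rw [Points.map_ofPt, Category.id_comp, ofPt_comp]
    rfl
  have sqc := IsPullback.of_hasPullback (pullback.fst jY f.hom) c
  have hqfin : IsFiniteMor (pullback.snd (pullback.fst jY f.hom) c) := by
    have sqA := sqc.paste_horiz sqX.flip
    rw [hc] at sqA
    have sqB := (IsPullback.of_hasPullback (pullback.snd f.hom b) ((yon S).map ι)).paste_horiz sq₁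
    rw [← IsPullback.isoIsPullback_hom_snd _ _ sqA sqB]
    exact isFiniteMor_iff_repWith.2 (repWith_comp (repWith_of_isIso _ _) (isFiniteMor_iff_repWith.1 hfin))
  have hqa : IsQuasiAffineMor (pullback.snd (pullback.fst jY f.hom) c) := fun Z hZ g => by
    obtain ⟨W', i, fst, sq', hW', -⟩ := hqfin hZ g
    exact ⟨W', i, fst, sq', inferInstance⟩
  have hr := representable_of_isQuasiAffineMor (isQuasiAffineMor_of_etale_cover hce hcs sqc hqa)
  haveI := isLocallySurjective_of_etale_surjective hce hcs
  haveI := Groth.Agent.EtFound.fpqc_isFinite.{u}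
  haveI : MorphismProperty.IsLocalAtTarget (@IsFinite : MorphismProperty Scheme.{u}) Scheme.fppfPrecoverage :=
    isLocalAtTarget_fppf _
  exact isFiniteMor_iff_repWith.2
    (repWith_of_locallySurjective hr c sqc @IsFinite (isFiniteMor_iff_repWith.1 hqfin))


/-- Quasi-finiteness over a point of codimension zero gives finiteness over an open neighbourhood. -/
theorem exists_finite_open {X Y : Space S} (f : X ⟶ Y) (hqs : IsQuasiSeparatedMor f.hom)
    (hft : IsFiniteTypeMor f.hom) (y : Points Y.obj)
    (hy : HasAt (fun U u => ringKrullDim ↥(U.presheaf.stalk u) = 0) Y.obj y)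
    (hqf : ∀ x : Points X.obj, Points.map f.hom x = y →
      PointLocus.At (fun {_ _} h u => FlatMor.fibreDimAt h u = 0) f.hom x) :
    ∃ (Y' X' : Space S) (j : Y' ⟶ Y) (fst : X' ⟶ Y') (snd : X' ⟶ X), RepWith @IsOpenImmersion j.hom ∧
      y ∈ Set.range (Points.map j.hom) ∧ IsPullback fst.hom snd.hom j.hom f.hom ∧ IsFiniteMor fst.hom := by
  obtain ⟨W, b, w, hW, hb, rfl⟩ := exists_affine_chart_at Y.property y
  haveI := hW
  have sq₁ := IsPullback.of_hasPullback f.hom b
  obtain ⟨O, hwO, hfin⟩ := exists_finite_nhd (isAlgSpace_of_isPullback sq₁ X.property (IsAlgSpace.yon_obj W) Y.property)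
    (pullback.snd f.hom b) (locP_of_isPullback sq₁ X.property Y.property (IsAlgSpace.yon_obj W) hft.1)
    (isQuasiCompactMor_of_isPullback sq₁ hft.2) (isQuasiSeparatedMor_of_isPullback sq₁ hqs)
    (mem_genericPoints_of_hasAt hb w hy) (fun z hz => by
      refine (PointLocus.at_baseChange_iff PointLocus.ptProp_lqf sq₁ X.property Y.property (IsAlgSpace.yon_obj W)
        hft.1 z).2 (hqf _ ?_)
      rw [← Points.map_comp, sq₁.w, Points.map_comp, hz]
      change Points.map b (Points.ofPt (𝟙 _) w) = _
      rw [Points.map_ofPt, Category.id_comp])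
  exact exists_open_of_chart f hb O hfin hwO

end Groth.Agent.AlgSpDec.GenFiniteSp
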