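import Groth.Agent.AlgSpDec.BcConn
import Groth.Agent.S2501
import Groth.Agent.AlgSpPts.Univ
import Mathlib.AlgebraicGeometry.Geometrically.Connected

/-!
# Connected components do not change along extensions of an algebraically closed base field
-/

set_option backward.isDefEq.respectTransparency false
set_option backward.isDefEq.respectTransparency.types false

universe u

open CategoryTheory CategoryTheory.Limits AlgebraicGeometry Opposite AlgSp Topology Groth.Agent.AlgSpLib
  Groth.Agent.AlgSpPts

namespace Groth.Agent.AlgSpDec.GeomComp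

variable {S : Scheme.{u}}

theorem bijective_components {K L : Type u} [Field K] [IsAlgClosed K] [Field L]
    {str : Spec (CommRingCat.of K) ⟶ S} {str' : Spec (CommRingCat.of L) ⟶ S}
    (φ : (Over.mk str' : Over S) ⟶ Over.mk str) {P P' : Sp S} (hP : IsAlgSpace P)
    {b : P ⟶ (yon S).obj (Over.mk str)} {π : P' ⟶ P} {b' : P' ⟶ (yon S).obj (Over.mk str')}
    (sq : IsPullback π b' b ((yon S).map φ)) :
    Function.Bijective (Continuous.connectedComponentsMap (Points.continuous_map π)) := by
  obtain ⟨ψ, hψ⟩ := Spec.map_surjective φ.left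
  have : ConnectedSpace (Spec (CommRingCat.of L)) := inferInstanceAs (ConnectedSpace (PrimeSpectrum L))
  have hgc : GeometricallyConnected φ.left :=
    @Groth.Agent.S2501.result K _ _ (Over.mk str').left φ.left this
  have huo : UniversallyOpen φ.left := by
    rw [← hψ]
    exact BcConn.universallyOpen_hom (k := K) (Over.mk (Spec.map ψ : Spec (CommRingCat.of L) ⟶ Spec (CommRingCat.of K)))
  have hsur : Surjective φ.left := ⟨fun t => ⟨IsLocalRing.closedPoint L, @Subsingleton.elim _
    (inferInstanceAs (Subsingleton (PrimeSpectrum K))) _ _⟩⟩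
  have hπs : Function.Surjective (Points.map π) :=
    surjective_map_of_isPullback sq.flip (surjective_map_of_repWith ((repWith_yon_map_iff _ φ).2 hsur))
  have hπo : IsOpenMap (Points.map π) :=
    isOpenMap_map (repWith_of_isPullback sq.flip ((repWith_yon_map_iff _ φ).2 huo))
  refine BcConn.connectedComponents_bijective _ hπo hπs fun y => ?_
  obtain ⟨U, a, ha, has⟩ := hP.atlas
  obtain ⟨u, rfl⟩ := surjective_ofPt has y
  let σ : U ⟶ Over.mk str := (yon S).preimage (a ≫ b)
  have hσ : (yon S).map σ = a ≫ b := Functor.map_preimage _ _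
  let U' := pullback σ φ
  have sqU : IsPullback ((yon S).map (pullback.fst σ φ)) ((yon S).map (pullback.snd σ φ)) (a ≫ b)
      ((yon S).map φ) := by
    have := (IsPullback.of_hasPullback σ φ).map (yon S)
    rwa [hσ] at this
  let w : (yon S).obj U' ⟶ P' := sq.lift ((yon S).map (pullback.fst σ φ) ≫ a)
    ((yon S).map (pullback.snd σ φ)) ((Category.assoc _ _ _).trans sqU.w)
  have sqw : IsPullback ((yon S).map (pullback.fst σ φ)) w a π :=
    IsPullback.of_bot (by rw [sq.lift_snd]; exact sqU) (sq.lift_fst _ _ _).symm sq
  have sqS : IsPullback (pullback.fst σ φ).left (pullback.snd σ φ).left σ.left φ.left :=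
    (IsPullback.of_hasPullback σ φ).map (Over.forget S)
  have : GeometricallyConnected (pullback.fst σ φ).left :=
    MorphismProperty.of_isPullback (P := @GeometricallyConnected) sqS.flip hgc
  have hc := (pullback.fst σ φ).left.isConnected_preimage_singleton u
  have e : Points.map π ⁻¹' {Points.ofPt a u} = Points.ofPt w '' ((pullback.fst σ φ).left ⁻¹' {u}) := by
    ext z
    constructor
    · intro hz
      obtain ⟨v, hv₁, hv₂⟩ := exists_point_of_isPullback sqw (x := Points.ofScheme U u) (y := z) (by
        rw [← Points.ofPt_eq_map_ofScheme]; exact hz.symm)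
      obtain ⟨r, rfl⟩ := (Points.schemeHomeo U').surjective v
      refine ⟨r, ?_, ?_⟩
      · rw [Points.map_yon_map_apply] at hv₁
        exact (Points.schemeHomeo U).injective hv₁
      · rw [Points.ofPt_eq_map_ofScheme]; exact hv₂
    · rintro ⟨r, hr, rfl⟩
      show Points.map π (Points.ofPt w r) = Points.ofPt a u
      rw [BcConn.map_ofPt_of_fac sqw.w.symm r]
      exact congrArg (Points.ofPt a) hr
  rw [e]
  exact hc.image _ (Points.continuous_ofPt w).continuousOn

end Groth.Agent.AlgSpDec.GeomComp
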