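import Groth.Agent.AlgSpDec.GlueHom
import Groth.Agent.AlgSpDec.HomDescent
import Groth.Agent.AlgSpDec.AffineRep
import Groth.Agent.AlgSpLib.Covers
import Groth.Agent.AlgSpPts.Descent
import Groth.Agent.EtGlue7.Glueing
import Groth.Agent.AlgSpFpqc.Mor

/-!
# Morphisms into a space with affine diagonal glue along a glueing pair
-/

set_option linter.style.haveILetI false
set_option autoImplicit false
set_option backward.isDefEq.respectTransparency false
set_option backward.isDefEq.respectTransparency.types false
set_option maxHeartbeats 1000000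

universe u

open CategoryTheory CategoryTheory.Limits AlgebraicGeometry Opposite AlgSp Groth.Agent.AlgSpLib
  Groth.Agent.EtGlue7 TensorProduct

namespace Groth.Agent.AlgSpDec.Glueable

attribute [local instance] Algebra.TensorProduct.rightAlgebra

variable {R : Type u} [CommRing R]

/-- A map from an affine scheme to a space with affine diagonal over an affine base is affine. -/
theorem repWith_affine_of_diag {Z : Sp (Spec (CommRingCat.of R))} (hd : IsAffineMor (Limits.diag Z))
    {U : Over (Spec (CommRingCat.of R))} [IsAffine U.left] (c : (yon _).obj U ⟶ Z) : RepWith @IsAffineHom c := by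
  have h1 : IsPullback c (prod.lift (𝟙 ((yon (Spec (CommRingCat.of R))).obj U)) c) (Limits.diag Z)
      (prod.map c (𝟙 Z)) := by
    refine ⟨⟨prod.hom_ext (by simp) (by simp)⟩, ⟨PullbackCone.IsLimit.mk _ (fun s => s.snd ≫ prod.fst) (fun s => ?_)
      (fun s => ?_) (fun s m _ h => ?_)⟩⟩
    · have h₁ : s.fst = s.snd ≫ prod.fst ≫ c := by simpa using congrArg (· ≫ prod.fst) s.condition
      rw [Category.assoc, h₁]
    · have h₁ : s.fst = s.snd ≫ prod.fst ≫ c := by simpa using congrArg (· ≫ prod.fst) s.condition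
      have h₂ : s.fst = s.snd ≫ prod.snd := by simpa using congrArg (· ≫ prod.snd) s.condition
      refine prod.hom_ext ?_ ?_
      · rw [Category.assoc, prod.lift_fst]
        exact Category.comp_id _
      · rw [Category.assoc, prod.lift_snd, Category.assoc, ← h₁, h₂]
    · rw [← h, Category.assoc, prod.lift_fst]
      exact (Category.comp_id m).symm
  have hg : RepWith @IsAffineHom (prod.lift (𝟙 ((yon (Spec (CommRingCat.of R))).obj U)) c) :=
    repWith_of_isPullback h1 (repWith_isAffineHom_of_isAffineMor hd)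
  let o : U ⟶ Over.mk (𝟙 (Spec (CommRingCat.of R))) := Over.homMk U.hom (Category.comp_id _)
  have ho : RepWith @IsAffineHom ((yon (Spec (CommRingCat.of R))).map o) :=
    (repWith_yon_map_iff _ o).2 (inferInstanceAs (IsAffineHom U.hom))
  have hs : RepWith @IsAffineHom (prod.snd : (yon (Spec (CommRingCat.of R))).obj U ⨯ Z ⟶ Z) := by
    have sq := IsPullback.of_is_product' (prodIsProd ((yon (Spec (CommRingCat.of R))).obj U) Z)
      (AlgSpPts.isTerminalYon (Spec (CommRingCat.of R)))
    rw [(AlgSpPts.isTerminalYon (Spec (CommRingCat.of R))).hom_ext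
      ((AlgSpPts.isTerminalYon (Spec (CommRingCat.of R))).from ((yon _).obj U)) ((yon _).map o)] at sq
    exact repWith_of_isPullback sq ho
  have := repWith_comp hg hs
  rwa [prod.lift_snd] at this

/-- A pushout of algebras is a pullback of spectra. -/
theorem isPullback_spMap {A B C D : Type u} [CommRing A] [Algebra R A] [CommRing B] [Algebra R B] [CommRing C]
    [Algebra R C] [CommRing D] [Algebra R D] {f : A →ₐ[R] B} {g : A →ₐ[R] C} {i : B →ₐ[R] D} {j : C →ₐ[R] D}
    (h : IsPushout (CommRingCat.ofHom f.toRingHom) (CommRingCat.ofHom g.toRingHom) (CommRingCat.ofHom i.toRingHom)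
      (CommRingCat.ofHom j.toRingHom)) : IsPullback (spMap i) (spMap j) (spMap f) (spMap g) :=
  IsPullback.of_map (Over.forget _) (by
    rw [spMap_comp, spMap_comp]
    exact congrArg spMap (AlgHom.ext fun a => congr($(h.w).hom a))) (isPullback_SpecMap_of_isPushout _ _ _ _ h)

/-- A commutative square with a pullback composite and a monomorphism at the bottom is a pullback. -/
theorem isPullback_of_mono {C : Type*} [Category C] {P X Y Z Y' Z' : C} {fst : P ⟶ X} {snd : P ⟶ Y} {f : X ⟶ Z}
    {g : Y ⟶ Z} {b : Y ⟶ Y'} {k : Z ⟶ Z'} {g' : Y' ⟶ Z'} [Mono b] (w : fst ≫ f = snd ≫ g) (e : g ≫ k = b ≫ g')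
    (h : IsPullback fst (snd ≫ b) (f ≫ k) g') : IsPullback fst snd f g := by
  have key : ∀ s : PullbackCone f g, s.fst ≫ f ≫ k = (s.snd ≫ b) ≫ g' := fun s => by
    rw [← Category.assoc, s.condition, Category.assoc, e, Category.assoc]
  refine ⟨⟨w⟩, ⟨PullbackCone.IsLimit.mk _ (fun s => h.lift s.fst (s.snd ≫ b) (key s)) (fun s => h.lift_fst _ _ _)
    (fun s => ?_) (fun s m h₁ h₂ => ?_)⟩⟩
  · rw [← cancel_mono b, Category.assoc, h.lift_snd]
  · refine h.hom_ext (h₁.trans (h.lift_fst _ _ _).symm) ?_
    rw [← Category.assoc, h₂, h.lift_snd]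

theorem spMap_id (A : Type u) [CommRing A] [Algebra R A] : spMap (AlgHom.id R A) = 𝟙 (specOv R A) := by
  ext1
  exact Spec.map_id _

theorem isIso_spMap {A B : Type u} [CommRing A] [Algebra R A] [CommRing B] [Algebra R B] (e : A ≃ₐ[R] B) :
    IsIso (spMap e.toAlgHom) := by
  refine ⟨spMap e.symm.toAlgHom, ?_, ?_⟩
  · rw [spMap_comp, show e.toAlgHom.comp e.symm.toAlgHom = AlgHom.id R B from AlgHom.ext e.apply_symm_apply, spMap_id]
  · rw [spMap_comp, show e.symm.toAlgHom.comp e.toAlgHom = AlgHom.id R A from AlgHom.ext e.symm_apply_apply, spMap_id]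

theorem mono_spMap_away {A : Type u} [CommRing A] [Algebra R A] (a : A) :
    Mono (spMap (IsScalarTower.toAlgHom R A (Localization.Away a))) := by
  have : IsOpenImmersion (spMap (IsScalarTower.toAlgHom R A (Localization.Away a))).left :=
    IsOpenImmersion.of_isLocalization a
  have : Mono ((Over.forget _).map (spMap (IsScalarTower.toAlgHom R A (Localization.Away a)))) :=
    inferInstanceAs (Mono (spMap (IsScalarTower.toAlgHom R A (Localization.Away a))).left)
  exact (Over.forget _).mono_of_mono_map this

section Chart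

variable {B P : Type u} [CommRing B] [CommRing P] [Algebra B P] [Algebra R B] [Algebra R P] [IsScalarTower R B P]
  {g : B}

/-- An affine chart of the target gives an etale chart of the source with a glued morphism. -/
theorem exists_chart (h : EtGlue.IsGlueingPair B P g) {Z : Sp (Spec (CommRingCat.of R))}
    {U : Over (Spec (CommRingCat.of R))} [IsAffine U.left] {c : (yon _).obj U ⟶ Z} (hc : RepWith @IsAffineHom c)
    (hce : RepWith @Etale c) (x₁ : (yon _).obj (specOv R (Localization.Away g)) ⟶ Z)
    (x₂ : (yon _).obj (specOv R P) ⟶ Z)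
    (hx : (yon _).map (spMap (toOverlap (R := R) (B := B) (P := P) (g := g))) ≫ x₁ =
      (yon _).map (spMap (IsScalarTower.toAlgHom R P (Localization.Away (algebraMap B P g)))) ≫ x₂) :
    ∃ (C : Type u) (_ : CommRing C) (_ : Algebra R C) (π : B →ₐ[R] C)
      (m : (yon _).obj (specOv R C) ⟶ Z),
      Etale (spMap π).left ∧
      (∀ (T : Over (Spec (CommRingCat.of R))) (y : T ⟶ specOv R C) (z : T ⟶ specOv R (Localization.Away g)),
        y ≫ spMap π = z ≫ spMap (IsScalarTower.toAlgHom R B (Localization.Away g)) →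
          (yon _).map y ≫ m = (yon _).map z ≫ x₁) ∧
      (∀ (T : Over (Spec (CommRingCat.of R))) (y : T ⟶ specOv R C) (z : T ⟶ specOv R P),
        y ≫ spMap π = z ≫ spMap (IsScalarTower.toAlgHom R B P) → (yon _).map y ≫ m = (yon _).map z ≫ x₂) ∧
      (∀ q : PrimeSpectrum (Localization.Away g), Points.ofPt x₁ (q : ↥(specOv R (Localization.Away g)).left) ∈
          Set.range (Points.ofPt c) →
        PrimeSpectrum.comap (algebraMap B (Localization.Away g)) q ∈ Set.range (PrimeSpectrum.comap π.toRingHom)) ∧
      ∀ q : PrimeSpectrum P, Points.ofPt x₂ (q : ↥(specOv R P).left) ∈ Set.range (Points.ofPt c) →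
        PrimeSpectrum.comap (algebraMap B P) q ∈ Set.range (PrimeSpectrum.comap π.toRingHom) := by
  -- the pulled back charts
  haveI : IsAffine (hc.rep.pullback x₁).left := by
    haveI : IsAffineHom (hc.rep.snd x₁).left := hc.property_snd x₁
    exact isAffine_of_isAffineHom (hc.rep.snd x₁).left
  haveI : IsAffine (hc.rep.pullback x₂).left := by
    haveI : IsAffineHom (hc.rep.snd x₂).left := hc.property_snd x₂
    exact isAffine_of_isAffineHom (hc.rep.snd x₂).left
  obtain ⟨C₁, _, _, ⟨i₁⟩⟩ := exists_iso_specOv R (hc.rep.pullback x₁)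
  obtain ⟨C₂, _, _, ⟨i₂⟩⟩ := exists_iso_specOv R (hc.rep.pullback x₂)
  obtain ⟨θ₁, hθ₁⟩ := exists_eq_spMap (i₁.hom ≫ hc.rep.snd x₁)
  obtain ⟨θ₂, hθ₂⟩ := exists_eq_spMap (i₂.hom ≫ hc.rep.snd x₂)
  let u₁ : specOv R C₁ ⟶ U := i₁.hom ≫ hc.rep.fst' x₁
  let u₂ : specOv R C₂ ⟶ U := i₂.hom ≫ hc.rep.fst' x₂
  have sq₁ : IsPullback ((yon (Spec (CommRingCat.of R))).map u₁) ((yon (Spec (CommRingCat.of R))).map (spMap θ₁)) c x₁ :=
    (hc.rep.isPullback' x₁).of_iso ((yon (Spec (CommRingCat.of R))).mapIso i₁.symm) (Iso.refl _) (Iso.refl _) (Iso.refl _)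
      (by simp only [Functor.mapIso_hom, Iso.symm_hom, Iso.refl_hom, Category.comp_id, ← Functor.map_comp, u₁,
            Iso.inv_hom_id_assoc])
      (by simp only [Functor.mapIso_hom, Iso.symm_hom, Iso.refl_hom, Category.comp_id, ← Functor.map_comp, ← hθ₁,
            Iso.inv_hom_id_assoc])
      (by simp) (by simp)
  have sq₂ : IsPullback ((yon (Spec (CommRingCat.of R))).map u₂) ((yon (Spec (CommRingCat.of R))).map (spMap θ₂)) c x₂ :=
    (hc.rep.isPullback' x₂).of_iso ((yon (Spec (CommRingCat.of R))).mapIso i₂.symm) (Iso.refl _) (Iso.refl _) (Iso.refl _)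
      (by simp only [Functor.mapIso_hom, Iso.symm_hom, Iso.refl_hom, Category.comp_id, ← Functor.map_comp, u₂,
            Iso.inv_hom_id_assoc])
      (by simp only [Functor.mapIso_hom, Iso.symm_hom, Iso.refl_hom, Category.comp_id, ← Functor.map_comp, ← hθ₂,
            Iso.inv_hom_id_assoc])
      (by simp) (by simp)
  letI : Algebra B C₁ := (θ₁.toRingHom.comp (algebraMap B (Localization.Away g))).toAlgebra
  haveI : IsScalarTower R B C₁ := IsScalarTower.of_algebraMap_eq fun r => by
    show _ = θ₁ (algebraMap B (Localization.Away g) (algebraMap R B r))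
    rw [← IsScalarTower.algebraMap_apply, θ₁.commutes]
  letI : Algebra P C₂ := θ₂.toRingHom.toAlgebra
  letI : Algebra B C₂ := (θ₂.toRingHom.comp (algebraMap B P)).toAlgebra
  haveI : IsScalarTower B P C₂ := IsScalarTower.of_algebraMap_eq fun b => rfl
  haveI : IsScalarTower R B C₂ := IsScalarTower.of_algebraMap_eq fun r => by
    show _ = θ₂ (algebraMap B P (algebraMap R B r))
    rw [← IsScalarTower.algebraMap_apply, θ₂.commutes]
  haveI : IsScalarTower R P C₂ := IsScalarTower.of_algebraMap_eq fun r => (θ₂.commutes r).symm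
  have h₁ : IsUnit (algebraMap B C₁ g) :=
    (IsLocalization.Away.algebraMap_isUnit (S := Localization.Away g) g).map θ₁.toRingHom
  -- the comparison over the overlap
  let O := Localization.Away (algebraMap B P g)
  let inR : C₁ →ₐ[R] P ⊗[B] C₁ := (Algebra.TensorProduct.includeRight : C₁ →ₐ[B] P ⊗[B] C₁).restrictScalars R
  let inL : P →ₐ[R] P ⊗[B] C₁ := (Algebra.TensorProduct.includeLeft : P →ₐ[B] P ⊗[B] C₁).restrictScalars R
  let aO : specOv R O ⟶ specOv R (Localization.Away g) := spMap (toOverlap (R := R) (B := B) (P := P) (g := g))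
  let bO : specOv R O ⟶ specOv R P := spMap (IsScalarTower.toAlgHom R P O)
  haveI : Mono bO := mono_spMap_away _
  have hinL : IsUnit (inL (algebraMap B P g)) := by
    show IsUnit (algebraMap B P g ⊗ₜ[B] (1 : C₁))
    rw [Algebra.algebraMap_eq_smul_one, TensorProduct.smul_tmul, ← Algebra.algebraMap_eq_smul_one]
    exact h₁.map (Algebra.TensorProduct.includeRight : C₁ →ₐ[B] P ⊗[B] C₁).toRingHom
  let κ₁ : O →ₐ[R] P ⊗[B] C₁ := IsLocalization.liftAlgHom (M := Submonoid.powers (algebraMap B P g)) (f := inL)
    (by rintro ⟨_, n, rfl⟩; rw [map_pow]; exact hinL.pow n)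
  have hκ₁ : ∀ p, κ₁ (algebraMap P O p) = inL p := fun p => IsLocalization.lift_eq _ p
  have hab : (toOverlap (R := R) (B := B) (P := P) (g := g)).comp (IsScalarTower.toAlgHom R B (Localization.Away g)) =
      (IsScalarTower.toAlgHom R P O).comp (IsScalarTower.toAlgHom R B P) := AlgHom.ext fun b => by
    show Localization.awayMap (algebraMap B P) g (algebraMap B (Localization.Away g) b) = _
    rw [Localization.awayMap, IsLocalization.Away.map, IsLocalization.map_eq]
    rfl
  have hκθ : inR.comp θ₁ = κ₁.comp (toOverlap (R := R) (B := B) (P := P) (g := g)) := by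
    refine AlgHom.ext fun z => RingHom.congr_fun (IsLocalization.ringHom_ext (Submonoid.powers g)
      (j := (inR.comp θ₁).toRingHom) (k := (κ₁.comp toOverlap).toRingHom) (RingHom.ext fun b => ?_)) z
    show inR (θ₁ (algebraMap B (Localization.Away g) b)) = κ₁ (toOverlap (R := R) (algebraMap B (Localization.Away g) b))
    rw [show toOverlap (R := R) (B := B) (P := P) (g := g) (algebraMap B (Localization.Away g) b) =
      algebraMap P O (algebraMap B P b) from AlgHom.congr_fun hab b, hκ₁]
    show (1 : P) ⊗ₜ[B] algebraMap B C₁ b = algebraMap B P b ⊗ₜ[B] (1 : C₁)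
    rw [Algebra.algebraMap_eq_smul_one, Algebra.algebraMap_eq_smul_one, TensorProduct.smul_tmul]
  have sA : IsPullback (spMap inR) (spMap κ₁) (spMap θ₁) aO := by
    refine isPullback_of_mono (b := bO) (k := spMap (IsScalarTower.toAlgHom R B (Localization.Away g)))
      (g' := spMap (IsScalarTower.toAlgHom R B P)) ?_ ?_ ?_
    · simp only [aO, spMap_comp, hκθ]
    · simp only [aO, bO, spMap_comp, hab]
    · rw [spMap_comp, spMap_comp]
      refine (isPullback_spMap (f := θ₁.comp (IsScalarTower.toAlgHom R B (Localization.Away g)))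
        (g := IsScalarTower.toAlgHom R B P) (i := inR) (j := κ₁.comp (IsScalarTower.toAlgHom R P O)) ?_)
      have e : κ₁.comp (IsScalarTower.toAlgHom R P O) = inL := AlgHom.ext hκ₁
      rw [e]
      exact (CommRingCat.isPushout_tensorProduct B P C₁).flip
  let C₂g := Localization.Away (algebraMap B C₂ g)
  let κ₂ : O →ₐ[R] C₂g :=
    ⟨Localization.awayMap (algebraMap P C₂) (algebraMap B P g), fun r => by
      show Localization.awayMap (algebraMap P C₂) (algebraMap B P g) (algebraMap R O r) = algebraMap R C₂g r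
      rw [IsScalarTower.algebraMap_apply R P O, Localization.awayMap, IsLocalization.Away.map, IsLocalization.map_eq,
        ← IsScalarTower.algebraMap_apply R P C₂]
      exact (IsScalarTower.algebraMap_apply R C₂ C₂g r).symm⟩
  have sB : IsPullback (spMap (IsScalarTower.toAlgHom R C₂ C₂g)) (spMap κ₂) (spMap θ₂) bO := by
    refine isPullback_spMap ?_
    haveI : IsLocalization ((Submonoid.powers (algebraMap B P g)).map θ₂.toRingHom) C₂g := by
      rw [Submonoid.map_powers]
      exact inferInstanceAs (IsLocalization.Away (algebraMap B C₂ g) C₂g)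
    exact (CommRingCat.isPushout_of_isLocalization θ₂.toRingHom κ₂.toRingHom
      (RingHom.ext fun p => by
        show Localization.awayMap (algebraMap P C₂) (algebraMap B P g) (algebraMap P O p) = algebraMap C₂ C₂g (θ₂ p)
        rw [Localization.awayMap, IsLocalization.Away.map, IsLocalization.map_eq]
        rfl) (Submonoid.powers (algebraMap B P g)))
  have sA' : IsPullback ((yon (Spec (CommRingCat.of R))).map (spMap inR) ≫ (yon (Spec (CommRingCat.of R))).map u₁) ((yon (Spec (CommRingCat.of R))).map (spMap κ₁)) c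
      ((yon (Spec (CommRingCat.of R))).map aO ≫ x₁) := (sA.map (yon (Spec (CommRingCat.of R)))).paste_horiz sq₁
  have sB' : IsPullback ((yon (Spec (CommRingCat.of R))).map (spMap (IsScalarTower.toAlgHom R C₂ C₂g)) ≫ (yon (Spec (CommRingCat.of R))).map u₂)
      ((yon (Spec (CommRingCat.of R))).map (spMap κ₂)) c ((yon (Spec (CommRingCat.of R))).map aO ≫ x₁) := by
    rw [hx]
    exact (sB.map (yon (Spec (CommRingCat.of R)))).paste_horiz sq₂
  obtain ⟨E, hE₁, hE₂⟩ : ∃ E : specOv R C₂g ≅ specOv R (P ⊗[B] C₁),
      E.hom ≫ spMap κ₁ = spMap κ₂ ∧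
        E.hom ≫ spMap inR ≫ u₁ = spMap (IsScalarTower.toAlgHom R C₂ C₂g) ≫ u₂ := by
    let E₀ := sB'.isoIsPullback _ _ sA'
    refine ⟨⟨(yon (Spec (CommRingCat.of R))).preimage E₀.hom, (yon (Spec (CommRingCat.of R))).preimage E₀.inv, (yon (Spec (CommRingCat.of R))).map_injective (by simp),
      (yon (Spec (CommRingCat.of R))).map_injective (by simp)⟩, (yon (Spec (CommRingCat.of R))).map_injective ?_, (yon (Spec (CommRingCat.of R))).map_injective ?_⟩
    · rw [Functor.map_comp, Functor.map_preimage]
      exact IsPullback.isoIsPullback_hom_snd _ _ sB' sA'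
    · rw [Functor.map_comp, Functor.map_preimage, Functor.map_comp, Functor.map_comp]
      exact IsPullback.isoIsPullback_hom_fst _ _ sB' sA'
  obtain ⟨e, he⟩ := exists_eq_spMap E.hom
  obtain ⟨e', he'⟩ := exists_eq_spMap E.inv
  have hee' : e.comp e' = AlgHom.id R _ := spMap_injective (by
    rw [← spMap_comp, ← he, ← he', E.hom_inv_id, spMap_id])
  have he'e : e'.comp e = AlgHom.id R _ := spMap_injective (by
    rw [← spMap_comp, ← he, ← he', E.inv_hom_id, spMap_id])
  have heκ : e.comp κ₁ = κ₂ := spMap_injective (by rw [← spMap_comp, ← he, hE₁])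
  have heP : ∀ p : P, e (inL p) = algebraMap P C₂g p := fun p => by
    rw [← hκ₁]
    refine (AlgHom.congr_fun heκ (algebraMap P O p)).trans ?_
    show Localization.awayMap (algebraMap P C₂) (algebraMap B P g) (algebraMap P O p) = algebraMap P C₂g p
    rw [Localization.awayMap, IsLocalization.Away.map, IsLocalization.map_eq]
    exact (IsScalarTower.algebraMap_apply P C₂ C₂g p).symm
  let φ : C₂g ≃ₐ[P] P ⊗[B] C₁ :=
    { toFun := e'
      invFun := e
      left_inv := fun x => AlgHom.congr_fun hee' x
      right_inv := fun x => AlgHom.congr_fun he'e x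
      map_mul' := map_mul e'
      map_add' := map_add e'
      commutes' := fun p => (congrArg e' (heP p).symm).trans (AlgHom.congr_fun he'e (inL p)) }
  obtain ⟨C, _, _, hCg, e₁, e₂, hcompat⟩ := exists_glueable_algebra h C₁ h₁ C₂ φ
  letI : Algebra R C := ((algebraMap B C).comp (algebraMap R B)).toAlgebra
  haveI : IsScalarTower R B C := IsScalarTower.of_algebraMap_eq fun _ => rfl
  let π : B →ₐ[R] C := IsScalarTower.toAlgHom R B C
  let gC := algebraMap B C g
  let PC := P ⊗[B] C
  have hC : EtGlue.IsGlueingPair C PC gC := glueingPair_of_isGlueable h.1 C hCg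
  -- the glued morphism to the chart
  let s₁ : specOv R (Localization.Away gC) ⟶ U := spMap (e₁.symm.toAlgHom.restrictScalars R) ≫ u₁
  let s₂ : specOv R PC ⟶ U := spMap (e₂.symm.toAlgHom.restrictScalars R) ≫ u₂
  let loc₂ : C₂ →ₐ[R] Localization.Away (algebraMap C PC gC) :=
    (IsScalarTower.toAlgHom R PC (Localization.Away (algebraMap C PC gC))).comp (e₂.symm.toAlgHom.restrictScalars R)
  have he₂g : e₂.symm (algebraMap B C₂ g) = algebraMap C PC gC := by
    rw [IsScalarTower.algebraMap_apply B P C₂, e₂.symm.commutes]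
    show algebraMap B P g ⊗ₜ[B] (1 : C) = (1 : P) ⊗ₜ[B] algebraMap B C g
    rw [Algebra.algebraMap_eq_smul_one, Algebra.algebraMap_eq_smul_one, TensorProduct.smul_tmul]
  let η : C₂g →ₐ[R] Localization.Away (algebraMap C PC gC) :=
    IsLocalization.liftAlgHom (M := Submonoid.powers (algebraMap B C₂ g)) (f := loc₂) (by
      rintro ⟨_, n, rfl⟩
      rw [map_pow]
      refine IsUnit.pow n ?_
      show IsUnit (algebraMap PC _ (e₂.symm (algebraMap B C₂ g)))
      rw [he₂g]
      exact IsLocalization.Away.algebraMap_isUnit _)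
  have hη : ∀ z, η (algebraMap C₂ C₂g z) = loc₂ z := fun z => IsLocalization.lift_eq _ z
  have key : (toOverlap (R := R) (B := C) (P := PC) (g := gC)).comp (e₁.symm.toAlgHom.restrictScalars R) =
      η.comp (e.comp inR) := by
    refine AlgHom.ext fun z => ?_
    obtain ⟨z, rfl⟩ := e₁.surjective z
    show toOverlap (R := R) (B := C) (P := PC) (g := gC) (e₁.symm (e₁ z)) = η (e (inR (e₁ z)))
    rw [e₁.symm_apply_apply]
    refine RingHom.congr_fun (IsLocalization.ringHom_ext (Submonoid.powers gC)
      (j := (toOverlap (R := R) (B := C) (P := PC) (g := gC)).toRingHom)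
      (k := (η.comp ((e.comp inR).comp (e₁.toAlgHom.restrictScalars R))).toRingHom) (RingHom.ext fun a => ?_)) z
    show Localization.awayMap (algebraMap C PC) gC (algebraMap C (Localization.Away gC) a) =
      η (e (inR (e₁ (algebraMap C (Localization.Away gC) a))))
    rw [show inR (e₁ (algebraMap C (Localization.Away gC) a)) =
        φ (algebraMap C₂ C₂g (e₂ ((1 : P) ⊗ₜ[B] a))) from (hcompat a).symm,
      show e (φ (algebraMap C₂ C₂g (e₂ ((1 : P) ⊗ₜ[B] a)))) = algebraMap C₂ C₂g (e₂ ((1 : P) ⊗ₜ[B] a)) from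
        φ.left_inv _, hη, Localization.awayMap, IsLocalization.Away.map, IsLocalization.map_eq]
    show algebraMap PC _ ((1 : P) ⊗ₜ[B] a) = algebraMap PC _ (e₂.symm (e₂ ((1 : P) ⊗ₜ[B] a)))
    rw [e₂.symm_apply_apply]
  have hs : spMap (toOverlap (R := R) (B := C) (P := PC) (g := gC)) ≫ s₁ =
      spMap (IsScalarTower.toAlgHom R PC (Localization.Away (algebraMap C PC gC))) ≫ s₂ := by
    have e₃ : η.comp (IsScalarTower.toAlgHom R C₂ C₂g) = loc₂ := AlgHom.ext hη
    simp only [s₁, s₂, ← Category.assoc, spMap_comp, key]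
    rw [show (IsScalarTower.toAlgHom R PC (Localization.Away (algebraMap C PC gC))).comp
      (e₂.symm.toAlgHom.restrictScalars R) = η.comp (IsScalarTower.toAlgHom R C₂ C₂g) from e₃.symm,
      ← spMap_comp, ← spMap_comp, ← spMap_comp, ← he, Category.assoc, Category.assoc, Category.assoc, hE₂]
  obtain ⟨s, hsA, hsB⟩ := exists_glue_spMap hC s₁ s₂ hs
  -- the restrictions to the two members
  have sqA : IsPullback (spMap (IsScalarTower.toAlgHom R C (Localization.Away gC)))
      (spMap (toOverlap (R := R) (B := B) (P := C) (g := g))) (spMap π)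
      (spMap (IsScalarTower.toAlgHom R B (Localization.Away g))) := by
    refine isPullback_spMap ?_
    haveI : IsLocalization ((Submonoid.powers g).map (algebraMap B C)) (Localization.Away gC) := by
      rw [Submonoid.map_powers]
      exact inferInstanceAs (IsLocalization.Away gC _)
    exact (CommRingCat.isPushout_of_isLocalization (algebraMap B C) (Localization.awayMap (algebraMap B C) g)
      (RingHom.ext fun b => by
        show Localization.awayMap (algebraMap B C) g (algebraMap B (Localization.Away g) b) =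
          algebraMap C (Localization.Away gC) (algebraMap B C b)
        rw [Localization.awayMap, IsLocalization.Away.map, IsLocalization.map_eq]) (Submonoid.powers g))
  let inLC : P →ₐ[R] PC := (Algebra.TensorProduct.includeLeft : P →ₐ[B] PC).restrictScalars R
  have sqB : IsPullback (spMap (IsScalarTower.toAlgHom R C PC)) (spMap inLC) (spMap π)
      (spMap (IsScalarTower.toAlgHom R B P)) :=
    isPullback_spMap (CommRingCat.isPushout_tensorProduct B P C).flip
  have hth₁ : (e₁.symm.toAlgHom.restrictScalars R).comp θ₁ = toOverlap (R := R) (B := B) (P := C) (g := g) := by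
    refine AlgHom.ext fun z => RingHom.congr_fun (IsLocalization.ringHom_ext (Submonoid.powers g)
      (j := ((e₁.symm.toAlgHom.restrictScalars R).comp θ₁).toRingHom)
      (k := (toOverlap (R := R) (B := B) (P := C) (g := g)).toRingHom) (RingHom.ext fun b => ?_)) z
    show e₁.symm (θ₁ (algebraMap B (Localization.Away g) b)) =
      Localization.awayMap (algebraMap B C) g (algebraMap B (Localization.Away g) b)
    rw [Localization.awayMap, IsLocalization.Away.map, IsLocalization.map_eq,
      show θ₁ (algebraMap B (Localization.Away g) b) = algebraMap B C₁ b from rfl, e₁.symm.commutes]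
    exact (IsScalarTower.algebraMap_apply B C _ b)
  have hth₂ : (e₂.symm.toAlgHom.restrictScalars R).comp θ₂ = inLC := AlgHom.ext fun p => e₂.symm.commutes p
  have hw₁ := sq₁.w
  have hw₂ := sq₂.w
  let m : (yon (Spec (CommRingCat.of R))).obj (specOv R C) ⟶ Z := (yon (Spec (CommRingCat.of R))).map s ≫ c
  have hm₁ : (yon (Spec (CommRingCat.of R))).map (spMap (IsScalarTower.toAlgHom R C (Localization.Away gC))) ≫ m =
      (yon (Spec (CommRingCat.of R))).map (spMap (toOverlap (R := R) (B := B) (P := C) (g := g))) ≫ x₁ := by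
    rw [← hth₁, ← spMap_comp, Functor.map_comp, Category.assoc, ← hw₁, ← Category.assoc, ← Category.assoc,
      ← Functor.map_comp, ← Functor.map_comp, hsA]
  have hm₂ : (yon (Spec (CommRingCat.of R))).map (spMap (IsScalarTower.toAlgHom R C PC)) ≫ m = (yon (Spec (CommRingCat.of R))).map (spMap inLC) ≫ x₂ := by
    rw [← hth₂, ← spMap_comp, Functor.map_comp, Category.assoc, ← hw₂, ← Category.assoc, ← Category.assoc,
      ← Functor.map_comp, ← Functor.map_comp, hsB]
  refine ⟨C, inferInstance, inferInstance, π, m, ?_, fun T y z hyz => ?_, fun T y z hyz => ?_, fun q hq => ?_,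
    fun q hq => ?_⟩
  · have hEt₁ : Etale (spMap θ₁).left := by
      have : Etale (hc.rep.snd x₁).left := hce.property x₁ _ _ (hc.rep.isPullback x₁)
      have : IsIso i₁.hom.left := inferInstanceAs (IsIso ((Over.forget _).map i₁.hom))
      rw [← hθ₁, Over.comp_left]
      infer_instance
    have hEt₂ : Etale (spMap θ₂).left := by
      have : Etale (hc.rep.snd x₂).left := hce.property x₂ _ _ (hc.rep.isPullback x₂)
      have : IsIso i₂.hom.left := inferInstanceAs (IsIso ((Over.forget _).map i₂.hom))
      rw [← hθ₂, Over.comp_left]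
      infer_instance
    have r₁ : θ₁.toRingHom.Etale := (HasRingHomProperty.Spec_iff (P := @Etale)).1 hEt₁
    have r₂ : θ₂.toRingHom.Etale := (HasRingHomProperty.Spec_iff (P := @Etale)).1 hEt₂
    refine (HasRingHomProperty.Spec_iff (P := @Etale)).2 ?_
    refine (etale_iff (R := B) (R' := P) (f := g) (A := B) (B := C) h.1 (isGlueable_self h)).2 ⟨?_, ?_⟩
    · have e : locHom B C g = (e₁.symm.toRingEquiv.toRingHom).comp θ₁.toRingHom := by
        refine IsLocalization.ringHom_ext (Submonoid.powers (algebraMap B B g)) (RingHom.ext fun b => ?_)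
        refine (locHom_algebraMap (A := B) (B := C) b).trans ?_
        refine (AlgHom.congr_fun hth₁ (algebraMap B (Localization.Away g) b)).trans ?_ |>.symm
        show Localization.awayMap (algebraMap B C) g (algebraMap B (Localization.Away g) b) =
          algebraMap C (Localization.Away gC) (algebraMap B C b)
        rw [Localization.awayMap, IsLocalization.Away.map, IsLocalization.map_eq]
      rw [e]
      exact RingHom.Etale.stableUnderComposition _ _ r₁
        (RingHom.Etale.of_bijective e₁.symm.bijective)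
    · refine (congrArg (fun χ : _ →+* _ => χ.Etale) ?_).mpr (RingHom.Etale.stableUnderComposition _
        (e₂.symm.toRingEquiv.toRingHom)
        (RingHom.Etale.stableUnderComposition _ _
          (RingHom.Etale.of_bijective (f := (Algebra.TensorProduct.rid B P P).toRingEquiv.toRingHom)
            (Algebra.TensorProduct.rid B P P).bijective) r₂)
        (RingHom.Etale.of_bijective e₂.symm.bijective))
      refine RingHom.ext fun t => ?_
      induction t with
      | zero => simp
      | add a b ha hb => rw [map_add, map_add, ha, hb]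
      | tmul p b =>
        show p ⊗ₜ[B] algebraMap B C b = e₂.symm (θ₂ (Algebra.TensorProduct.rid B P P (p ⊗ₜ[B] b)))
        rw [Algebra.TensorProduct.rid_tmul, show θ₂ (b • p) = algebraMap P C₂ (b • p) from rfl, e₂.symm.commutes]
        show _ = (b • p) ⊗ₜ[B] (1 : C)
        rw [TensorProduct.smul_tmul, ← Algebra.algebraMap_eq_smul_one]
  · rw [← sqA.lift_fst y z hyz, Functor.map_comp, Category.assoc, hm₁, ← Category.assoc, ← Functor.map_comp,
      sqA.lift_snd]
  · rw [← sqB.lift_fst y z hyz, Functor.map_comp, Category.assoc, hm₂, ← Category.assoc, ← Functor.map_comp,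
      sqB.lift_snd]
  · obtain ⟨w, hw⟩ := hq
    obtain ⟨t, -, ht⟩ := exists_ofPt_of_eq sq₁ (u := w) hw
    refine ⟨PrimeSpectrum.comap ((e₁.toRingEquiv.toRingHom).comp (algebraMap C (Localization.Away gC))) t, ?_⟩
    have ht' : PrimeSpectrum.comap θ₁.toRingHom t = q := ht
    rw [← ht']
    refine PrimeSpectrum.ext (Ideal.ext fun b => iff_of_eq (congrArg (· ∈ PrimeSpectrum.asIdeal t) ?_))
    show e₁ (algebraMap C (Localization.Away gC) (algebraMap B C b)) = algebraMap B C₁ b
    rw [← IsScalarTower.algebraMap_apply B C (Localization.Away gC), e₁.commutes]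
  · obtain ⟨w, hw⟩ := hq
    obtain ⟨t, -, ht⟩ := exists_ofPt_of_eq sq₂ (u := w) hw
    refine ⟨PrimeSpectrum.comap ((e₂.toRingEquiv.toRingHom).comp
      (Algebra.TensorProduct.includeRight : C →ₐ[B] P ⊗[B] C).toRingHom) t, ?_⟩
    have ht' : PrimeSpectrum.comap θ₂.toRingHom t = q := ht
    rw [← ht']
    refine PrimeSpectrum.ext (Ideal.ext fun b => iff_of_eq (congrArg (· ∈ PrimeSpectrum.asIdeal t) ?_))
    show e₂ ((1 : P) ⊗ₜ[B] algebraMap B C b) = algebraMap P C₂ (algebraMap B P b)
    rw [← e₂.commutes]
    congr 1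
    show _ = algebraMap B P b ⊗ₜ[B] (1 : C)
    rw [Algebra.algebraMap_eq_smul_one, Algebra.algebraMap_eq_smul_one, TensorProduct.smul_tmul]

end Chart

section Exist

variable {B P : Type u} [CommRing B] [CommRing P] [Algebra B P] [Algebra R B] [Algebra R P] [IsScalarTower R B P]
  {g : B}

/-- Maps from a scheme etale over `Spec B` agreeing with the two members are equal. -/
theorem eq_of_cond_etale (h : EtGlue.IsGlueingPair B P g) {Z : Sp (Spec (CommRingCat.of R))} (hZ : IsAlgSpace Z)
    {W : Over (Spec (CommRingCat.of R))} (ρ : W ⟶ specOv R B) [Etale ρ.left] (u v : (yon _).obj W ⟶ Z)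
    (h₁ : ∀ (T : Over (Spec (CommRingCat.of R))) (y : T ⟶ W) (z : T ⟶ specOv R (Localization.Away g)),
      y ≫ ρ = z ≫ spMap (IsScalarTower.toAlgHom R B (Localization.Away g)) →
        (yon _).map y ≫ u = (yon _).map y ≫ v)
    (h₂ : ∀ (T : Over (Spec (CommRingCat.of R))) (y : T ⟶ W) (z : T ⟶ specOv R P),
      y ≫ ρ = z ≫ spMap (IsScalarTower.toAlgHom R B P) → (yon _).map y ≫ u = (yon _).map y ≫ v) : u = v := by
  refine hom_ext_of_etale_family (AlgSpFpqc.opIncl W) (fun O => inferInstanceAs (Etale O.1.ι))
    (fun t => (AlgSpFpqc.opIncl_cover W).2 t) fun O => ?_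
  haveI : IsAffine (Over.mk (O.1.ι ≫ W.hom)).left := O.2
  obtain ⟨D, _, _, ⟨e⟩⟩ := exists_iso_specOv R (Over.mk (O.1.ι ≫ W.hom))
  have : IsIso e.hom.left := inferInstanceAs (IsIso ((Over.forget _).map e.hom))
  obtain ⟨δ, hδ⟩ := exists_eq_spMap (e.hom ≫ AlgSpFpqc.opIncl W O ≫ ρ)
  haveI : IsOpenImmersion (AlgSpFpqc.opIncl W O).left := inferInstanceAs (IsOpenImmersion O.1.ι)
  have hδe : Etale (spMap δ).left := by rw [← hδ, Over.comp_left, Over.comp_left]; infer_instance
  letI : Algebra B D := δ.toRingHom.toAlgebra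
  haveI : IsScalarTower R B D := IsScalarTower.of_algebraMap_eq fun t => (δ.commutes t).symm
  have hδ' : IsScalarTower.toAlgHom R B D = δ := AlgHom.ext fun _ => rfl
  haveI : Module.Flat B D := flat_of_etale hδe
  rw [← cancel_epi ((yon _).map e.hom)]
  refine eq_of_glueingPair hZ (glueingPair_bc (P := P) D h) _ _ ?_ ?_
  · simp only [← Category.assoc, ← Functor.map_comp]
    refine h₁ _ _ (spMap (bcLoc (R := R) (g := g) D)) ?_
    simp only [Category.assoc]
    rw [hδ, spMap_comp, spMap_comp, bcLoc_comp, hδ']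
  · simp only [← Category.assoc, ← Functor.map_comp]
    refine h₂ _ _ (spMap (bcSnd (R := R) (P := P) D)) ?_
    simp only [Category.assoc]
    rw [hδ, spMap_comp, spMap_comp, bcSnd_comp, hδ']

/-- Maps from the two members to a space with affine diagonal glue. -/
theorem exists_glue (h : EtGlue.IsGlueingPair B P g) {Z : Sp (Spec (CommRingCat.of R))} (hZ : IsAlgSpace Z)
    (hd : IsAffineMor (Limits.diag Z)) (x₁ : (yon _).obj (specOv R (Localization.Away g)) ⟶ Z)
    (x₂ : (yon _).obj (specOv R P) ⟶ Z)
    (hx : (yon _).map (spMap (toOverlap (R := R) (B := B) (P := P) (g := g))) ≫ x₁ =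
      (yon _).map (spMap (IsScalarTower.toAlgHom R P (Localization.Away (algebraMap B P g)))) ≫ x₂) :
    ∃ x : (yon _).obj (specOv R B) ⟶ Z,
      (yon _).map (spMap (IsScalarTower.toAlgHom R B (Localization.Away g))) ≫ x = x₁ ∧
      (yon _).map (spMap (IsScalarTower.toAlgHom R B P)) ≫ x = x₂ := by
  obtain ⟨ι, A, _, _, c, hc, hcs⟩ := exists_affine_cover hZ
  have key := fun k => exists_chart h (repWith_affine_of_diag hd (c k)) (hc k) x₁ x₂ hx
  choose C iC iC' π m het hA hB hr₁ hr₂ using key
  have hq1 : Function.Bijective (Ideal.quotientMap (Ideal.map (algebraMap B P) (Ideal.span {g})) (algebraMap B P)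
      Ideal.le_comap_map) := by
    have key : ∀ g' : B, g' = g → Function.Bijective
        (Ideal.quotientMap (Ideal.map (algebraMap B P) (Ideal.span {g'})) (algebraMap B P) Ideal.le_comap_map) →
        Function.Bijective (Ideal.quotientMap (Ideal.map (algebraMap B P) (Ideal.span {g})) (algebraMap B P)
          Ideal.le_comap_map) := by
      rintro g' rfl h'; exact h'
    exact key _ (pow_one g) (h.1 1 one_pos)
  have hmem : ∀ z : Points Z, ∃ k, z ∈ Set.range (Points.ofPt (c k)) := by
    intro z
    obtain ⟨k, w, rfl⟩ := hcs z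
    exact ⟨k, Points.toScheme _ w, by rw [Points.ofPt_eq_map_ofScheme, Points.ofScheme_toScheme]⟩
  have hsurj : ∀ p : ↥(specOv R B).left, ∃ k, p ∈ Set.range (spMap (π k)).left := by
    intro p
    rcases jointly_surjective hq1 p with ⟨q, hq⟩ | ⟨q, hq⟩
    · obtain ⟨k, hk⟩ := hmem (Points.ofPt x₂ (q : ↥(specOv R P).left))
      obtain ⟨r, hr⟩ := hr₂ k q hk
      exact ⟨k, r, hr.trans hq⟩
    · obtain ⟨k, hk⟩ := hmem (Points.ofPt x₁ (q : ↥(specOv R (Localization.Away g)).left))
      obtain ⟨r, hr⟩ := hr₁ k q hk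
      exact ⟨k, r, hr.trans hq⟩
  have hflat : ∀ k, Flat (spMap (π k)).left ∧ LocallyOfFinitePresentation (spMap (π k)).left := fun k => by
    haveI := het k
    exact ⟨inferInstance, inferInstance⟩
  obtain ⟨x, hx'⟩ := AlgSpDec.exists_desc_of_fppfCover (Z := Z) (IsAlgSpace.yon_obj _)
    (fun k => IsAlgSpace.yon_obj _) (AlgSpFpqc.fppfCover_yon (fun k => spMap (π k)) hflat hsurj) m
    (fun i j T p q hpq => by
      obtain ⟨a, rfl⟩ := (yon _).map_surjective p
      obtain ⟨b, rfl⟩ := (yon _).map_surjective q
      have e : a ≫ spMap (π i) = b ≫ spMap (π j) := (yon _).map_injective (by simpa using hpq)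
      haveI := het i
      haveI := het j
      haveI : Etale (pullback.fst (spMap (π i)) (spMap (π j))).left :=
        MorphismProperty.of_isPullback (AlgSpFpqc.isPullback_left (spMap (π i)) (spMap (π j))).flip (het j)
      haveI : Etale (pullback.fst (spMap (π i)) (spMap (π j)) ≫ spMap (π i)).left := by
        rw [Over.comp_left]; infer_instance
      have key : (yon _).map (pullback.fst (spMap (π i)) (spMap (π j))) ≫ m i =
          (yon _).map (pullback.snd (spMap (π i)) (spMap (π j))) ≫ m j := by
        refine eq_of_cond_etale h hZ (pullback.fst (spMap (π i)) (spMap (π j)) ≫ spMap (π i)) _ _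
          (fun T y z hyz => ?_) (fun T y z hyz => ?_)
        · rw [← Category.assoc, ← Category.assoc, ← Functor.map_comp, ← Functor.map_comp,
            hA i T _ z (by rw [Category.assoc, hyz]),
            hA j T _ z (by rw [Category.assoc, ← pullback.condition, hyz])]
        · rw [← Category.assoc, ← Category.assoc, ← Functor.map_comp, ← Functor.map_comp,
            hB i T _ z (by rw [Category.assoc, hyz]),
            hB j T _ z (by rw [Category.assoc, ← pullback.condition, hyz])]
      rw [← pullback.lift_fst a b e, Functor.map_comp, Category.assoc, key, ← Category.assoc, ← Functor.map_comp,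
        pullback.lift_snd])
  refine ⟨x, ?_, ?_⟩
  · refine hom_ext_of_etale_family
      (fun k => pullback.snd (spMap (π k)) (spMap (IsScalarTower.toAlgHom R B (Localization.Away g))))
      (fun k => MorphismProperty.of_isPullback (AlgSpFpqc.isPullback_left _ _) (het k))
      (fun t => (AlgSpFpqc.cover_pullback _ _ hflat hsurj).2 t) fun k => ?_
    rw [← Category.assoc, ← Functor.map_comp, ← pullback.condition, Functor.map_comp, Category.assoc, hx' k]
    exact hA k _ _ _ pullback.condition
  · refine hom_ext_of_etale_family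
      (fun k => pullback.snd (spMap (π k)) (spMap (IsScalarTower.toAlgHom R B P)))
      (fun k => MorphismProperty.of_isPullback (AlgSpFpqc.isPullback_left _ _) (het k))
      (fun t => (AlgSpFpqc.cover_pullback _ _ hflat hsurj).2 t) fun k => ?_
    rw [← Category.assoc, ← Functor.map_comp, ← pullback.condition, Functor.map_comp, Category.assoc, hx' k]
    exact hB k _ _ _ pullback.condition

end Exist

end Groth.Agent.AlgSpDec.Glueable
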