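import Groth.Agent.AlgSpDec.Glueable
import Groth.Agent.AlgSpDec.Glue

/-!
# Morphisms into algebraic spaces are determined on the members of a glueing pair
-/

set_option backward.isDefEq.respectTransparency false
set_option backward.isDefEq.respectTransparency.types false

universe u

open CategoryTheory CategoryTheory.Limits AlgebraicGeometry Opposite AlgSp Groth.Agent.AlgSpLib
  Groth.Agent.EtGlue7 TensorProduct

namespace Groth.Agent.AlgSpDec.Glueable

attribute [local instance] Algebra.TensorProduct.rightAlgebra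

variable {R : Type u} [CommRing R]

/-- The map of spectra over `Spec R` of an algebra map. -/
noncomputable def spMap {A B : Type u} [CommRing A] [Algebra R A] [CommRing B] [Algebra R B] (φ : A →ₐ[R] B) :
    specOv R B ⟶ specOv R A :=
  Over.homMk (Spec.map (CommRingCat.ofHom φ.toRingHom)) (by
    show Spec.map _ ≫ Spec.map _ = Spec.map _
    rw [← Spec.map_comp, ← CommRingCat.ofHom_comp]
    exact congrArg (fun χ => Spec.map (CommRingCat.ofHom χ)) φ.comp_algebraMap)

theorem spMap_comp {A B C : Type u} [CommRing A] [Algebra R A] [CommRing B] [Algebra R B] [CommRing C] [Algebra R C]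
    (φ : A →ₐ[R] B) (ψ : B →ₐ[R] C) : spMap ψ ≫ spMap φ = spMap (ψ.comp φ) := by
  ext1
  show Spec.map _ ≫ Spec.map _ = Spec.map _
  rw [← Spec.map_comp, ← CommRingCat.ofHom_comp]
  rfl

theorem exists_eq_spMap {A B : Type u} [CommRing A] [Algebra R A] [CommRing B] [Algebra R B]
    (q : specOv R B ⟶ specOv R A) : ∃ φ : A →ₐ[R] B, q = spMap φ := by
  obtain ⟨φ, hφ⟩ := exists_algHom R q
  exact ⟨φ, Over.OverMorphism.ext hφ⟩

theorem spMap_injective {A B : Type u} [CommRing A] [Algebra R A] [CommRing B] [Algebra R B]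
    {φ ψ : A →ₐ[R] B} (h : spMap φ = spMap ψ) : φ = ψ :=
  AlgHom.ext fun a => congr($(Spec.map_injective (show Spec.map _ = Spec.map _ from congr($(h).left))).hom a)

/-- Maps agreeing on a jointly surjective etale family are equal. -/
theorem hom_ext_of_etale_family {S : Scheme.{u}} {ι : Type u} {T : Over S} {V : ι → Over S} (φ : ∀ i, V i ⟶ T)
    (he : ∀ i, Etale (φ i).left) (hs : ∀ t, ∃ i v, (φ i).left v = t) {F : Sp S}
    {a b : (yon S).obj T ⟶ F} (h : ∀ i, (yon S).map (φ i) ≫ a = (yon S).map (φ i) ≫ b) : a = b := by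
  let d : sigmaOver V ⟶ T := Over.homMk (Sigma.desc fun i => (φ i).left) (Sigma.hom_ext _ _ fun i => by
    show Sigma.ι (fun i => (V i).left) i ≫ Sigma.desc _ ≫ T.hom = Sigma.ι (fun i => (V i).left) i ≫ Sigma.desc _
    rw [Sigma.ι_desc_assoc, Sigma.ι_desc, Over.w])
  have hd : ∀ i, sigmaι V i ≫ d = φ i := fun i => Over.OverMorphism.ext (Sigma.ι_desc _ _)
  have : Etale d.left := (IsZariskiLocalAtSource.iff_of_openCover
    (sigmaOpenCover fun i => (V i).left)).2 fun i => by
      show Etale (Sigma.ι (fun i => (V i).left) i ≫ Sigma.desc _)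
      rw [Sigma.ι_desc]; exact he i
  have : Surjective d.left := ⟨fun t => by
    obtain ⟨i, v, rfl⟩ := hs t
    exact ⟨(sigmaι V i).left v, by rw [← Scheme.Hom.comp_apply, ← Over.comp_left, hd]⟩⟩
  refine hom_ext_of_fppf d (fppf_of_etale d.left) a b (hom_ext_sigma V fun i => ?_)
  rw [← Category.assoc, ← Category.assoc, ← Functor.map_comp, hd]
  exact h i

instance (A : Type u) [CommRing A] [Algebra R A] : IsAffine (specOv R A).left :=
  inferInstanceAs (IsAffine (Spec (CommRingCat.of A)))

section Pair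

variable {B P : Type u} [CommRing B] [CommRing P] [Algebra B P] [Algebra R B] [Algebra R P] [IsScalarTower R B P]
  {g : B}

theorem algHom_ext_of_glueingPair (h : EtGlue.IsGlueingPair B P g) {C : Type u} [CommRing C] [Algebra R C]
    {φ ψ : C →ₐ[R] B} (h1 : (IsScalarTower.toAlgHom R B (Localization.Away g)).comp φ =
      (IsScalarTower.toAlgHom R B (Localization.Away g)).comp ψ)
    (h2 : (IsScalarTower.toAlgHom R B P).comp φ = (IsScalarTower.toAlgHom R B P).comp ψ) : φ = ψ :=
  AlgHom.ext fun c => h.2.1 (Prod.ext congr($h2 c) congr($h1 c))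

theorem exists_glue_algHom (h : EtGlue.IsGlueingPair B P g) {C : Type u} [CommRing C] [Algebra R C]
    (φ₁ : C →ₐ[R] Localization.Away g) (φ₂ : C →ₐ[R] P)
    (hc : ∀ c, algebraMap P (Localization.Away (algebraMap B P g)) (φ₂ c) =
      Localization.awayMap (algebraMap B P) g (φ₁ c)) :
    ∃ φ : C →ₐ[R] B, (IsScalarTower.toAlgHom R B (Localization.Away g)).comp φ = φ₁ ∧
      (IsScalarTower.toAlgHom R B P).comp φ = φ₂ := by
  choose φ hφ₂ hφ₁ using fun c => h.2.2.1 _ _ (hc c)
  let ι : B →ₐ[R] P × Localization.Away g :=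
    (IsScalarTower.toAlgHom R B P).prod (IsScalarTower.toAlgHom R B (Localization.Away g))
  have hι : Function.Injective ι := h.2.1
  have hφ : ∀ c, ι (φ c) = (φ₂.prod φ₁) c := fun c => Prod.ext (hφ₂ c) (hφ₁ c)
  refine ⟨{ toFun := φ, map_one' := hι ?_, map_mul' := fun x y => hι ?_, map_zero' := hι ?_,
            map_add' := fun x y => hι ?_, commutes' := fun r => hι ?_ }, AlgHom.ext hφ₁, AlgHom.ext hφ₂⟩
  all_goals simp only [hφ, map_one, map_zero, map_mul, map_add, AlgHom.commutes]

/-- The overlap map, as an algebra map. -/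
noncomputable def toOverlap : Localization.Away g →ₐ[R] Localization.Away (algebraMap B P g) :=
  ⟨Localization.awayMap (algebraMap B P) g, fun r => by
    rw [IsScalarTower.algebraMap_apply R B (Localization.Away g)]
    show Localization.awayMap _ _ _ = _
    rw [Localization.awayMap, IsLocalization.Away.map, IsLocalization.map_eq, ← IsScalarTower.algebraMap_apply R B P,
      ← IsScalarTower.algebraMap_apply]⟩

/-- Maps from `Spec B` to an affine scheme are glued. -/
theorem exists_glue_spMap (h : EtGlue.IsGlueingPair B P g) {V : Over (Spec (CommRingCat.of R))} [IsAffine V.left]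
    (s₁ : specOv R (Localization.Away g) ⟶ V) (s₂ : specOv R P ⟶ V)
    (hc : spMap (toOverlap (R := R) (B := B) (P := P) (g := g)) ≫ s₁ =
      spMap (IsScalarTower.toAlgHom R P (Localization.Away (algebraMap B P g))) ≫ s₂) :
    ∃ s : specOv R B ⟶ V, spMap (IsScalarTower.toAlgHom R B (Localization.Away g)) ≫ s = s₁ ∧
      spMap (IsScalarTower.toAlgHom R B P) ≫ s = s₂ := by
  obtain ⟨D, _, _, ⟨e⟩⟩ := exists_iso_specOv R V
  obtain ⟨φ₁, h₁⟩ := exists_eq_spMap (s₁ ≫ e.inv)
  obtain ⟨φ₂, h₂⟩ := exists_eq_spMap (s₂ ≫ e.inv)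
  have := congrArg (· ≫ e.inv) hc
  simp only [Category.assoc, h₁, h₂, spMap_comp] at this
  obtain ⟨φ, e₁, e₂⟩ := exists_glue_algHom h φ₁ φ₂ fun c => congr($(spMap_injective this.symm) c)
  refine ⟨spMap φ ≫ e.hom, ?_, ?_⟩
  · rw [← Category.assoc, spMap_comp, e₁, ← h₁, Category.assoc, e.inv_hom_id, Category.comp_id]
  · rw [← Category.assoc, spMap_comp, e₂, ← h₂, Category.assoc, e.inv_hom_id, Category.comp_id]

theorem spMap_ext_of_glueingPair (h : EtGlue.IsGlueingPair B P g) {V : Over (Spec (CommRingCat.of R))}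
    [IsAffine V.left] {s t : specOv R B ⟶ V}
    (h1 : spMap (IsScalarTower.toAlgHom R B (Localization.Away g)) ≫ s =
      spMap (IsScalarTower.toAlgHom R B (Localization.Away g)) ≫ t)
    (h2 : spMap (IsScalarTower.toAlgHom R B P) ≫ s = spMap (IsScalarTower.toAlgHom R B P) ≫ t) : s = t := by
  obtain ⟨D, _, _, ⟨e⟩⟩ := exists_iso_specOv R V
  obtain ⟨φ, hφ⟩ := exists_eq_spMap (s ≫ e.inv)
  obtain ⟨ψ, hψ⟩ := exists_eq_spMap (t ≫ e.inv)
  have e₁ := congrArg (· ≫ e.inv) h1
  have e₂ := congrArg (· ≫ e.inv) h2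
  simp only [Category.assoc, hφ, hψ, spMap_comp] at e₁ e₂
  rw [← cancel_mono e.inv, hφ, hψ, algHom_ext_of_glueingPair h (spMap_injective e₁) (spMap_injective e₂)]

end Pair

section Transfer

variable {B P : Type u} [CommRing B] [CommRing P] [Algebra B P] [Algebra R B] [Algebra R P] [IsScalarTower R B P]
  {g : B}

theorem isGlueable_self (h : EtGlue.IsGlueingPair B P g) : EtGlue.IsGlueable B P g B := by
  refine ((isGlueable_iff h.1 B).2 h).2 fun m hm hm' => ?_
  refine ((isGlueingPair_iff h.1).1 h).1 m hm ?_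
  have := congrArg (TensorProduct.rid B P) hm'
  simpa [Algebra.smul_def] using this

variable (B'' : Type u) [CommRing B''] [Algebra B B''] [Algebra R B''] [IsScalarTower R B B'']

theorem glueingPair_bc (h : EtGlue.IsGlueingPair B P g) [Module.Flat B B''] :
    EtGlue.IsGlueingPair B'' (P ⊗[B] B'') (algebraMap B B'' g) :=
  glueingPair_of_isGlueable h.1 B'' (isGlueable_of_flat h B B'' (isGlueable_self h))

instance : IsScalarTower R B'' (P ⊗[B] B'') :=
  IsScalarTower.of_algebraMap_eq fun r => by
    rw [Algebra.TensorProduct.algebraMap_apply, IsScalarTower.algebraMap_apply R B P,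
      IsScalarTower.algebraMap_apply R B B'', Algebra.TensorProduct.right_algebraMap_apply,
      Algebra.algebraMap_eq_smul_one, TensorProduct.smul_tmul, ← Algebra.algebraMap_eq_smul_one]

/-- The map between the first members. -/
noncomputable def bcLoc : Localization.Away g →ₐ[R] Localization.Away (algebraMap B B'' g) :=
  toOverlap (R := R) (B := B) (P := B'') (g := g)

/-- The map between the second members. -/
noncomputable def bcSnd : P →ₐ[R] P ⊗[B] B'' :=
  (Algebra.TensorProduct.includeLeft : P →ₐ[B] P ⊗[B] B'').restrictScalars R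

theorem bcLoc_comp : (bcLoc (R := R) (g := g) B'').comp (IsScalarTower.toAlgHom R B (Localization.Away g)) =
    (IsScalarTower.toAlgHom R B'' (Localization.Away (algebraMap B B'' g))).comp (IsScalarTower.toAlgHom R B B'') :=
  AlgHom.ext fun b => by
    show Localization.awayMap (algebraMap B B'') g (algebraMap B (Localization.Away g) b) =
      algebraMap B'' (Localization.Away (algebraMap B B'' g)) (algebraMap B B'' b)
    rw [Localization.awayMap, IsLocalization.Away.map, IsLocalization.map_eq]

theorem bcSnd_comp : (bcSnd (R := R) (P := P) B'').comp (IsScalarTower.toAlgHom R B P) =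
    (IsScalarTower.toAlgHom R B'' (P ⊗[B] B'')).comp (IsScalarTower.toAlgHom R B B'') :=
  AlgHom.ext fun b => by
    show (algebraMap B P b) ⊗ₜ[B] (1 : B'') = (1 : P) ⊗ₜ[B] algebraMap B B'' b
    rw [Algebra.algebraMap_eq_smul_one, Algebra.algebraMap_eq_smul_one, TensorProduct.smul_tmul]

theorem exists_overlap_map : ∃ κ : Localization.Away (algebraMap B P g) →ₐ[R]
      Localization.Away (algebraMap B'' (P ⊗[B] B'') (algebraMap B B'' g)),
    (IsScalarTower.toAlgHom R (P ⊗[B] B'') _).comp (bcSnd (R := R) (B := B) (P := P) B'') =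
      κ.comp (IsScalarTower.toAlgHom R P (Localization.Away (algebraMap B P g))) ∧
    (toOverlap (R := R) (B := B'') (P := P ⊗[B] B'') (g := algebraMap B B'' g)).comp (bcLoc (R := R) (g := g) B'') =
      κ.comp (toOverlap (R := R) (B := B) (P := P) (g := g)) := by
  let O' := Localization.Away (algebraMap B'' (P ⊗[B] B'') (algebraMap B B'' g))
  let f₀ := (IsScalarTower.toAlgHom R (P ⊗[B] B'') O').comp (bcSnd (R := R) (B := B) (P := P) B'')
  have hb : ∀ b, bcSnd (R := R) (B := B) (P := P) B'' (algebraMap B P b) =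
      algebraMap B'' (P ⊗[B] B'') (algebraMap B B'' b) := fun b =>
    congr($(bcSnd_comp (R := R) (B := B) (P := P) B'') b)
  have hu : IsUnit (f₀ (algebraMap B P g)) := by
    show IsUnit (algebraMap (P ⊗[B] B'') O' (bcSnd (R := R) (B := B) (P := P) B'' (algebraMap B P g)))
    rw [hb]
    exact IsLocalization.Away.algebraMap_isUnit (S := O') (algebraMap B'' (P ⊗[B] B'') (algebraMap B B'' g))
  have hu' : ∀ y : Submonoid.powers (algebraMap B P g), IsUnit (f₀ y) := by
    rintro ⟨_, n, rfl⟩; rw [map_pow]; exact hu.pow n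
  refine ⟨IsLocalization.liftAlgHom (M := Submonoid.powers (algebraMap B P g)) hu', ?_, ?_⟩
  · refine AlgHom.ext fun x => ?_
    have e₀ : IsLocalization.lift (S := Localization.Away (algebraMap B P g)) hu'
        (algebraMap P (Localization.Away (algebraMap B P g)) x) = f₀ x := IsLocalization.lift_eq _ x
    simp only [AlgHom.comp_apply, IsScalarTower.coe_toAlgHom', IsLocalization.liftAlgHom_apply]
    exact e₀.symm
  · refine AlgHom.ext fun z => RingHom.congr_fun (IsLocalization.ringHom_ext (Submonoid.powers g)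
      (j := AlgHom.toRingHom _) (k := AlgHom.toRingHom _) (RingHom.ext fun b => ?_)) z
    show Localization.awayMap (algebraMap B'' (P ⊗[B] B'')) (algebraMap B B'' g)
        (Localization.awayMap (algebraMap B B'') g (algebraMap B (Localization.Away g) b)) =
      IsLocalization.liftAlgHom (M := Submonoid.powers (algebraMap B P g)) hu'
        (Localization.awayMap (algebraMap B P) g (algebraMap B (Localization.Away g) b))
    simp only [Localization.awayMap, IsLocalization.Away.map, IsLocalization.map_eq,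
      IsLocalization.liftAlgHom_apply, IsLocalization.lift_eq]
    exact congrArg (algebraMap (P ⊗[B] B'') O') (hb b).symm

end Transfer

section Core

variable {B P : Type u} [CommRing B] [CommRing P] [Algebra B P] [Algebra R B] [Algebra R P] [IsScalarTower R B P]
  {g : B}

theorem flat_of_etale {A C : Type u} [CommRing A] [CommRing C] [Algebra A C]
    (h : Etale (Spec.map (CommRingCat.ofHom (algebraMap A C)))) : Module.Flat A C := by
  have := (HasRingHomProperty.Spec_iff (P := @Flat)).1
    (inferInstance : Flat (Spec.map (CommRingCat.ofHom (algebraMap A C))))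
  exact RingHom.flat_algebraMap_iff.1 this

/-- A pair of compatible sections of a scheme over `Spec B` extends to the etale neighbourhood of any point. -/
theorem exists_section_nbhd (h : EtGlue.IsGlueingPair B P g) {W : Over (Spec (CommRingCat.of R))}
    (σ₁ : specOv R (Localization.Away g) ⟶ W) (σ₂ : specOv R P ⟶ W)
    (hc : spMap (toOverlap (R := R) (B := B) (P := P) (g := g)) ≫ σ₁ =
      spMap (IsScalarTower.toAlgHom R P (Localization.Away (algebraMap B P g))) ≫ σ₂)
    (p : PrimeSpectrum B) :
    ∃ (e : B) (s : specOv R (Localization.Away e) ⟶ W), e ∉ p.asIdeal ∧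
      spMap (bcLoc (R := R) (g := g) (Localization.Away e)) ≫ σ₁ =
        spMap (IsScalarTower.toAlgHom R (Localization.Away e)
          (Localization.Away (algebraMap B (Localization.Away e) g))) ≫ s ∧
      spMap (bcSnd (R := R) (B := B) (P := P) (Localization.Away e)) ≫ σ₂ =
        spMap (IsScalarTower.toAlgHom R (Localization.Away e) (P ⊗[B] Localization.Away e)) ≫ s := by
  let a₁ : PrimeSpectrum (Localization.Away g) → PrimeSpectrum B :=
    PrimeSpectrum.comap (algebraMap B (Localization.Away g))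
  let a₂ : PrimeSpectrum P → PrimeSpectrum B := PrimeSpectrum.comap (algebraMap B P)
  have hinj : Function.Injective a₁ :=
    PrimeSpectrum.localization_comap_injective _ (Submonoid.powers g)
  -- points of the overlap
  have hov : ∀ (q₁ : PrimeSpectrum (Localization.Away g)) (q₂ : PrimeSpectrum P), a₁ q₁ = a₂ q₂ →
      σ₂.left q₂ = σ₁.left q₁ := by
    intro q₁ q₂ hq
    have hg₁ : a₁ q₁ ∈ (PrimeSpectrum.basicOpen g : Set (PrimeSpectrum B)) := by
      rw [← PrimeSpectrum.localization_away_comap_range (Localization.Away g) g]; exact ⟨q₁, rfl⟩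
    rw [hq] at hg₁
    obtain ⟨o, ho⟩ : q₂ ∈ Set.range
        (PrimeSpectrum.comap (algebraMap P (Localization.Away (algebraMap B P g)))) := by
      rw [PrimeSpectrum.localization_away_comap_range (Localization.Away (algebraMap B P g)) (algebraMap B P g)]
      exact hg₁
    have ho₁ : PrimeSpectrum.comap (Localization.awayMap (algebraMap B P) g) o = q₁ := by
      apply hinj
      rw [hq, ← ho]
      ext b
      show Localization.awayMap (algebraMap B P) g (algebraMap B (Localization.Away g) b) ∈ o.asIdeal ↔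
        algebraMap P (Localization.Away (algebraMap B P g)) (algebraMap B P b) ∈ o.asIdeal
      rw [Localization.awayMap, IsLocalization.Away.map, IsLocalization.map_eq]
    rw [← ho, ← ho₁]
    exact (congr($(hc).left o)).symm
  have hg : ∀ q₂ : PrimeSpectrum P, g ∉ (a₂ q₂).asIdeal → ∃ q₁, a₁ q₁ = a₂ q₂ := by
    intro q₂ hq
    have : a₂ q₂ ∈ (PrimeSpectrum.basicOpen g : Set (PrimeSpectrum B)) := hq
    rw [← PrimeSpectrum.localization_away_comap_range (Localization.Away g) g] at this
    exact this
  have hq1 : Function.Bijective (Ideal.quotientMap (Ideal.map (algebraMap B P) (Ideal.span {g})) (algebraMap B P)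
      Ideal.le_comap_map) := by
    have key : ∀ g' : B, g' = g → Function.Bijective
        (Ideal.quotientMap (Ideal.map (algebraMap B P) (Ideal.span {g'})) (algebraMap B P) Ideal.le_comap_map) →
        Function.Bijective (Ideal.quotientMap (Ideal.map (algebraMap B P) (Ideal.span {g})) (algebraMap B P)
          Ideal.le_comap_map) := by
      rintro g' rfl h'; exact h'
    exact key _ (pow_one g) (h.1 1 one_pos)
  -- over `V(g)` the second member is bijective
  have hinj₂ : ∀ q q' : PrimeSpectrum P, g ∈ (a₂ q).asIdeal → a₂ q = a₂ q' → q = q' := by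
    intro q q' hgq hqq'
    have hgq' : g ∈ (a₂ q').asIdeal := hqq' ▸ hgq
    ext x
    obtain ⟨b, y, rfl⟩ := exists_sub_mem h.1 1 x
    rw [pow_one]
    have key : ∀ r : PrimeSpectrum P, g ∈ (a₂ r).asIdeal →
        (algebraMap B P b + algebraMap B P g * y ∈ r.asIdeal ↔ b ∈ (a₂ r).asIdeal) := fun r hr =>
      r.asIdeal.add_mem_iff_left (r.asIdeal.mul_mem_right _ hr)
    rw [key q hgq, key q' hgq', hqq']
  -- an affine open meeting the sections over `p`
  obtain ⟨w, hw⟩ : ∃ w : ↥W.left, (∃ q₁, a₁ q₁ = p ∧ σ₁.left q₁ = w) ∨ ∃ q₂, a₂ q₂ = p ∧ σ₂.left q₂ = w := by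
    rcases jointly_surjective hq1 p with ⟨q, hq⟩ | ⟨q, hq⟩
    · exact ⟨_, Or.inr ⟨q, hq, rfl⟩⟩
    · exact ⟨_, Or.inl ⟨q, hq, rfl⟩⟩
  obtain ⟨D, hD, hwD, -⟩ := exists_isAffineOpen_mem_and_subset (x := w) (U := (⊤ : W.left.Opens)) trivial
  let T : Set (PrimeSpectrum B) := a₁ '' (σ₁.left ⁻¹' D) ∪ a₂ '' (σ₂.left ⁻¹' D)
  have hT₁ : a₁ ⁻¹' T = σ₁.left ⁻¹' D := by
    refine Set.Subset.antisymm ?_ fun q hq => Or.inl ⟨q, hq, rfl⟩
    rintro q (⟨q', hq', he⟩ | ⟨q₂, hq₂, he⟩)
    · rwa [hinj he] at hq'
    · show σ₁.left q ∈ D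
      rw [← hov q q₂ he.symm]; exact hq₂
  have hT₂ : a₂ ⁻¹' T = σ₂.left ⁻¹' D := by
    refine Set.Subset.antisymm ?_ fun q hq => Or.inr ⟨q, hq, rfl⟩
    rintro q (⟨q₁, hq₁, he⟩ | ⟨q', hq', he⟩)
    · show σ₂.left q ∈ D
      rw [hov q₁ q he]; exact hq₁
    · by_cases hgq : g ∈ (a₂ q).asIdeal
      · rwa [hinj₂ q q' hgq he.symm]
      · obtain ⟨q₁, hq₁⟩ := hg q hgq
        show σ₂.left q ∈ D
        rw [hov q₁ q hq₁, ← hov q₁ q' (hq₁.trans he.symm)]; exact hq'
  have hTo : IsOpen T := isOpen_glue h T (hT₁ ▸ D.isOpen.preimage σ₁.left.continuous)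
    (hT₂ ▸ D.isOpen.preimage σ₂.left.continuous)
  have hpT : p ∈ T := by
    rcases hw with ⟨q, hq, rfl⟩ | ⟨q, hq, rfl⟩
    · exact Or.inl ⟨q, hwD, hq⟩
    · exact Or.inr ⟨q, hwD, hq⟩
  obtain ⟨_, ⟨e, rfl⟩, hpe, heT⟩ :=
    PrimeSpectrum.isTopologicalBasis_basic_opens.exists_subset_of_mem_open hpT hTo
  have : Module.Flat B (Localization.Away e) := IsLocalization.flat _ (Submonoid.powers e)
  have h' := glueingPair_bc (P := P) (Localization.Away e) h
  let DW : Over (Spec (CommRingCat.of R)) := Over.mk (D.ι ≫ W.hom)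
  let j : DW ⟶ W := Over.homMk D.ι rfl
  have : IsAffine DW.left := hD
  have hrange : ∀ {C : Type u} [CommRing C] [Algebra R C] (τ : specOv R C ⟶ W),
      (∀ q, τ.left q ∈ D) → ∃ τ' : specOv R C ⟶ DW, τ' ≫ j = τ := by
    intro C _ _ τ hτ
    have hr : Set.range τ.left ⊆ Set.range D.ι := by
      rintro _ ⟨q, rfl⟩; rw [Scheme.Opens.range_ι]; exact hτ q
    refine ⟨Over.homMk (IsOpenImmersion.lift D.ι τ.left hr) ?_, Over.OverMorphism.ext (IsOpenImmersion.lift_fac _ _ _)⟩
    show _ ≫ D.ι ≫ W.hom = _
    rw [IsOpenImmersion.lift_fac_assoc, Over.w]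
  have he : ∀ r : PrimeSpectrum (Localization.Away e), PrimeSpectrum.comap (algebraMap B _) r ∈ T := fun r =>
    heT (by
      show _ ∈ (PrimeSpectrum.basicOpen e : Set (PrimeSpectrum B))
      rw [← PrimeSpectrum.localization_away_comap_range (Localization.Away e) e]; exact ⟨r, rfl⟩)
  obtain ⟨τ₁, hτ₁⟩ := hrange (spMap (bcLoc (R := R) (g := g) (Localization.Away e)) ≫ σ₁) fun q => by
    show (PrimeSpectrum.comap (bcLoc (R := R) (g := g) (Localization.Away e)).toRingHom q) ∈ σ₁.left ⁻¹' D
    rw [← hT₁]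
    show a₁ _ ∈ T
    have := congr(($(bcLoc_comp (R := R) (g := g) (Localization.Away e))).toRingHom)
    convert he (PrimeSpectrum.comap (algebraMap (Localization.Away e) (Localization.Away (algebraMap B (Localization.Away e) g))) q) using 1
    ext b
    exact iff_of_eq (congrArg (· ∈ q.asIdeal) congr($this b))
  obtain ⟨τ₂, hτ₂⟩ := hrange (spMap (bcSnd (R := R) (B := B) (P := P) (Localization.Away e)) ≫ σ₂) fun q => by
    show (PrimeSpectrum.comap (bcSnd (R := R) (B := B) (P := P) (Localization.Away e)).toRingHom q) ∈ σ₂.left ⁻¹' D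
    rw [← hT₂]
    show a₂ _ ∈ T
    have := congr(($(bcSnd_comp (R := R) (B := B) (P := P) (Localization.Away e))).toRingHom)
    convert he (PrimeSpectrum.comap (algebraMap (Localization.Away e) (P ⊗[B] Localization.Away e)) q) using 1
    ext b
    exact iff_of_eq (congrArg (· ∈ q.asIdeal) congr($this b))
  have : Mono j := by
    have : Mono ((Over.forget _).map j) := inferInstanceAs (Mono D.ι)
    exact (Over.forget _).mono_of_mono_map this
  have hcomp : spMap (toOverlap (R := R) (B := Localization.Away e) (P := P ⊗[B] Localization.Away e)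
        (g := algebraMap B (Localization.Away e) g)) ≫ τ₁ =
      spMap (IsScalarTower.toAlgHom R (P ⊗[B] Localization.Away e)
        (Localization.Away (algebraMap (Localization.Away e) (P ⊗[B] Localization.Away e)
          (algebraMap B (Localization.Away e) g)))) ≫ τ₂ := by
    obtain ⟨κ, k₂, k₁⟩ := exists_overlap_map (R := R) (B := B) (P := P) (g := g) (Localization.Away e)
    have := congrArg (spMap κ ≫ ·) hc
    rw [← cancel_mono j]
    simp only [Category.assoc, hτ₁, hτ₂]
    rw [← Category.assoc, ← Category.assoc (spMap _) (spMap _) σ₂, spMap_comp, spMap_comp, k₁, k₂, ← spMap_comp,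
      ← spMap_comp, Category.assoc, Category.assoc]
    exact this
  obtain ⟨s, hs₁, hs₂⟩ := exists_glue_spMap h' τ₁ τ₂ hcomp
  exact ⟨e, s ≫ j, hpe, by rw [← Category.assoc, hs₁, hτ₁], by rw [← Category.assoc, hs₂, hτ₂]⟩

/-- Morphisms from `Spec B` to an algebraic space are determined on the members of a glueing pair. -/
theorem eq_of_glueingPair {Z : Sp (Spec (CommRingCat.of R))} (hZ : IsAlgSpace Z) (h : EtGlue.IsGlueingPair B P g)
    (x y : (yon _).obj (specOv R B) ⟶ Z)
    (h₁ : (yon _).map (spMap (IsScalarTower.toAlgHom R B (Localization.Away g))) ≫ x =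
      (yon _).map (spMap (IsScalarTower.toAlgHom R B (Localization.Away g))) ≫ y)
    (h₂ : (yon _).map (spMap (IsScalarTower.toAlgHom R B P)) ≫ x =
      (yon _).map (spMap (IsScalarTower.toAlgHom R B P)) ≫ y) : x = y := by
  obtain ⟨U, c₀, hc₀, hc₀s⟩ := hZ.atlas
  have key : ∀ p : PrimeSpectrum B, ∃ (C : Type u) (_ : CommRing C) (_ : Algebra R C) (φ : B →ₐ[R] C)
      (r : PrimeSpectrum C), Etale (spMap φ).left ∧ PrimeSpectrum.comap φ.toRingHom r = p ∧
      (yon _).map (spMap φ) ≫ x = (yon _).map (spMap φ) ≫ y := by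
    intro p
    obtain ⟨u, hu⟩ := surjective_ofPt hc₀s (Points.ofPt x (p : ↥(specOv R B).left))
    obtain ⟨U', ι, u', hU', -, hu', hc⟩ := exists_affine_restrict hc₀ u
    let c : (yon _).obj U' ⟶ Z := (yon _).map ι ≫ c₀
    have hcu : Points.ofPt c u' = Points.ofPt x (p : ↥(specOv R B).left) := by rw [ofPt_comp, hu', hu]
    obtain ⟨r, -, hr⟩ := exists_ofPt_of_eq (hc.rep.isPullback' x) (u := u') (v := (p : ↥(specOv R B).left)) hcu
    let PW := hc.rep.pullback x
    have : Etale (hc.rep.snd x).left := hc.property_snd x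
    obtain ⟨W, hW, hrW, -⟩ := exists_isAffineOpen_mem_and_subset (x := r) (U := (⊤ : PW.left.Opens)) trivial
    let W' : Over (Spec (CommRingCat.of R)) := Over.mk (W.ι ≫ PW.hom)
    let jW : W' ⟶ PW := Over.homMk W.ι rfl
    have : IsAffine W'.left := hW
    have : IsOpenImmersion jW.left := inferInstanceAs (IsOpenImmersion W.ι)
    obtain ⟨B', _, _, ⟨eW⟩⟩ := exists_iso_specOv R W'
    have : IsIso eW.hom.left := inferInstanceAs (IsIso ((Over.forget _).map eW.hom))
    obtain ⟨φ, hφ⟩ := exists_eq_spMap (eW.hom ≫ jW ≫ hc.rep.snd x)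
    have hφe : Etale (spMap φ).left := by rw [← hφ, Over.comp_left, Over.comp_left]; infer_instance
    let _ : Algebra B B' := φ.toRingHom.toAlgebra
    have : IsScalarTower R B B' := IsScalarTower.of_algebraMap_eq fun t => (φ.commutes t).symm
    have hφ' : IsScalarTower.toAlgHom R B B' = φ := AlgHom.ext fun _ => rfl
    have : Module.Flat B B' := flat_of_etale hφe
    have h' := glueingPair_bc (P := P) B' h
    let g' := algebraMap B B' g
    let l : specOv R B' ⟶ U' := eW.hom ≫ jW ≫ hc.rep.fst' x
    have hl : (yon _).map (spMap φ) ≫ x = (yon _).map l ≫ c := by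
      rw [← hφ]
      simp only [l, Functor.map_comp, Category.assoc]
      rw [(hc.rep.isPullback' x).w]
    let y' := (yon _).map (spMap φ) ≫ y
    let i₁ : specOv R (Localization.Away g') ⟶ specOv R B' :=
      spMap (IsScalarTower.toAlgHom R B' (Localization.Away g'))
    let i₂ : specOv R (P ⊗[B] B') ⟶ specOv R B' := spMap (IsScalarTower.toAlgHom R B' (P ⊗[B] B'))
    have e₁ : i₁ ≫ spMap φ = spMap (bcLoc (R := R) (g := g) B') ≫
        spMap (IsScalarTower.toAlgHom R B (Localization.Away g)) := by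
      simp only [i₁, spMap_comp, bcLoc_comp, hφ', g']
    have e₂ : i₂ ≫ spMap φ = spMap (bcSnd (R := R) (P := P) B') ≫ spMap (IsScalarTower.toAlgHom R B P) := by
      simp only [i₂, spMap_comp, bcSnd_comp, hφ']
    have a₁ : (yon _).map (i₁ ≫ l) ≫ c = (yon _).map i₁ ≫ y' := by
      rw [Functor.map_comp, Category.assoc, ← hl, ← Category.assoc, ← Category.assoc, ← Functor.map_comp, e₁,
        Functor.map_comp, Category.assoc, Category.assoc, h₁]
    have a₂ : (yon _).map (i₂ ≫ l) ≫ c = (yon _).map i₂ ≫ y' := by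
      rw [Functor.map_comp, Category.assoc, ← hl, ← Category.assoc, ← Category.assoc, ← Functor.map_comp, e₂,
        Functor.map_comp, Category.assoc, Category.assoc, h₂]
    let σ₁ := hc.rep.lift' (i₁ ≫ l) i₁ a₁
    let σ₂ := hc.rep.lift' (i₂ ≫ l) i₂ a₂
    obtain ⟨r', hr'⟩ : ∃ r' : PrimeSpectrum B', PrimeSpectrum.comap φ.toRingHom r' = p := by
      refine ⟨eW.inv.left ⟨r, hrW⟩, ?_⟩
      show (spMap φ).left (eW.inv.left ⟨r, hrW⟩) = p
      rw [← hφ, Over.comp_left, Scheme.Hom.comp_apply]
      have h2 : eW.hom.left (eW.inv.left ⟨r, hrW⟩) = (⟨r, hrW⟩ : ↥W'.left) := by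
        rw [← Scheme.Hom.comp_apply, ← Over.comp_left, eW.inv_hom_id]; rfl
      refine Eq.trans (congrArg _ h2) hr
    have ov : spMap (toOverlap (R := R) (B := B') (P := P ⊗[B] B') (g := g')) ≫ i₁ =
        spMap (IsScalarTower.toAlgHom R (P ⊗[B] B') (Localization.Away (algebraMap B' (P ⊗[B] B') g'))) ≫ i₂ := by
      simp only [i₁, i₂, spMap_comp]
      refine congrArg spMap (AlgHom.ext fun b => ?_)
      show Localization.awayMap (algebraMap B' (P ⊗[B] B')) g' (algebraMap B' (Localization.Away g') b) = _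
      rw [Localization.awayMap, IsLocalization.Away.map, IsLocalization.map_eq]
      rfl
    have hσ : spMap (toOverlap (R := R) (B := B') (P := P ⊗[B] B') (g := g')) ≫ σ₁ =
        spMap (IsScalarTower.toAlgHom R (P ⊗[B] B') (Localization.Away (algebraMap B' (P ⊗[B] B') g'))) ≫ σ₂ := by
      apply hc.rep.hom_ext'
      · simp only [σ₁, σ₂, Category.assoc, Functor.relativelyRepresentable.lift'_fst]
        rw [← Category.assoc, ov, Category.assoc]
      · simp only [σ₁, σ₂, Category.assoc, Functor.relativelyRepresentable.lift'_snd]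
        exact ov
    obtain ⟨e, s, her, hs₁, hs₂⟩ := exists_section_nbhd h' σ₁ σ₂ hσ r'
    let B'' := Localization.Away e
    let ie : specOv R B'' ⟶ specOv R B' := spMap (IsScalarTower.toAlgHom R B' B'')
    have : Module.Flat B' B'' := IsLocalization.flat _ (Submonoid.powers e)
    have h'' := glueingPair_bc (P := P ⊗[B] B') B'' h'
    have hsnd : s ≫ hc.rep.snd y' = ie := by
      have := hU'
      refine spMap_ext_of_glueingPair h'' ?_ ?_
      · rw [← Category.assoc, ← hs₁, Category.assoc]
        simp only [σ₁, Functor.relativelyRepresentable.lift'_snd, i₁, ie, spMap_comp]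
        exact congrArg spMap (bcLoc_comp B'')
      · rw [← Category.assoc, ← hs₂, Category.assoc]
        simp only [σ₂, Functor.relativelyRepresentable.lift'_snd, i₂, ie, spMap_comp]
        exact congrArg spMap (bcSnd_comp B'')
    have hfst : s ≫ hc.rep.fst' y' = ie ≫ l := by
      have := hU'
      refine spMap_ext_of_glueingPair h'' ?_ ?_
      · rw [← Category.assoc, ← hs₁, Category.assoc]
        simp only [σ₁, Functor.relativelyRepresentable.lift'_fst]
        rw [← Category.assoc, ← Category.assoc _ ie]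
        simp only [i₁, ie, spMap_comp]
        exact congrArg (spMap · ≫ l) (bcLoc_comp B'')
      · rw [← Category.assoc, ← hs₂, Category.assoc]
        simp only [σ₂, Functor.relativelyRepresentable.lift'_fst]
        rw [← Category.assoc, ← Category.assoc _ ie]
        simp only [i₂, ie, spMap_comp]
        exact congrArg (spMap · ≫ l) (bcSnd_comp B'')
    have hout : (yon _).map (spMap ((IsScalarTower.toAlgHom R B' B'').comp φ)) ≫ x =
        (yon _).map (spMap ((IsScalarTower.toAlgHom R B' B'').comp φ)) ≫ y := by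
      rw [← spMap_comp, Functor.map_comp, Category.assoc, Category.assoc, hl]
      show (yon _).map ie ≫ (yon _).map l ≫ c = (yon _).map ie ≫ y'
      rw [← Category.assoc, ← Functor.map_comp, ← hfst, Functor.map_comp, Category.assoc,
        (hc.rep.isPullback' y').w, ← Category.assoc, ← Functor.map_comp, hsnd]
    obtain ⟨r'', hr''⟩ : r' ∈ Set.range (PrimeSpectrum.comap (algebraMap B' B'')) := by
      rw [PrimeSpectrum.localization_away_comap_range B'' e]; exact her
    refine ⟨B'', inferInstance, inferInstance, (IsScalarTower.toAlgHom R B' B'').comp φ, r'', ?_, ?_, hout⟩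
    · have : IsOpenImmersion ie.left := IsOpenImmersion.of_isLocalization (R := B') (S := B'') e
      rw [← spMap_comp, Over.comp_left]
      infer_instance
    · rw [← hr', ← hr'']
      rfl
  choose C i₁ i₂ φ r he hr hxy using key
  exact hom_ext_of_etale_family (fun p => spMap (φ p)) he (fun t => ⟨t, r t, hr t⟩) hxy

end Core

end Groth.Agent.AlgSpDec.Glueable
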