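import Groth.Agent.AlgSpDec.GlueExist

/-!
# Morphisms from a glueable space glue along a glueing pair
-/

set_option linter.style.haveILetI false
set_option autoImplicit false
set_option backward.isDefEq.respectTransparency false
set_option backward.isDefEq.respectTransparency.types false
set_option maxHeartbeats 1000000

universe u

open CategoryTheory CategoryTheory.Limits AlgebraicGeometry Opposite AlgSp Groth.Agent.AlgSpLib
  Groth.Agent.EtGlue7 TensorProduct

namespace Groth.Agent.AlgSpDec.Glueable

attribute [local instance] Algebra.TensorProduct.rightAlgebra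

variable {R : Type u} [CommRing R]

theorem hom_ext_specOv_self {T : Over (Spec (CommRingCat.of R))} (u v : T ⟶ specOv R R) : u = v := by
  have h : ∀ w : T ⟶ specOv R R, w.left = T.hom := fun w => by
    have := Over.w w
    rwa [show (specOv R R).hom = 𝟙 _ from Spec.map_id _, Category.comp_id] at this
  exact Over.OverMorphism.ext ((h u).trans (h v).symm)

theorem yon_hom_ext_id {T : Over (Spec (CommRingCat.of R))}
    (u v : (yon (Spec (CommRingCat.of R))).obj T ⟶ (yon _).obj (Over.mk (𝟙 (Spec (CommRingCat.of R))))) : u = v :=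
  (AlgSpPts.isTerminalYon _).hom_ext u v

/-- `Spec A_f` is the base change of `Spec A`. -/
theorem isPullback_away (f : R) (A : Type u) [CommRing A] [Algebra R A] :
    IsPullback (spMap (IsScalarTower.toAlgHom R A (Localization.Away (algebraMap R A f))))
      (spMap (toOverlap (R := R) (B := R) (P := A) (g := f))) (spMap (Algebra.ofId R A))
      (spMap (Algebra.ofId R (Localization.Away f))) := by
  refine isPullback_spMap ?_
  haveI : IsLocalization ((Submonoid.powers f).map (algebraMap R A))
      (Localization.Away (algebraMap R A f)) := by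
    rw [Submonoid.map_powers]
    exact inferInstanceAs (IsLocalization.Away (algebraMap R A f) _)
  exact (CommRingCat.isPushout_of_isLocalization (algebraMap R A) (Localization.awayMap (algebraMap R A) f)
    (RingHom.ext fun b => by
      show Localization.awayMap (algebraMap R A) f (algebraMap R (Localization.Away f) b) =
        algebraMap A (Localization.Away (algebraMap R A f)) (algebraMap R A b)
      rw [Localization.awayMap, IsLocalization.Away.map, IsLocalization.map_eq]) (Submonoid.powers f))

/-- `Spec (R' ⊗ A)` is the base change of `Spec A`. -/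
theorem isPullback_tensor (R' : Type u) [CommRing R'] [Algebra R R'] (A : Type u) [CommRing A] [Algebra R A] :
    IsPullback (spMap (IsScalarTower.toAlgHom R A (R' ⊗[R] A))) (spMap (bcSnd (R := R) (B := R) (P := R') A))
      (spMap (Algebra.ofId R A)) (spMap (Algebra.ofId R R')) :=
  isPullback_spMap (CommRingCat.isPushout_tensorProduct R R' A).flip

variable {R' : Type u} [CommRing R'] [Algebra R R'] {f : R}

/-- Morphisms from a glueable space to a space with affine diagonal glue uniquely along a glueing pair. -/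
theorem existsUnique_glue_space (hRR' : EtGlue.IsGlueingPair R R' f) {Y Z YU YX YU' : Sp (Spec (CommRingCat.of R))}
    (hYa : IsAlgSpace Y) (hZa : IsAlgSpace Z)
    (hY : ∀ (A : Type u) [CommRing A] [Algebra R A] (g : (yon _).obj (specOv R A) ⟶ Y),
      RepWith @Etale g → EtGlue.IsGlueable R R' f A)
    (hd : IsAffineMor (Limits.diag Z))
    (hUa : IsAlgSpace YU) (hXa : IsAlgSpace YX)
    (πY : Y ⟶ (yon _).obj (Over.mk (𝟙 _)))
    (inU : specOv R (Localization.Away f) ⟶ Over.mk (𝟙 _)) (inX : specOv R R' ⟶ Over.mk (𝟙 _))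
    {uY : YU ⟶ Y} {sY : YU ⟶ (yon _).obj (specOv R (Localization.Away f))}
    (hYU : IsPullback uY sY πY ((yon _).map inU))
    {xY : YX ⟶ Y} {rY : YX ⟶ (yon _).obj (specOv R R')} (hYX : IsPullback xY rY πY ((yon _).map inX))
    {mY₁ : YU' ⟶ YU} {mY₂ : YU' ⟶ YX} (hYU' : IsPullback mY₁ mY₂ uY xY)
    (α : YU ⟶ Z) (β : YX ⟶ Z) (hαβ : mY₁ ≫ α = mY₂ ≫ β) :
    ∃! φ : Y ⟶ Z, uY ≫ φ = α ∧ xY ≫ φ = β := by
  obtain ⟨ι, A, _, _, g, hg, hgs⟩ := exists_affine_cover hYa
  have hB := fun k => glueingPair_of_isGlueable hRR'.1 (A k) (hY (A k) (g k) (hg k))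
  -- the lifts of a chart to the two members
  let l₁ : ∀ k, (yon _).obj (specOv R (Localization.Away (algebraMap R (A k) f))) ⟶ YU := fun k =>
    hYU.lift ((yon _).map (spMap (IsScalarTower.toAlgHom R (A k) (Localization.Away (algebraMap R (A k) f)))) ≫ g k)
      ((yon _).map (spMap (toOverlap (R := R) (B := R) (P := A k) (g := f)))) (yon_hom_ext_id _ _)
  let l₂ : ∀ k, (yon _).obj (specOv R (R' ⊗[R] A k)) ⟶ YX := fun k =>
    hYX.lift ((yon _).map (spMap (IsScalarTower.toAlgHom R (A k) (R' ⊗[R] A k))) ≫ g k)
      ((yon _).map (spMap (bcSnd (R := R) (B := R) (P := R') (A k)))) (yon_hom_ext_id _ _)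
  have hex : ∀ k, ∃ m : (yon _).obj (specOv R (A k)) ⟶ Z,
      (yon _).map (spMap (IsScalarTower.toAlgHom R (A k) (Localization.Away (algebraMap R (A k) f)))) ≫ m =
        l₁ k ≫ α ∧ (yon _).map (spMap (IsScalarTower.toAlgHom R (A k) (R' ⊗[R] A k))) ≫ m = l₂ k ≫ β := by
    intro k
    let B := A k
    let PB := R' ⊗[R] B
    let o₁ := (yon (Spec (CommRingCat.of R))).map (spMap (toOverlap (R := R) (B := B) (P := PB) (g := algebraMap R B f)))
    let o₂ := (yon (Spec (CommRingCat.of R))).map
      (spMap (IsScalarTower.toAlgHom R PB (Localization.Away (algebraMap B PB (algebraMap R B f)))))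
    have ov : spMap (toOverlap (R := R) (B := B) (P := PB) (g := algebraMap R B f)) ≫
        spMap (IsScalarTower.toAlgHom R B (Localization.Away (algebraMap R B f))) =
        spMap (IsScalarTower.toAlgHom R PB (Localization.Away (algebraMap B PB (algebraMap R B f)))) ≫
          spMap (IsScalarTower.toAlgHom R B PB) := by
      rw [spMap_comp, spMap_comp]
      refine congrArg spMap (AlgHom.ext fun b => ?_)
      show Localization.awayMap (algebraMap B PB) (algebraMap R B f) (algebraMap B (Localization.Away _) b) = _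
      rw [Localization.awayMap, IsLocalization.Away.map, IsLocalization.map_eq]
      rfl
    have e : (o₁ ≫ l₁ k) ≫ uY = (o₂ ≫ l₂ k) ≫ xY := by
      simp only [o₁, o₂, l₁, l₂, Category.assoc, IsPullback.lift_fst]
      rw [← Category.assoc, ← Functor.map_comp, ov, Functor.map_comp, Category.assoc]
    refine exists_glue (hB k) hZa hd (l₁ k ≫ α) (l₂ k ≫ β) ?_
    show o₁ ≫ l₁ k ≫ α = o₂ ≫ l₂ k ≫ β
    rw [← Category.assoc, ← hYU'.lift_fst (o₁ ≫ l₁ k) (o₂ ≫ l₂ k) e, Category.assoc, hαβ, ← Category.assoc,
      hYU'.lift_snd, Category.assoc]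
  choose m hm₁ hm₂ using hex
  -- the local morphisms on arbitrary lifts
  have key₁ : ∀ k (T : Over (Spec (CommRingCat.of R))) (y : T ⟶ specOv R (A k)) (L : (yon _).obj T ⟶ YU),
      L ≫ uY = (yon _).map y ≫ g k → (yon _).map y ≫ m k = L ≫ α := by
    intro k T y L hL
    obtain ⟨z, hz⟩ := (yon _).map_surjective (L ≫ sY)
    let w := (isPullback_away f (A k)).lift y z (hom_ext_specOv_self _ _)
    have hw : (yon _).map w ≫ l₁ k = L := by
      refine hYU.hom_ext ?_ ?_
      · simp only [l₁, w, Category.assoc, IsPullback.lift_fst]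
        rw [← Category.assoc, ← Functor.map_comp, IsPullback.lift_fst, hL]
      · simp only [l₁, w, Category.assoc, IsPullback.lift_snd]
        rw [← Functor.map_comp, IsPullback.lift_snd, hz]
    rw [← hw, Category.assoc, ← hm₁ k, ← Category.assoc, ← Functor.map_comp, IsPullback.lift_fst]
  have key₂ : ∀ k (T : Over (Spec (CommRingCat.of R))) (y : T ⟶ specOv R (A k)) (L : (yon _).obj T ⟶ YX),
      L ≫ xY = (yon _).map y ≫ g k → (yon _).map y ≫ m k = L ≫ β := by
    intro k T y L hL
    obtain ⟨z, hz⟩ := (yon _).map_surjective (L ≫ rY)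
    let w := (isPullback_tensor R' (A k)).lift y z (hom_ext_specOv_self _ _)
    have hw : (yon _).map w ≫ l₂ k = L := by
      refine hYX.hom_ext ?_ ?_
      · simp only [l₂, w, Category.assoc, IsPullback.lift_fst]
        rw [← Category.assoc, ← Functor.map_comp, IsPullback.lift_fst, hL]
      · simp only [l₂, w, Category.assoc, IsPullback.lift_snd]
        rw [← Functor.map_comp, IsPullback.lift_snd, hz]
    rw [← hw, Category.assoc, ← hm₂ k, ← Category.assoc, ← Functor.map_comp, IsPullback.lift_fst]
  -- the charts cover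
  have hcov : IsFppfCover (fun k => (yon _).obj (specOv R (A k))) g := by
    refine ⟨fun k => ⟨?_, ?_⟩, fun y => hgs y⟩
    · exact locP_mono (P := @Etale) (Q := @Flat) (fun _ _ h (_ : Etale h) => inferInstanceAs (Flat h))
        (locP_of_repWith (hg k))
    · exact locP_mono (P := @Etale) (Q := @LocallyOfFinitePresentation)
        (fun _ _ h (_ : Etale h) => inferInstanceAs (LocallyOfFinitePresentation h)) (locP_of_repWith (hg k))
  -- compatibility on overlaps
  obtain ⟨φ, hφ⟩ := AlgSpDec.exists_desc_of_fppfCover (Z := Z) hYa (fun k => IsAlgSpace.yon_obj _) hcov m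
    (fun i j T p q hpq => by
      obtain ⟨p, rfl⟩ := (yon _).map_surjective p
      obtain ⟨q, rfl⟩ := (yon _).map_surjective q
      let W := (hg i).rep.pullback (g j)
      let a : W ⟶ specOv R (A i) := (hg i).rep.fst' (g j)
      let b : W ⟶ specOv R (A j) := (hg i).rep.snd (g j)
      have hW : (yon _).map a ≫ g i = (yon _).map b ≫ g j := ((hg i).rep.isPullback' (g j)).w
      have hb : RepWith @Etale ((yon (Spec (CommRingCat.of R))).map b ≫ g j) :=
        repWith_comp ((repWith_yon_map_iff _ b).2 ((hg i).property_snd (g j))) (hg j)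
      have key : (yon _).map a ≫ m i = (yon _).map b ≫ m j := by
        refine hom_ext_of_etale_family (AlgSpFpqc.opIncl W) (fun O => inferInstanceAs (Etale O.1.ι))
          (fun t => (AlgSpFpqc.opIncl_cover W).2 t) fun O => ?_
        haveI : IsAffine (Over.mk (O.1.ι ≫ W.hom)).left := O.2
        obtain ⟨D, _, _, ⟨e⟩⟩ := exists_iso_specOv R (Over.mk (O.1.ι ≫ W.hom))
        have : IsIso e.hom.left := inferInstanceAs (IsIso ((Over.forget _).map e.hom))
        haveI : IsOpenImmersion (AlgSpFpqc.opIncl W O).left := inferInstanceAs (IsOpenImmersion O.1.ι)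
        let d : specOv R D ⟶ W := e.hom ≫ AlgSpFpqc.opIncl W O
        have hde : Etale d.left := by
          simp only [d, Over.comp_left]; infer_instance
        have hD := glueingPair_of_isGlueable hRR'.1 D (hY D _
          (repWith_comp ((repWith_yon_map_iff _ d).2 hde) hb))
        let ya := d ≫ a
        let yb := d ≫ b
        have hab : (yon _).map ya ≫ g i = (yon _).map yb ≫ g j := by
          simp only [ya, yb, Functor.map_comp, Category.assoc, hW]
        rw [← cancel_epi ((yon _).map e.hom)]
        suffices h : (yon _).map ya ≫ m i = (yon _).map yb ≫ m j by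
          simpa only [ya, yb, d, Functor.map_comp, Category.assoc] using h
        refine eq_of_glueingPair hZa hD _ _ ?_ ?_
        · let y₀ := spMap (IsScalarTower.toAlgHom R D (Localization.Away (algebraMap R D f)))
          let L := hYU.lift ((yon _).map (y₀ ≫ ya) ≫ g i)
            ((yon _).map (spMap (toOverlap (R := R) (B := R) (P := D) (g := f)))) (yon_hom_ext_id _ _)
          rw [← Category.assoc, ← Category.assoc, ← Functor.map_comp, ← Functor.map_comp,
            key₁ i _ _ L (hYU.lift_fst _ _ _), key₁ j _ _ L ((hYU.lift_fst _ _ _).trans (by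
              simp only [Functor.map_comp, Category.assoc, hab]; rfl))]
        · let y₀ := spMap (IsScalarTower.toAlgHom R D (R' ⊗[R] D))
          let L := hYX.lift ((yon _).map (y₀ ≫ ya) ≫ g i)
            ((yon _).map (spMap (bcSnd (R := R) (B := R) (P := R') D))) (yon_hom_ext_id _ _)
          rw [← Category.assoc, ← Category.assoc, ← Functor.map_comp, ← Functor.map_comp,
            key₂ i _ _ L (hYX.lift_fst _ _ _), key₂ j _ _ L ((hYX.lift_fst _ _ _).trans (by
              simp only [Functor.map_comp, Category.assoc, hab]; rfl))]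
      rw [← (hg i).rep.lift'_fst p q hpq, Functor.map_comp, Category.assoc, key, ← Category.assoc,
        ← Functor.map_comp, Functor.relativelyRepresentable.lift'_snd])
  refine ⟨φ, ⟨?_, ?_⟩, ?_⟩
  · obtain ⟨U, p, hp, hps⟩ := hUa.atlas
    haveI : Epi p := epi_of_etale_surjective hp hps
    rw [← cancel_epi p]
    obtain ⟨κ, Tk, c, hc, hl⟩ := exists_fppf_local_lift hYa (fun k => IsAlgSpace.yon_obj _) g hcov U (p ≫ uY)
    refine hom_ext_of_covering _ _ hc ?_
    rintro T' _ ⟨_, χ, _, ⟨k⟩, rfl⟩
    obtain ⟨i, l, hl⟩ := hl k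
    obtain ⟨y, rfl⟩ := (yon _).map_surjective l
    rw [Functor.map_comp, Category.assoc, Category.assoc]
    congr 1
    rw [← Category.assoc _ uY φ, ← Category.assoc, ← hl, Category.assoc, hφ i,
      key₁ i _ y ((yon _).map (c k) ≫ p) (by rw [Category.assoc, hl]), Category.assoc]
  · obtain ⟨U, p, hp, hps⟩ := hXa.atlas
    haveI : Epi p := epi_of_etale_surjective hp hps
    rw [← cancel_epi p]
    obtain ⟨κ, Tk, c, hc, hl⟩ := exists_fppf_local_lift hYa (fun k => IsAlgSpace.yon_obj _) g hcov U (p ≫ xY)
    refine hom_ext_of_covering _ _ hc ?_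
    rintro T' _ ⟨_, χ, _, ⟨k⟩, rfl⟩
    obtain ⟨i, l, hl⟩ := hl k
    obtain ⟨y, rfl⟩ := (yon _).map_surjective l
    rw [Functor.map_comp, Category.assoc, Category.assoc]
    congr 1
    rw [← Category.assoc _ xY φ, ← Category.assoc, ← hl, Category.assoc, hφ i,
      key₂ i _ y ((yon _).map (c k) ≫ p) (by rw [Category.assoc, hl]), Category.assoc]
  · rintro ψ ⟨hψ₁, hψ₂⟩
    refine AlgSpDec.hom_ext_of_fppfCover hYa (fun k => IsAlgSpace.yon_obj _) hcov fun k => ?_
    rw [hφ k]
    refine eq_of_glueingPair hZa (hB k) _ _ ?_ ?_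
    · rw [hm₁ k, ← hψ₁, ← Category.assoc, ← Category.assoc]
      exact congrArg (· ≫ ψ) (hYU.lift_fst _ _ _).symm
    · rw [hm₂ k, ← hψ₂, ← Category.assoc, ← Category.assoc]
      exact congrArg (· ≫ ψ) (hYX.lift_fst _ _ _).symm

end Groth.Agent.AlgSpDec.Glueable
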