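import Groth.Agent.EtGlue7.Etale
import Groth.Agent.AlgSpDec.Fibres

/-!
# Algebraic spaces glueable for a glueing pair
-/

set_option backward.isDefEq.respectTransparency false
set_option backward.isDefEq.respectTransparency.types false

universe u

open CategoryTheory CategoryTheory.Limits AlgebraicGeometry Opposite AlgSp Groth.Agent.AlgSpLib
  Groth.Agent.EtGlue7

namespace Groth.Agent.AlgSpDec.Glueable

variable (R : Type u) [CommRing R]

/-- `Spec A` over `Spec R`. -/
noncomputable abbrev specOv (A : Type u) [CommRing A] [Algebra R A] : Over (Spec (CommRingCat.of R)) :=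
  Over.mk (Spec.map (CommRingCat.ofHom (algebraMap R A)))

theorem exists_iso_specOv (W : Over (Spec (CommRingCat.of R))) [IsAffine W.left] :
    ∃ (B : Type u) (_ : CommRing B) (_ : Algebra R B), Nonempty (specOv R B ≅ W) := by
  let φ := Spec.preimage (W.left.isoSpec.inv ≫ W.hom)
  let _ : Algebra R Γ(W.left, ⊤) := φ.hom.toAlgebra
  refine ⟨Γ(W.left, ⊤), inferInstance, inferInstance, ⟨Over.isoMk W.left.isoSpec.symm ?_⟩⟩
  exact (Spec.map_preimage (W.left.isoSpec.inv ≫ W.hom)).symm

theorem exists_algHom {A B : Type u} [CommRing A] [Algebra R A] [CommRing B] [Algebra R B]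
    (q : specOv R B ⟶ specOv R A) :
    ∃ φ : A →ₐ[R] B, q.left = Spec.map (CommRingCat.ofHom φ.toRingHom) := by
  let ψ : CommRingCat.of A ⟶ CommRingCat.of B := Spec.preimage q.left
  have hq : Spec.map ψ = q.left := Spec.map_preimage _
  have h : CommRingCat.ofHom (algebraMap R A) ≫ ψ = CommRingCat.ofHom (algebraMap R B) :=
    Spec.map_injective (by rw [Spec.map_comp, hq]; exact Over.w q)
  exact ⟨⟨ψ.hom, fun r => congr($h r)⟩, hq.symm⟩

variable {R} (R' : Type u) [CommRing R'] [Algebra R R'] (f : R)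

/-- Every affine etale chart is glueable. -/
def GlueAll (Y : Sp (Spec (CommRingCat.of R))) : Prop :=
  ∀ (A : Type u) [CommRing A] [Algebra R A] (g : (yon _).obj (specOv R A) ⟶ Y),
    RepWith @Etale g → EtGlue.IsGlueable R R' f A

theorem glueAll_of_cover (hRR' : EtGlue.IsGlueingPair R R' f) {Y : Sp (Spec (CommRingCat.of R))}
    {ι : Type u} (A : ι → Type u) [∀ k, CommRing (A k)] [∀ k, Algebra R (A k)]
    (g : ∀ k, (yon _).obj (specOv R (A k)) ⟶ Y) (hg : ∀ k, RepWith @Etale (g k))
    (hc : ∀ y : Points Y, ∃ k, y ∈ Set.range (Points.map (g k)))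
    (hA : ∀ k, EtGlue.IsGlueable R R' f (A k)) : GlueAll R' f Y := by
  intro C _ _ a ha
  have key : ∀ p : PrimeSpectrum C, ∃ (B : Type u) (_ : CommRing B) (_ : Algebra R B) (φ : C →ₐ[R] B),
      φ.toRingHom.Flat ∧ p ∈ Set.range (PrimeSpectrum.comap φ.toRingHom) ∧ EtGlue.IsGlueable R R' f B := by
    intro p
    obtain ⟨k, z, hz⟩ := hc (Points.ofPt a (p : ↥(specOv R C).left))
    rw [← Points.ofScheme_toScheme _ z, ← Points.ofPt_eq_map_ofScheme] at hz
    obtain ⟨r, hr, -⟩ := exists_ofPt_of_eq (ha.rep.isPullback' (g k)) (u := (p : ↥(specOv R C).left)) hz.symm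
    have he₁ : Etale (ha.rep.snd (g k)).left := ha.property_snd (g k)
    have he₂ : Etale (ha.rep.fst' (g k)).left := (hg k).property _ _ _ (ha.rep.isPullback' (g k)).flip
    obtain ⟨W, hW, hrW, -⟩ := exists_isAffineOpen_mem_and_subset (x := r)
      (U := (⊤ : (ha.rep.pullback (g k)).left.Opens)) trivial
    let W' : Over (Spec (CommRingCat.of R)) := Over.mk (W.ι ≫ (ha.rep.pullback (g k)).hom)
    let j : W' ⟶ ha.rep.pullback (g k) := Over.homMk W.ι rfl
    have : IsAffine W'.left := hW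
    obtain ⟨B, _, _, ⟨e⟩⟩ := exists_iso_specOv R W'
    have : IsIso e.hom.left := inferInstanceAs (IsIso ((Over.forget _).map e.hom))
    have : IsOpenImmersion j.left := inferInstanceAs (IsOpenImmersion W.ι)
    obtain ⟨φ, hφ⟩ := exists_algHom R (e.hom ≫ j ≫ ha.rep.fst' (g k))
    obtain ⟨ψ, hψ⟩ := exists_algHom R (e.hom ≫ j ≫ ha.rep.snd (g k))
    have hflat : ∀ {T : Type u} [CommRing T] [Algebra R T] (χ : T →ₐ[R] B),
        Etale (Spec.map (CommRingCat.ofHom χ.toRingHom)) → χ.toRingHom.Flat := by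
      intro T _ _ χ hχ
      exact (HasRingHomProperty.Spec_iff (P := @Flat)).1 (inferInstance : Flat (Spec.map (CommRingCat.ofHom χ.toRingHom)))
    refine ⟨B, inferInstance, inferInstance, φ, hflat φ ?_, ?_, ?_⟩
    · rw [← hφ, Over.comp_left, Over.comp_left]
      infer_instance
    · refine ⟨e.inv.left ⟨r, hrW⟩, ?_⟩
      show Spec.map (CommRingCat.ofHom φ.toRingHom) (e.inv.left ⟨r, hrW⟩) = p
      rw [← hφ, Over.comp_left, Scheme.Hom.comp_apply]
      have h2 : e.hom.left (e.inv.left ⟨r, hrW⟩) = (⟨r, hrW⟩ : ↥W'.left) := by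
        rw [← Scheme.Hom.comp_apply, ← Over.comp_left, e.inv_hom_id]; rfl
      refine Eq.trans (congrArg _ h2) ?_
      exact hr
    · have hψ' : ψ.toRingHom.Flat := hflat ψ (by rw [← hψ, Over.comp_left, Over.comp_left]; infer_instance)
      let _ : Algebra (A k) B := ψ.toRingHom.toAlgebra
      have : IsScalarTower R (A k) B := IsScalarTower.of_algebraMap_eq fun r => (ψ.commutes r).symm
      have : Module.Flat (A k) B := hψ'
      exact isGlueable_of_flat hRR' (A k) B (hA k)
  choose B i₁ i₂ φ hfl hp hB using key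
  refine isGlueable_of_injective hRR' C B φ hB fun c hc0 => ?_
  by_contra hne
  obtain ⟨m, hm, hle⟩ := Ideal.exists_le_maximal (LinearMap.ker (LinearMap.toSpanSingleton C C c))
    (fun h => hne (by simpa using (Ideal.eq_top_iff_one _).1 h))
  let p : PrimeSpectrum C := ⟨m, hm.isPrime⟩
  obtain ⟨q, hq⟩ := hp p
  let _ : Algebra C (B p) := (φ p).toRingHom.toAlgebra
  have : Module.Flat C (B p) := hfl p
  obtain ⟨s, hs, hsc⟩ := exists_mul_eq_zero_of_flat (A := C) q (hc0 p)
  rw [show PrimeSpectrum.comap (algebraMap C (B p)) q = p from hq] at hs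
  exact hs (hle (by simpa using hsc))

theorem exists_affine_cover {Y : Sp (Spec (CommRingCat.of R))} (hY : IsAlgSpace Y) :
    ∃ (ι : Type u) (A : ι → Type u) (_ : ∀ k, CommRing (A k)) (_ : ∀ k, Algebra R (A k))
      (g : ∀ k, (yon _).obj (specOv R (A k)) ⟶ Y),
      (∀ k, RepWith @Etale (g k)) ∧ ∀ y : Points Y, ∃ k, y ∈ Set.range (Points.map (g k)) := by
  obtain ⟨U, p, hp, hps⟩ := hY.atlas
  have key : ∀ u : ↥U.left, ∃ (A : Type u) (_ : CommRing A) (_ : Algebra R A) (g : (yon _).obj (specOv R A) ⟶ Y),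
      RepWith @Etale g ∧ Points.ofPt p u ∈ Set.range (Points.map g) := by
    intro u
    obtain ⟨U', ι, u', hU', -, hu', he⟩ := exists_affine_restrict hp u
    obtain ⟨A, _, _, ⟨e⟩⟩ := exists_iso_specOv R U'
    refine ⟨A, inferInstance, inferInstance, (yon _).map e.hom ≫ (yon _).map ι ≫ p,
      repWith_comp ((repWith_yon_map_iff _ _).2 ?_) he, Points.ofScheme (specOv R A) (e.inv.left u'), ?_⟩
    · have : IsIso e.hom.left := inferInstanceAs (IsIso ((Over.forget _).map e.hom))
      infer_instance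
    · rw [← Points.ofPt_eq_map_ofScheme, ofPt_comp, ← Scheme.Hom.comp_apply, ← Over.comp_left, e.inv_hom_id,
        Over.id_left]
      show Points.ofPt ((yon _).map ι ≫ p) u' = _
      rw [ofPt_comp, hu']
  choose A i₁ i₂ g hg hmem using key
  refine ⟨↥U.left, A, i₁, i₂, g, hg, fun y => ?_⟩
  obtain ⟨u, rfl⟩ := surjective_ofPt hps y
  exact ⟨u, hmem u⟩

end Groth.Agent.AlgSpDec.Glueable
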