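import Groth.Agent.AlgSpPts.Descent
import Groth.Prelude.Def_AlgSpGpd
import Mathlib.CategoryTheory.Monoidal.Cartesian.Grp
import Mathlib.CategoryTheory.Monoidal.Cartesian.Over

/-!
# Products of points of a group object over the terminal object and translations
-/

set_option autoImplicit false
set_option backward.isDefEq.respectTransparency false
set_option backward.isDefEq.respectTransparency.types false

universe u

open CategoryTheory CategoryTheory.Limits AlgebraicGeometry MonoidalCategory MonObj CartesianMonoidalCategory AlgSp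

namespace Groth.Agent.AlgSpDec.GrpTranslate

variable {S : Scheme.{u}} (G : Over ((yon S).obj (Over.mk (𝟙 S))))

/-- A point as a morphism over the base. -/
noncomputable abbrev pt {T : Sp S} (α : T ⟶ G.left) :
    Over.mk ((Groth.Agent.AlgSpPts.isTerminalYon S).from T) ⟶ G :=
  Over.homMk α ((Groth.Agent.AlgSpPts.isTerminalYon S).hom_ext _ _)

theorem pt_left {T : Sp S} (h : Over.mk ((Groth.Agent.AlgSpPts.isTerminalYon S).from T) ⟶ G) : pt G h.left = h :=
  Over.OverMorphism.ext rfl

variable [GrpObj G]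

/-- The product of two points. -/
noncomputable def mul {T : Sp S} (α β : T ⟶ G.left) : T ⟶ G.left := (pt G α * pt G β).left

/-- The neutral point. -/
noncomputable def one (T : Sp S) : T ⟶ G.left := (Groth.Agent.AlgSpPts.isTerminalYon S).from T ≫ (η[G]).left

/-- The inverse of a point. -/
noncomputable def inv' {T : Sp S} (α : T ⟶ G.left) : T ⟶ G.left := ((pt G α)⁻¹).left

theorem pt_one (T : Sp S) :
    (1 : Over.mk ((Groth.Agent.AlgSpPts.isTerminalYon S).from T) ⟶ G) = pt G (one G T) := by
  refine Over.OverMorphism.ext ?_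
  change _ = one G T
  rw [← comp_one (toUnit _), ← one_eq_one]
  exact congrArg (· ≫ (η[G]).left) ((Groth.Agent.AlgSpPts.isTerminalYon S).hom_ext _ _)

theorem mul_assoc' {T : Sp S} (α β γ : T ⟶ G.left) : mul G (mul G α β) γ = mul G α (mul G β γ) := by
  simp only [mul, pt_left, _root_.mul_assoc]

theorem mul_one' {T : Sp S} (α : T ⟶ G.left) : mul G α (one G T) = α := by
  rw [mul, ← pt_one, _root_.mul_one]; rfl

theorem one_mul' {T : Sp S} (α : T ⟶ G.left) : mul G (one G T) α = α := by
  rw [mul, ← pt_one, _root_.one_mul]; rfl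

theorem inv_mul' {T : Sp S} (α : T ⟶ G.left) : mul G (inv' G α) α = one G T := by
  rw [mul, inv', pt_left, inv_mul_cancel, pt_one]; rfl

theorem mul_inv_self {T : Sp S} (α : T ⟶ G.left) : mul G α (inv' G α) = one G T := by
  rw [mul, inv', pt_left, mul_inv_cancel, pt_one]; rfl

theorem comp_mul' {T T' : Sp S} (m : T' ⟶ T) (α β : T ⟶ G.left) : m ≫ mul G α β = mul G (m ≫ α) (m ≫ β) := by
  let m' : Over.mk ((Groth.Agent.AlgSpPts.isTerminalYon S).from T') ⟶
      Over.mk ((Groth.Agent.AlgSpPts.isTerminalYon S).from T) :=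
    Over.homMk m ((Groth.Agent.AlgSpPts.isTerminalYon S).hom_ext _ _)
  have h := congrArg CommaMorphism.left (MonObj.comp_mul m' (pt G α) (pt G β))
  have e1 : m' ≫ pt G α = pt G (m ≫ α) := Over.OverMorphism.ext rfl
  have e2 : m' ≫ pt G β = pt G (m ≫ β) := Over.OverMorphism.ext rfl
  rw [e1, e2] at h
  exact h

theorem comp_one' {T T' : Sp S} (m : T' ⟶ T) : m ≫ one G T = one G T' := by
  rw [one, ← Category.assoc]
  exact congrArg (· ≫ (η[G]).left) ((Groth.Agent.AlgSpPts.isTerminalYon S).hom_ext _ _)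

theorem comp_inv' {T T' : Sp S} (m : T' ⟶ T) (α : T ⟶ G.left) : m ≫ inv' G α = inv' G (m ≫ α) := by
  have h1 : mul G (m ≫ inv' G α) (m ≫ α) = one G T' := by rw [← comp_mul', inv_mul', comp_one']
  calc m ≫ inv' G α = mul G (m ≫ inv' G α) (mul G (m ≫ α) (inv' G (m ≫ α))) := by rw [mul_inv_self, mul_one']
    _ = inv' G (m ≫ α) := by rw [← mul_assoc', h1, one_mul']

/-- The translation of `G × E` by an `E`-point. -/
noncomputable def tau {E : Sp S} (σ : E ⟶ G.left) : G.left ⨯ E ⟶ G.left ⨯ E :=
  prod.lift (mul G (prod.snd ≫ σ) prod.fst) prod.snd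

theorem lift_tau {T E : Sp S} (a : T ⟶ G.left) (b : T ⟶ E) (σ : E ⟶ G.left) :
    prod.lift a b ≫ tau G σ = prod.lift (mul G (b ≫ σ) a) b := by
  apply Limits.prod.hom_ext
  · simp only [tau, Category.assoc, prod.lift_fst, comp_mul', prod.lift_snd_assoc]
  · simp only [tau, Category.assoc, prod.lift_snd]

theorem tau_comp {E : Sp S} (σ σ' : E ⟶ G.left) : tau G σ ≫ tau G σ' = tau G (mul G σ' σ) := by
  rw [tau, lift_tau, tau]
  congr 1
  rw [comp_mul', mul_assoc']

theorem tau_one {E : Sp S} : tau G (one G E) = 𝟙 (G.left ⨯ E) := by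
  apply Limits.prod.hom_ext <;> simp [tau, comp_one', one_mul']

/-- Translation as an automorphism. -/
noncomputable def tauIso {E : Sp S} (σ : E ⟶ G.left) : G.left ⨯ E ≅ G.left ⨯ E where
  hom := tau G σ
  inv := tau G (inv' G σ)
  hom_inv_id := by rw [tau_comp, inv_mul', tau_one]
  inv_hom_id := by rw [tau_comp, mul_inv_self, tau_one]

end Groth.Agent.AlgSpDec.GrpTranslate
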