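import Groth.Agent.AlgSpDec.RatLift
import Groth.Agent.EtFound.Henselian
import Groth.Agent.Hensel.SmoothLift
import Groth.Agent.AlgSpLib.LocP
import Groth.Agent.AnLocal.Henselian

/-!
# Points of algebraic spaces over henselian local rings
-/

set_option backward.isDefEq.respectTransparency false
set_option backward.isDefEq.respectTransparency.types false

universe u

open CategoryTheory Limits Opposite AlgebraicGeometry AlgSp Groth.Agent.AlgSpLib Groth.Agent.AlgSpPts

namespace Groth.Agent.AlgSpDec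

variable {S : Scheme.{u}}

/-- A coproduct of separated schemes over a base is separated. -/
theorem isSeparated_sigmaDesc {ι : Type u} {U : ι → Scheme.{u}} (f : ∀ i, U i ⟶ S) (hf : ∀ i, IsSeparated (f i)) :
    IsSeparated (Sigma.desc f) := by
  let F := Sigma.desc f
  refine ⟨IsClosedImmersion.of_isPreimmersion (pullback.diagonal F) ?_⟩
  rw [← isOpen_compl_iff, isOpen_iff_forall_mem_open]
  intro z hz
  obtain ⟨⟨i, a⟩, ha⟩ := (sigmaMk U).surjective (pullback.fst F F z)
  obtain ⟨⟨j, b⟩, hb⟩ := (sigmaMk U).surjective (pullback.snd F F z)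
  rw [sigmaMk_mk] at ha hb
  let Oi : (∐ U).Opens := (Sigma.ι U i).opensRange
  let Oj : (∐ U).Opens := (Sigma.ι U j).opensRange
  by_cases hij : i = j
  · subst hij
    let m := pullback.map (f i) (f i) F F (Sigma.ι U i) (Sigma.ι U i) (𝟙 S)
      (by rw [Category.comp_id, Sigma.ι_desc]) (by rw [Category.comp_id, Sigma.ι_desc])
    have : IsOpenImmersion m := inferInstance
    have hm : Sigma.ι U i ≫ pullback.diagonal F = pullback.diagonal (f i) ≫ m := by
      apply pullback.hom_ext <;> simp [m]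
    obtain ⟨w, hw⟩ : z ∈ Set.range m := by
      rw [Scheme.Pullback.range_map]
      exact ⟨⟨a, ha⟩, ⟨b, hb⟩⟩
    have := hf i
    refine ⟨m '' (Set.range (pullback.diagonal (f i)))ᶜ, ?_,
      m.isOpenEmbedding.isOpenMap _ (pullback.diagonal (f i)).isClosedEmbedding.isClosed_range.isOpen_compl,
      w, fun ⟨v, hv⟩ => hz ⟨Sigma.ι U i v, ?_⟩, hw⟩
    · rintro _ ⟨w', hw', rfl⟩ ⟨x, hx⟩
      apply hw'
      have hx1 : pullback.fst F F (m w') = x := by
        rw [← hx, ← Scheme.Hom.comp_apply, pullback.diagonal_fst]; rfl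
      have hx2 : Sigma.ι U i (pullback.fst (f i) (f i) w') = x := by
        rw [← hx1, ← Scheme.Hom.comp_apply, ← Scheme.Hom.comp_apply, pullback.lift_fst]
      refine ⟨pullback.fst (f i) (f i) w', m.isOpenEmbedding.injective ?_⟩
      rw [← Scheme.Hom.comp_apply, ← hm, Scheme.Hom.comp_apply, hx2, hx]
    · rw [← hw, ← hv, ← Scheme.Hom.comp_apply, hm, Scheme.Hom.comp_apply]
  · refine ⟨(pullback.fst F F ⁻¹' (Oi : Set ↥(∐ U))) ∩ (pullback.snd F F ⁻¹' (Oj : Set ↥(∐ U))), ?_,
      (Oi.2.preimage (pullback.fst F F).continuous).inter (Oj.2.preimage (pullback.snd F F).continuous),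
      ⟨a, ha⟩, ⟨b, hb⟩⟩
    rintro _ ⟨⟨a', ha'⟩, ⟨b', hb'⟩⟩ ⟨x, rfl⟩
    have hx1 : pullback.fst F F (pullback.diagonal F x) = x := by
      rw [← Scheme.Hom.comp_apply, pullback.diagonal_fst]; rfl
    have hx2 : pullback.snd F F (pullback.diagonal F x) = x := by
      rw [← Scheme.Hom.comp_apply, pullback.diagonal_snd]; rfl
    have h1 : Sigma.ι U i a' = Sigma.ι U j b' := (ha'.trans hx1).trans (hb'.trans hx2).symm
    exact hij (congrArg Sigma.fst ((sigmaMk U).injective (a₁ := ⟨i, a'⟩) (a₂ := ⟨j, b'⟩)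
      (by rw [sigmaMk_mk, sigmaMk_mk]; exact h1)))

/-- A smooth scheme over a henselian local ring has a section through a rational point of the closed fibre. -/
theorem exists_smooth_section (R : Type u) [CommRing R] [HenselianLocalRing R] {U : Scheme.{u}}
    (f : U ⟶ Spec (CommRingCat.of R)) [Smooth f]
    (u : Spec (CommRingCat.of (IsLocalRing.ResidueField R)) ⟶ U) (hu : u ≫ f = EtFound.cpt R) :
    ∃ σ : Spec (CommRingCat.of R) ⟶ U, σ ≫ f = 𝟙 _ ∧ EtFound.cpt R ≫ σ = u := by
  obtain ⟨A, j, hj, hmem, -⟩ := Scheme.exists_affine_mem_range_and_range_subset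
    (x := u.base default) (U := (⊤ : U.Opens)) (by simp)
  let u' := IsOpenImmersion.lift j u (by
    rintro _ ⟨a, rfl⟩
    rw [show a = default from Subsingleton.elim _ _]; exact hmem)
  have hu' : u' ≫ j = u := IsOpenImmersion.lift_fac _ _ _
  obtain ⟨φR, hφR⟩ := Spec.map_surjective (j ≫ f)
  obtain ⟨φu, hφu⟩ := Spec.map_surjective u'
  algebraize [φR.hom]
  have : Algebra.Smooth R A := by
    have h : Smooth (Spec.map φR) := by rw [hφR]; infer_instance
    exact (HasRingHomProperty.Spec_iff (P := @Smooth)).mp h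
  have hcomp : φR ≫ φu = CommRingCat.ofHom (IsLocalRing.residue R) := by
    apply Spec.map_injective
    rw [Spec.map_comp, hφR, hφu, ← Category.assoc, hu', hu]
  let φ : A →ₐ[R] R ⧸ IsLocalRing.maximalIdeal R :=
    { φu.hom with commutes' := fun r => congr(($hcomp).hom r) }
  obtain ⟨ψ, hψ⟩ := Groth.Agent.Hensel.exists_smooth_lift (IsLocalRing.maximalIdeal R) φ
  have hψR : φR ≫ CommRingCat.ofHom ψ.toRingHom = 𝟙 _ := by
    ext r; exact ψ.commutes r
  have hψu : CommRingCat.ofHom ψ.toRingHom ≫ CommRingCat.ofHom (IsLocalRing.residue R) = φu := by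
    ext s; exact congr($hψ s)
  refine ⟨Spec.map (CommRingCat.ofHom ψ.toRingHom) ≫ j, ?_, ?_⟩
  · rw [Category.assoc, ← hφR, ← Spec.map_comp, hψR, Spec.map_id]
  · rw [← Category.assoc, ← Spec.map_comp, hψu, hφu, hu']

variable {X : Sp S} {R : Type u} [CommRing R] [HenselianLocalRing R] {str : Spec (CommRingCat.of R) ⟶ S}

/-- The closed point of a henselian point, over the base. -/
noncomputable abbrev cptO (str : Spec (CommRingCat.of R) ⟶ S) :
    Over.mk (Spec.map (CommRingCat.ofHom (IsLocalRing.residue R)) ≫ str) ⟶ Over.mk str :=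
  Over.homMk (Spec.map (CommRingCat.ofHom (IsLocalRing.residue R))) rfl

/-- An etale chart carrying the closed point of a henselian point carries the point. -/
theorem exists_lift_etale {Z : Over S} {p : (yon S).obj Z ⟶ X} (hp : RepWith @Etale p)
    (z : (yon S).obj (Over.mk str) ⟶ X) (l : Over.mk (Spec.map (CommRingCat.ofHom (IsLocalRing.residue R)) ≫ str) ⟶ Z)
    (hl : (yon S).map l ≫ p = (yon S).map (cptO str) ≫ z) :
    ∃ g : Over.mk str ⟶ Z, (yon S).map g ≫ p = z ∧ cptO str ≫ g = l := by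
  let P := hp.rep.pullback z
  let p₁ : P ⟶ Z := hp.rep.fst' z
  let p₂ : P ⟶ Over.mk str := hp.rep.snd z
  have sq : IsPullback ((yon S).map p₁) ((yon S).map p₂) p z := hp.rep.isPullback' z
  have : Etale p₂.left := hp.property_snd z
  obtain ⟨k, hk⟩ := (yon S).map_surjective (sq.lift _ _ hl)
  have hk₁ : k ≫ p₁ = l := (yon S).map_injective (by rw [Functor.map_comp, hk, sq.lift_fst])
  have hk₂ : k ≫ p₂ = cptO str := (yon S).map_injective (by rw [Functor.map_comp, hk, sq.lift_snd])
  obtain ⟨σ, ⟨hσ₁, hσ₂⟩, -⟩ := EtFound.existsUnique_section R p₂.left k.left (congrArg CommaMorphism.left hk₂)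
  let so : Over.mk str ⟶ P := CategoryTheory.Over.homMk σ (by
    change σ ≫ P.hom = str
    rw [← Over.w p₂, reassoc_of% hσ₁]
    rfl)
  have hso : so ≫ p₂ = 𝟙 _ := Over.OverMorphism.ext hσ₁
  refine ⟨so ≫ p₁, ?_, ?_⟩
  · rw [Functor.map_comp, Category.assoc, sq.w, ← Functor.map_comp_assoc, hso, CategoryTheory.Functor.map_id,
      Category.id_comp]
  · rw [← Category.assoc, show cptO str ≫ so = k from Over.OverMorphism.ext hσ₂, hk₁]

/-- Henselian points lift to affine etale charts. -/
theorem exists_henselian_chart (hX : IsAlgSpace X) (z : (yon S).obj (Over.mk str) ⟶ X) :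
    ∃ (Z : Over S) (p : (yon S).obj Z ⟶ X) (g : Over.mk str ⟶ Z),
      IsAffine Z.left ∧ RepWith @Etale p ∧ (yon S).map g ≫ p = z := by
  let q : FieldPt X :=
    { K := IsLocalRing.ResidueField R
      str := Spec.map (CommRingCat.ofHom (IsLocalRing.residue R)) ≫ str
      val := (J S).uliftYonedaEquiv ((yon S).map (cptO str) ≫ z) }
  have hq : q.toHom = (yon S).map (cptO str) ≫ z := Equiv.symm_apply_apply _ _
  obtain ⟨B, b, l, hB, hb, hl⟩ := RatLift.exists_affine_lift hX q
  obtain ⟨g, hg, -⟩ := exists_lift_etale hb z l (hl.trans hq)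
  exact ⟨B, b, g, hB, hb, hg⟩

/-- Smooth morphisms of algebraic spaces lift henselian points. -/
theorem exists_smooth_point_lift {Z : Sp S} (hZ : IsAlgSpace Z) (hX : IsAlgSpace X) (f : Z ⟶ X)
    (hf : LocP @Smooth f) (z : (yon S).obj (Over.mk str) ⟶ X)
    (z₀ : (yon S).obj (Over.mk (Spec.map (CommRingCat.ofHom (IsLocalRing.residue R)) ≫ str)) ⟶ Z)
    (w : z₀ ≫ f = (yon S).map (cptO str) ≫ z) :
    ∃ z' : (yon S).obj (Over.mk str) ⟶ Z, z' ≫ f = z ∧ (yon S).map (cptO str) ≫ z' = z₀ := by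
  obtain ⟨C, c, g, hC, hc, hg⟩ := exists_henselian_chart hX z
  let q : FieldPt Z :=
    { K := IsLocalRing.ResidueField R
      str := Spec.map (CommRingCat.ofHom (IsLocalRing.residue R)) ≫ str
      val := (J S).uliftYonedaEquiv z₀ }
  have hq : q.toHom = z₀ := Equiv.symm_apply_apply _ _
  obtain ⟨B, b, l, hB, hb, hl⟩ := RatLift.exists_affine_lift hZ q
  rw [hq] at hl
  let P := hc.rep.pullback (b ≫ f)
  let p₁ : P ⟶ C := hc.rep.fst' (b ≫ f)
  let p₂ : P ⟶ B := hc.rep.snd (b ≫ f)
  have sq : IsPullback ((yon S).map p₁) ((yon S).map p₂) c (b ≫ f) := hc.rep.isPullback' (b ≫ f)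
  have : Smooth p₁.left := hf ((yon S).map p₂ ≫ b) c p₁
    (repWith_comp ((repWith_yon_map_iff _ p₂).2 (hc.property_snd (b ≫ f))) hb) hc
    (by rw [Category.assoc]; exact sq.w.symm)
  obtain ⟨k, hk⟩ := (yon S).map_surjective (sq.lift ((yon S).map (cptO str ≫ g)) ((yon S).map l) (by
    rw [Functor.map_comp, Category.assoc, hg, ← Category.assoc, hl, w]))
  have hk₁ : k ≫ p₁ = cptO str ≫ g := (yon S).map_injective (by rw [Functor.map_comp, hk, sq.lift_fst])
  have hk₂ : k ≫ p₂ = l := (yon S).map_injective (by rw [Functor.map_comp, hk, sq.lift_snd])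
  let V := pullback p₁.left g.left
  let v₁ : V ⟶ P.left := pullback.fst _ _
  let v₂ : V ⟶ Spec (CommRingCat.of R) := pullback.snd _ _
  have : Smooth v₂ := inferInstanceAs (Smooth (pullback.snd p₁.left g.left))
  let kV : Spec (CommRingCat.of (IsLocalRing.ResidueField R)) ⟶ V :=
    pullback.lift k.left (EtFound.cpt R) (congrArg CommaMorphism.left hk₁)
  obtain ⟨σ, hσ₁, hσ₂⟩ := exists_smooth_section R v₂ kV (pullback.lift_snd _ _ _)
  have hσg : (σ ≫ v₁) ≫ p₁.left = g.left := by
    rw [Category.assoc, show v₁ ≫ p₁.left = v₂ ≫ g.left from pullback.condition, reassoc_of% hσ₁]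
  let so : Over.mk str ⟶ P := CategoryTheory.Over.homMk (σ ≫ v₁) (by
    rw [← Over.w p₁, ← Category.assoc, hσg]
    exact Over.w g)
  have hso : so ≫ p₁ = g := Over.OverMorphism.ext hσg
  refine ⟨(yon S).map (so ≫ p₂) ≫ b, ?_, ?_⟩
  · rw [Category.assoc, Functor.map_comp, Category.assoc, ← sq.w, ← Functor.map_comp_assoc, hso, hg]
  · rw [← Functor.map_comp_assoc, ← Category.assoc, show cptO str ≫ so = k from Over.OverMorphism.ext (by
      change EtFound.cpt R ≫ σ ≫ v₁ = k.left
      rw [reassoc_of% hσ₂]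
      exact pullback.lift_fst _ _ _), hk₂, hl]

/-- The chart carrying all residue field points carries all points over quotients of the ring. -/
theorem exists_lift_quotient {Z : Over S} {p : (yon S).obj Z ⟶ X} (hp : RepWith @Etale p)
    (hall : ∀ x₀ : (yon S).obj (Over.mk (Spec.map (CommRingCat.ofHom (IsLocalRing.residue R)) ≫ str)) ⟶ X,
      ∃ l : Over.mk (Spec.map (CommRingCat.ofHom (IsLocalRing.residue R)) ≫ str) ⟶ Z, (yon S).map l ≫ p = x₀)
    (a : Ideal R) (x : (yon S).obj (Over.mk (Spec.map (CommRingCat.ofHom (Ideal.Quotient.mk a)) ≫ str)) ⟶ X) :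
    ∃ g : Over.mk (Spec.map (CommRingCat.ofHom (Ideal.Quotient.mk a)) ≫ str) ⟶ Z, (yon S).map g ≫ p = x := by
  by_cases ha : a = ⊤
  · subst ha
    have : Subsingleton (R ⧸ (⊤ : Ideal R)) := Ideal.Quotient.subsingleton_iff.2 rfl
    have : IsEmpty ↥(Over.mk (Spec.map (CommRingCat.ofHom (Ideal.Quotient.mk (⊤ : Ideal R))) ≫ str)).left :=
      inferInstanceAs (IsEmpty (PrimeSpectrum (R ⧸ (⊤ : Ideal R))))
    exact ⟨CategoryTheory.Over.homMk (isInitialOfIsEmpty.to _) (isInitialOfIsEmpty.hom_ext _ _),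
      hom_ext_of_isEmpty _ _⟩
  have : Nontrivial (R ⧸ a) := Ideal.Quotient.nontrivial_iff.2 ha
  have : IsLocalRing (R ⧸ a) := IsLocalRing.of_surjective' (Ideal.Quotient.mk a) Ideal.Quotient.mk_surjective
  have : HenselianLocalRing (R ⧸ a) := Groth.Agent.AnLocal.henselianLocalRing_of_surjective'
    (Ideal.Quotient.mk a) Ideal.Quotient.mk_surjective
  have : IsLocalHom (Ideal.Quotient.mk a) := Ideal.Quotient.mk_surjective.isLocalHom _
  let ρ : IsLocalRing.ResidueField R →+* IsLocalRing.ResidueField (R ⧸ a) :=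
    IsLocalRing.ResidueField.map (Ideal.Quotient.mk a)
  have hρ : Function.Bijective ρ := ⟨ρ.injective, fun y => by
    obtain ⟨y, rfl⟩ := IsLocalRing.residue_surjective y
    obtain ⟨y, rfl⟩ := Ideal.Quotient.mk_surjective y
    exact ⟨IsLocalRing.residue R y, rfl⟩⟩
  let e := RingEquiv.ofBijective ρ hρ
  let str' := Spec.map (CommRingCat.ofHom (Ideal.Quotient.mk a)) ≫ str
  let j : Over.mk (Spec.map (CommRingCat.ofHom (IsLocalRing.residue (R ⧸ a))) ≫ str') ⟶
      Over.mk (Spec.map (CommRingCat.ofHom (IsLocalRing.residue R)) ≫ str) :=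
    CategoryTheory.Over.homMk (Spec.map (CommRingCat.ofHom e.toRingHom)) (by
      change _ ≫ _ ≫ str = _ ≫ _ ≫ str
      rw [← Spec.map_comp_assoc, ← Spec.map_comp_assoc]
      rfl)
  let i : Over.mk (Spec.map (CommRingCat.ofHom (IsLocalRing.residue R)) ≫ str) ⟶
      Over.mk (Spec.map (CommRingCat.ofHom (IsLocalRing.residue (R ⧸ a))) ≫ str') :=
    CategoryTheory.Over.homMk (Spec.map (CommRingCat.ofHom e.symm.toRingHom)) (by
      change _ ≫ _ ≫ _ ≫ str = _ ≫ str
      rw [← Spec.map_comp_assoc, ← Spec.map_comp_assoc]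
      congr 2
      refine CommRingCat.hom_ext (RingHom.ext fun y => ?_)
      exact e.symm_apply_apply (IsLocalRing.residue R y))
  have hji : j ≫ i = 𝟙 _ := Over.OverMorphism.ext (by
    change Spec.map _ ≫ Spec.map _ = 𝟙 _
    rw [← Spec.map_comp, ← Spec.map_id]
    congr 1
    exact CommRingCat.hom_ext (RingHom.ext fun y => e.apply_symm_apply y))
  obtain ⟨l, hl⟩ := hall ((yon S).map (i ≫ cptO str') ≫ x)
  obtain ⟨g, hg, -⟩ := exists_lift_etale hp x (j ≫ l) (by
    rw [Functor.map_comp, Category.assoc, hl, ← Functor.map_comp_assoc, reassoc_of% hji])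
  exact ⟨g, hg⟩

/-- The field valued points over a fixed field form a small set. -/
theorem small_fieldPoints (hX : IsAlgSpace X) {k : Type u} [Field k] (str : Spec (CommRingCat.of k) ⟶ S) :
    Small.{u} ((yon S).obj (Over.mk str) ⟶ X) := by
  obtain ⟨U, φ, he, hs⟩ := hX.atlas
  let Ω := SeparableClosure k
  let χ : ∀ L : IntermediateField k Ω, CommRingCat.of k ⟶ CommRingCat.of L :=
    fun L => CommRingCat.ofHom (algebraMap k L)
  let π : ∀ L : IntermediateField k Ω, Over.mk (Spec.map (χ L) ≫ str) ⟶ Over.mk str :=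
    fun L => Over.homMk (Spec.map (χ L)) rfl
  have key : ∀ x : (yon S).obj (Over.mk str) ⟶ X, ∃ (L : IntermediateField k Ω)
      (y : Over.mk (Spec.map (χ L) ≫ str) ⟶ U), FiniteDimensional k L ∧
      (yon S).map y ≫ φ = (yon S).map (π L) ≫ x := by
    intro x
    let T := he.rep.pullback x
    let T₁ : T ⟶ U := he.rep.fst' x
    let T₂ : T ⟶ Over.mk str := he.rep.snd x
    have sqT : IsPullback ((yon S).map T₁) ((yon S).map T₂) φ x := he.rep.isPullback' x
    have : Etale T₂.left := he.property_snd x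
    have : Surjective T₂.left := hs.property _ _ _ sqT
    obtain ⟨z, -⟩ := T₂.left.surjective (IsLocalRing.closedPoint k)
    have : DiscreteTopology ↥T.left := discreteTopology_of_etale_field (K := k) T₂.left
    have : IsReduced (Over.mk str).left := inferInstanceAs (IsReduced (Spec (CommRingCat.of k)))
    have : IsReduced T.left := isReduced_of_etaleMor T₂.left
    have := isOpenImmersion_of_discrete (T.left.fromSpecResidueField z)
    let k' := T.left.residueField z
    let φ₀ : CommRingCat.of k ⟶ k' := Spec.preimage (T.left.fromSpecResidueField z ≫ T₂.left)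
    have hφ₀ : Spec.map φ₀ = T.left.fromSpecResidueField z ≫ T₂.left := Spec.map_preimage _
    let _ : Algebra k k' := φ₀.hom.toAlgebra
    have hE : Etale (Spec.map φ₀) := by rw [hφ₀]; infer_instance
    rw [HasRingHomProperty.Spec_iff (P := @Etale)] at hE
    have : Algebra.Etale k k' := hE
    have : Module.Finite k k' := Algebra.FormallyUnramified.finite_of_free _ _
    have : Algebra.IsSeparable k k' := (Algebra.FormallyUnramified.iff_isSeparable _ _).1 inferInstance
    let ι₀ : k' →ₐ[k] Ω := IsSepClosed.lift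
    let ι : k' →ₐ[k] ι₀.fieldRange := ι₀.rangeRestrict
    have hι : φ₀ ≫ CommRingCat.ofHom ι.toRingHom = χ ι₀.fieldRange := CommRingCat.hom_ext ι.comp_algebraMap
    let rz : Over.mk (Spec.map (χ ι₀.fieldRange) ≫ str) ⟶ T := CategoryTheory.Over.homMk
      (Spec.map (CommRingCat.ofHom ι.toRingHom) ≫ T.left.fromSpecResidueField z) (by
        change _ = Spec.map (χ ι₀.fieldRange) ≫ str
        rw [← hι, Spec.map_comp, Category.assoc, hφ₀, Category.assoc, Category.assoc]
        exact congrArg (fun h => _ ≫ _ ≫ h) (Over.w T₂).symm)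
    have hrz : rz ≫ T₂ = π ι₀.fieldRange := Over.OverMorphism.ext (by
      change (Spec.map _ ≫ _) ≫ T₂.left = Spec.map (χ _)
      rw [Category.assoc, ← hφ₀, ← Spec.map_comp, hι])
    refine ⟨ι₀.fieldRange, rz ≫ T₁, Module.Finite.of_surjective ι.toLinearMap ι₀.toRingHom.rangeRestrict_surjective, ?_⟩
    rw [Functor.map_comp, Category.assoc, sqT.w, ← Functor.map_comp_assoc, hrz]
  choose L y hL hy using key
  refine small_of_injective (β := Σ L : IntermediateField k Ω, (Over.mk (Spec.map (χ L) ≫ str) ⟶ U))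
    (f := fun x => ⟨L x, y x⟩) fun x x' h => ?_
  have h' : ∀ (a b : Σ L : IntermediateField k Ω, (Over.mk (Spec.map (χ L) ≫ str) ⟶ U)), a = b →
      ∀ z : (yon S).obj (Over.mk str) ⟶ X, (yon S).map a.2 ≫ φ = (yon S).map (π a.1) ≫ z →
        (yon S).map b.2 ≫ φ = (yon S).map (π b.1) ≫ z := by
    rintro a _ rfl z hz; exact hz
  have he' := h' _ _ h x (hy x)
  have := hL x'
  have hfl : Flat (Spec.map (χ (L x'))) := by
    rw [HasRingHomProperty.Spec_iff (P := @Flat)]
    exact RingHom.flat_algebraMap_iff.2 inferInstance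
  have hfp : LocallyOfFinitePresentation (Spec.map (χ (L x'))) := by
    rw [HasRingHomProperty.Spec_iff (P := @LocallyOfFinitePresentation)]
    exact RingHom.finitePresentation_algebraMap.2
      (Algebra.FinitePresentation.of_finiteType.1 inferInstance)
  have : Nonempty ↥(Spec (CommRingCat.of (L x'))) := inferInstanceAs (Nonempty (PrimeSpectrum (L x')))
  have : Subsingleton ↥(Spec (CommRingCat.of k)) := inferInstanceAs (Subsingleton (PrimeSpectrum k))
  exact hom_ext_of_fppf (π (L x')) ⟨⟨surjective_of_subsingleton (Spec.map (χ (L x'))), hfl⟩, hfp⟩ _ _ (he'.symm.trans (hy x'))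

/-- An etale chart from a separated scheme carrying all points over the residue field. -/
theorem exists_residual_chart (hX : IsAlgSpace X) (str : Spec (CommRingCat.of R) ⟶ S) :
    ∃ (Z : Over S) (p : (yon S).obj Z ⟶ X), IsSeparated Z.hom ∧ RepWith @Etale p ∧
      (Finite ((yon S).obj (Over.mk (Spec.map (CommRingCat.ofHom (IsLocalRing.residue R)) ≫ str)) ⟶ X) →
        IsAffine Z.left) ∧
      ∀ x₀ : (yon S).obj (Over.mk (Spec.map (CommRingCat.ofHom (IsLocalRing.residue R)) ≫ str)) ⟶ X,
        ∃ l : Over.mk (Spec.map (CommRingCat.ofHom (IsLocalRing.residue R)) ≫ str) ⟶ Z,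
          (yon S).map l ≫ p = x₀ := by
  let str₀ := Spec.map (CommRingCat.ofHom (IsLocalRing.residue R)) ≫ str
  have := small_fieldPoints hX str₀
  let ι := Shrink.{u} ((yon S).obj (Over.mk str₀) ⟶ X)
  let q : ι → FieldPt X := fun i =>
    ⟨IsLocalRing.ResidueField R, str₀, (J S).uliftYonedaEquiv ((equivShrink _).symm i)⟩
  choose B b l hB hb hl using fun i => RatLift.exists_affine_lift hX (q i)
  have hBs : ∀ i, IsSeparated (B i).hom := fun i => by
    have := hB i
    have : IsSeparated ((B i).hom ≫ terminal.from S) := by rw [terminal.comp_from]; infer_instance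
    exact IsSeparated.of_comp (B i).hom (terminal.from S)
  obtain ⟨G, hG⟩ := exists_hom_sigma B b
  refine ⟨sigmaOver B, G, isSeparated_sigmaDesc _ hBs, repWith_etale_sigma (representable_from_yon' hX G) fun i => by rw [hG]; exact hb i,
    fun hfin => ?_, fun x₀ => ?_⟩
  · have : Finite ι := Finite.of_equiv _ (equivShrink _)
    have := hB
    exact inferInstanceAs (IsAffine (∐ fun i => (B i).left))
  · refine ⟨l (equivShrink _ x₀) ≫ sigmaι B _, ?_⟩
    rw [Functor.map_comp, Category.assoc, hG]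
    refine (hl _).trans ?_
    change (J S).uliftYonedaEquiv.symm ((J S).uliftYonedaEquiv _) = _
    rw [Equiv.symm_apply_apply, Equiv.symm_apply_apply]

end Groth.Agent.AlgSpDec
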