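import Groth.Agent.AlgSpDec.HenselLift
import Groth.Agent.AlgSpLib.EtLocalInst

/-!
# Lifting points along quotients of henselian local rings to smooth spaces
-/

set_option backward.isDefEq.respectTransparency false
set_option backward.isDefEq.respectTransparency.types false

universe u

open CategoryTheory Limits Opposite AlgebraicGeometry AlgSp Groth.Agent.AlgSpLib Groth.Agent.AlgSpPts

namespace Groth.Agent.AlgSpDec

/-- A henselian local ring is henselian along every proper ideal. -/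
theorem henselianRing_of_ne_top {R : Type u} [CommRing R] [HenselianLocalRing R] {a : Ideal R} (ha : a ≠ ⊤) :
    HenselianRing R a := by
  have hle := IsLocalRing.le_maximalIdeal ha
  refine ⟨hle.trans (IsLocalRing.maximalIdeal_le_jacobson ⊥), fun f hf a₀ h0 h1 => ?_⟩
  have h1' : IsUnit (f.derivative.eval a₀) := by
    obtain ⟨b, hb⟩ := isUnit_iff_exists_inv.1 h1
    obtain ⟨b, rfl⟩ := Ideal.Quotient.mk_surjective b
    rw [← map_mul, ← map_one (Ideal.Quotient.mk a), Ideal.Quotient.mk_eq_mk_iff_sub_mem] at hb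
    by_contra hn
    have h2 := (IsLocalRing.maximalIdeal R).sub_mem
      ((IsLocalRing.maximalIdeal R).mul_mem_right b ((IsLocalRing.mem_maximalIdeal _).2 hn)) (hle hb)
    rw [sub_sub_cancel] at h2
    exact (IsLocalRing.maximalIdeal.isMaximal R).ne_top ((Ideal.eq_top_iff_one _).2 h2)
  obtain ⟨b, hb, hb'⟩ := HenselianLocalRing.is_henselian f hf a₀ (hle h0) h1'
  refine ⟨b, hb, ?_⟩
  obtain ⟨c, hc⟩ := f.binomExpansion a₀ (b - a₀)
  rw [add_sub_cancel, hb.eq_zero] at hc
  have hu : IsUnit (f.derivative.eval a₀ + c * (b - a₀)) := by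
    by_contra hn
    have h2 := (IsLocalRing.maximalIdeal R).sub_mem ((IsLocalRing.mem_maximalIdeal _).2 hn)
      ((IsLocalRing.maximalIdeal R).mul_mem_left c hb')
    rw [add_sub_cancel_right] at h2
    exact ((IsLocalRing.mem_maximalIdeal _).1 h2) h1'
  have h3 : (b - a₀) * (f.derivative.eval a₀ + c * (b - a₀)) = - f.eval a₀ := by linear_combination -hc
  obtain ⟨v, hv⟩ := hu.exists_left_inv
  have h4 : b - a₀ = -(v * f.eval a₀) := by linear_combination (a₀ - b) * hv + v * h3
  rw [h4]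
  exact a.neg_mem (a.mul_mem_left v h0)

/-- Points over quotients of a henselian local ring extend to smooth spaces. -/
theorem exists_extension_smooth (R : Type u) [CommRing R] [HenselianLocalRing R]
    {X : Sp (Spec (CommRingCat.of R))} (hX : IsAlgSpace X)
    (hsm : ∃ (U : Over (Spec (CommRingCat.of R))) (c : (yon (Spec (CommRingCat.of R))).obj U ⟶ X),
      Smooth U.hom ∧ RepWith @Etale c ∧ RepWith @Surjective c)
    (a : Ideal R) (ha : a ≠ ⊤)
    (x₀ : (yon (Spec (CommRingCat.of R))).obj (Over.mk (Spec.map (CommRingCat.ofHom (Ideal.Quotient.mk a)))) ⟶ X) :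
    ∃ x : (yon (Spec (CommRingCat.of R))).obj (Over.mk (𝟙 (Spec (CommRingCat.of R)))) ⟶ X,
      (yon (Spec (CommRingCat.of R))).map (Over.homMk (Spec.map (CommRingCat.ofHom (Ideal.Quotient.mk a)))
        (Category.comp_id _) : Over.mk (Spec.map (CommRingCat.ofHom (Ideal.Quotient.mk a))) ⟶ Over.mk (𝟙 _)) ≫ x = x₀ := by
  have : Nontrivial (R ⧸ a) := Ideal.Quotient.nontrivial_iff.2 ha
  have : IsLocalRing (R ⧸ a) := IsLocalRing.of_surjective' (Ideal.Quotient.mk a) Ideal.Quotient.mk_surjective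
  have : HenselianLocalRing (R ⧸ a) := Groth.Agent.AnLocal.henselianLocalRing_of_surjective'
    (Ideal.Quotient.mk a) Ideal.Quotient.mk_surjective
  obtain ⟨B, b, g, hB, hb, hg⟩ := exists_henselian_chart hX x₀
  obtain ⟨U, c, hU, hc, hc'⟩ := hsm
  let P := hc.rep.pullback b
  let p₁ : P ⟶ U := hc.rep.fst' b
  let p₂ : P ⟶ B := hc.rep.snd b
  have sq : IsPullback ((yon _).map p₁) ((yon _).map p₂) c b := hc.rep.isPullback' b
  have : Etale p₂.left := hc.property_snd b
  have : Surjective p₂.left := hc'.property _ _ _ sq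
  have : Etale p₁.left := hb.property _ _ _ sq.flip
  have hP : Smooth P.hom := by
    rw [← Over.w p₁]
    exact inferInstanceAs (Smooth (p₁.left ≫ U.hom))
  let e : Over (Spec (CommRingCat.of R)) := Over.mk (𝟙 _)
  let πB : B ⟶ e := CategoryTheory.Over.homMk B.hom (Category.comp_id _)
  let πP : P ⟶ e := CategoryTheory.Over.homMk P.hom (Category.comp_id _)
  have hL : LocP @Smooth ((yon _).map πB) := locP_of_chart (P := @Smooth) (a := (yon _).map p₂) (h := πP) (b := 𝟙 _)
    ((repWith_yon_map_iff _ p₂).2 ‹_›) ((repWith_yon_map_iff _ p₂).2 ‹_›) (repWith_id _ _)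
    (by rw [Category.comp_id, ← Functor.map_comp]; congr 1; exact Over.OverMorphism.ext (Over.w p₂)) hP
  have hBs : Smooth B.hom := hL (𝟙 _) (𝟙 _) πB (repWith_id _ _) (repWith_id _ _)
    (by rw [Category.id_comp, Category.comp_id])
  obtain ⟨ψB, hψB⟩ := Spec.map_surjective (B.left.isoSpec.inv ≫ B.hom)
  let A := Γ(B.left, ⊤)
  let _ : Algebra R A := ψB.hom.toAlgebra
  have : Algebra.Smooth R A := by
    have h : Smooth (Spec.map ψB) := by rw [hψB]; infer_instance
    exact (HasRingHomProperty.Spec_iff (P := @Smooth)).mp h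
  obtain ⟨σ₀, hσ₀⟩ := Spec.map_surjective (g.left ≫ B.left.isoSpec.hom)
  have hcomp : ψB ≫ σ₀ = CommRingCat.ofHom (Ideal.Quotient.mk a) := Spec.map_injective (by
    rw [Spec.map_comp, hσ₀, hψB, Category.assoc, Iso.hom_inv_id_assoc]
    exact Over.w g)
  have := henselianRing_of_ne_top ha
  let φ : A →ₐ[R] R ⧸ a := { σ₀.hom with commutes' := fun r => congr(($hcomp).hom r) }
  obtain ⟨τ, hτ⟩ := Groth.Agent.Hensel.exists_smooth_lift a φ
  have hτR : ψB ≫ CommRingCat.ofHom τ.toRingHom = 𝟙 _ := by ext r; exact τ.commutes r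
  have hτσ : CommRingCat.ofHom τ.toRingHom ≫ CommRingCat.ofHom (Ideal.Quotient.mk a) = σ₀ := by
    ext s; exact congr($hτ s)
  let l : e ⟶ B := CategoryTheory.Over.homMk (Spec.map (CommRingCat.ofHom τ.toRingHom) ≫ B.left.isoSpec.inv) (by
    change (_ ≫ _) ≫ B.hom = 𝟙 _
    rw [Category.assoc, ← hψB, ← Spec.map_comp, hτR, Spec.map_id])
  refine ⟨(yon _).map l ≫ b, ?_⟩
  rw [← Functor.map_comp_assoc]
  refine Eq.trans ?_ hg
  congr 2
  apply Over.OverMorphism.ext
  change Spec.map _ ≫ Spec.map _ ≫ B.left.isoSpec.inv = g.left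
  rw [← Spec.map_comp_assoc, hτσ, hσ₀, Category.assoc, Iso.hom_inv_id, Category.comp_id]

end Groth.Agent.AlgSpDec
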