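import Groth.Agent.AlgSpDec.FibreChart
import Groth.Agent.AlgSpDec.GrpTranslate
import Groth.Agent.AlgSpDec.QsDense
import Groth.Agent.AlgSpDec.FibreAffineDescent
import Groth.Agent.AlgSpDec.LqfSplitZ
import Groth.Agent.GeomSep.Basic

/-!
# The component of the identity of a separated group space over a field is geometrically irreducible
-/

set_option backward.isDefEq.respectTransparency false
set_option backward.isDefEq.respectTransparency.types false

universe u

open CategoryTheory CategoryTheory.Limits AlgebraicGeometry Opposite AlgSp Groth.Agent.AlgSpLib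
  Groth.Agent.AlgSpDec.BcConn Groth.Agent.AlgSpDec.GeomRed Groth.Agent.AlgSpDec.AffineBc
  Groth.Agent.AlgSpDec.GrpTranslate Groth.Agent.AlgSpDec.FibreChart Order
open MonoidalCategory MonObj
open scoped TensorProduct

namespace Groth.Agent.AlgSpDec.IdComp

attribute [local instance] specializationOrder

variable {k : Type u} [Field k] (G : Over ((yon (Spec (CommRingCat.of k))).obj (Over.mk (𝟙 _)))) [GrpObj G]

/-- The neutral point. -/
noncomputable def e₀ : Points G.left :=
  Points.map (η[G]).left (Points.ofScheme _ (IsLocalRing.closedPoint k))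

theorem map_eta (z : Points ((yon (Spec (CommRingCat.of k))).obj (Over.mk (𝟙 _)))) :
    Points.map (η[G]).left z = e₀ G := by
  obtain ⟨z, rfl⟩ := (Points.schemeHomeo _).surjective z
  congr 1
  exact congrArg (Points.ofScheme _) (Subsingleton.elim (α := PrimeSpectrum k) _ _)

/-- A field valued point at the identity is the neutral point. -/
theorem eq_one_of_ofPt_eq (hG : IsAlgSpace G.left) {Ω : Type u} [Field Ω] [Algebra k Ω]
    (gp : (yon _).obj (specOver k Ω) ⟶ G.left) (h : Points.ofPt gp (IsLocalRing.closedPoint Ω) = e₀ G) :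
    gp = GrpTranslate.one G _ := by
  let t := Groth.Agent.AlgSpPts.isTerminalYon (Spec (CommRingCat.of k))
  let η' : (yon _).obj (Over.mk (𝟙 (Spec (CommRingCat.of k)))) ⟶ G.left := (η[G]).left
  have : Mono η' := (IsSplitMono.mk' ⟨t.from G.left, t.hom_ext _ _⟩ : IsSplitMono η').mono
  have hr : Representable η' := representable_from_yon' hG η'
  obtain ⟨c, hc, -⟩ := Groth.Agent.AlgSpPts.existsUnique_factor η' hr gp
    (((Points.ofPt_eq_map_ofScheme η' _).trans (map_eta G _)).trans h.symm)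
  rw [← hc, GrpTranslate.one]
  exact congrArg (· ≫ η') (t.hom_ext _ _)

section

variable (hG : IsAlgSpace G.left)
include hG

/-- Two points of codimension zero of a base change to an algebraically closed field whose closures meet
over the identity are equal. -/
theorem eq_of_specializes_identity {K : Type u} [Field K] [Algebra k K] [IsAlgClosed K]
    (hd : IsDecent (G.left ⨯ (yon _).obj (ext (k := k) K)))
    {T : Over (Spec (CommRingCat.of k))} {jK : (yon _).obj T ⟶ G.left ⨯ (yon _).obj (ext (k := k) K)}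
    (hjK : RepWith @IsOpenImmersion jK) {w₁ w₂ : ↥T.left} (hw₁ : coheight w₁ = 0) (hw₂ : coheight w₂ = 0)
    {e' : Points (G.left ⨯ (yon _).obj (ext (k := k) K))} (he' : Points.map prod.fst e' = e₀ G)
    (h₁ : Points.ofPt jK w₁ ⤳ e') (h₂ : Points.ofPt jK w₂ ⤳ e') : Points.ofPt jK w₁ = Points.ofPt jK w₂ := by
  have hY : IsAlgSpace (G.left ⨯ (yon _).obj (ext (k := k) K)) :=
    Groth.Agent.AlgSpPts.isAlgSpace_prod hG (IsAlgSpace.yon_obj _)
  obtain ⟨V₀, b₀, v₀, hV₀, hb₀, hv₀⟩ := exists_affine_chart_at hY e'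
  obtain ⟨φ, hφ⟩ := Spec.map_surjective (V₀.left.isoSpec.inv ≫ V₀.hom)
  let B := Γ(V₀.left, ⊤)
  let iB : Algebra k B := φ.hom.toAlgebra
  let eV : specOver k B ≅ V₀ := Over.isoMk V₀.left.isoSpec.symm (by
    simp only [Over.mk_hom, Iso.symm_hom]
    rw [← hφ]; rfl)
  let b := (yon _).map eV.hom ≫ b₀
  have hb : RepWith @Etale b := MorphismProperty.RespectsIso.precomp _ ((yon _).map eV.hom) b₀ hb₀
  let v : PrimeSpectrum B := eV.inv.left v₀
  have hv : Points.ofPt b v = e' := by
    rw [ofPt_comp, ← hv₀]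
    congr 1
    rw [← Scheme.Hom.comp_apply, ← Over.comp_left, eV.inv_hom_id]
    rfl
  haveI : CompactSpace ↥(specOver k B).left := inferInstanceAs (CompactSpace (PrimeSpectrum B))
  obtain ⟨q₁, hq₁, hq₁'⟩ := exists_generalization_lift (isOpenMap_ofPt hb) (v := v)
    (p := Points.ofPt jK w₁) (hv.symm ▸ h₁) (finite_fibre hY hd hb _)
  obtain ⟨q₂, hq₂, hq₂'⟩ := exists_generalization_lift (isOpenMap_ofPt hb) (v := v)
    (p := Points.ofPt jK w₂) (hv.symm ▸ h₂) (finite_fibre hY hd hb _)
  -- the structure of an algebra over the algebraically closed field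
  obtain ⟨m, hm⟩ := (yon _).map_surjective (b ≫ prod.snd)
  obtain ⟨ψ, hψ⟩ := Spec.map_surjective m.left
  let iK : Algebra K B := ψ.hom.toAlgebra
  haveI : IsScalarTower k K B := IsScalarTower.of_algebraMap_eq' (by
    have h := Over.w m
    rw [← hψ] at h
    simp only [Over.mk_hom, ← Spec.map_comp] at h
    exact (congrArg CommRingCat.Hom.hom (Spec.map_injective h)).symm)
  let p₁ : PrimeSpectrum B := q₁
  let p₂ : PrimeSpectrum B := q₂
  let B₁ := B ⧸ p₁.asIdeal
  let B₂ := B ⧸ p₂.asIdeal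
  have hirr : IrreducibleSpace (PrimeSpectrum (B₁ ⊗[K] B₂)) := GeomSep.irreducibleSpace_tensor B₁ B₂
  let π₁ : B →ₐ[k] B₁ ⊗[K] B₂ :=
    ((Algebra.TensorProduct.includeLeft : B₁ →ₐ[K] B₁ ⊗[K] B₂).comp (Ideal.Quotient.mkₐ K p₁.asIdeal)).restrictScalars k
  let π₂ : B →ₐ[k] B₁ ⊗[K] B₂ :=
    ((Algebra.TensorProduct.includeRight : B₂ →ₐ[K] B₁ ⊗[K] B₂).comp (Ideal.Quotient.mkₐ K p₂.asIdeal)).restrictScalars k
  let E := specOver k (B₁ ⊗[K] B₂)
  let M : (yon _).obj E ⟶ G.left ⨯ (yon _).obj (ext (k := k) K) :=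
    prod.lift (mul G ((yon _).map (specMapOver π₁) ≫ b ≫ prod.fst) ((yon _).map (specMapOver π₂) ≫ b ≫ prod.fst))
      ((yon _).map (specMapOver π₁) ≫ b ≫ prod.snd)
  have hsnd : (yon _).map (specMapOver π₁) ≫ b ≫ prod.snd = (yon _).map (specMapOver π₂) ≫ b ≫ prod.snd := by
    rw [← hm, ← Functor.map_comp, ← Functor.map_comp]
    congr 1
    refine Over.OverMorphism.ext ?_
    simp only [Over.comp_left, specMapOver, Over.homMk_left, ← hψ, ← Spec.map_comp]
    congr 1
    refine CommRingCat.hom_ext (RingHom.ext fun x => ?_)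
    change π₁ (algebraMap K B x) = π₂ (algebraMap K B x)
    simp [π₁, π₂, AlgHom.commutes]
  -- a field valued point with given coordinates
  have key : ∀ {Ω : Type u} [Field Ω] [Algebra K Ω] (f₁ : B₁ →ₐ[K] Ω) (f₂ : B₂ →ₐ[K] Ω),
      Function.Injective f₁ → RingHom.ker (f₂.toRingHom.comp (Ideal.Quotient.mk p₂.asIdeal)) = v.asIdeal →
        ∃ P : PrimeSpectrum (B₁ ⊗[K] B₂), Points.ofPt M P = Points.ofPt b q₁ := by
    intro Ω _ _ f₁ f₂ hf₁ hf₂
    letI : Algebra k Ω := ((algebraMap K Ω).comp (algebraMap k K)).toAlgebra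
    haveI : IsScalarTower k K Ω := IsScalarTower.of_algebraMap_eq' rfl
    let g : B₁ ⊗[K] B₂ →ₐ[k] Ω :=
      (Algebra.TensorProduct.lift f₁ f₂ fun _ _ => Commute.all _ _).restrictScalars k
    let g₁ : B →ₐ[k] Ω := (f₁.comp (Ideal.Quotient.mkₐ K p₁.asIdeal)).restrictScalars k
    let g₂ : B →ₐ[k] Ω := (f₂.comp (Ideal.Quotient.mkₐ K p₂.asIdeal)).restrictScalars k
    have e₁ : g.comp π₁ = g₁ := AlgHom.ext fun x => by simp [g, π₁, g₁]
    have e₂ : g.comp π₂ = g₂ := AlgHom.ext fun x => by simp [g, π₂, g₂]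
    have c₁ : specMapOver g ≫ specMapOver π₁ = specMapOver g₁ := e₁ ▸ SpreadOut.specMapOver_comp π₁ g
    have c₂ : specMapOver g ≫ specMapOver π₂ = specMapOver g₂ := e₂ ▸ SpreadOut.specMapOver_comp π₂ g
    have hone : (yon _).map (specMapOver g₂) ≫ b ≫ prod.fst = GrpTranslate.one G _ := by
      refine eq_one_of_ofPt_eq G hG _ ?_
      rw [ofPt_comp, ← Points.map_ofPt, show (specMapOver g₂).left (IsLocalRing.closedPoint Ω) = v from ?_, hv, he']
      refine PrimeSpectrum.ext ?_
      change Ideal.comap g₂.toRingHom (IsLocalRing.maximalIdeal Ω) = v.asIdeal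
      rw [IsLocalRing.maximalIdeal_eq_bot, ← hf₂]
      rfl
    have hM : (yon _).map (specMapOver g) ≫ M = (yon _).map (specMapOver g₁) ≫ b := by
      apply Limits.prod.hom_ext
      · simp only [M, Category.assoc, prod.lift_fst, comp_mul']
        rw [← Category.assoc, ← Functor.map_comp, c₁, ← Category.assoc ((yon _).map (specMapOver g)),
          ← Functor.map_comp, c₂, hone, mul_one']
      · simp only [M, Category.assoc, prod.lift_snd]
        rw [← Category.assoc, ← Functor.map_comp, c₁]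
    refine ⟨(specMapOver g).left (IsLocalRing.closedPoint Ω), ?_⟩
    rw [← ofPt_comp, hM, ofPt_comp]
    congr 1
    refine PrimeSpectrum.ext ?_
    change Ideal.comap g₁.toRingHom (IsLocalRing.maximalIdeal Ω) = p₁.asIdeal
    rw [IsLocalRing.maximalIdeal_eq_bot]
    ext x
    change f₁ (Ideal.Quotient.mk _ x) = 0 ↔ _
    rw [map_eq_zero_iff f₁ hf₁, Ideal.Quotient.eq_zero_iff_mem]
  have key₂ : ∀ {Ω : Type u} [Field Ω] [Algebra K Ω] (f₁ : B₁ →ₐ[K] Ω) (f₂ : B₂ →ₐ[K] Ω),
      Function.Injective f₂ → RingHom.ker (f₁.toRingHom.comp (Ideal.Quotient.mk p₁.asIdeal)) = v.asIdeal →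
        ∃ P : PrimeSpectrum (B₁ ⊗[K] B₂), Points.ofPt M P = Points.ofPt b q₂ := by
    intro Ω _ _ f₁ f₂ hf₂ hf₁
    letI : Algebra k Ω := ((algebraMap K Ω).comp (algebraMap k K)).toAlgebra
    haveI : IsScalarTower k K Ω := IsScalarTower.of_algebraMap_eq' rfl
    let g : B₁ ⊗[K] B₂ →ₐ[k] Ω :=
      (Algebra.TensorProduct.lift f₁ f₂ fun _ _ => Commute.all _ _).restrictScalars k
    let g₁ : B →ₐ[k] Ω := (f₁.comp (Ideal.Quotient.mkₐ K p₁.asIdeal)).restrictScalars k
    let g₂ : B →ₐ[k] Ω := (f₂.comp (Ideal.Quotient.mkₐ K p₂.asIdeal)).restrictScalars k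
    have e₁ : g.comp π₁ = g₁ := AlgHom.ext fun x => by simp [g, π₁, g₁]
    have e₂ : g.comp π₂ = g₂ := AlgHom.ext fun x => by simp [g, π₂, g₂]
    have c₁ : specMapOver g ≫ specMapOver π₁ = specMapOver g₁ := e₁ ▸ SpreadOut.specMapOver_comp π₁ g
    have c₂ : specMapOver g ≫ specMapOver π₂ = specMapOver g₂ := e₂ ▸ SpreadOut.specMapOver_comp π₂ g
    have hone : (yon _).map (specMapOver g₁) ≫ b ≫ prod.fst = GrpTranslate.one G _ := by
      refine eq_one_of_ofPt_eq G hG _ ?_
      rw [ofPt_comp, ← Points.map_ofPt, show (specMapOver g₁).left (IsLocalRing.closedPoint Ω) = v from ?_, hv, he']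
      refine PrimeSpectrum.ext ?_
      change Ideal.comap g₁.toRingHom (IsLocalRing.maximalIdeal Ω) = v.asIdeal
      rw [IsLocalRing.maximalIdeal_eq_bot, ← hf₁]
      rfl
    have hM : (yon _).map (specMapOver g) ≫ M = (yon _).map (specMapOver g₂) ≫ b := by
      apply Limits.prod.hom_ext
      · simp only [M, Category.assoc, prod.lift_fst, comp_mul']
        rw [← Category.assoc, ← Functor.map_comp, c₁, ← Category.assoc ((yon _).map (specMapOver g)),
          ← Functor.map_comp, c₂, hone, one_mul']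
      · simp only [M, Category.assoc, prod.lift_snd]
        rw [hsnd, ← Category.assoc, ← Functor.map_comp, c₂]
    refine ⟨(specMapOver g).left (IsLocalRing.closedPoint Ω), ?_⟩
    rw [← ofPt_comp, hM, ofPt_comp]
    congr 1
    refine PrimeSpectrum.ext ?_
    change Ideal.comap g₂.toRingHom (IsLocalRing.maximalIdeal Ω) = p₂.asIdeal
    rw [IsLocalRing.maximalIdeal_eq_bot]
    ext x
    change f₂ (Ideal.Quotient.mk _ x) = 0 ↔ _
    rw [map_eq_zero_iff f₂ hf₂, Ideal.Quotient.eq_zero_iff_mem]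
  let ξ₀ : PrimeSpectrum (B₁ ⊗[K] B₂) :=
    ⟨nilradical _, PrimeSpectrum.irreducibleSpace_iff_isPrime_nilradical.1 hirr⟩
  have hgen : ∀ P, Points.ofPt M ξ₀ ⤳ Points.ofPt M P := fun P =>
    ((PrimeSpectrum.le_iff_specializes ξ₀ P).1 (nilradical_le_prime _)).map (Points.continuous_ofPt M)
  obtain ⟨hv₁, hv₂⟩ : p₁.asIdeal ≤ v.asIdeal ∧ p₂.asIdeal ≤ v.asIdeal :=
    ⟨(PrimeSpectrum.le_iff_specializes p₁ v).2 hq₁, (PrimeSpectrum.le_iff_specializes p₂ v).2 hq₂⟩
  let R := FractionRing (B ⧸ v.asIdeal)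
  let r₁ : B₁ →ₐ[K] R := (IsScalarTower.toAlgHom K (B ⧸ v.asIdeal) R).comp (Ideal.Quotient.factorₐ K hv₁)
  let r₂ : B₂ →ₐ[K] R := (IsScalarTower.toAlgHom K (B ⧸ v.asIdeal) R).comp (Ideal.Quotient.factorₐ K hv₂)
  have hker : ∀ {Ω : Type u} [Field Ω] [Algebra K Ω] (g : R →ₐ[K] Ω),
      RingHom.ker ((g.comp r₁).toRingHom.comp (Ideal.Quotient.mk p₁.asIdeal)) = v.asIdeal ∧
      RingHom.ker ((g.comp r₂).toRingHom.comp (Ideal.Quotient.mk p₂.asIdeal)) = v.asIdeal := by
    intro Ω _ _ g
    constructor <;> ext x <;> rw [RingHom.mem_ker] <;>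
      change g (algebraMap (B ⧸ v.asIdeal) R (Ideal.Quotient.mk v.asIdeal x)) = 0 ↔ _ <;>
      rw [map_eq_zero_iff g g.injective, map_eq_zero_iff _ (IsFractionRing.injective (B ⧸ v.asIdeal) R),
        Ideal.Quotient.eq_zero_iff_mem]
  obtain ⟨Ω₁, _, _, ⟨a₁⟩, ⟨c₁⟩⟩ := GeomSep.exists_compositum (k := K) (FractionRing B₁) R
  obtain ⟨Ω₂, _, _, ⟨a₂⟩, ⟨c₂⟩⟩ := GeomSep.exists_compositum (k := K) (FractionRing B₂) R
  obtain ⟨P₁, hP₁⟩ := key (a₁.comp (IsScalarTower.toAlgHom K B₁ (FractionRing B₁))) (c₁.comp r₂)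
    (a₁.injective.comp (IsFractionRing.injective B₁ (FractionRing B₁))) (hker c₁).2
  obtain ⟨P₂, hP₂⟩ := key₂ (c₂.comp r₁) (a₂.comp (IsScalarTower.toAlgHom K B₂ (FractionRing B₂)))
    (a₂.injective.comp (IsFractionRing.injective B₂ (FractionRing B₂))) (hker c₂).1
  have e1 := eq_of_specializes_openImm hY hjK hw₁ (p := Points.ofPt M ξ₀) (by rw [← hq₁', ← hP₁]; exact hgen P₁)
  have e2 := eq_of_specializes_openImm hY hjK hw₂ (p := Points.ofPt M ξ₀) (by rw [← hq₂', ← hP₂]; exact hgen P₂)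
  exact e1.symm.trans e2

/-- A separated group space has an open subscheme containing a point of codimension zero of the component of
the identity; its residue field is geometrically irreducible. -/
theorem exists_identity_generic (hsep : IsSeparatedSp G.left) :
    ∃ (T : Over (Spec (CommRingCat.of k))) (j : (yon _).obj T ⟶ G.left) (κ : Type u) (_ : Field κ) (_ : Algebra k κ)
      (r : specOver k κ ⟶ T), RepWith @IsOpenImmersion j ∧ IsPreimmersion r.left ∧
        coheight (r.left (IsLocalRing.closedPoint κ)) = 0 ∧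
        ∀ (F : Type u) [Field F] [Algebra k F], (nilradical (F ⊗[k] κ)).IsPrime := by
  have hqs : IsQuasiSeparatedSp G.left :=
    repWith_mono (fun _ _ f (_ : IsClosedImmersion f) => (inferInstance : QuasiCompact f)) _ hsep
  obtain ⟨V, b, v, hV, hb, hv⟩ := exists_affine_chart_at hG (e₀ G)
  obtain ⟨u', hu', hu'v⟩ : ∃ u' : ↥V.left, coheight u' = 0 ∧ u' ⤳ v := by
    obtain ⟨Z, hZ, hxZ⟩ := exists_mem_irreducibleComponents_subset_of_isIrreducible {v} isIrreducible_singleton
    refine ⟨hZ.1.genericPoint, coheight_eq_zero.2 fun y hy => ?_,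
      hZ.1.isGenericPoint_genericPoint_closure.specializes (subset_closure (hxZ rfl))⟩
    have hy' : y ⤳ hZ.1.genericPoint := Scheme.le_iff_specializes.1 hy
    refine Scheme.le_iff_specializes.2 ?_
    have hcl : closure Z = Z := (isClosed_of_mem_irreducibleComponents Z hZ).closure_eq
    have hsub : Z ⊆ closure {y} := by
      conv_lhs => rw [← hcl, ← hZ.1.isGenericPoint_genericPoint_closure.def]
      exact closure_minimal (Set.singleton_subset_iff.2 hy'.mem_closure) isClosed_closure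
    have : closure {y} ⊆ Z := hZ.2 isIrreducible_singleton.closure hsub
    exact specializes_iff_mem_closure.2 (by
      rw [hZ.1.isGenericPoint_genericPoint_closure.def, hcl]; exact this (subset_closure rfl))
  obtain ⟨T, j, hj, z, hz⟩ := exists_open_subscheme_of_codimZero_qs hG hqs hb u' hu'
  obtain ⟨u, rfl⟩ := (Points.schemeHomeo _).surjective z
  have hzu : Points.ofPt j u = Points.ofPt b u' := (Points.ofPt_eq_map_ofScheme j u).trans hz
  have hje : RepWith @Etale j := repWith_mono (fun _ _ f (_ : IsOpenImmersion f) => inferInstanceAs (Etale f)) _ hj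
  have hu0 : coheight u = 0 := by
    rw [Groth.Agent.AlgSpPts.coheight_eq_of_charts hje hb hzu, hu']
  obtain ⟨κ, hκ, hκa, r, hr, hru⟩ := FibreChart.exists_res T u
  refine ⟨T, j, κ, hκ, hκa, r, hj, hr, hru ▸ hu0, fun F _ _ => ?_⟩
  have hspec : Points.ofPt j u ⤳ e₀ G := by
    rw [hzu, ← hv]
    exact hu'v.map (Points.continuous_ofPt b)
  let K := AlgebraicClosure k
  have hY : IsAlgSpace (G.left ⨯ (yon _).obj (ext (k := k) K)) :=
    Groth.Agent.AlgSpPts.isAlgSpace_prod hG (IsAlgSpace.yon_obj _)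
  haveI : IsAffine (ext (k := k) K).left := inferInstanceAs (IsAffine (Spec _))
  have hd : IsDecent (G.left ⨯ (yon _).obj (ext (k := k) K)) :=
    isDecent_of_isQuasiSeparatedSp hY
      (repWith_mono (fun _ _ f (_ : IsClosedImmersion f) => (inferInstance : QuasiCompact f)) _
        (FibreAffine.isSeparatedSp_prod hsep _))
  let jK := bcChart K j
  have hjK : RepWith @IsOpenImmersion jK := repWith_of_isPullback (isPullback_bcChart K j) hj
  have : IsPreimmersion r.left := hr
  have hu1 : coheight (r.left (IsLocalRing.closedPoint κ)) = 0 := hru ▸ hu0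
  have hmin : ∀ q q' : PrimeSpectrum (K ⊗[k] κ), q'.asIdeal ≤ q.asIdeal → q' = q := by
    intro q q' hle
    let e := Algebra.TensorProduct.comm k K κ
    haveI : Algebra.IsIntegral κ (κ ⊗[k] K) := Algebra.IsIntegral.tensorProduct k κ K
    have hmax : ∀ p : Ideal (κ ⊗[k] K), p.IsPrime → p.IsMaximal := fun p hp => by
      haveI := hp
      refine Ideal.isMaximal_of_isIntegral_of_isMaximal_comap (R := κ) p ?_
      have hne : p.comap (algebraMap κ (κ ⊗[k] K)) ≠ ⊤ := Ideal.comap_ne_top _ hp.ne_top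
      rw [← Ideal.bot_isMaximal.eq_of_le hne bot_le]
      exact Ideal.bot_isMaximal
    have h1 := hmax (q'.asIdeal.comap e.symm.toRingHom) inferInstance
    have h2 := h1.eq_of_le (Ideal.IsPrime.ne_top (I := q.asIdeal.comap e.symm.toRingHom) inferInstance)
      (Ideal.comap_mono hle)
    exact PrimeSpectrum.ext (Ideal.comap_injective_of_surjective _ e.symm.surjective h2)
  have hfib : ∀ q : PrimeSpectrum (K ⊗[k] κ), ∃ e' : Points (G.left ⨯ (yon _).obj (ext (k := k) K)),
      Points.map prod.fst e' = e₀ G ∧ Points.ofPt jK ((fib K r).left q) ⤳ e' := by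
    intro q
    have h1 : Points.map prod.fst (Points.ofPt jK ((fib K r).left q)) = Points.ofPt j u := by
      rw [Points.map_ofPt, show jK ≫ prod.fst = (yon _).map prod.fst ≫ j from prod.lift_fst _ _, ofPt_comp,
        fst_fib K r q, hru]
    have hc := isClosedMap_fst (K := K) hG _ (isClosed_closure (s := {Points.ofPt jK ((fib K r).left q)}))
    have h2 : e₀ G ∈ Points.map prod.fst '' closure {Points.ofPt jK ((fib K r).left q)} :=
      hspec.mem_closed hc ⟨_, subset_closure rfl, h1⟩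
    obtain ⟨e', he', he''⟩ := h2
    exact ⟨e', he'', specializes_iff_mem_closure.2 he'⟩
  have huniq : ∀ e' e'' : Points (G.left ⨯ (yon _).obj (ext (k := k) K)),
      Points.map prod.fst e' = e₀ G → Points.map prod.fst e'' = e₀ G → e' = e'' := by
    intro e' e'' h1 h2
    let η' : (yon _).obj (Over.mk (𝟙 (Spec (CommRingCat.of k)))) ⟶ G.left := (η[G]).left
    obtain ⟨a, -, ha⟩ := exists_point_of_isPullback (isPullback_bcChart K η')
      (x := Points.ofScheme _ (IsLocalRing.closedPoint k)) (y := e') ((map_eta G _).trans h1.symm)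
    obtain ⟨a', -, ha'⟩ := exists_point_of_isPullback (isPullback_bcChart K η')
      (x := Points.ofScheme _ (IsLocalRing.closedPoint k)) (y := e'') ((map_eta G _).trans h2.symm)
    let pr : (Over.mk (𝟙 (Spec (CommRingCat.of k))) ⨯ ext (k := k) K) ⟶ ext (k := k) K := prod.snd
    have hpr : Function.Injective pr.left := by
      have : IsIso pr := ⟨prod.lift (Over.mkIdTerminal.from _) (𝟙 _),
        Limits.prod.hom_ext (Over.mkIdTerminal.hom_ext _ _) (by simp [pr]), prod.lift_snd _ _⟩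
      exact pr.left.homeomorph.injective
    haveI : Subsingleton ↥(ext (k := k) K).left := inferInstanceAs (Subsingleton (PrimeSpectrum K))
    haveI : Subsingleton ↥(Over.mk (𝟙 (Spec (CommRingCat.of k))) ⨯ ext (k := k) K).left :=
      ⟨fun x y => hpr (Subsingleton.elim _ _)⟩
    haveI := (Points.schemeHomeo (Over.mk (𝟙 (Spec (CommRingCat.of k))) ⨯ ext (k := k) K)).surjective.subsingleton
    rw [← ha, ← ha', Subsingleton.elim a a']
  have hinj : Function.Injective (Points.ofPt jK) := by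
    have := mono_of_openImm hjK
    intro x y hxy
    rw [Points.ofPt_eq_map_ofScheme, Points.ofPt_eq_map_ofScheme] at hxy
    exact (Points.schemeHomeo _).injective (injective_points_map_of_mono jK hxy)
  haveI : Subsingleton (PrimeSpectrum (K ⊗[k] κ)) := ⟨fun q₁ q₂ => by
    obtain ⟨e₁, h₁, h₁'⟩ := hfib q₁
    obtain ⟨e₂, h₂, h₂'⟩ := hfib q₂
    obtain rfl := huniq e₁ e₂ h₁ h₂
    exact (isPreimmersion_fib K r).base_embedding.injective (hinj (eq_of_specializes_identity G hG hd hjK
      (coheight_fib K r hu1 q₁ (hmin q₁)) (coheight_fib K r hu1 q₂ (hmin q₂)) h₁ h₁' h₂'))⟩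
  haveI : Nontrivial (K ⊗[k] κ) := inferInstance
  haveI : IrreducibleSpace (PrimeSpectrum (K ⊗[k] κ)) :=
    { toNonempty := inferInstance
      isPreirreducible_univ := Set.subsingleton_univ.isPreirreducible }
  exact PrimeSpectrum.irreducibleSpace_iff_isPrime_nilradical.1
    (GeomSep.geometricallyIrreducible_of_isSepClosed K F)

end

end Groth.Agent.AlgSpDec.IdComp
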