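import Groth.Agent.AlgSpDec.EpiPullback
import Groth.Agent.AlgSpDec.FppfDescent
import Groth.Agent.AlgSpLib.Sheaf
import Groth.Agent.S1125
import Groth.Agent.EtFound.Descent

/-!
# Subspaces given by invariant immersions into an atlas
-/

set_option backward.isDefEq.respectTransparency false
set_option backward.isDefEq.respectTransparency.types false

universe u

open CategoryTheory CategoryTheory.Limits AlgebraicGeometry Opposite AlgSp Groth.Agent.AlgSpLib

namespace Groth.Agent.AlgSpDec.ImmDescentSp

variable {S : Scheme.{u}}

/-- The image sheaf of an invariant immersion pulls back to it. -/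
theorem isPullback_image {X : Sp S} {R U W R' : Over S} {s t : R ⟶ U} (p : (yon S).obj U ⟶ X)
    (pres : IsPullback ((yon S).map t) ((yon S).map s) p p) (i : W ⟶ U) [Mono i] (k : R' ⟶ R) (s' t' : R' ⟶ W)
    (hs : IsPullback k s' s i) (ht : k ≫ t = t' ≫ i) :
    IsPullback (factorThruImage ((yon S).map i ≫ p)) ((yon S).map i) (image.ι ((yon S).map i ≫ p)) p := by
  let f := (yon S).map i ≫ p
  let q := factorThruImage f
  let m := image.ι f
  have hA : IsPullback ((yon S).map s') ((yon S).map k ≫ (yon S).map t) f p :=
    ((hs.map (yon S)).paste_horiz pres).flip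
  have hB := IsPullback.of_hasPullback m p
  let c := hB.lift ((yon S).map s' ≫ q) ((yon S).map k ≫ (yon S).map t) (by
    rw [Category.assoc, image.fac]; exact hA.w)
  have htop : IsPullback ((yon S).map s') c q (pullback.fst m p) :=
    IsPullback.of_bot (by
      have e : c ≫ pullback.snd m p = (yon S).map k ≫ (yon S).map t := hB.lift_snd _ _ _
      have e' : q ≫ m = f := image.fac f
      rw [e, e']
      exact hA) (hB.lift_fst _ _ _).symm hB
  haveI : Epi q := inferInstanceAs (Epi (factorThruImage f))
  haveI : Epi c := epi_of_isPullback_sheaf htop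
  haveI : StrongEpi c := strongEpi_of_epi c
  haveI : Mono ((yon S).map i) := inferInstance
  have sqc : CommSq ((yon S).map t') c ((yon S).map i) (pullback.snd m p) := ⟨by
    have e : c ≫ pullback.snd m p = (yon S).map k ≫ (yon S).map t := hB.lift_snd _ _ _
    rw [e, ← Functor.map_comp, ← Functor.map_comp, ht]⟩
  let j := hB.lift q ((yon S).map i) (image.fac f)
  have hj : j ≫ pullback.snd m p = (yon S).map i := hB.lift_snd _ _ _
  have hl : sqc.lift ≫ (yon S).map i = pullback.snd m p := sqc.fac_right
  let e : (yon S).obj W ≅ pullback m p := ⟨j, sqc.lift,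
    (cancel_mono ((yon S).map i)).1 (by rw [Category.assoc, hl, hj, Category.id_comp]),
    (cancel_mono (pullback.snd m p)).1 (by rw [Category.assoc, hj, hl, Category.id_comp])⟩
  refine hB.of_iso e.symm (Iso.refl _) (Iso.refl _) (Iso.refl _) ?_ ?_ (by simp; rfl) (by simp)
  · have h1 : j ≫ pullback.fst m p = q := hB.lift_fst _ _ _
    simp only [Iso.refl_hom, Category.comp_id, Iso.symm_hom]
    show _ = e.inv ≫ q
    rw [← h1]
    exact (e.inv_hom_id_assoc _).symm
  · simp only [Iso.refl_hom, Category.comp_id, Iso.symm_hom]
    exact hl.symm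

/-- A monomorphism to a space which pulls back along an atlas to an immersion is an immersion. -/
theorem repWith_isImmersion_of_chart {X Z : Sp S} {U W : Over S} (m : Z ⟶ X) [Mono m] (p : (yon S).obj U ⟶ X)
    (hp : RepWith @Etale p) (hps : RepWith @Surjective p) {q : (yon S).obj W ⟶ Z} {i : W ⟶ U}
    [IsImmersion i.left] (sq : IsPullback q ((yon S).map i) m p) : RepWith @IsImmersion m := by
  refine repWith_of_squares fun T g => ?_
  let T' := hp.rep.pullback g
  let e : T' ⟶ T := hp.rep.snd g
  let v : T' ⟶ U := hp.rep.fst' g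
  have hev : IsPullback ((yon S).map v) ((yon S).map e) p g := hp.rep.isPullback' g
  haveI : Etale e.left := hp.property_snd g
  haveI : Surjective e.left := hps.property g _ _ (hp.rep.isPullback g)
  haveI : Flat e.left := inferInstance
  haveI : LocallyOfFinitePresentation e.left := inferInstance
  let W' : Over S := Over.mk (pullback.fst i.left v.left ≫ W.hom)
  let a : W' ⟶ W := Over.homMk (pullback.fst i.left v.left) rfl
  let b : W' ⟶ T' := Over.homMk (pullback.snd i.left v.left) (by
    show _ ≫ T'.hom = _ ≫ W.hom
    rw [← Over.w v, ← Category.assoc, ← pullback.condition, Category.assoc, Over.w i])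
  have sqW : IsPullback a b i v :=
    IsPullback.of_map (Over.forget S) (Over.OverMorphism.ext pullback.condition) (IsPullback.of_hasPullback _ _)
  haveI : IsImmersion b.left := inferInstanceAs (IsImmersion (pullback.snd i.left v.left))
  have sqP := IsPullback.of_hasPullback m g
  have big := (sqW.map (yon S)).paste_horiz sq
  rw [hev.w] at big
  let w : (yon S).obj W' ⟶ pullback m g := sqP.lift ((yon S).map a ≫ q) ((yon S).map b ≫ (yon S).map e) (by
    rw [Category.assoc ((yon S).map b)]; exact big.w)
  have sqw : IsPullback w ((yon S).map b) (pullback.snd m g) ((yon S).map e) :=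
    IsPullback.of_right (by rw [sqP.lift_fst]; exact big) (sqP.lift_snd _ _ _) sqP
  obtain ⟨Q, ⟨φ⟩⟩ := Groth.Agent.AlgSpDec.Fppf.exists_rep_of_mono e sqw
  obtain ⟨h, hh⟩ := (yon S).map_surjective (φ.hom ≫ pullback.snd m g)
  refine ⟨Q, φ.hom ≫ pullback.fst m g, h, ?_, ?_⟩
  · refine sqP.of_iso φ.symm (Iso.refl _) (Iso.refl _) (Iso.refl _) (by simp) (by simp [hh]) (by simp) (by simp)
  · obtain ⟨w', hw'⟩ := (yon S).map_surjective (w ≫ φ.inv)
    have sq' : IsPullback ((yon S).map w') ((yon S).map b) ((yon S).map h) ((yon S).map e) :=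
      sqw.of_iso (Iso.refl _) φ.symm (Iso.refl _) (Iso.refl _) (by simp [hw']) (by simp) (by simp [hh]) (by simp)
    have sq'' := ((IsPullback.of_map (yon S) ((yon S).map_injective (by simpa using sq'.w))
      sq').map (Over.forget S)).flip
    haveI := Groth.Agent.S1125.result.{u}
    exact MorphismProperty.of_isPullback_of_descendsAlong (P := @IsImmersion)
      (Q := @Surjective ⊓ @Flat ⊓ @LocallyOfFinitePresentation) sq''
      ⟨⟨(inferInstance : Surjective e.left), (inferInstance : Flat e.left)⟩,
        (inferInstance : LocallyOfFinitePresentation e.left)⟩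
      (inferInstanceAs (IsImmersion b.left))

end Groth.Agent.AlgSpDec.ImmDescentSp
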