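import Groth.Agent.AlgSpDec.ClosedPush
import Groth.Agent.EtFound.UnivInjPush

/-!
# Direct images along integral universally injective morphisms of spaces
-/

set_option backward.isDefEq.respectTransparency false
set_option backward.isDefEq.respectTransparency.types false

universe u

open CategoryTheory CategoryTheory.Limits AlgebraicGeometry Opposite AlgSp
open Groth.Agent.AlgSpLib Groth.Agent.AlgSpPts

namespace Groth.Agent.AlgSpDec.ClosedPush

variable {S : Scheme.{u}} {Y X : Sp S} {f : Y ⟶ X}

theorem universallyInjective_snd (hr : Representable f) (hu : IsUnivInjectiveMor f) {U : Over S}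
    (g : (yon S).obj U ⟶ X) : UniversallyInjective (hr.snd g).left := by
  have h := repWith_universally_of_univSp (P := topologically fun f => Function.Injective f)
    (Q := fun _ _ f => Function.Injective (Points.map f)) (fun V U g hg => by
      show Function.Injective g.left
      intro a b hab
      refine (Points.schemeHomeo V).injective (hg ?_)
      rw [Points.map_yon_map_apply, Points.map_yon_map_apply, hab]) hr hu
  refine ⟨?_⟩
  exact h.property_snd g

theorem liftableSp_of_isIntegral_univInj (hi : RepWith @IsIntegralHom f) (hu : IsUnivInjectiveMor f) :
    LiftableSp hi.1 :=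
  liftableSp_of_liftable _ fun N =>
    haveI : IsIntegralHom (EtOver.bcπ hi.1 N).left := hi.property_snd N.obj.hom
    haveI : UniversallyInjective (EtOver.bcπ hi.1 N).left := universallyInjective_snd hi.1 hu N.obj.hom
    EtFound.liftable_of_integral_univInj _

end Groth.Agent.AlgSpDec.ClosedPush
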