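import Groth.Agent.AlgSpDec.EtSite
import Groth.Agent.AlgSpDec.AffineRep
import Groth.Agent.EtFound.IntegralProps
import Groth.Prelude.Def_AlgSpOX2
import Mathlib.CategoryTheory.Sites.EpiMono
import Mathlib.Algebra.Category.Grp.Abelian
import Mathlib.Algebra.Homology.ShortComplex.ExactFunctor
import Mathlib.CategoryTheory.Sites.Abelian

/-!
# Direct images along integral morphisms of spaces are exact
-/

set_option backward.isDefEq.respectTransparency false
set_option backward.isDefEq.respectTransparency.types false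

universe u

open CategoryTheory CategoryTheory.Limits AlgebraicGeometry Opposite AlgSp
open Groth.Agent.AlgSpLib

namespace Groth.Agent.AlgSpDec.IntPushExact

variable {S : Scheme.{u}} {Y X : Sp S} {f : Y ⟶ X}

theorem nonempty_unique_of_isEmpty (G : EtSh Y (Type (u + 1))) (E : EtOver Y) [IsEmpty ↥E.obj.left.left] :
    Nonempty (Unique (G.obj.obj (op E))) := by
  refine ⟨Types.isTerminalEquivUnique _ (Sheaf.isTerminalOfBotCover G _ ((etTop Y).superset_covering ?_
    (ofArrows_mem_etTop (E := E) (fun i : PEmpty.{1} => E) (fun i => i.elim) fun x => isEmptyElim x)))⟩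
  intro V g hg
  obtain ⟨i, -⟩ := (Sieve.mem_ofArrows_iff _ _ _).1 hg
  exact i.elim

/-- sections glue along disjoint opens -/
theorem exists_glue_disjoint (G : EtSh Y (Type (u + 1))) (E : EtOver Y) {μ : Type u}
    (O : μ → E.obj.left.left.Opens) (hd : ∀ a b, ∀ x, x ∈ O a → x ∈ O b → a = b) (hO : ∀ x, ∃ a, x ∈ O a)
    (t : ∀ a, G.obj.obj (op (etOpen E (O a)))) :
    ∃ s : G.obj.obj (op E), ∀ a, G.obj.map (etOpenι E (O a)).op s = t a := by
  have h := ((isSheaf_iff_isSheaf_of_type _ _).1 G.property) _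
    (ofArrows_mem_etTop (fun a => etOpen E (O a)) (fun a => etOpenι E (O a)) fun x => by
      obtain ⟨a, ha⟩ := hO x
      exact ⟨a, (range_etOpenι E (O a)).ge ha⟩)
  rw [Sieve.ofArrows, ← Presieve.isSheafFor_iff_generate, Presieve.isSheafFor_arrows_iff] at h
  refine (h t fun a b Z ga gb e => ?_).exists
  have e' : ga.hom.left.left ≫ (O a).ι = gb.hom.left.left ≫ (O b).ι := congrArg (fun k => k.hom.left.left) e
  by_cases hab : a = b
  · subst hab
    have : ga = gb := EtOver.hom_ext _ _ (CategoryTheory.Over.OverMorphism.ext ((cancel_mono (O a).ι).1 e'))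
    rw [this]
  · have : IsEmpty ↥Z.obj.left.left := ⟨fun z => by
      let za : ↥(O a).toScheme := ga.hom.left.left z
      let zb : ↥(O b).toScheme := gb.hom.left.left z
      have ez : za.1 = zb.1 := congrArg (fun k => k z) e'
      exact hab (hd a b _ za.2 (ez ▸ zb.2))⟩
    obtain ⟨hu⟩ := nonempty_unique_of_isEmpty G Z
    exact (hu.eq_default _).trans (hu.eq_default _).symm

theorem isLocallySurjective_push (hi : RepWith @IsIntegralHom f) {F G : AbEt Y} (φ : F ⟶ G)
    [Sheaf.IsLocallySurjective φ] : Sheaf.IsLocallySurjective ((pushEt hi.1 AddCommGrpCat.{u + 1}).map φ) := by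
  constructor
  intro U s
  let B := (EtOver.bc hi.1).obj U
  let π := EtOver.bcπ hi.1 U
  haveI : IsIntegralHom π.left := hi.property_snd U.obj.hom
  have hs := Presheaf.imageSieve_mem (etTop Y) φ.hom (U := op B) s
  obtain ⟨P, hP, hPR⟩ := (etPre Y).mem_toGrothendieck_iff_of_isStableUnderComposition.1 hs
  obtain ⟨ι, W, g, rfl⟩ := P.exists_eq_ofArrows
  -- one member of the cover at each point
  choose i w hw using (ofArrows_mem_etPre_iff W g).1 hP
  let Z : ↥B.obj.left.left → Scheme.{u} := fun x => (W (i x)).obj.left.left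
  let gz : ∀ x, Z x ⟶ B.obj.left.left := fun x => (g (i x)).hom.left.left
  haveI : ∀ x, Etale (gz x) := fun x => EtOver.etale_left _
  haveI : Etale (Limits.Sigma.desc gz) := EtFound.etale_sigmaDesc gz
  have pt : ∀ u : ↥U.obj.left.left, ∃ (E : EtOver X) (n : E ⟶ U) (_ : u ∈ Set.range n.hom.left.left)
      (m : ((EtOver.bc hi.1).obj E).obj.left.left ⟶ ∐ Z),
      m ≫ Sigma.desc gz = (EtOver.bcMap hi.1 n).hom.left.left := by
    intro u
    obtain ⟨V, v, hv, hu, h, hh⟩ := @EtFound.exists_split' _ _ _ π.left ‹_› (Sigma.desc gz) (EtFound.etale_sigmaDesc gz) u fun x _ =>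
      ⟨(Sigma.ι Z x).base (w x), by rw [← Scheme.Hom.comp_apply, Sigma.ι_desc]; exact hw x⟩
    let Ve : U.obj.left.left.Etale := Scheme.Etale.mk v
    let E : EtOver X := EtOver.mk ((yon S).map (EtOver.homOfEtale Ve) ≫ U.obj.hom)
      (EtOver.repWith_etale_ofChart_obj U.obj.hom U.property Ve)
    let n : E ⟶ U := EtOver.homMk (EtOver.homOfEtale Ve) rfl
    have sq : IsPullback (EtOver.bcMap hi.1 n).hom.left.left (EtOver.bcπ hi.1 E).left π.left v :=
      EtOver.isPullback_bcMap_left hi.1 n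
    exact ⟨E, n, hu, sq.isoPullback.hom ≫ h,
      (Category.assoc _ _ _).trans ((congrArg (sq.isoPullback.hom ≫ ·) hh).trans sq.isoPullback_hom_fst)⟩
  choose E n hu m hm using pt
  refine (etTop X).superset_covering ?_ (ofArrows_mem_etTop E n fun u => ⟨u, hu u⟩)
  intro V k hk
  obtain ⟨u, k', rfl⟩ := (Sieve.mem_ofArrows_iff _ _ _).1 hk
  refine Sieve.downward_closed _ ?_ k'
  -- the preimage of `s` over the `u`-th member
  let T := (EtOver.bc hi.1).obj (E u)
  let O : ↥B.obj.left.left → T.obj.left.left.Opens := fun x => (m u) ⁻¹ᵁ (Sigma.ι Z x).opensRange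
  have hd : ∀ a b, ∀ x, x ∈ O a → x ∈ O b → a = b := by
    intro a b x ha hb
    by_contra hab
    exact Set.disjoint_left.1 (TopologicalSpace.Opens.coe_disjoint.2 (disjoint_opensRange_sigmaι Z a b hab)) ha hb
  have hO : ∀ x, ∃ a, x ∈ O a := fun x => by
    obtain ⟨a, z, hz⟩ := (sigmaOpenCover Z).exists_eq ((m u).base x)
    exact ⟨a, z, hz⟩
  have hr : ∀ a, Set.range ((O a).ι ≫ m u).base ⊆ Set.range (Sigma.ι Z a).base := by
    rintro a _ ⟨z, rfl⟩
    exact z.2
  have hl : ∀ a, IsOpenImmersion.lift (Sigma.ι Z a) _ (hr a) ≫ gz a =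
      (O a).ι ≫ (EtOver.bcMap hi.1 (n u)).hom.left.left := fun a =>
    (congrArg (IsOpenImmersion.lift (Sigma.ι Z a) _ (hr a) ≫ ·) (Sigma.ι_desc gz a).symm).trans
      ((Category.assoc _ _ _).symm.trans ((congrArg (· ≫ Sigma.desc gz) (IsOpenImmersion.lift_fac _ _ (hr a))).trans
        ((Category.assoc _ _ _).trans (congrArg ((O a).ι ≫ ·) (hm u)))))
  let lO : ∀ a, (etOpen T (O a)).obj.left ⟶ (W (i a)).obj.left := fun a =>
    CategoryTheory.Over.homMk (IsOpenImmersion.lift (Sigma.ι Z a) _ (hr a)) (by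
      rw [← Over.w (g (i a)).hom.left, reassoc_of% (hl a)]
      exact congrArg ((O a).ι ≫ ·) (Over.w (EtOver.bcMap hi.1 (n u)).hom.left))
  have hlO : ∀ a, lO a ≫ (g (i a)).hom.left = (etOpenι T (O a)).hom.left ≫ (EtOver.bcMap hi.1 (n u)).hom.left :=
    fun a => CategoryTheory.Over.OverMorphism.ext (hl a)
  let gO : ∀ a, etOpen T (O a) ⟶ W (i a) := fun a => EtOver.homMk (lO a) (by
    rw [← EtOver.w (g (i a)), ← Functor.map_comp_assoc, hlO, Functor.map_comp, Category.assoc]
    exact (congrArg (_ ≫ ·) (EtOver.w (EtOver.bcMap hi.1 (n u)))).trans (EtOver.w (etOpenι T (O a))))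
  have hgO : ∀ a, gO a ≫ g (i a) = etOpenι T (O a) ≫ (EtOver.bc hi.1).map (n u) := fun a =>
    EtOver.hom_ext _ _ (hlO a)
  choose t ht using fun a => (hPR _ _ (Presieve.ofArrows.mk a) :)
  obtain ⟨τ, hτ⟩ := exists_glue_disjoint ((sheafCompose _ (forget AddCommGrpCat.{u + 1})).obj F) T O hd hO
    (fun a => F.obj.map (gO a).op (t (i a)))
  refine ⟨τ, ?_⟩
  show φ.hom.app (op T) τ = G.obj.map ((EtOver.bc hi.1).map (n u)).op s
  refine (((isSheaf_iff_isSheaf_of_type _ _).1 ((sheafCompose _ (forget AddCommGrpCat.{u + 1})).obj G).property) _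
    (ofArrows_mem_etTop (fun a => etOpen T (O a)) (fun a => etOpenι T (O a)) fun x => by
      obtain ⟨a, ha⟩ := hO x
      exact ⟨a, (range_etOpenι T (O a)).ge ha⟩)).isSeparatedFor.ext fun V' k hk => ?_
  obtain ⟨a, k', rfl⟩ := (Sieve.mem_ofArrows_iff _ _ _).1 hk
  rw [op_comp, Functor.map_comp]
  refine congrArg (G.obj.map k'.op) ?_
  show G.obj.map _ (φ.hom.app _ τ) = G.obj.map _ (G.obj.map _ s)
  rw [← NatTrans.naturality_apply, show F.obj.map (etOpenι T (O a)).op τ = _ from hτ a, NatTrans.naturality_apply,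
    ht, ← ConcreteCategory.comp_apply, ← G.obj.map_comp, ← op_comp, hgO, op_comp, G.obj.map_comp,
    ConcreteCategory.comp_apply]
  rfl

theorem preservesFiniteLimits_push (hf : Representable f) :
    PreservesFiniteLimits (pushEt hf AddCommGrpCat.{u + 1}) := by
  haveI : PreservesFiniteLimits (pushEt hf AddCommGrpCat.{u + 1} ⋙ sheafToPresheaf (etTop X) AddCommGrpCat.{u + 1}) :=
    inferInstanceAs (PreservesFiniteLimits (sheafToPresheaf (etTop Y) AddCommGrpCat.{u + 1} ⋙
      (Functor.whiskeringLeft _ _ _).obj (EtOver.bc hf).op))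
  exact preservesFiniteLimits_of_reflects_of_preserves _ (sheafToPresheaf (etTop X) AddCommGrpCat.{u + 1})

theorem preservesFiniteColimits_push (hi : RepWith @IsIntegralHom f) :
    PreservesFiniteColimits (pushEt hi.1 AddCommGrpCat.{u + 1}) := by
  have hl := preservesFiniteLimits_push hi.1
  haveI : (pushEt hi.1 AddCommGrpCat.{u + 1}).PreservesEpimorphisms := ⟨fun {F G} φ _ => by
    have := (Sheaf.isLocallySurjective_iff_epi' _ φ).2 inferInstance
    exact (Sheaf.isLocallySurjective_iff_epi' _ _).1 (isLocallySurjective_push hi φ)⟩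
  rw [Functor.preservesFiniteColimits_iff_forall_exact_map_and_epi]
  intro C hC
  have := hC.epi_g
  exact ⟨((((Functor.preservesFiniteLimits_tfae (pushEt hi.1 AddCommGrpCat.{u + 1})).out 3 0 rfl rfl).1 hl) C hC).1,
    inferInstance⟩

end Groth.Agent.AlgSpDec.IntPushExact
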