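import Groth.Agent.RingPO.Props2
import Groth.Agent.S6900
import Groth.Agent.RingPO.ChartPushout

/-!
# Properties of morphisms of pushouts along thickenings
-/

set_option autoImplicit false

universe u

open CategoryTheory CategoryTheory.Limits AlgebraicGeometry

namespace Groth.Agent.AlgSpDec.ThickPush

/-- Properties of a morphism of pushouts are tested on the legs. -/
theorem iff_of_legs {X Y Z P X' Y' Z' P' : Scheme.{u}}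
    (i : Z ⟶ X) (j : Z ⟶ Y) [IsClosedImmersion i] [IsAffineHom j] (a : X ⟶ P) (b : Y ⟶ P) (hP : IsPushout i j a b)
    (f : X' ⟶ X) (g : Y' ⟶ Y) (i' : Z' ⟶ X') (j' : Z' ⟶ Y') (c : Z' ⟶ Z) (hX : IsPullback i' c f i) (hY : IsPullback j' c g j)
    (a' : X' ⟶ P') (b' : Y' ⟶ P')
    (hc : ∀ y : Y, ∃ c : RingPO.Chart i j, y ∈ c.V) (hc' : ∀ y : Y', ∃ c : RingPO.Chart i' j', y ∈ c.V) (hP' : IsPushout i' j' a' b') (h : P' ⟶ P) (ha : a' ≫ h = f ≫ a) (hb : b' ≫ h = g ≫ b) :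
    (LocallyOfFiniteType h ↔ LocallyOfFiniteType f ∧ LocallyOfFiniteType g) ∧
    (Flat h ↔ Flat f ∧ Flat g) ∧
    ((Flat h ∧ LocallyOfFinitePresentation h) ↔ (Flat f ∧ LocallyOfFinitePresentation f) ∧ (Flat g ∧ LocallyOfFinitePresentation g)) ∧
    (Smooth h ↔ Smooth f ∧ Smooth g) ∧
    (Etale h ↔ Etale f ∧ Etale g) := by
  haveI : IsClosedImmersion i' := MorphismProperty.of_isPullback hX.flip ‹_›
  haveI : IsAffineHom j' := MorphismProperty.of_isPullback hY.flip ‹_›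
  haveI : IsAffineHom a := RingPO.isAffineHom_inl hP hc
  haveI : IsClosedImmersion b := RingPO.isClosedImmersion_inr hP hc
  haveI : IsAffineHom a' := RingPO.isAffineHom_inl hP' hc'
  haveI : IsClosedImmersion b' := RingPO.isClosedImmersion_inr hP' hc'
  have main : ∀ (U : P.affineOpens) (U' : P'.affineOpens) (e : U'.1 ≤ h ⁻¹ᵁ U.1) (e₁ : a' ⁻¹ᵁ U'.1 ≤ f ⁻¹ᵁ a ⁻¹ᵁ U.1)
      (e₂ : b' ⁻¹ᵁ U'.1 ≤ g ⁻¹ᵁ b ⁻¹ᵁ U.1),
      let r := (h.appLE U U' e).hom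
      let s := (f.appLE (a ⁻¹ᵁ U.1) (a' ⁻¹ᵁ U'.1) e₁).hom
      let t := (g.appLE (b ⁻¹ᵁ U.1) (b' ⁻¹ᵁ U'.1) e₂).hom
      (r.FiniteType ↔ t.FiniteType ∧ s.FiniteType) ∧ (r.Flat ↔ t.Flat ∧ s.Flat) ∧
      (r.Flat ∧ r.FinitePresentation ↔ (t.Flat ∧ t.FinitePresentation) ∧ (s.Flat ∧ s.FinitePresentation)) ∧
      (r.Smooth ↔ t.Smooth ∧ s.Smooth) ∧ (r.Etale ↔ t.Etale ∧ s.Etale) := by
    intro U U' e e₁ e₂
    have hF := RingPO.isFibreProd_of_affineOpen hP hc U.2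
    have hF' := RingPO.isFibreProd_of_affineOpen hP' hc' U'.2
    set W : Z.Opens := i ⁻¹ᵁ a ⁻¹ᵁ U.1 with hW
    set W' : Z'.Opens := i' ⁻¹ᵁ a' ⁻¹ᵁ U'.1 with hW'
    have hWA : IsAffineOpen W := (U.2.preimage a).preimage i
    have hWA' : IsAffineOpen W' := (U'.2.preimage a').preimage i'
    have eW : W = j ⁻¹ᵁ b ⁻¹ᵁ U.1 := by
      rw [hW, ← Scheme.Hom.comp_preimage, hP.w, Scheme.Hom.comp_preimage]
    have eW' : W' = j' ⁻¹ᵁ b' ⁻¹ᵁ U'.1 := by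
      rw [hW', ← Scheme.Hom.comp_preimage, hP'.w, Scheme.Hom.comp_preimage]
    have ec : W' ≤ c ⁻¹ᵁ W := by
      rw [hW, hW', ← Scheme.Hom.comp_preimage c i, ← hX.w, Scheme.Hom.comp_preimage]
      exact i'.preimage_mono e₁
    have hwY : j' ≫ g = c ≫ j := hY.w
    letI : Algebra Γ(P, U) Γ(Y, b ⁻¹ᵁ U.1) := (b.appLE U (b ⁻¹ᵁ U.1) le_rfl).hom.toAlgebra
    letI : Algebra Γ(P, U) Γ(X, a ⁻¹ᵁ U.1) := (a.appLE U (a ⁻¹ᵁ U.1) le_rfl).hom.toAlgebra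
    letI : Algebra Γ(Y, b ⁻¹ᵁ U.1) Γ(Z, W) := (j.appLE (b ⁻¹ᵁ U.1) W eW.le).hom.toAlgebra
    letI : Algebra Γ(X, a ⁻¹ᵁ U.1) Γ(Z, W) := (i.appLE (a ⁻¹ᵁ U.1) W le_rfl).hom.toAlgebra
    letI : Algebra Γ(P, U) Γ(Z, W) :=
      ((b.appLE U (b ⁻¹ᵁ U.1) le_rfl) ≫ (j.appLE (b ⁻¹ᵁ U.1) W eW.le)).hom.toAlgebra
    haveI : IsScalarTower Γ(P, U) Γ(Y, b ⁻¹ᵁ U.1) Γ(Z, W) := IsScalarTower.of_algebraMap_eq' rfl
    haveI : IsScalarTower Γ(P, U) Γ(X, a ⁻¹ᵁ U.1) Γ(Z, W) :=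
      IsScalarTower.of_algebraMap_eq' (RingHom.ext fun z => (hF.comm z).symm)
    letI : Algebra Γ(P', U') Γ(Y', b' ⁻¹ᵁ U'.1) := (b'.appLE U' (b' ⁻¹ᵁ U'.1) le_rfl).hom.toAlgebra
    letI : Algebra Γ(P', U') Γ(X', a' ⁻¹ᵁ U'.1) := (a'.appLE U' (a' ⁻¹ᵁ U'.1) le_rfl).hom.toAlgebra
    letI : Algebra Γ(Y', b' ⁻¹ᵁ U'.1) Γ(Z', W') := (j'.appLE (b' ⁻¹ᵁ U'.1) W' eW'.le).hom.toAlgebra
    letI : Algebra Γ(X', a' ⁻¹ᵁ U'.1) Γ(Z', W') := (i'.appLE (a' ⁻¹ᵁ U'.1) W' le_rfl).hom.toAlgebra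
    letI : Algebra Γ(P', U') Γ(Z', W') :=
      ((b'.appLE U' (b' ⁻¹ᵁ U'.1) le_rfl) ≫ (j'.appLE (b' ⁻¹ᵁ U'.1) W' eW'.le)).hom.toAlgebra
    haveI : IsScalarTower Γ(P', U') Γ(Y', b' ⁻¹ᵁ U'.1) Γ(Z', W') := IsScalarTower.of_algebraMap_eq' rfl
    haveI : IsScalarTower Γ(P', U') Γ(X', a' ⁻¹ᵁ U'.1) Γ(Z', W') :=
      IsScalarTower.of_algebraMap_eq' (RingHom.ext fun z => (hF'.comm z).symm)
    letI : Algebra Γ(P, U) Γ(P', U') := (h.appLE U U' e).hom.toAlgebra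
    letI : Algebra Γ(Y, b ⁻¹ᵁ U.1) Γ(Y', b' ⁻¹ᵁ U'.1) := (g.appLE (b ⁻¹ᵁ U.1) (b' ⁻¹ᵁ U'.1) e₂).hom.toAlgebra
    letI : Algebra Γ(X, a ⁻¹ᵁ U.1) Γ(X', a' ⁻¹ᵁ U'.1) := (f.appLE (a ⁻¹ᵁ U.1) (a' ⁻¹ᵁ U'.1) e₁).hom.toAlgebra
    letI : Algebra Γ(Z, W) Γ(Z', W') := (c.appLE W W' ec).hom.toAlgebra
    letI : Algebra Γ(P, U) Γ(Y', b' ⁻¹ᵁ U'.1) :=
      ((b.appLE U (b ⁻¹ᵁ U.1) le_rfl) ≫ (g.appLE (b ⁻¹ᵁ U.1) (b' ⁻¹ᵁ U'.1) e₂)).hom.toAlgebra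
    haveI : IsScalarTower Γ(P, U) Γ(Y, b ⁻¹ᵁ U.1) Γ(Y', b' ⁻¹ᵁ U'.1) := IsScalarTower.of_algebraMap_eq' rfl
    haveI : IsScalarTower Γ(P, U) Γ(P', U') Γ(Y', b' ⁻¹ᵁ U'.1) := IsScalarTower.of_algebraMap_eq' (by
      show ((b.appLE U (b ⁻¹ᵁ U.1) le_rfl) ≫ (g.appLE (b ⁻¹ᵁ U.1) (b' ⁻¹ᵁ U'.1) e₂)).hom =
        (h.appLE U U' e ≫ b'.appLE U' (b' ⁻¹ᵁ U'.1) le_rfl).hom
      rw [Scheme.Hom.appLE_comp_appLE, Scheme.Hom.appLE_comp_appLE]; simp only [hb])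
    letI : Algebra Γ(P, U) Γ(X', a' ⁻¹ᵁ U'.1) :=
      ((a.appLE U (a ⁻¹ᵁ U.1) le_rfl) ≫ (f.appLE (a ⁻¹ᵁ U.1) (a' ⁻¹ᵁ U'.1) e₁)).hom.toAlgebra
    haveI : IsScalarTower Γ(P, U) Γ(X, a ⁻¹ᵁ U.1) Γ(X', a' ⁻¹ᵁ U'.1) := IsScalarTower.of_algebraMap_eq' rfl
    haveI : IsScalarTower Γ(P, U) Γ(P', U') Γ(X', a' ⁻¹ᵁ U'.1) := IsScalarTower.of_algebraMap_eq' (by
      show ((a.appLE U (a ⁻¹ᵁ U.1) le_rfl) ≫ (f.appLE (a ⁻¹ᵁ U.1) (a' ⁻¹ᵁ U'.1) e₁)).hom =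
        (h.appLE U U' e ≫ a'.appLE U' (a' ⁻¹ᵁ U'.1) le_rfl).hom
      rw [Scheme.Hom.appLE_comp_appLE, Scheme.Hom.appLE_comp_appLE]; simp only [ha])
    letI : Algebra Γ(Y, b ⁻¹ᵁ U.1) Γ(Z', W') := ((j.appLE (b ⁻¹ᵁ U.1) W eW.le) ≫ c.appLE W W' ec).hom.toAlgebra
    haveI : IsScalarTower Γ(Y, b ⁻¹ᵁ U.1) Γ(Z, W) Γ(Z', W') := IsScalarTower.of_algebraMap_eq' rfl
    haveI : IsScalarTower Γ(Y, b ⁻¹ᵁ U.1) Γ(Y', b' ⁻¹ᵁ U'.1) Γ(Z', W') := IsScalarTower.of_algebraMap_eq' (by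
      show ((j.appLE (b ⁻¹ᵁ U.1) W eW.le) ≫ c.appLE W W' ec).hom =
        (g.appLE (b ⁻¹ᵁ U.1) (b' ⁻¹ᵁ U'.1) e₂ ≫ j'.appLE (b' ⁻¹ᵁ U'.1) W' eW'.le).hom
      rw [Scheme.Hom.appLE_comp_appLE, Scheme.Hom.appLE_comp_appLE]; simp only [hwY])
    letI : Algebra Γ(X, a ⁻¹ᵁ U.1) Γ(Z', W') := ((i.appLE (a ⁻¹ᵁ U.1) W le_rfl) ≫ c.appLE W W' ec).hom.toAlgebra
    haveI : IsScalarTower Γ(X, a ⁻¹ᵁ U.1) Γ(Z, W) Γ(Z', W') := IsScalarTower.of_algebraMap_eq' rfl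
    haveI : IsScalarTower Γ(X, a ⁻¹ᵁ U.1) Γ(X', a' ⁻¹ᵁ U'.1) Γ(Z', W') := IsScalarTower.of_algebraMap_eq' (by
      show ((i.appLE (a ⁻¹ᵁ U.1) W le_rfl) ≫ c.appLE W W' ec).hom =
        (f.appLE (a ⁻¹ᵁ U.1) (a' ⁻¹ᵁ U'.1) e₁ ≫ i'.appLE (a' ⁻¹ᵁ U'.1) W' le_rfl).hom
      rw [Scheme.Hom.appLE_comp_appLE, Scheme.Hom.appLE_comp_appLE]; simp only [hX.w])
    haveI : Algebra.IsPushout Γ(Y, b ⁻¹ᵁ U.1) Γ(Y', b' ⁻¹ᵁ U'.1) Γ(Z, W) Γ(Z', W') :=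
      CommRingCat.isPushout_iff_isPushout.mp
        (RingPO.isPushout_appLE_of_isPullback hY (U.2.preimage b) (U'.2.preimage b') e₂ hWA eW hWA' eW' ec)
    haveI : Algebra.IsPushout Γ(X, a ⁻¹ᵁ U.1) Γ(X', a' ⁻¹ᵁ U'.1) Γ(Z, W) Γ(Z', W') :=
      CommRingCat.isPushout_iff_isPushout.mp
        (RingPO.isPushout_appLE_of_isPullback hX (U.2.preimage a) (U'.2.preimage a') e₁ hWA hW hWA' hW' ec)
    have hF2 : RingPO.IsFibreProd (i.appLE (a ⁻¹ᵁ U.1) W le_rfl).hom (j.appLE (b ⁻¹ᵁ U.1) W eW.le).hom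
        (a.appLE U (a ⁻¹ᵁ U.1) le_rfl).hom (b.appLE U (b ⁻¹ᵁ U.1) le_rfl).hom := hF
    have hF2' : RingPO.IsFibreProd (i'.appLE (a' ⁻¹ᵁ U'.1) W' le_rfl).hom (j'.appLE (b' ⁻¹ᵁ U'.1) W' eW'.le).hom
        (a'.appLE U' (a' ⁻¹ᵁ U'.1) le_rfl).hom (b'.appLE U' (b' ⁻¹ᵁ U'.1) le_rfl).hom := hF'
    exact Groth.Agent.S6900.result Γ(P, U) Γ(Y, b ⁻¹ᵁ U.1) Γ(X, a ⁻¹ᵁ U.1) Γ(Z, W)
      (RingPO.isFibreSquare_of_isFibreProd hF2) Γ(P', U') Γ(Y', b' ⁻¹ᵁ U'.1) Γ(X', a' ⁻¹ᵁ U'.1) Γ(Z', W')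
      (RingPO.isFibreSquare_of_isFibreProd hF2')
  have hl : ∀ {Q : ∀ {R S : Type u} [CommRing R] [CommRing S], (R →+* S) → Prop},
      RingHom.StableUnderComposition Q → RingHom.HoldsForLocalizationAway Q →
      RingHom.StableUnderCompositionWithLocalizationAwaySource Q := fun h1 h2 =>
    (h1.stableUnderCompositionWithLocalizationAway h2).1
  refine ⟨?_, ?_, ?_, ?_, ?_⟩
  · exact RingPO.iff_of_charts ha hb @RingHom.FiniteType @LocallyOfFiniteType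
      (fun φ hφ => HasRingHomProperty.appLE @LocallyOfFiniteType φ hφ)
      (fun φ => (HasRingHomProperty.iff_exists_appLE (P := @LocallyOfFiniteType)
        (hl RingHom.finiteType_stableUnderComposition RingHom.finiteType_holdsForLocalizationAway)).mpr)
      (fun U U' e e₁ e₂ => ((main U U' e e₁ e₂).1).trans and_comm)
  · exact RingPO.iff_of_charts ha hb @RingHom.Flat @Flat
      (fun φ hφ => HasRingHomProperty.appLE @Flat φ hφ)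
      (fun φ => (HasRingHomProperty.iff_exists_appLE (P := @Flat)
        (hl RingHom.Flat.stableUnderComposition RingHom.Flat.holdsForLocalizationAway)).mpr)
      (fun U U' e e₁ e₂ => ((main U U' e e₁ e₂).2.1).trans and_comm)
  · exact RingPO.iff_of_charts ha hb (fun φ => φ.Flat ∧ φ.FinitePresentation)
      (fun φ => Flat φ ∧ LocallyOfFinitePresentation φ)
      (fun φ hφ U U' e => ⟨HasRingHomProperty.appLE @Flat φ hφ.1 U U' e,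
        HasRingHomProperty.appLE @LocallyOfFinitePresentation φ hφ.2 U U' e⟩)
      (fun φ H => ⟨(HasRingHomProperty.iff_exists_appLE (P := @Flat)
          (hl RingHom.Flat.stableUnderComposition RingHom.Flat.holdsForLocalizationAway)).mpr
          (fun x => by obtain ⟨U, U', hx, e, h1, -⟩ := H x; exact ⟨U, U', hx, e, h1⟩),
        (HasRingHomProperty.iff_exists_appLE (P := @LocallyOfFinitePresentation)
          (hl RingHom.finitePresentation_stableUnderComposition RingHom.finitePresentation_holdsForLocalizationAway)).mpr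
          (fun x => by obtain ⟨U, U', hx, e, -, h2⟩ := H x; exact ⟨U, U', hx, e, h2⟩)⟩)
      (fun U U' e e₁ e₂ => ((main U U' e e₁ e₂).2.2.1).trans and_comm)
  · exact RingPO.iff_of_charts ha hb @RingHom.Smooth @Smooth
      (fun φ hφ => HasRingHomProperty.appLE @Smooth φ hφ)
      (fun φ => (HasRingHomProperty.iff_exists_appLE (P := @Smooth)
        (hl RingHom.Smooth.stableUnderComposition RingHom.Smooth.holdsForLocalizationAway)).mpr)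
      (fun U U' e e₁ e₂ => ((main U U' e e₁ e₂).2.2.2.1).trans and_comm)
  · exact RingPO.iff_of_charts ha hb @RingHom.Etale @Etale
      (fun φ hφ => HasRingHomProperty.appLE @Etale φ hφ)
      (fun φ => (HasRingHomProperty.iff_exists_appLE (P := @Etale)
        (hl RingHom.Etale.stableUnderComposition (fun R S _ _ _ r _ =>
          RingHom.etale_algebraMap.mpr (Algebra.Etale.of_isLocalizationAway r)))).mpr)
      (fun U U' e e₁ e₂ => ((main U U' e e₁ e₂).2.2.2.2).trans and_comm)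


/-- The legs of a pushout of cartesian squares are cartesian. -/
theorem isPullback_legs {X Y Z P X' Y' Z' P' : Scheme.{u}}
    (i : Z ⟶ X) (j : Z ⟶ Y) [IsClosedImmersion i] [IsAffineHom j] (a : X ⟶ P) (b : Y ⟶ P)
    (hP : IsPushout i j a b)
    (f : X' ⟶ X) (g : Y' ⟶ Y) (i' : Z' ⟶ X') (j' : Z' ⟶ Y') (c : Z' ⟶ Z) (hX : IsPullback i' c f i) (hY : IsPullback j' c g j)
    (a' : X' ⟶ P') (b' : Y' ⟶ P')
    (hc : ∀ y : Y, ∃ c : RingPO.Chart i j, y ∈ c.V) (hc' : ∀ y : Y', ∃ c : RingPO.Chart i' j', y ∈ c.V) (hP' : IsPushout i' j' a' b') (k : P' ⟶ P) (ha : a' ≫ k = f ≫ a) (hb : b' ≫ k = g ≫ b) :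
    IsPullback a' f k a ∧ IsPullback b' g k b := by
  haveI : IsClosedImmersion i' := MorphismProperty.of_isPullback hX.flip ‹_›
  haveI : IsAffineHom j' := MorphismProperty.of_isPullback hY.flip ‹_›
  haveI : IsAffineHom a := RingPO.isAffineHom_inl hP hc
  haveI : IsClosedImmersion b := RingPO.isClosedImmersion_inr hP hc
  haveI : IsAffineHom a' := RingPO.isAffineHom_inl hP' hc'
  haveI : IsClosedImmersion b' := RingPO.isClosedImmersion_inr hP' hc'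
  let ι := { p : P.affineOpens × P'.affineOpens // p.2.1 ≤ k ⁻¹ᵁ p.1.1 }
  have e₁ : ∀ p : ι, a' ⁻¹ᵁ p.1.2.1 ≤ f ⁻¹ᵁ a ⁻¹ᵁ p.1.1.1 := fun p => by
    rw [← Scheme.Hom.comp_preimage, ← ha, Scheme.Hom.comp_preimage]; exact a'.preimage_mono p.2
  have e₂ : ∀ p : ι, b' ⁻¹ᵁ p.1.2.1 ≤ g ⁻¹ᵁ b ⁻¹ᵁ p.1.1.1 := fun p => by
    rw [← Scheme.Hom.comp_preimage, ← hb, Scheme.Hom.comp_preimage]; exact b'.preimage_mono p.2
  have spec := fun p : ι => RingPO.chart_spec hP hc hP' hc' hX hY ha hb p.1.1 p.1.2 p.2 (e₁ p) (e₂ p)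
  have hcov : ∀ x, ∃ p : ι, x ∈ p.1.2.1 := by
    intro x
    obtain ⟨U, hU, hxU, -⟩ := exists_isAffineOpen_mem_and_subset (x := k x) (U := (⊤ : P.Opens)) (by simp)
    obtain ⟨U', hU', hxU', hle⟩ := exists_isAffineOpen_mem_and_subset (x := x) (U := k ⁻¹ᵁ U) hxU
    exact ⟨⟨(⟨U, hU⟩, ⟨U', hU'⟩), hle⟩, hxU'⟩
  have hcov' : ∀ x, ∃ p : ι, x ∈ Set.range p.1.2.2.fromSpec := fun x => by
    obtain ⟨p, hp⟩ := hcov x
    exact ⟨p, by rw [p.1.2.2.range_fromSpec]; exact hp⟩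
  haveI hopen : ∀ p : ι, IsOpenImmersion p.1.2.2.fromSpec := fun p => IsAffineOpen.isOpenImmersion_fromSpec p.1.2.2
  constructor
  · refine (RingPO.isPullback_of_cover ha.symm (fun p : ι => Spec Γ(_, p.1.2.1))
      (fun p : ι => Spec Γ(_, a' ⁻¹ᵁ p.1.2.1)) (fun p => p.1.2.2.fromSpec) hcov'
      (fun p => (p.1.2.2.preimage a').fromSpec)
      (fun p => Spec.map (a'.appLE p.1.2 _ le_rfl)) (fun p => RingPO.isPullback_fromSpec _ p.1.2.2)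
      (fun p => ?_)).flip
    have h2 := (isPullback_SpecMap_of_isPushout _ _ _ _ (spec p).2.1).paste_horiz
      (RingPO.isPullback_fromSpec a p.1.1.2)
    rwa [(p.1.1.2.preimage a).SpecMap_appLE_fromSpec f (p.1.2.2.preimage a') (e₁ p),
      p.1.1.2.SpecMap_appLE_fromSpec k p.1.2.2 p.2] at h2
  · refine (RingPO.isPullback_of_cover hb.symm (fun p : ι => Spec Γ(_, p.1.2.1))
      (fun p : ι => Spec Γ(_, b' ⁻¹ᵁ p.1.2.1)) (fun p => p.1.2.2.fromSpec) hcov'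
      (fun p => (p.1.2.2.preimage b').fromSpec)
      (fun p => Spec.map (b'.appLE p.1.2 _ le_rfl)) (fun p => RingPO.isPullback_fromSpec _ p.1.2.2)
      (fun p => ?_)).flip
    have h2 := (isPullback_SpecMap_of_isPushout _ _ _ _ (spec p).1).paste_horiz
      (RingPO.isPullback_fromSpec b p.1.1.2)
    rwa [(p.1.1.2.preimage b).SpecMap_appLE_fromSpec g (p.1.2.2.preimage b') (e₂ p),
      p.1.1.2.SpecMap_appLE_fromSpec k p.1.2.2 p.2] at h2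

end Groth.Agent.AlgSpDec.ThickPush
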