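import Groth.Agent.AlgSpDec.ThickPushScheme
import Groth.Agent.AlgSpDec.ThickPushLegs
import Groth.Agent.RingPO.FibreAffine
import Groth.Agent.RingPO.Sep

/-!
# Pushouts of schemes along closed immersions and integral morphisms
-/

set_option linter.style.haveILetI false
set_option autoImplicit false
set_option backward.isDefEq.respectTransparency false
set_option backward.isDefEq.respectTransparency.types false

universe u v w

open CategoryTheory CategoryTheory.Limits AlgebraicGeometry AlgSp

namespace Groth.Agent.AlgSpDec.IntPush'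

/-- Separated étale schemes over the sides of a pushout glue to an étale scheme over it. -/
theorem exists_etale_glue {X Y Z P X' Y' Z' : Scheme.{u}} {i : Z ⟶ X} [IsClosedImmersion i] {j : Z ⟶ Y}
    [IsIntegralHom j] (haff : ∀ y : Y, ∃ U : X.Opens, IsAffineOpen U ∧ j ⁻¹' {y} ⊆ (i ⁻¹ᵁ U : Set ↑Z))
    {a : X ⟶ P} {b : Y ⟶ P} (hpo : IsPushout i j a b) {f : X' ⟶ X} {g : Y' ⟶ Y} {c : Z' ⟶ Z} {i' : Z' ⟶ X'}
    {j' : Z' ⟶ Y'} [Etale f] [IsSeparated f] [Etale g] (hX : IsPullback i' c f i) (hY : IsPullback j' c g j) :
    ∃ (P' : Scheme.{u}) (k : P' ⟶ P) (a' : X' ⟶ P') (b' : Y' ⟶ P'), Etale k ∧ IsPullback a' f k a ∧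
      IsPullback b' g k b ∧ i' ≫ a' = j' ≫ b' := by
  haveI : IsClosedImmersion i' := MorphismProperty.of_isPullback hX.flip ‹_›
  haveI : IsIntegralHom j' := MorphismProperty.of_isPullback hY.flip ‹_›
  have hc : ∀ y : Y, ∃ k : RingPO.Chart i j, y ∈ k.V := RingPO.chart_of_integral haff
  have hc' : ∀ y : Y', ∃ k : RingPO.Chart i' j', y ∈ k.V :=
    RingPO.chart_of_integral (fun y => RingPO.exists_affine_fibre haff hX.w.symm hY.w.symm y)
  have hP' := RingPO.isPushout_glued hc'
  have w : i' ≫ f ≫ a = j' ≫ g ≫ b := by rw [reassoc_of% hX.w, hpo.w, reassoc_of% hY.w]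
  let k := hP'.desc (f ≫ a) (g ≫ b) w
  have ha : RingPO.inX hc' ≫ k = f ≫ a := hP'.inl_desc _ _ w
  have hb : RingPO.inY hc' ≫ k = g ≫ b := hP'.inr_desc _ _ w
  obtain ⟨c₁, c₂⟩ := ThickPush.isPullback_legs i j a b hpo f g i' j' c hX hY _ _ hc hc' hP' k ha hb
  obtain ⟨-, -, -, -, he⟩ := ThickPush.iff_of_legs i j a b hpo f g i' j' c hX hY _ _ hc hc' hP' k ha hb
  exact ⟨_, k, _, _, he.2 ⟨inferInstance, inferInstance⟩, c₁, c₂, hP'.w⟩

/-- The pushout of schemes along a closed immersion and an integral morphism stays one among algebraic spaces. -/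
theorem isPushout_ofScheme {S : Scheme.{u}} {Z X Y P : Over S} (i : Z ⟶ X) (j : Z ⟶ Y)
    [IsClosedImmersion i.left] [IsIntegralHom j.left]
    (haff : ∀ y : ↥Y.left, ∃ U : X.left.Opens, IsAffineOpen U ∧ j.left ⁻¹' {y} ⊆ (i.left ⁻¹ᵁ U : Set ↥Z.left))
    (a : X ⟶ P) (b : Y ⟶ P) (hpo : IsPushout i j a b) :
    IsPushout ((AlgSp.ofScheme S).map i) ((AlgSp.ofScheme S).map j) ((AlgSp.ofScheme S).map a)
      ((AlgSp.ofScheme S).map b) := by
  obtain ⟨Q, q₁, q₂, hQ⟩ : ∃ (Q : Scheme.{u}) (q₁ : X.left ⟶ Q) (q₂ : Y.left ⟶ Q),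
      IsPushout i.left j.left q₁ q₂ :=
    ⟨_, _, _, RingPO.isPushout_glued (RingPO.chart_of_integral haff)⟩
  have : HasPushout i.left j.left := hQ.hasPushout
  have hpo' : IsPushout i.left j.left a.left b.left := hpo.map (Over.forget S)
  have hY : ∀ y : Y.left, ∃ c : RingPO.Chart i.left j.left, y ∈ c.V := RingPO.chart_of_integral haff
  have : IsAffineHom a.left := RingPO.isAffineHom_inl hpo' hY
  let c : Cocone (span i j) := PushoutCocone.mk a b hpo.w
  have h₁ : IsColimit ((Over.forget S).mapCocone c) :=
    (isColimitMapCoconePushoutCoconeEquiv (Over.forget S) hpo.w).symm hpo'.isColimit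
  obtain ⟨hcol⟩ := Groth.Agent.S10716.result (span i j) c h₁
    (fun x => by
      rcases RingPO.exists_preimage_point hpo' hY x with ⟨y, hy⟩ | ⟨y, hy⟩
      · exact ⟨WalkingSpan.left, y, hy⟩
      · exact ⟨WalkingSpan.right, y, hy⟩)
    (fun D' α c' u hu hsq => by
      have sl : IsPullback (c'.ι.app WalkingSpan.left).left (α.app WalkingSpan.left).left u.left a.left :=
        (hsq WalkingSpan.left).map (Over.forget S)
      have sr : IsPullback (c'.ι.app WalkingSpan.right).left (α.app WalkingSpan.right).left u.left b.left :=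
        (hsq WalkingSpan.right).map (Over.forget S)
      have s0 : IsPullback (c'.ι.app WalkingSpan.zero).left (α.app WalkingSpan.zero).left u.left (i.left ≫ a.left) :=
        (hsq WalkingSpan.zero).map (Over.forget S)
      have n₁ : (D'.map WalkingSpan.Hom.fst).left ≫ (α.app WalkingSpan.left).left =
          (α.app WalkingSpan.zero).left ≫ i.left :=
        congrArg CommaMorphism.left (α.naturality WalkingSpan.Hom.fst)
      have n₂ : (D'.map WalkingSpan.Hom.snd).left ≫ (α.app WalkingSpan.right).left =
          (α.app WalkingSpan.zero).left ≫ j.left :=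
        congrArg CommaMorphism.left (α.naturality WalkingSpan.Hom.snd)
      have w₁ : (D'.map WalkingSpan.Hom.fst).left ≫ (c'.ι.app WalkingSpan.left).left = (c'.ι.app WalkingSpan.zero).left :=
        congrArg CommaMorphism.left (c'.w WalkingSpan.Hom.fst)
      have w₂ : (D'.map WalkingSpan.Hom.snd).left ≫ (c'.ι.app WalkingSpan.right).left = (c'.ι.app WalkingSpan.zero).left :=
        congrArg CommaMorphism.left (c'.w WalkingSpan.Hom.snd)
      have : Flat u.left := inferInstance
      have hp := RingPO.isPushout_baseChange hpo' hY (𝟙 P.left) u.left (Or.inr inferInstance)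
        (pP := u.left) (sT := 𝟙 _) (IsPullback.of_vert_isIso ⟨by simp⟩) sl.flip sr.flip
        (IsPullback.of_bot (by rw [w₁]; exact s0.flip) n₁.symm sl.flip) n₂ (w₁.trans w₂.symm)
      exact ThickPushScheme.isColimit_of_isPushout _ hp)
    (fun D' α hα het hsep => by
      have := het WalkingSpan.left
      have := het WalkingSpan.right
      have := hsep WalkingSpan.left
      have e₁ : IsPullback (D'.map WalkingSpan.Hom.fst).left (α.app WalkingSpan.zero).left
          (α.app WalkingSpan.left).left i.left := (hα WalkingSpan.Hom.fst).map (Over.forget S)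
      have e₂ : IsPullback (D'.map WalkingSpan.Hom.snd).left (α.app WalkingSpan.zero).left
          (α.app WalkingSpan.right).left j.left := (hα WalkingSpan.Hom.snd).map (Over.forget S)
      obtain ⟨W, h, mU, mV, hh, hU, sqV, hm⟩ := exists_etale_glue haff hpo' e₁ e₂
      let Wo : Over S := Over.mk (h ≫ P.hom)
      let u : Wo ⟶ P := Over.homMk h rfl
      let ml : D'.obj WalkingSpan.left ⟶ Wo := Over.homMk mU (by
        change mU ≫ h ≫ P.hom = _
        rw [reassoc_of% hU.w, Over.w a]
        exact Over.w (α.app WalkingSpan.left))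
      let mr : D'.obj WalkingSpan.right ⟶ Wo := Over.homMk mV (by
        change mV ≫ h ≫ P.hom = _
        rw [reassoc_of% sqV.w, Over.w b]
        exact Over.w (α.app WalkingSpan.right))
      have hw : D'.map WalkingSpan.Hom.fst ≫ ml = D'.map WalkingSpan.Hom.snd ≫ mr := Over.OverMorphism.ext hm
      let c' : Cocone D' :=
        { pt := Wo
          ι :=
            { app := fun j => match j with
                | .zero => D'.map WalkingSpan.Hom.fst ≫ ml
                | .left => ml
                | .right => mr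
              naturality := by
                rintro i j f
                match i, j, f with
                | _, _, WidePushoutShape.Hom.id _ => simp
                | _, _, WidePushoutShape.Hom.init WalkingPair.left => exact (Category.comp_id _).symm
                | _, _, WidePushoutShape.Hom.init WalkingPair.right =>
                  exact hw.symm.trans (Category.comp_id _).symm } }
      refine ⟨c', u, hh, fun j => ?_⟩
      match j with
      | .left => exact IsPullback.of_map (Over.forget S) (Over.OverMorphism.ext hU.w) hU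
      | .right => exact IsPullback.of_map (Over.forget S) (Over.OverMorphism.ext sqV.w) sqV
      | .zero =>
        have h0 : IsPullback ((D'.map WalkingSpan.Hom.fst).left ≫ mU) (α.app WalkingSpan.zero).left h
            (i.left ≫ a.left) := e₁.paste_horiz hU
        exact IsPullback.of_map (Over.forget S) (Over.OverMorphism.ext h0.w) h0)
  refine ⟨⟨by rw [← Functor.map_comp, ← Functor.map_comp, hpo.w]⟩,
    ⟨(isColimitMapCoconePushoutCoconeEquiv (AlgSp.ofScheme S) hpo.w) hcol⟩⟩

end Groth.Agent.AlgSpDec.IntPush'
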