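import Groth.Agent.AlgSpDec.LfpOverDense
import Mathlib.AlgebraicGeometry.Morphisms.FlatMono
import Groth.Agent.AlgSpLib.ClosedImmDesc

/-!
# Flat separated morphisms which are isomorphisms over a dense open
-/

set_option autoImplicit false
set_option linter.style.haveILetI false
set_option backward.isDefEq.respectTransparency false
set_option backward.isDefEq.respectTransparency.types false

universe u

open CategoryTheory CategoryTheory.Limits AlgebraicGeometry

namespace Groth.Agent.AlgSpDec.LfpDense

variable {X Y : Scheme.{u}}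

theorem schDense_of_dominant (U : Y.Opens) [QuasiCompact U.ι] [IsSchemeTheoreticallyDominant U.ι] :
    CInt.IsSchematicallyDense U :=
  (SchDenseFacts.iff_ker_eq_bot U).2 U.ι.ker_eq_bot

theorem quasiCompact_preimage_ι (f : X ⟶ Y) (U : Y.Opens) [QuasiCompact U.ι] : QuasiCompact (f ⁻¹ᵁ U).ι :=
  MorphismProperty.of_isPullback (P := @QuasiCompact) (isPullback_morphismRestrict f U) inferInstance

/-- A separated flat morphism is a monomorphism if it is one over a retrocompact schematically dense open. -/
theorem mono_of_mono_over_dense (f : X ⟶ Y) [IsSeparated f] [Flat f] (U : Y.Opens)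
    (hd : CInt.IsSchematicallyDense U) [QuasiCompact U.ι] (hm : Mono ((f ⁻¹ᵁ U).ι ≫ f)) : Mono f := by
  let g : pullback.diagonalObj f ⟶ Y := pullback.fst f f ≫ f
  haveI : Flat g := inferInstance
  let W := g ⁻¹ᵁ U
  haveI := quasiCompact_preimage_ι g U
  have hW : CInt.IsSchematicallyDense W :=
    SchDenseFacts.preimage_of_flat_qc g U hd (SchDenseFacts.isCompact_inf_of_quasiCompact U)
  have hr : ∀ (q : pullback.diagonalObj f ⟶ X), q ≫ f = g → Set.range (W.ι ≫ q) ⊆ Set.range (f ⁻¹ᵁ U).ι := by
    rintro q hq _ ⟨w, rfl⟩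
    rw [Scheme.Opens.range_ι]
    show f (q (W.ι w)) ∈ U
    rw [← Scheme.Hom.comp_apply q f, hq]
    exact w.2
  let l₁ := IsOpenImmersion.lift (f ⁻¹ᵁ U).ι (W.ι ≫ pullback.fst f f) (hr _ rfl)
  let l₂ := IsOpenImmersion.lift (f ⁻¹ᵁ U).ι (W.ι ≫ pullback.snd f f) (hr _ pullback.condition.symm)
  have hl : l₁ = l₂ := hm.right_cancellation l₁ l₂ (by
    simp only [l₁, l₂, IsOpenImmersion.lift_fac_assoc, Category.assoc, pullback.condition])
  have he : W.ι ≫ pullback.fst f f = W.ι ≫ pullback.snd f f := by
    have := congrArg (· ≫ (f ⁻¹ᵁ U).ι) hl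
    simpa only [l₁, l₂, IsOpenImmersion.lift_fac] using this
  have hfac : (W.ι ≫ pullback.fst f f) ≫ pullback.diagonal f = W.ι := by
    apply pullback.hom_ext
    · simp only [Category.assoc, pullback.diagonal_fst, Category.comp_id]
    · rw [Category.assoc, pullback.diagonal_snd, Category.comp_id]; exact he
  have hk : (pullback.diagonal f).ker = ⊥ := le_bot_iff.1 (by
    have h1 := Scheme.Hom.le_ker_comp (W.ι ≫ pullback.fst f f) (pullback.diagonal f)
    rwa [hfac, (SchDenseFacts.iff_ker_eq_bot W).1 hW] at h1)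
  haveI := AlgSpLib.isIso_of_closedImmersion_of_ker_eq_bot _ hk
  exact (pullback.isIso_diagonal_iff f).1 ‹_›

/-- A separated flat morphism locally of finite type, an isomorphism over a retrocompact schematically dense
open, is an open immersion. -/
theorem isOpenImmersion_of_flat_schDense (f : X ⟶ Y) [IsSeparated f] [LocallyOfFiniteType f] [Flat f] (U : Y.Opens)
    (hd : CInt.IsSchematicallyDense U) [QuasiCompact U.ι] [IsOpenImmersion (f ∣_ U)] : IsOpenImmersion f := by
  haveI := lfp_of_flat_schDense f U hd
  haveI : Mono f := mono_of_mono_over_dense f U hd (by rw [← morphismRestrict_ι]; infer_instance)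
  exact IsOpenImmersion.of_flat_of_mono f

end Groth.Agent.AlgSpDec.LfpDense
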