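import Groth.Agent.AlgSpDec.FpApprox
import Groth.Agent.AlgSpDec2.ElemChain

/-!
# Limit preserving morphisms of algebraic spaces are locally of finite presentation
-/

set_option linter.style.haveILetI false
set_option autoImplicit false
set_option backward.isDefEq.respectTransparency false
set_option backward.isDefEq.respectTransparency.types false

universe u

open CategoryTheory CategoryTheory.Limits AlgebraicGeometry Opposite AlgSp

namespace Groth.Agent.AlgSpDec.LfpCriterion

/-- A retract of an algebra of finite presentation is of finite presentation. -/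
theorem finitePresentation_of_retract {R A B : Type u} [CommRing R] [CommRing A] [CommRing B] (φ : R →+* A)
    (ρ : A →+* B) (s : B →+* A) (hs : s.comp ρ = RingHom.id A) (h : (ρ.comp φ).FinitePresentation) :
    φ.FinitePresentation := by
  classical
  algebraize [φ, ρ.comp φ]
  have hsR : ∀ r, s (algebraMap R B r) = algebraMap R A r := fun r => RingHom.congr_fun hs (φ r)
  let sR : B →ₐ[R] A := ⟨s, hsR⟩
  let ρR : A →ₐ[R] B := ⟨ρ, fun _ => rfl⟩
  have hsρ : ∀ a, s (ρ a) = a := fun a => RingHom.congr_fun hs a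
  obtain ⟨g, hg⟩ := (inferInstance : Algebra.FiniteType R B).out
  let J : Ideal B := Ideal.span ((fun b => b - ρ (s b)) '' (g : Set B))
  have hker : RingHom.ker sR.toRingHom = J := by
    refine le_antisymm (fun b hb => ?_) (Ideal.span_le.2 ?_)
    · have e : (Ideal.Quotient.mkₐ R J).comp (ρR.comp sR) = Ideal.Quotient.mkₐ R J := by
        refine AlgHom.ext_of_adjoin_eq_top hg fun x hx => ?_
        show Ideal.Quotient.mk J (ρ (s x)) = Ideal.Quotient.mk J x
        rw [eq_comm, Ideal.Quotient.eq]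
        exact Ideal.subset_span ⟨x, hx, rfl⟩
      have hb0 : s b = 0 := hb
      have := AlgHom.congr_fun e b
      change Ideal.Quotient.mk J (ρ (s b)) = Ideal.Quotient.mk J b at this
      rw [hb0, map_zero, map_zero, eq_comm, Ideal.Quotient.eq_zero_iff_mem] at this
      exact this
    · rintro _ ⟨b, -, rfl⟩
      show s (b - ρ (s b)) = 0
      rw [map_sub, hsρ, sub_self]
  exact Algebra.FinitePresentation.of_surjective (f := sR) (fun a => ⟨ρ a, hsρ a⟩)
    (hker ▸ ⟨g.image fun b => b - ρ (s b), by rw [Finset.coe_image]⟩)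

/-- A morphism of affine schemes with a retraction from one of finite presentation is of finite presentation. -/
theorem lfp_of_section {U P V : Scheme.{u}} [IsAffine U] [IsAffine V] (σ : U ⟶ P) (q : P ⟶ U) (k : U ⟶ V)
    (hs : σ ≫ q = 𝟙 U) [LocallyOfFinitePresentation (q ≫ k)] : LocallyOfFinitePresentation k := by
  have key : ∀ u : U, ∃ O : U.affineOpens, u ∈ O.1 ∧ LocallyOfFinitePresentation (O.1.ι ≫ k) := by
    intro u
    obtain ⟨W, hW, huW, -⟩ := exists_isAffineOpen_mem_and_subset (U := (⊤ : P.Opens)) (x := σ u) trivial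
    obtain ⟨_, ⟨_, ⟨a, rfl⟩, rfl⟩, hua, haW⟩ := (isBasis_basicOpen U).exists_subset_of_mem_open
      (show u ∈ σ ⁻¹ᵁ W from huW) (σ ⁻¹ᵁ W).isOpen
    let D : U.Opens := U.basicOpen a
    let W' : P.Opens := W ⊓ q ⁻¹ᵁ D
    have hW' : IsAffineOpen W' := by
      have e : W' = P.basicOpen (P.presheaf.map (homOfLE le_top).op (q.app ⊤ a) : Γ(P, W)) := by
        rw [Scheme.basicOpen_res, ← Scheme.preimage_basicOpen]
      rw [e]
      exact hW.basicOpen _
    refine ⟨⟨D, (isAffineOpen_top U).basicOpen a⟩, hua, ?_⟩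
    haveI : IsAffine (D : Scheme.{u}) := (isAffineOpen_top U).basicOpen a
    haveI : IsAffine (W' : Scheme.{u}) := hW'
    have hq : Set.range (W'.ι ≫ q) ⊆ Set.range D.ι := by
      rintro _ ⟨x, rfl⟩
      rw [Scheme.Opens.range_ι]
      exact x.2.2
    have hσ : Set.range (D.ι ≫ σ) ⊆ Set.range W'.ι := by
      rintro _ ⟨x, rfl⟩
      rw [Scheme.Opens.range_ι]
      refine ⟨haW x.2, ?_⟩
      show q (σ (D.ι x)) ∈ D
      rw [← Scheme.Hom.comp_apply, hs]
      exact x.2
    let q' := IsOpenImmersion.lift D.ι (W'.ι ≫ q) hq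
    let σ' := IsOpenImmersion.lift W'.ι (D.ι ≫ σ) hσ
    have h₁ : σ' ≫ q' = 𝟙 _ := by
      rw [← cancel_mono D.ι, Category.assoc, IsOpenImmersion.lift_fac, IsOpenImmersion.lift_fac_assoc,
        Category.assoc, hs, Category.comp_id, Category.id_comp]
    haveI : LocallyOfFinitePresentation (q' ≫ D.ι ≫ k) := by
      rw [IsOpenImmersion.lift_fac_assoc, Category.assoc]
      infer_instance
    have h₂ : (q' ≫ D.ι ≫ k).appTop.hom.FinitePresentation :=
      (HasRingHomProperty.iff_of_isAffine (P := @LocallyOfFinitePresentation)).1 inferInstance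
    refine (HasRingHomProperty.iff_of_isAffine (P := @LocallyOfFinitePresentation)).2
      (finitePresentation_of_retract _ q'.appTop.hom σ'.appTop.hom ?_ ?_)
    · rw [← CommRingCat.hom_comp, ← Scheme.Hom.comp_appTop, h₁, Scheme.Hom.id_appTop]
      rfl
    · rw [← CommRingCat.hom_comp, ← Scheme.Hom.comp_appTop]
      exact h₂
  choose O hO hlfp using key
  exact (IsZariskiLocalAtSource.iff_of_iSup_eq_top (P := @LocallyOfFinitePresentation) (fun u => (O u).1)
    (top_unique fun u _ => TopologicalSpace.Opens.mem_iSup.2 ⟨u, hO u⟩)).2 hlfp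

variable {S : Scheme.{u}} {X Y : Sp S} {f : X ⟶ Y}

/-- The surjectivity half of limit preservation. -/
def SurjLim (f : X ⟶ Y) : Prop :=
  ∀ ⦃I : Type u⦄ [SmallCategory I] [IsCofiltered I] (D : I ⥤ Over S) (c : Cone D),
    IsLimit ((Over.forget S).mapCone c) → (∀ i, IsAffine (D.obj i).left) → IsAffine c.pt.left →
    ∀ (x : (yon S).obj c.pt ⟶ X) (i : I) (y : (yon S).obj (D.obj i) ⟶ Y),
      x ≫ f = (yon S).map (c.π.app i) ≫ y →
      ∃ (i' : I) (φ : i' ⟶ i) (x' : (yon S).obj (D.obj i') ⟶ X),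
        (yon S).map (c.π.app i') ≫ x' = x ∧ x' ≫ f = (yon S).map (D.map φ) ≫ y

theorem lfp_affine (h : SurjLim f) {U V : Over S} [IsAffine U.left] [IsAffine V.left] (a : (yon S).obj U ⟶ X)
    (b : (yon S).obj V ⟶ Y) (k : U ⟶ V) (ha : RepWith @Etale a) (hb : RepWith @Etale b)
    (w : a ≫ f = (yon S).map k ≫ b) : LocallyOfFinitePresentation k.left := by
  obtain ⟨I, _, _, D, c, e, p, ⟨hc⟩, hD, hp, hpn, hek⟩ := FpApprox.exists_limit k
  have : IsIso e.hom.left := inferInstanceAs (IsIso ((Over.forget _).map e.hom))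
  have : IsIso e.inv.left := inferInstanceAs (IsIso ((Over.forget _).map e.inv))
  have hcpt : IsAffine c.pt.left := IsAffine.of_isIso e.inv.left
  obtain ⟨i⟩ := IsCofiltered.nonempty (C := I)
  obtain ⟨i', φ, x', hx, hxy⟩ := h D c hc hD hcpt ((yon S).map e.inv ≫ a) i ((yon S).map (p i) ≫ b) (by
    rw [Category.assoc, w, ← Functor.map_comp_assoc, ← Functor.map_comp_assoc, ← hek i,
      Iso.inv_hom_id_assoc])
  rw [← Functor.map_comp_assoc, hpn φ] at hxy
  let σ : U ⟶ D.obj i' := e.hom ≫ c.π.app i'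
  have hσx : (yon S).map (𝟙 U) ≫ a = (yon S).map σ ≫ x' := by
    rw [Functor.map_comp, Category.assoc, hx, ← Functor.map_comp_assoc, e.hom_inv_id]
  let σP : U ⟶ ha.rep.pullback x' := ha.rep.lift' (𝟙 U) σ hσx
  let q : ha.rep.pullback x' ⟶ U := ha.rep.fst' x'
  let r : ha.rep.pullback x' ⟶ D.obj i' := ha.rep.snd x'
  have hqr : (yon S).map (q ≫ k) ≫ b = (yon S).map (r ≫ p i') ≫ b := by
    rw [Functor.map_comp_assoc, ← w, Functor.map_comp_assoc, ← hxy, ← Category.assoc, ← Category.assoc,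
      ((ha.rep.isPullback' x').w)]
  let μ : ha.rep.pullback x' ⟶ hb.rep.pullback b := hb.rep.lift' (q ≫ k) (r ≫ p i') hqr
  let δ : V ⟶ hb.rep.pullback b := hb.rep.lift' (𝟙 V) (𝟙 V) rfl
  have : IsOpenImmersion δ.left := AlgSpDec2.ElemChain.isOpenImmersion_diag hb (hb.rep.lift'_snd _ _ _)
  have hσq : σP ≫ q = 𝟙 U := ha.rep.lift'_fst _ _ _
  have hμ : σP ≫ μ = k ≫ δ := by
    apply hb.rep.hom_ext'
    · simp only [μ, δ, Category.assoc, Functor.relativelyRepresentable.lift'_fst, Category.comp_id]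
      rw [← Category.assoc, hσq, Category.id_comp]
    · simp only [μ, δ, Category.assoc, Functor.relativelyRepresentable.lift'_snd, Category.comp_id]
      rw [← Category.assoc, ha.rep.lift'_snd]
      exact (Category.assoc _ _ _).trans (hek i')
  let σ₀ : U ⟶ pullback μ δ := pullback.lift σP k hμ
  let q₀ : pullback μ δ ⟶ U := pullback.fst μ δ ≫ q
  have h0 : q₀ ≫ k = pullback.fst μ δ ≫ r ≫ p i' := by
    have h₁ := congrArg (· ≫ hb.rep.fst' b) (pullback.condition (f := μ) (g := δ))
    have h₂ := congrArg (· ≫ hb.rep.snd b) (pullback.condition (f := μ) (g := δ))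
    simp only [μ, δ, Category.assoc, Functor.relativelyRepresentable.lift'_fst,
      Functor.relativelyRepresentable.lift'_snd, Category.comp_id] at h₁ h₂
    simp only [q₀, Category.assoc]
    rw [h₁, h₂]
  have : Etale r.left := ha.property_snd x'
  have : IsOpenImmersion (pullback.fst μ δ).left :=
    MorphismProperty.of_isPullback ((IsPullback.of_hasPullback μ δ).map (Over.forget S)).flip ‹IsOpenImmersion δ.left›
  have := hp i'
  have : LocallyOfFinitePresentation (q₀.left ≫ k.left) := by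
    rw [← Over.comp_left, h0, Over.comp_left, Over.comp_left]
    infer_instance
  exact lfp_of_section σ₀.left q₀.left k.left (by
    rw [← Over.comp_left, pullback.lift_fst_assoc, hσq, Over.id_left])

theorem locP_lfp_of_surjLim (h : SurjLim f) : LocP @LocallyOfFinitePresentation f := by
  intro U V a b k ha hb w
  refine (IsZariskiLocalAtTarget.iff_of_iSup_eq_top (P := @LocallyOfFinitePresentation)
    (fun O : V.left.affineOpens => O.1) (iSup_affineOpens_eq_top _)).2 fun O => ?_
  let V₀ : Over S := Over.mk (O.1.ι ≫ V.hom)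
  let jV : V₀ ⟶ V := Over.homMk O.1.ι rfl
  have : IsAffine V₀.left := O.2
  refine (IsZariskiLocalAtSource.iff_of_iSup_eq_top (P := @LocallyOfFinitePresentation)
    (fun O' : (k.left ⁻¹ᵁ O.1).toScheme.affineOpens => O'.1) (iSup_affineOpens_eq_top _)).2 fun O' => ?_
  let U₀ : Over S := Over.mk (O'.1.ι ≫ (k.left ⁻¹ᵁ O.1).ι ≫ U.hom)
  let jU : U₀ ⟶ U := Over.homMk (O'.1.ι ≫ (k.left ⁻¹ᵁ O.1).ι) (Category.assoc _ _ _)
  let k₀ : U₀ ⟶ V₀ := Over.homMk (O'.1.ι ≫ (k.left ∣_ O.1)) (by
    show (O'.1.ι ≫ (k.left ∣_ O.1)) ≫ O.1.ι ≫ V.hom = O'.1.ι ≫ (k.left ⁻¹ᵁ O.1).ι ≫ U.hom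
    rw [Category.assoc, morphismRestrict_ι_assoc, Over.w k])
  have : IsAffine U₀.left := O'.2
  have e : jU ≫ k = k₀ ≫ jV := Over.OverMorphism.ext (by
    show (O'.1.ι ≫ (k.left ⁻¹ᵁ O.1).ι) ≫ k.left = (O'.1.ι ≫ (k.left ∣_ O.1)) ≫ O.1.ι
    rw [Category.assoc, Category.assoc, morphismRestrict_ι])
  have : IsOpenImmersion jU.left := inferInstanceAs (IsOpenImmersion (O'.1.ι ≫ (k.left ⁻¹ᵁ O.1).ι))
  have : IsOpenImmersion jV.left := inferInstanceAs (IsOpenImmersion O.1.ι)
  exact lfp_affine h ((yon S).map jU ≫ a) ((yon S).map jV ≫ b) k₀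
    (AlgSpLib.repWith_comp ((repWith_yon_map_iff _ jU).2 inferInstance) ha)
    (AlgSpLib.repWith_comp ((repWith_yon_map_iff _ jV).2 inferInstance) hb)
    (by rw [Category.assoc, w, ← Functor.map_comp_assoc, e, Functor.map_comp_assoc])

end Groth.Agent.AlgSpDec.LfpCriterion
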