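import Groth.Agent.AlgSpDec.LimHomScheme
import Groth.Agent.AlgSpDec.LimAffineModel
import Groth.Agent.AlgSpDec.AffineLocal
import Groth.Agent.AlgSpPts.Sep
import Groth.Agent.AlgSpPts.LimPres

/-!
# Morphisms locally of finite presentation are limit preserving
-/

set_option linter.style.haveILetI false
set_option autoImplicit false
set_option backward.isDefEq.respectTransparency false
set_option backward.isDefEq.respectTransparency.types false

universe u

open CategoryTheory CategoryTheory.Limits AlgebraicGeometry Opposite AlgSp Groth.Agent.AlgSpLib Groth.Agent.AlgSpPts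

namespace Groth.Agent.AlgSpDec.LfpLimPres

variable {S : Scheme.{u}}

theorem isAffine_pullback {X Y Z : Over S} (f : X ⟶ Z) (g : Y ⟶ Z) [IsAffine X.left] [IsAffine Y.left]
    [IsAffine Z.left] : IsAffine (pullback f g).left :=
  have : IsAffine (pullback ((Over.forget S).map f) ((Over.forget S).map g)) :=
    inferInstanceAs (IsAffine (pullback f.left g.left))
  IsAffine.of_isIso ((IsPullback.of_hasPullback f g).map (Over.forget S)).isoPullback.hom

/-- The base change of a system of affine schemes along an affine scheme over a stage. -/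
theorem exists_system {I : Type u} [SmallCategory I] [IsCofiltered I] (D : I ⥤ Over S) (c : Cone D)
    (hc : IsLimit ((Over.forget S).mapCone c)) (hD : ∀ i, IsAffine (D.obj i).left) (i : I)
    {Z : Over S} [IsAffine Z.left] (p : Z ⟶ D.obj i) :
    ∃ (W : Over i ⥤ Over S) (cW : Cone W) (_ : IsLimit cW) (fst : cW.pt ⟶ c.pt) (q : cW.pt ⟶ Z)
      (a : ∀ j : Over i, W.obj j ⟶ D.obj j.left) (b : ∀ j : Over i, W.obj j ⟶ Z),
      IsPullback fst q (c.π.app i) p ∧ IsAffine cW.pt.left ∧ (∀ j, IsAffine (W.obj j).left) ∧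
      (∀ {j k : Over i} (f : j ⟶ k), W.map f ≫ a k = a j ≫ D.map f.left) ∧
      (∀ {j k : Over i} (f : j ⟶ k), W.map f ≫ b k = b j) ∧
      (∀ j, IsPullback (a j) (b j) (D.map j.hom) p) ∧
      (∀ j, fst ≫ c.π.app j.left = cW.π.app j ≫ a j) ∧ ∀ j, q = cW.π.app j ≫ b j := by
  have := IsCofiltered.isConnected I
  have hc' : IsLimit c := isLimitOfReflects (Over.forget S) hc
  have hDa : ∀ (j k : I) (φ : j ⟶ k), IsAffineMor ((D ⋙ yon S).map φ) := fun j k φ => by
    have := hD j
    have := hD k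
    exact isAffineMor_of_repWith le_rfl ((repWith_yon_map_iff _ _).2 inferInstance)
  obtain ⟨W, cW, hcW, q, fst, a, b, hwa, sq, hwb, hA, hWA, sqj, hfst, hq⟩ :=
    exists_limit_square'' (D ⋙ yon S) hDa ((yon S).mapCone c) (isLimitOfPreserves (yon S) hc') i ((yon S).map p)
  obtain ⟨fst', rfl⟩ := (yon S).map_surjective fst
  choose a' ha' using fun j => (yon S).map_surjective (a j)
  obtain rfl : a = fun j => (yon S).map (a' j) := funext fun j => (ha' j).symm
  refine ⟨W, cW, hcW, fst', q, a', b, IsPullback.of_map (yon S) ((yon S).map_injective ?_) sq, hA, hWA,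
    fun {j k} f => (yon S).map_injective ?_, hwb,
    fun j => IsPullback.of_map (yon S) ((yon S).map_injective ?_) (sqj j), fun j => (yon S).map_injective ?_, hq⟩
  · rw [Functor.map_comp, Functor.map_comp]
    exact sq.w
  · rw [Functor.map_comp, Functor.map_comp]
    exact hwa f
  · rw [Functor.map_comp, Functor.map_comp]
    exact (sqj j).w
  · rw [Functor.map_comp, Functor.map_comp]
    exact hfst j

/-- A map from the limit lifting a compatible family to a scheme of finite presentation comes from a stage. -/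
theorem exists_lift_stage {J : Type u} [SmallCategory J] [IsCofiltered J] (W : J ⥤ Over S)
    (hWA : ∀ j, IsAffine (W.obj j).left) (cW : Cone W) (hcW : IsLimit cW) {P U : Over S} (ρ : U ⟶ P)
    [LocallyOfFinitePresentation ρ.left] (β : ∀ j, W.obj j ⟶ P) (hβ : ∀ {j k : J} (f : j ⟶ k), W.map f ≫ β k = β j)
    (a : cW.pt ⟶ U) (ha : ∀ j, a ≫ ρ = cW.π.app j ≫ β j) :
    ∃ (j : J) (g : W.obj j ⟶ U), cW.π.app j ≫ g = a ∧ g ≫ ρ = β j := by
  have := IsCofiltered.isConnected J
  have : ∀ j, IsAffine ((W ⋙ Over.forget S).obj j) := hWA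
  have : ∀ {j k : J} (f : j ⟶ k), IsAffineHom ((W ⋙ Over.forget S).map f) := fun f => inferInstance
  let t : W ⋙ Over.forget S ⟶ (Functor.const J).obj P.left :=
    { app := fun j => (β j).left
      naturality := fun j k f =>
        (congrArg CommaMorphism.left (hβ f)).trans (Category.comp_id _).symm }
  obtain ⟨j, g, hg, hg'⟩ := Scheme.exists_π_app_comp_eq_of_locallyOfFinitePresentation
    (W ⋙ Over.forget S) t ρ.left ((Over.forget S).mapCone cW) (isLimitOfPreserves (Over.forget S) hcW) a.left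
    (by ext j; exact (congrArg CommaMorphism.left (ha j)).symm)
  have hgS : g ≫ U.hom = (W.obj j).hom := by
    rw [← Over.w ρ, reassoc_of% hg']
    exact Over.w (β j)
  exact ⟨j, CategoryTheory.Over.homMk g hgS, Over.OverMorphism.ext hg, Over.OverMorphism.ext hg'⟩

theorem repWith_yon {P : MorphismProperty Scheme.{u}} [P.IsStableUnderBaseChange] [P.RespectsIso] {T' T : Over S}
    (e : T' ⟶ T) (h : P e.left) : RepWith P ((yon S).map e) :=
  (repWith_yon_map_iff _ _).2 h

theorem epi_yon {T' T : Over S} (e : T' ⟶ T) [Etale e.left] [Surjective e.left] : Epi ((yon S).map e) := by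
  have := isLocallySurjective_of_etale_surjective (repWith_yon (P := @Etale) e inferInstance)
    (repWith_yon (P := @Surjective) e inferInstance)
  exact (Sheaf.isLocallySurjective_iff_epi _).1 this

variable {X Y : Sp S} {f : X ⟶ Y}

/-- The injectivity half of limit preservation. -/
theorem inj (hX : IsAlgSpace X) (hY : IsAlgSpace Y) (hf : LocP @LocallyOfFinitePresentation f)
    {I : Type u} [SmallCategory I] [IsCofiltered I] (D : I ⥤ Over S) (c : Cone D)
    (hc : IsLimit ((Over.forget S).mapCone c)) (hD : ∀ i, IsAffine (D.obj i).left)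
    (i : I) (x x' : (yon S).obj (D.obj i) ⟶ X) (hxy : x ≫ f = x' ≫ f)
    (hxx : (yon S).map (c.π.app i) ≫ x = (yon S).map (c.π.app i) ≫ x') :
    ∃ (k : I) (φ : k ⟶ i), (yon S).map (D.map φ) ≫ x = (yon S).map (D.map φ) ≫ x' := by
  obtain ⟨V, b, hb, hbs⟩ := hY.atlas
  obtain ⟨U, a', ha', has'⟩ := (isAlgSpace_pullback hX (IsAlgSpace.yon_obj V) hY f b).atlas
  let a : (yon S).obj U ⟶ X := a' ≫ pullback.fst f b
  have ha : RepWith @Etale a :=
    AlgSpLib.repWith_comp ha' (repWith_of_isPullback (IsPullback.of_hasPullback f b).flip hb)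
  have has : RepWith @Surjective a :=
    AlgSpLib.repWith_comp has' (repWith_of_isPullback (IsPullback.of_hasPullback f b).flip hbs)
  obtain ⟨h, hh⟩ := (yon S).map_surjective (a' ≫ pullback.snd f b)
  have hab : a ≫ f = (yon S).map h ≫ b := by
    rw [hh, Category.assoc, Category.assoc, pullback.condition]
  have hlfp : LocallyOfFinitePresentation h.left := hf a b h ha hb hab
  -- the fibre product of the chart with itself over the target
  let P1 := hb.rep.pullback (a ≫ f)
  let p1 : P1 ⟶ U := hb.rep.snd (a ≫ f)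
  let q1 : P1 ⟶ V := hb.rep.fst' (a ≫ f)
  have : Etale p1.left := hb.property_snd (a ≫ f)
  let P := pullback h q1
  let pP : P ⟶ U := pullback.snd h q1 ≫ p1
  let R := ha.rep.pullback a
  let u₁ : R ⟶ U := ha.rep.fst' a
  let u₂ : R ⟶ U := ha.rep.snd a
  have hR : (yon S).map u₁ ≫ a = (yon S).map u₂ ≫ a := (ha.rep.isPullback' a).w
  have : Etale u₁.left := ha.2 a _ _ (ha.rep.isPullback' a).flip
  have hw1 : (yon S).map (u₂ ≫ h) ≫ b = (yon S).map u₁ ≫ a ≫ f := by
    rw [Functor.map_comp_assoc, ← hab, reassoc_of% hR]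
  let ρ : R ⟶ P := pullback.lift u₂ (hb.rep.lift' (u₂ ≫ h) u₁ hw1) (hb.rep.lift'_fst _ _ _).symm
  have hρ1 : ρ ≫ pP = u₁ := by
    simp only [ρ, pP, pullback.lift_snd_assoc]
    exact hb.rep.lift'_snd _ _ _
  have : LocallyOfFinitePresentation (pullback.snd h q1).left :=
    MorphismProperty.of_isPullback ((IsPullback.of_hasPullback h q1).map (Over.forget S)) hlfp
  have : LocallyOfFinitePresentation (pP.left) :=
    inferInstanceAs (LocallyOfFinitePresentation ((pullback.snd h q1).left ≫ p1.left))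
  have : LocallyOfFinitePresentation (ρ.left ≫ pP.left) := by
    rw [← Over.comp_left, hρ1]
    infer_instance
  have : LocallyOfFinitePresentation ρ.left := locallyOfFinitePresentation_of_comp ρ.left pP.left
  -- lifts to the chart
  have := hD i
  obtain ⟨W₁, π₁, v₁, hW₁, hπ₁, hπ₁s, hv₁⟩ := exists_affine_cover_lift ha has x
  obtain ⟨W₂, π₂, v₂, hW₂, hπ₂, hπ₂s, hv₂⟩ := exists_affine_cover_lift ha has ((yon S).map π₁ ≫ x')
  let π : W₂ ⟶ D.obj i := π₂ ≫ π₁
  let v : W₂ ⟶ U := π₂ ≫ v₁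
  have : Etale π.left := inferInstanceAs (Etale (π₂.left ≫ π₁.left))
  have : Surjective π.left := inferInstanceAs (Surjective (π₂.left ≫ π₁.left))
  have hv : (yon S).map π ≫ x = (yon S).map v ≫ a := by
    simp only [π, v, Functor.map_comp, Category.assoc, hv₁]
  have hv' : (yon S).map π ≫ x' = (yon S).map v₂ ≫ a := by
    simp only [π, Functor.map_comp, Category.assoc, hv₂]
  have hw2 : (yon S).map (v₂ ≫ h) ≫ b = (yon S).map v ≫ a ≫ f := by
    rw [Functor.map_comp_assoc, ← hab, ← reassoc_of% hv', ← reassoc_of% hv, hxy]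
  let μ : W₂ ⟶ P := pullback.lift v₂ (hb.rep.lift' (v₂ ≫ h) v hw2) (hb.rep.lift'_fst _ _ _).symm
  obtain ⟨W, cW, hcW, fst, q, aW, bW, sq, hA, hWA, hwa, hwb, sqj, hfst, hq⟩ := exists_system D c hc hD i π
  have hlim : (yon S).map (q ≫ v) ≫ a = (yon S).map (q ≫ v₂) ≫ a := by
    rw [Functor.map_comp_assoc (yon S) q v, Functor.map_comp_assoc (yon S) q v₂, ← hv, ← hv',
      ← Functor.map_comp_assoc, ← Functor.map_comp_assoc, ← sq.w, Functor.map_comp_assoc, Functor.map_comp_assoc, hxx]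
  let r : cW.pt ⟶ R := ha.rep.lift' (q ≫ v) (q ≫ v₂) hlim
  have hr : r ≫ ρ = q ≫ μ := by
    apply pullback.hom_ext
    · simp only [ρ, μ, Category.assoc, pullback.lift_fst]
      exact ha.rep.lift'_snd _ _ _
    · apply hb.rep.hom_ext'
      · simp only [ρ, μ, Category.assoc, pullback.lift_snd_assoc, Functor.relativelyRepresentable.lift'_fst]
        rw [← Category.assoc, ha.rep.lift'_snd, Category.assoc]
      · simp only [ρ, μ, Category.assoc, pullback.lift_snd_assoc, Functor.relativelyRepresentable.lift'_snd]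
        exact ha.rep.lift'_fst _ _ _
  obtain ⟨j, g, -, hg⟩ := exists_lift_stage W hWA cW hcW ρ (fun j => bW j ≫ μ)
    (fun f => by rw [← Category.assoc, hwb f]) r (fun j => by rw [hr, hq j, Category.assoc])
  have hg₁ : g ≫ u₁ = bW j ≫ v := by
    rw [← hρ1, reassoc_of% hg]
    simp only [μ, pP, pullback.lift_snd_assoc]
    rw [hb.rep.lift'_snd]
  have hg₂ : g ≫ u₂ = bW j ≫ v₂ := by
    have := congrArg (· ≫ pullback.fst h q1) hg
    simpa only [ρ, μ, Category.assoc, pullback.lift_fst] using this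
  have : Etale (aW j).left :=
    MorphismProperty.of_isPullback ((sqj j).map (Over.forget S)).flip ‹Etale π.left›
  have : Surjective (aW j).left :=
    MorphismProperty.of_isPullback ((sqj j).map (Over.forget S)).flip ‹Surjective π.left›
  have := epi_yon (aW j)
  refine ⟨j.left, j.hom, (cancel_epi ((yon S).map (aW j))).1 ?_⟩
  have e1 : ∀ z : (yon S).obj (D.obj i) ⟶ X, (yon S).map (aW j) ≫ (yon S).map (D.map j.hom) ≫ z =
      (yon S).map (bW j) ≫ (yon S).map π ≫ z := fun z => by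
    rw [← Functor.map_comp_assoc, (sqj j).w, Functor.map_comp_assoc (yon S) (bW j) π]
  rw [e1, e1, hv, hv', ← Functor.map_comp_assoc, ← Functor.map_comp_assoc, ← hg₁, ← hg₂, Functor.map_comp_assoc,
    Functor.map_comp_assoc, hR]

/-- The surjectivity half of limit preservation. -/
theorem surj (hX : IsAlgSpace X) (hY : IsAlgSpace Y) (hf : LocP @LocallyOfFinitePresentation f)
    {I : Type u} [SmallCategory I] [IsCofiltered I] (D : I ⥤ Over S) (c : Cone D)
    (hc : IsLimit ((Over.forget S).mapCone c)) (hD : ∀ i, IsAffine (D.obj i).left)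
    (i : I) (y : (yon S).obj (D.obj i) ⟶ Y) (x : (yon S).obj c.pt ⟶ X)
    (hxy : x ≫ f = (yon S).map (c.π.app i) ≫ y) :
    ∃ (k : I) (φ : k ⟶ i) (z : (yon S).obj (D.obj k) ⟶ X),
      z ≫ f = (yon S).map (D.map φ) ≫ y ∧ (yon S).map (c.π.app k) ≫ z = x := by
  obtain ⟨V, b, hb, hbs⟩ := hY.atlas
  obtain ⟨U, a', ha', has'⟩ := (isAlgSpace_pullback hX (IsAlgSpace.yon_obj V) hY f b).atlas
  let a : (yon S).obj U ⟶ X := a' ≫ pullback.fst f b
  have ha : RepWith @Etale a :=
    AlgSpLib.repWith_comp ha' (repWith_of_isPullback (IsPullback.of_hasPullback f b).flip hb)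
  obtain ⟨h, hh⟩ := (yon S).map_surjective (a' ≫ pullback.snd f b)
  have hab : a ≫ f = (yon S).map h ≫ b := by
    rw [hh, Category.assoc, Category.assoc, pullback.condition]
  have hlfp : LocallyOfFinitePresentation h.left := hf a b h ha hb hab
  -- lift the target
  have := hD i
  obtain ⟨W, π, v, hWaff, hπ, hπs, hv⟩ := exists_affine_cover_lift hb hbs y
  obtain ⟨W₁, cW₁, hcW₁, fst₁, q₁, a₁, b₁, sq₁, hA₁, hWA₁, hwa₁, hwb₁, sqj₁, hfst₁, hq₁⟩ :=
    exists_system D c hc hD i π
  -- lift the source after an etale covering of the limit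
  have hwQ : ((yon S).map fst₁ ≫ x) ≫ f = (yon S).map (q₁ ≫ v) ≫ b := by
    rw [Category.assoc, hxy, ← Functor.map_comp_assoc, sq₁.w, Functor.map_comp_assoc, Functor.map_comp_assoc, hv]
  obtain ⟨W', π', u', hW', hπ', hπ's, hu'⟩ :=
    exists_affine_cover_lift ha' has' (pullback.lift ((yon S).map fst₁ ≫ x) ((yon S).map (q₁ ≫ v)) hwQ)
  have hux : (yon S).map u' ≫ a = (yon S).map (π' ≫ fst₁) ≫ x := by
    have := congrArg (· ≫ pullback.fst f b) hu'
    simp only [Category.assoc, pullback.lift_fst] at this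
    rw [Functor.map_comp_assoc]
    exact this.symm
  have huv : u' ≫ h = π' ≫ q₁ ≫ v := by
    apply (yon S).map_injective
    have := congrArg (· ≫ pullback.snd f b) hu'
    simp only [Category.assoc, pullback.lift_snd, ← hh] at this
    rw [Functor.map_comp, Functor.map_comp, this]
  -- descend the covering to a stage
  obtain ⟨Y₀, U₀, qq, π₀, q', hU₀, hπ₀, hπ₀s, hπ₀a, hY₀, sqM⟩ := exists_etale_affine_model π'.left
  have := IsCofiltered.isConnected (Over i)
  have : ∀ j, IsAffine ((W₁ ⋙ Over.forget S).obj j) := hWA₁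
  have : ∀ {j k : Over i} (f : j ⟶ k), IsAffineHom ((W₁ ⋙ Over.forget S).map f) := fun f => inferInstance
  let t₀ : W₁ ⋙ Over.forget S ⟶ (Functor.const (Over i)).obj (⊤_ Scheme.{u}) :=
    { app := fun j => terminal.from _
      naturality := fun _ _ _ => terminalIsTerminal.hom_ext _ _ }
  obtain ⟨j, g₀, hg₀, -⟩ := Scheme.exists_π_app_comp_eq_of_locallyOfFinitePresentation
    (W₁ ⋙ Over.forget S) t₀ (terminal.from Y₀) ((Over.forget S).mapCone cW₁)
    (isLimitOfPreserves (Over.forget S) hcW₁) qq (by ext j; exact terminalIsTerminal.hom_ext _ _)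
  dsimp at g₀ hg₀
  let Z : Over S := Over.mk (pullback.snd π₀ g₀ ≫ (W₁.obj j).hom)
  let ζ : Z ⟶ W₁.obj j := CategoryTheory.Over.homMk (pullback.snd π₀ g₀) rfl
  have := hWA₁ j
  have : IsAffineHom (pullback.snd π₀ g₀) := MorphismProperty.pullback_snd _ _ hπ₀a
  have : IsAffine Z.left := isAffine_of_isAffineHom (pullback.snd π₀ g₀)
  have : Etale ζ.left := inferInstanceAs (Etale (pullback.snd π₀ g₀))
  have : Surjective ζ.left := inferInstanceAs (Surjective (pullback.snd π₀ g₀))
  let lft' : W'.left ⟶ pullback π₀ g₀ :=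
    pullback.lift q' (π'.left ≫ (cW₁.π.app j).left) (by rw [sqM.w, Category.assoc, hg₀])
  let lft : W' ⟶ Z := CategoryTheory.Over.homMk lft' (by
    change lft' ≫ pullback.snd π₀ g₀ ≫ (W₁.obj j).hom = W'.hom
    rw [pullback.lift_snd_assoc, Category.assoc, Over.w (cW₁.π.app j)]
    exact Over.w π')
  have hlft : lft ≫ ζ = π' ≫ cW₁.π.app j := Over.OverMorphism.ext (pullback.lift_snd _ _ _)
  have sqW' : IsPullback lft π' ζ (cW₁.π.app j) :=
    IsPullback.of_map (Over.forget S) hlft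
      (IsPullback.of_right (h₁₂ := pullback.fst π₀ g₀)
        (by
          change IsPullback (lft' ≫ pullback.fst π₀ g₀) π'.left π₀ ((cW₁.π.app j).left ≫ g₀)
          rw [pullback.lift_fst, hg₀]
          exact sqM)
        (congrArg CommaMorphism.left hlft) (IsPullback.of_hasPullback π₀ g₀))
  have sqT : IsPullback fst₁ (cW₁.π.app j) (c.π.app j.left) (a₁ j) := by
    refine IsPullback.of_bot ?_ (hfst₁ j) (sqj₁ j)
    rw [← hq₁ j, c.w]
    exact sq₁
  have sqZ : IsPullback (π' ≫ fst₁) lft (c.π.app j.left) (ζ ≫ a₁ j) := sqW'.flip.paste_horiz sqT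
  obtain ⟨W₂, cW₂, hcW₂, fst₂, q₂, a₂, b₂, sq₂, hA₂, hWA₂, hwa₂, hwb₂, sqj₂, hfst₂, hq₂⟩ :=
    exists_system D c hc hD j.left (ζ ≫ a₁ j)
  let m := sqZ.lift fst₂ q₂ sq₂.w
  let u : cW₂.pt ⟶ U := m ≫ u'
  let v₂ : Z ⟶ V := ζ ≫ b₁ j ≫ v
  have hu : u ≫ h = q₂ ≫ v₂ := by
    have e := sqZ.lift_snd fst₂ q₂ sq₂.w
    simp only [u, v₂, Category.assoc, huv]
    rw [hq₁ j, Category.assoc, ← reassoc_of% hlft, reassoc_of% e]
  have hu₂ : (yon S).map u ≫ a = (yon S).map fst₂ ≫ x := by
    rw [Functor.map_comp_assoc, hux, ← Functor.map_comp_assoc, sqZ.lift_fst]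
  have := hlfp
  obtain ⟨l, g, hgl, hgh⟩ := exists_lift_stage W₂ hWA₂ cW₂ hcW₂ h (fun l => b₂ l ≫ v₂)
    (fun f => by rw [← Category.assoc, hwb₂ f]) u (fun l => by rw [hu, hq₂ l, Category.assoc])
  let x₁ : (yon S).obj (W₂.obj l) ⟶ X := (yon S).map g ≫ a
  let e : W₂.obj l ⟶ D.obj l.left := a₂ l
  have hx₁ : x₁ ≫ f = (yon S).map (e ≫ D.map (l.hom ≫ j.hom)) ≫ y := by
    simp only [x₁, e, Category.assoc, hab]
    rw [← Functor.map_comp_assoc, hgh]
    simp only [v₂, Functor.map_comp, Category.assoc]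
    rw [← hv, ← Functor.map_comp_assoc (yon S) (b₁ j) π, ← (sqj₁ j).w, Functor.map_comp_assoc,
      ← Functor.map_comp_assoc (yon S) ζ, ← Functor.map_comp_assoc (yon S) (b₂ l), ← (sqj₂ l).w,
      Functor.map_comp_assoc]
  have hx₁' : (yon S).map (cW₂.π.app l) ≫ x₁ = (yon S).map fst₂ ≫ x := by
    rw [← hu₂, ← hgl, Functor.map_comp_assoc]
  clear_value x₁
  have sqT₂ : IsPullback fst₂ (cW₂.π.app l) (c.π.app l.left) e := by
    refine IsPullback.of_bot ?_ (hfst₂ l) (sqj₂ l)
    rw [← hq₂ l, c.w]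
    exact sq₂
  -- agreement on the double overlap
  have := hWA₂ l
  have := hD l.left
  let P := pullback e e
  have : IsAffine P.left := isAffine_pullback e e
  let pe : P ⟶ D.obj l.left := pullback.fst e e ≫ e
  obtain ⟨W₃, cW₃, hcW₃, fst₃, q₃, a₃, b₃, sq₃, hA₃, hWA₃, hwa₃, hwb₃, sqj₃, hfst₃, hq₃⟩ :=
    exists_system D c hc hD l.left pe
  have hP : ∀ (pr : P ⟶ W₂.obj l), pr ≫ e = pe →
      (yon S).map (q₃ ≫ pr) ≫ x₁ = (yon S).map fst₃ ≫ x := by
    intro pr hpr
    have hw : fst₃ ≫ c.π.app l.left = (q₃ ≫ pr) ≫ e := by rw [Category.assoc, hpr, sq₃.w]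
    rw [← sqT₂.lift_snd _ _ hw, Functor.map_comp_assoc, hx₁', ← Functor.map_comp_assoc, sqT₂.lift_fst]
  let top : Over l.left := Over.mk (𝟙 l.left)
  have := IsCofiltered.isConnected (Over l.left)
  obtain ⟨o, φo, ho⟩ := inj hX hY hf W₃ cW₃ (isLimitOfPreserves (Over.forget S) hcW₃) hWA₃ top
    ((yon S).map (b₃ top ≫ pullback.fst e e) ≫ x₁) ((yon S).map (b₃ top ≫ pullback.snd e e) ≫ x₁)
    (by
      simp only [Category.assoc, hx₁, ← Functor.map_comp_assoc]
      rw [pullback.condition_assoc])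
    (by
      rw [← Functor.map_comp_assoc, ← Functor.map_comp_assoc, ← Category.assoc, ← hq₃ top, hP _ rfl,
        ← Category.assoc, ← hq₃ top, hP _ pullback.condition.symm])
  rw [← Functor.map_comp_assoc, ← Functor.map_comp_assoc, reassoc_of% hwb₃ φo, reassoc_of% hwb₃ φo] at ho
  -- descend
  let l' : Over j.left := Over.mk (o.hom ≫ l.hom)
  let φl : l' ⟶ l := CategoryTheory.Over.homMk o.hom rfl
  let e' : W₂.obj l' ⟶ D.obj o.left := a₂ l'
  have sqe : IsPullback e' (W₂.map φl) (D.map o.hom) e := by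
    refine IsPullback.of_bot ?_ (hwa₂ φl).symm (sqj₂ l)
    rw [hwb₂ φl, ← D.map_comp]
    exact sqj₂ l'
  have hπe : Etale (ζ ≫ a₁ j).left ∧ Surjective (ζ ≫ a₁ j).left := by
    have : Etale (a₁ j).left := MorphismProperty.of_isPullback ((sqj₁ j).map (Over.forget S)).flip hπ
    have : Surjective (a₁ j).left := MorphismProperty.of_isPullback ((sqj₁ j).map (Over.forget S)).flip hπs
    exact ⟨inferInstanceAs (Etale (ζ.left ≫ (a₁ j).left)), inferInstanceAs (Surjective (ζ.left ≫ (a₁ j).left))⟩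
  have : Etale e'.left := MorphismProperty.of_isPullback ((sqj₂ l').map (Over.forget S)).flip hπe.1
  have : Surjective e'.left := MorphismProperty.of_isPullback ((sqj₂ l').map (Over.forget S)).flip hπe.2
  have : Etale fst₂.left := MorphismProperty.of_isPullback (sq₂.map (Over.forget S)).flip hπe.1
  have : Surjective fst₂.left := MorphismProperty.of_isPullback (sq₂.map (Over.forget S)).flip hπe.2
  have := epi_yon e'
  have := epi_yon fst₂
  let x₂ : (yon S).obj (W₂.obj l') ⟶ X := (yon S).map (W₂.map φl) ≫ x₁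
  let r₁ := pullback.fst e' e'
  let r₂ := pullback.snd e' e'
  let μ : pullback e' e' ⟶ P := pullback.lift (r₁ ≫ W₂.map φl) (r₂ ≫ W₂.map φl) (by
    rw [Category.assoc, Category.assoc, ← sqe.w, pullback.condition_assoc])
  let ν := (sqj₃ o).lift (r₁ ≫ e') μ (by
    simp only [μ, pe, pullback.lift_fst_assoc, Category.assoc]
    rw [← sqe.w])
  have hν : ν ≫ b₃ o = μ := (sqj₃ o).lift_snd _ _ _
  have hdesc : (yon S).map r₁ ≫ x₂ = (yon S).map r₂ ≫ x₂ := by
    have e1 : r₁ ≫ W₂.map φl = ν ≫ b₃ o ≫ pullback.fst e e := by rw [reassoc_of% hν, pullback.lift_fst]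
    have e2 : r₂ ≫ W₂.map φl = ν ≫ b₃ o ≫ pullback.snd e e := by rw [reassoc_of% hν, pullback.lift_snd]
    simp only [x₂, ← Functor.map_comp_assoc]
    rw [e1, e2, Functor.map_comp_assoc, Functor.map_comp_assoc (yon S) ν, ho]
  have := isLocallySurjective_of_etale_surjective (repWith_yon (P := @Etale) e' inferInstance)
    (repWith_yon (P := @Surjective) e' inferInstance)
  obtain ⟨z, hz⟩ := exists_desc_of_kernelPair ((IsPullback.of_hasPullback e' e').map (yon S)) x₂ hdesc
  refine ⟨o.left, o.hom ≫ l.hom ≫ j.hom, z, (cancel_epi ((yon S).map e')).1 ?_, (cancel_epi ((yon S).map fst₂)).1 ?_⟩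
  · rw [reassoc_of% hz, ← Functor.map_comp_assoc, D.map_comp, reassoc_of% sqe.w]
    simp only [x₂, Category.assoc, hx₁, ← Functor.map_comp_assoc]
  · rw [← Functor.map_comp_assoc, show fst₂ ≫ c.π.app o.left = cW₂.π.app l' ≫ e' from hfst₂ l',
      Functor.map_comp_assoc, hz, ← hx₁']
    simp only [x₂, ← Functor.map_comp_assoc]
    rw [cW₂.w φl]

/-- Locally of finite presentation morphisms of algebraic spaces are limit preserving. -/
theorem relLP_of_locP (hX : IsAlgSpace X) (hY : IsAlgSpace Y) (hf : LocP @LocallyOfFinitePresentation f) :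
    RelLP f.hom := by
  refine ⟨fun I _ _ D c hc hD _ i y x hxy => ?_, fun I _ _ D c hc hD _ i x x' h h' => ?_⟩
  · obtain ⟨y, rfl⟩ : ∃ m : (yon S).obj (D.obj i) ⟶ Y, (J S).uliftYonedaEquiv m = y :=
      ⟨_, Equiv.apply_symm_apply _ _⟩
    obtain ⟨x, rfl⟩ : ∃ m : (yon S).obj c.pt ⟶ X, (J S).uliftYonedaEquiv m = x :=
      ⟨_, Equiv.apply_symm_apply _ _⟩
    obtain ⟨k, φ, z, hz, hzx⟩ := surj hX hY hf D c hc hD i y x
      ((J S).uliftYonedaEquiv.injective (hxy.trans (uliftYonedaEquiv_precomp _ _)))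
    refine ⟨k, φ, (J S).uliftYonedaEquiv z, ?_, ?_⟩
    · refine Eq.trans ?_ (uliftYonedaEquiv_precomp _ _).symm
      exact congrArg (J S).uliftYonedaEquiv hz
    · exact (uliftYonedaEquiv_precomp _ _).trans (congrArg (J S).uliftYonedaEquiv hzx)
  · obtain ⟨x, rfl⟩ : ∃ m : (yon S).obj (D.obj i) ⟶ X, (J S).uliftYonedaEquiv m = x :=
      ⟨_, Equiv.apply_symm_apply _ _⟩
    obtain ⟨x', rfl⟩ : ∃ m : (yon S).obj (D.obj i) ⟶ X, (J S).uliftYonedaEquiv m = x' :=
      ⟨_, Equiv.apply_symm_apply _ _⟩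
    rw [uliftYonedaEquiv_precomp, uliftYonedaEquiv_precomp] at h'
    obtain ⟨k, φ, hk⟩ := inj hX hY hf D c hc hD i x x' ((J S).uliftYonedaEquiv.injective h)
      ((J S).uliftYonedaEquiv.injective h')
    refine ⟨k, φ, ?_⟩
    rw [uliftYonedaEquiv_precomp, uliftYonedaEquiv_precomp, hk]

end Groth.Agent.AlgSpDec.LfpLimPres
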