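import Groth.Agent.AlgSpDec.LfpLimPres
import Groth.Agent.AlgSpDec.LfpCriterion
import Groth.Agent.AlgSpDec.LimAffineStage

/-!
# Morphisms locally of finite presentation and limits of quasi-compact quasi-separated spaces
-/

set_option linter.style.haveILetI false
set_option autoImplicit false
set_option backward.isDefEq.respectTransparency false
set_option backward.isDefEq.respectTransparency.types false

universe u v w

open CategoryTheory CategoryTheory.Limits AlgebraicGeometry Opposite AlgSp Groth.Agent.AlgSpLib Groth.Agent.AlgSpPts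

namespace Groth.Agent.AlgSpDec.LfpLimSpaces

/-- A square of colimits along a cofiltered system is cartesian iff it is so elementwise. -/
theorem isPullback_colimit_iff {C : Type w} [Category.{v} C] {I : Type u} [SmallCategory I] [IsCofiltered I]
    (D : I ⥤ C) (c : Cone D) {F G : Cᵒᵖ ⥤ Type v} (a : F ⟶ G) [HasColimit (D.op ⋙ F)] [HasColimit (D.op ⋙ G)]
    [UnivLE.{u, v}] :
    IsPullback (colimMap (Functor.whiskerLeft D.op a)) (colimit.desc (D.op ⋙ F) (F.mapCocone c.op))
        (colimit.desc (D.op ⋙ G) (G.mapCocone c.op)) (a.app (op c.pt)) ↔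
      (∀ (i : I) (y : G.obj (op (D.obj i))) (x : F.obj (op c.pt)), a.app _ x = G.map (c.π.app i).op y →
        ∃ (k : I) (f : k ⟶ i) (z : F.obj (op (D.obj k))),
          a.app _ z = G.map (D.map f).op y ∧ F.map (c.π.app k).op z = x) ∧
      ∀ (i : I) (x x' : F.obj (op (D.obj i))), a.app _ x = a.app _ x' →
        F.map (c.π.app i).op x = F.map (c.π.app i).op x' →
        ∃ (k : I) (f : k ⟶ i), F.map (D.map f).op x = F.map (D.map f).op x' := by
  have e1 : ∀ (i : I) (x : F.obj (op (D.obj i))),
      colimMap (Functor.whiskerLeft D.op a) (colimit.ι (D.op ⋙ F) (op i) x) =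
        colimit.ι (D.op ⋙ G) (op i) (a.app _ x) := fun i x =>
    congrArg (fun k : (D.op ⋙ F).obj (op i) ⟶ _ => k x) (ι_colimMap (Functor.whiskerLeft D.op a) (op i))
  have eF : ∀ (i : I) (x : F.obj (op (D.obj i))),
      colimit.desc (D.op ⋙ F) (F.mapCocone c.op) (colimit.ι (D.op ⋙ F) (op i) x) = F.map (c.π.app i).op x :=
    fun i x => congrArg (fun k : (D.op ⋙ F).obj (op i) ⟶ _ => k x) (colimit.ι_desc (F.mapCocone c.op) (op i))
  have eG : ∀ (i : I) (x : G.obj (op (D.obj i))),
      colimit.desc (D.op ⋙ G) (G.mapCocone c.op) (colimit.ι (D.op ⋙ G) (op i) x) = G.map (c.π.app i).op x :=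
    fun i x => congrArg (fun k : (D.op ⋙ G).obj (op i) ⟶ _ => k x) (colimit.ι_desc (G.mapCocone c.op) (op i))
  have mF : ∀ {A B B' : C} (f : A ⟶ B) (g : B ⟶ B') (x : F.obj (op B')),
      F.map f.op (F.map g.op x) = F.map (f ≫ g).op x := fun f g x => (Functor.map_comp_apply F g.op f.op x).symm
  constructor
  · intro H
    obtain ⟨-, hi, hs⟩ := (Types.isPullback_iff _ _ _ _).1 H
    refine ⟨fun i y x hx => ?_, fun i x x' h h' => ?_⟩
    · obtain ⟨w, hw, hwx⟩ := hs (colimit.ι (D.op ⋙ G) (op i) y) x ((eG i y).trans hx.symm)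
      obtain ⟨j, z, rfl⟩ := Types.jointly_surjective' w
      obtain ⟨k, f, g, hk⟩ := (Types.FilteredColimit.colimit_eq_iff _).1 ((e1 j.unop z).symm.trans hw)
      refine ⟨k.unop, g.unop, F.map (D.map f.unop).op z,
        (NatTrans.naturality_apply a (D.map f.unop).op z).trans hk, ?_⟩
      refine (mF _ _ z).trans ?_
      rw [c.w f.unop]
      exact (eF j.unop z).symm.trans hwx
    · have := hi (colimit.ι (D.op ⋙ F) (op i) x) (colimit.ι (D.op ⋙ F) (op i) x')
        ⟨(e1 i x).trans ((congrArg _ h).trans (e1 i x').symm), (eF i x).trans (h'.trans (eF i x').symm)⟩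
      obtain ⟨k, f, hk⟩ :=
        (Types.FilteredColimit.isColimit_eq_iff' (colimit.isColimit (D.op ⋙ F)) x x').1 this
      exact ⟨k.unop, f.unop, hk⟩
  · rintro ⟨hsurj, hinj⟩
    rw [Types.isPullback_iff]
    refine ⟨?_, ?_, ?_⟩
    · refine ConcreteCategory.hom_ext _ _ fun w => ?_
      obtain ⟨i, x, rfl⟩ := Types.jointly_surjective' w
      rw [ConcreteCategory.comp_apply, ConcreteCategory.comp_apply]
      erw [e1 i.unop x, eF i.unop x, eG i.unop]
      exact (NatTrans.naturality_apply a _ x).symm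
    · rintro w₁ w₂ ⟨h1, h2⟩
      obtain ⟨i, x, rfl⟩ := Types.jointly_surjective' w₁
      obtain ⟨j, x', rfl⟩ := Types.jointly_surjective' w₂
      erw [e1 i.unop x, e1 j.unop x'] at h1
      obtain ⟨k, f, g, hk⟩ := (Types.FilteredColimit.colimit_eq_iff _).1 h1
      have h3 : F.map (c.π.app k.unop).op (F.map (D.map f.unop).op x) =
          F.map (c.π.app k.unop).op (F.map (D.map g.unop).op x') := by
        refine (mF _ _ x).trans (Eq.trans ?_ (mF _ _ x').symm)
        rw [c.w f.unop, c.w g.unop]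
        exact (eF i.unop x).symm.trans (h2.trans (eF j.unop x'))
      obtain ⟨l, e, he⟩ := hinj k.unop _ _ ((NatTrans.naturality_apply a (D.map f.unop).op x).trans
        (hk.trans (NatTrans.naturality_apply a (D.map g.unop).op x').symm)) h3
      refine (Types.FilteredColimit.colimit_eq_iff _).2 ⟨op l, f ≫ e.op, g ≫ e.op, ?_⟩
      exact (Functor.map_comp_apply (D.op ⋙ F) f e.op x).trans
        (he.trans (Functor.map_comp_apply (D.op ⋙ F) g e.op x').symm)
    · intro w x hw
      obtain ⟨i, y, rfl⟩ := Types.jointly_surjective' w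
      erw [eG i.unop y] at hw
      obtain ⟨k, f, z, hz, hzx⟩ := hsurj i.unop y x hw.symm
      refine ⟨colimit.ι (D.op ⋙ F) (op k) z, ?_, (eF k z).trans hzx⟩
      refine (e1 k z).trans ((congrArg _ hz).trans ?_)
      exact congrArg (fun q : (D.op ⋙ G).obj i ⟶ _ => q y) (colimit.w (D.op ⋙ G) f.op)

variable {S : Scheme.{u}} {X Y : Sp S} {f : X ⟶ Y}
variable {I : Type u} [SmallCategory I] [IsCofiltered I] (D : I ⥤ Sp S)

/-- Two maps from a stage agreeing on the limit and in the target agree at a later stage. -/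
theorem inj (hX : IsAlgSpace X) (hY : IsAlgSpace Y) (hf : LocP @LocallyOfFinitePresentation f)
    (hDa : ∀ (i j : I) (φ : i ⟶ j), IsAffineMor (D.map φ)) (hqc : ∀ i, IsQuasiCompactSp (D.obj i))
    (c : Cone D) (hc : IsLimit c) (i : I) (x x' : D.obj i ⟶ X) (hxy : x ≫ f = x' ≫ f)
    (hxx : c.π.app i ≫ x = c.π.app i ≫ x') : ∃ (k : I) (φ : k ⟶ i), D.map φ ≫ x = D.map φ ≫ x' := by
  obtain ⟨U, a, hU, ha, has⟩ := exists_affine_atlas (hqc i)
  have : IsAffine U.left := hU
  obtain ⟨W, cW, hcW, p, fst, aW, bW, haw, sqW, hwb, hA, hWA, sqj, hfst, hp⟩ :=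
    exists_limit_square'' D hDa c hc i a
  let top : Over i := Over.mk (𝟙 i)
  have := IsCofiltered.isConnected (Over i)
  have e : ∀ z : D.obj i ⟶ X, (yon S).map (cW.π.app top) ≫ (yon S).map (bW top) ≫ a ≫ z = fst ≫ c.π.app i ≫ z :=
    fun z => by rw [← Functor.map_comp_assoc, ← hp top, ← Category.assoc, ← sqW.w, Category.assoc]
  obtain ⟨k, φ, hk⟩ := LfpLimPres.inj hX hY hf W cW (isLimitOfPreserves (Over.forget S) hcW) hWA top
    ((yon S).map (bW top) ≫ a ≫ x) ((yon S).map (bW top) ≫ a ≫ x')
    (by simp only [Category.assoc, hxy]) (by rw [e, e, hxx])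
  rw [← Functor.map_comp_assoc, ← Functor.map_comp_assoc, hwb φ] at hk
  have := isLocallySurjective_of_etale_surjective (repWith_of_isPullback (sqj k).flip ha)
    (repWith_of_isPullback (sqj k).flip has)
  have : Epi (aW k) := (Sheaf.isLocallySurjective_iff_epi _).1 this
  refine ⟨k.left, k.hom, (cancel_epi (aW k)).1 ?_⟩
  rw [reassoc_of% (sqj k).w, reassoc_of% (sqj k).w, hk]

/-- A map from the limit over a map from a stage to the target comes from a stage. -/
theorem surj [QuasiSeparatedSpace ↥S] (hX : IsAlgSpace X) (hY : IsAlgSpace Y)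
    (hf : LocP @LocallyOfFinitePresentation f)
    (hDa : ∀ (i j : I) (φ : i ⟶ j), IsAffineMor (D.map φ)) (hqc : ∀ i, IsQuasiCompactSp (D.obj i))
    (hqs : ∀ i, IsQuasiSeparatedSp (D.obj i))
    (c : Cone D) (hc : IsLimit c) (i : I) (y : D.obj i ⟶ Y) (x : c.pt ⟶ X) (hxy : x ≫ f = c.π.app i ≫ y) :
    ∃ (k : I) (φ : k ⟶ i) (z : D.obj k ⟶ X), z ≫ f = D.map φ ≫ y ∧ c.π.app k ≫ z = x := by
  obtain ⟨U, a, hU, ha, has⟩ := exists_affine_atlas (hqc i)
  have : IsAffine U.left := hU
  obtain ⟨W, cW, hcW, p, fst, aW, bW, haw, sqW, hwb, hA, hWA, sqj, hfst, hp⟩ :=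
    exists_limit_square'' D hDa c hc i a
  let top : Over i := Over.mk (𝟙 i)
  have := IsCofiltered.isConnected (Over i)
  obtain ⟨j, φ₀, g, hgy, hg⟩ := LfpLimPres.surj hX hY hf W cW (isLimitOfPreserves (Over.forget S) hcW) hWA top
    ((yon S).map (bW top) ≫ a ≫ y) (fst ≫ x) (by
      rw [Category.assoc, hxy, ← Category.assoc, sqW.w, Category.assoc, hp top, Functor.map_comp, Category.assoc])
  rw [← Functor.map_comp_assoc, hwb φ₀] at hgy
  -- cover the self product of the chart at `j`
  have hje : RepWith @Etale (aW j) := repWith_of_isPullback (sqj j).flip ha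
  let R := hje.rep.pullback (aW j)
  have sR : IsPullback ((yon S).map (hje.rep.fst' (aW j))) ((yon S).map (hje.rep.snd (aW j))) (aW j) (aW j) :=
    hje.rep.isPullback' (aW j)
  have : IsAffine (W.obj j).left := hWA j
  have : QuasiCompact (hje.rep.snd (aW j)).left := quasiCompact_fibreProd (hqs j.left) sR
  have : CompactSpace ↥R.left := QuasiCompact.compactSpace_of_compactSpace (hje.rep.snd (aW j)).left
  obtain ⟨Z', r, hZ', hr, hrs⟩ := exists_affine_atlas ((isQuasiCompactSp_yon_iff R).2 inferInstance)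
  have : IsAffine Z'.left := hZ'
  obtain ⟨r', rfl⟩ := (yon S).map_surjective r
  let t := r' ≫ hje.rep.fst' (aW j)
  let s := r' ≫ hje.rep.snd (aW j)
  have hts : (yon S).map t ≫ aW j = (yon S).map s ≫ aW j := by
    rw [Functor.map_comp, Functor.map_comp, Category.assoc, Category.assoc, sR.w]
  obtain ⟨W', cW', hcW', p', fst', aW', bW', haw', sqW', hwb', hA', hWA', sqj', hfst', hp'⟩ :=
    exists_limit_square'' D hDa c hc j.left ((yon S).map t ≫ aW j)
  -- the two maps to `X` agree in the limit
  have hsk : IsPullback fst ((yon S).map (cW.π.app j)) (c.π.app j.left) (aW j) := by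
    refine IsPullback.of_bot ?_ (hfst j) (sqj j)
    rw [← Functor.map_comp, ← hp j, c.w]
    exact sqW
  have hlim : (yon S).map p' ≫ (yon S).map t ≫ g = (yon S).map p' ≫ (yon S).map s ≫ g := by
    have e₁ : fst' ≫ c.π.app j.left = ((yon S).map p' ≫ (yon S).map t) ≫ aW j := by
      rw [sqW'.w, Category.assoc]
    have e₂ : fst' ≫ c.π.app j.left = ((yon S).map p' ≫ (yon S).map s) ≫ aW j := by
      rw [sqW'.w, hts, Category.assoc]
    have f₁ := hsk.lift_snd _ _ e₁
    have f₂ := hsk.lift_snd _ _ e₂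
    rw [← Category.assoc, ← Category.assoc, ← f₁, ← f₂, Category.assoc, Category.assoc, hg, ← Category.assoc,
      ← Category.assoc, hsk.lift_fst, hsk.lift_fst]
  have hgy' : ∀ q : Z' ⟶ W.obj j,
      (yon S).map q ≫ g ≫ f = (yon S).map q ≫ aW j ≫ D.map j.hom ≫ y := fun q => by
    rw [hgy, ← reassoc_of% (sqj j).w]
  let k₀ : Over j.left := Over.mk (𝟙 j.left)
  have := IsCofiltered.isConnected (Over j.left)
  obtain ⟨k, φk, hk⟩ := LfpLimPres.inj hX hY hf W' cW' (isLimitOfPreserves (Over.forget S) hcW') hWA' k₀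
    ((yon S).map (bW' k₀) ≫ (yon S).map t ≫ g) ((yon S).map (bW' k₀) ≫ (yon S).map s ≫ g)
    (by simp only [Category.assoc, hgy', reassoc_of% hts])
    (by
      rw [hp' k₀, Functor.map_comp, Category.assoc, Category.assoc] at hlim
      exact hlim)
  have ek : (yon S).map (W'.map φk) ≫ (yon S).map (bW' k₀) = (yon S).map (bW' k) := by
    rw [← Functor.map_comp, hwb' φk]
  rw [reassoc_of% ek, reassoc_of% ek] at hk
  -- descend at the stage `k`
  let l : Over i := Over.mk (k.hom ≫ j.hom)
  let φ : l ⟶ j := CategoryTheory.Over.homMk k.hom rfl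
  have sφ : IsPullback (aW l) ((yon S).map (W.map φ)) (D.map k.hom) (aW j) := by
    refine IsPullback.of_bot ?_ (haw φ).symm (sqj j)
    rw [← Functor.map_comp, hwb, ← D.map_comp]
    exact sqj l
  have hle : RepWith @Etale (aW l) := repWith_of_isPullback (sqj l).flip ha
  have hls : RepWith @Surjective (aW l) := repWith_of_isPullback (sqj l).flip has
  have sRl : IsPullback ((yon S).map (hle.rep.fst' (aW l))) ((yon S).map (hle.rep.snd (aW l))) (aW l) (aW l) :=
    hle.rep.isPullback' (aW l)
  let tl := hle.rep.fst' (aW l)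
  let sl := hle.rep.snd (aW l)
  have hm : (((yon S).map (tl ≫ W.map φ))) ≫ aW j = (yon S).map (sl ≫ W.map φ) ≫ aW j := by
    rw [Functor.map_comp, Functor.map_comp, Category.assoc, Category.assoc, ← sφ.w, ← Category.assoc, sRl.w,
      Category.assoc]
  -- the self product at the stage is covered by the base change of the cover
  let m := sR.lift _ _ hm
  let w : (yon S).obj (hle.rep.pullback (aW l)) ⟶ D.obj k.left := (yon S).map tl ≫ aW l
  have hcond : (pullback.fst m ((yon S).map r') ≫ w) ≫ D.map k.hom = pullback.snd m ((yon S).map r') ≫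
      (yon S).map t ≫ aW j := by
    have e : w ≫ D.map k.hom = m ≫ (yon S).map (hje.rep.fst' (aW j)) ≫ aW j := by
      rw [sR.lift_fst_assoc, Functor.map_comp, Category.assoc, Category.assoc, sφ.w]
    rw [Category.assoc, e, pullback.condition_assoc, Functor.map_comp, Category.assoc]
  let n := (sqj' k).lift _ _ hcond
  have hn : n ≫ (yon S).map (bW' k) = pullback.snd m ((yon S).map r') := (sqj' k).lift_snd _ _ _
  have hep : Epi (pullback.fst m ((yon S).map r')) := by
    have sQ := IsPullback.of_hasPullback m ((yon S).map r')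
    have he' : RepWith @Etale (pullback.fst m ((yon S).map r')) := repWith_of_isPullback sQ.flip hr
    have hs' : RepWith @Surjective (pullback.fst m ((yon S).map r')) := repWith_of_isPullback sQ.flip hrs
    exact (Sheaf.isLocallySurjective_iff_epi _).1 (isLocallySurjective_of_etale_surjective he' hs')
  have hdesc : (yon S).map tl ≫ (yon S).map (W.map φ) ≫ g = (yon S).map sl ≫ (yon S).map (W.map φ) ≫ g := by
    refine (cancel_epi (pullback.fst m ((yon S).map r'))).1 ?_
    have e₁ : pullback.fst m ((yon S).map r') ≫ (yon S).map tl ≫ (yon S).map (W.map φ) ≫ g =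
        n ≫ (yon S).map (bW' k) ≫ (yon S).map t ≫ g := by
      simp only [t, Functor.map_comp, Category.assoc]
      rw [reassoc_of% hn, ← pullback.condition_assoc, sR.lift_fst_assoc, Functor.map_comp, Category.assoc]
    have e₂ : pullback.fst m ((yon S).map r') ≫ (yon S).map sl ≫ (yon S).map (W.map φ) ≫ g =
        n ≫ (yon S).map (bW' k) ≫ (yon S).map s ≫ g := by
      simp only [s, Functor.map_comp, Category.assoc]
      rw [reassoc_of% hn, ← pullback.condition_assoc, sR.lift_snd_assoc, Functor.map_comp, Category.assoc]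
    rw [e₁, e₂, hk]
  have := isLocallySurjective_of_etale_surjective hle hls
  have : Epi (aW l) := (Sheaf.isLocallySurjective_iff_epi _).1 this
  obtain ⟨z, hz⟩ := exists_desc_of_kernelPair sRl ((yon S).map (W.map φ) ≫ g) hdesc
  refine ⟨k.left, k.hom ≫ j.hom, z, (cancel_epi (aW l)).1 ?_, ?_⟩
  · rw [reassoc_of% hz, hgy, ← reassoc_of% (sqj j).w, ← reassoc_of% sφ.w, D.map_comp_assoc]
  · have hfe : Epi fst := (Sheaf.isLocallySurjective_iff_epi _).1 (isLocallySurjective_of_etale_surjective
      (repWith_of_isPullback sqW.flip ha) (repWith_of_isPullback sqW.flip has))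
    rw [← cancel_epi fst, ← Category.assoc]
    rw [show fst ≫ c.π.app k.left = (yon S).map (cW.π.app l) ≫ aW l from hfst l, Category.assoc, hz,
      ← Functor.map_comp_assoc, cW.w, hg]

theorem surjLim_of_forall_isPullback [QuasiSeparatedSpace ↥S]
    (H : ∀ ⦃I : Type u⦄ [SmallCategory I] [IsCofiltered I] (D : I ⥤ Sp S),
      (∀ i, IsAlgSpace (D.obj i)) → (∀ (i j : I) (φ : i ⟶ j), IsAffineMor (D.map φ)) →
      (∀ i, IsQuasiCompactSp (D.obj i)) → (∀ i, IsQuasiSeparatedSp (D.obj i)) →
      ∀ (c : Cone D) (_ : IsLimit c),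
        IsPullback (colimMap (Functor.whiskerLeft D.op (yoneda.map f)))
          (colimit.desc (D.op ⋙ yoneda.obj X) ((yoneda.obj X).mapCocone c.op))
          (colimit.desc (D.op ⋙ yoneda.obj Y) ((yoneda.obj Y).mapCocone c.op))
          ((yoneda.map f).app (op c.pt))) : LfpCriterion.SurjLim f := by
  intro I _ _ D c hc hD hT x i y hxy
  have := IsCofiltered.isConnected I
  have hc' : IsLimit c := isLimitOfReflects (Over.forget S) hc
  obtain ⟨k, φ, z, hz, hzx⟩ := ((isPullback_colimit_iff (D ⋙ yon S) ((yon S).mapCone c) (yoneda.map f)).1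
    (H (D ⋙ yon S) (fun j => IsAlgSpace.yon_obj _) (fun j k φ => by
        have := hD j
        have := hD k
        exact isAffineMor_of_repWith le_rfl ((repWith_yon_map_iff _ _).2 inferInstance))
      (fun j => by
        have := hD j
        exact (isQuasiCompactSp_yon_iff _).2 inferInstance)
      (fun j => by
        have := hD j
        exact (isQuasiSeparatedSp_yon_iff' _).2 inferInstance)
      ((yon S).mapCone c) (isLimitOfPreserves (yon S) hc'))).1 i y x hxy
  exact ⟨k, φ, z, hzx, hz⟩

end Groth.Agent.AlgSpDec.LfpLimSpaces
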