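import Groth.Agent.S1239

/-!
# Flat algebras of finite type which are finitely presented over a dense open
-/

set_option autoImplicit false
set_option linter.style.haveILetI false
set_option backward.isDefEq.respectTransparency false
set_option backward.isDefEq.respectTransparency.types false

universe u

namespace Groth.Agent.AlgSpDec.LfpDense

variable {A P C : Type u} [CommRing A] [CommRing P] [CommRing C] [Algebra A P] [Algebra A C] [Algebra P C]
  [IsScalarTower A P C]

/-- The localization of a quotient algebra of finite presentation is a finitely presented module. -/
theorem module_fp_localized [Algebra.FinitePresentation A P] (hs : Function.Surjective (algebraMap P C)) (g : A)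
    (h : Algebra.FinitePresentation A (Localization.Away (algebraMap A C g))) :
    Module.FinitePresentation (Localization.Away (algebraMap A P g))
      (LocalizedModule (Submonoid.powers (algebraMap A P g)) C) := by
  let p := algebraMap A P g
  have hp : algebraMap A C g = algebraMap P C p := IsScalarTower.algebraMap_apply A P C g
  rw [hp] at h
  have hmem : Submonoid.powers p ≤ (Submonoid.powers (algebraMap P C p)).comap (algebraMap P C) := by
    rintro _ ⟨m, rfl⟩; exact ⟨m, (map_pow _ _ _).symm⟩
  letI : Algebra (Localization.Away p) (Localization.Away (algebraMap P C p)) :=
    (IsLocalization.map (M := Submonoid.powers p) (T := Submonoid.powers (algebraMap P C p))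
      (Localization.Away (algebraMap P C p)) (algebraMap P C) hmem).toAlgebra
  haveI : IsScalarTower P (Localization.Away p) (Localization.Away (algebraMap P C p)) :=
    IsScalarTower.of_algebraMap_eq fun x => by
      rw [RingHom.algebraMap_toAlgebra, IsLocalization.map_eq]
      exact IsScalarTower.algebraMap_apply P C _ x
  haveI : IsScalarTower A (Localization.Away p) (Localization.Away (algebraMap P C p)) :=
    IsScalarTower.of_algebraMap_eq fun x => by
      rw [IsScalarTower.algebraMap_apply A P (Localization.Away (algebraMap P C p)),
        IsScalarTower.algebraMap_apply A P (Localization.Away p),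
        ← IsScalarTower.algebraMap_apply P (Localization.Away p)]
  have hs' : Function.Surjective (algebraMap (Localization.Away p) (Localization.Away (algebraMap P C p))) := by
    intro y
    obtain ⟨⟨c, ⟨_, m, rfl⟩⟩, hy⟩ := IsLocalization.surj (Submonoid.powers (algebraMap P C p)) y
    obtain ⟨b, rfl⟩ := hs c
    refine ⟨IsLocalization.mk' (Localization.Away p) b (⟨p ^ m, m, rfl⟩ : Submonoid.powers p), ?_⟩
    rw [RingHom.algebraMap_toAlgebra, IsLocalization.map_mk', IsLocalization.mk'_eq_iff_eq_mul]
    simpa only [map_pow] using hy.symm
  haveI : Algebra.FinitePresentation P (Localization.Away p) := IsLocalization.Away.finitePresentation p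
  haveI : Algebra.FinitePresentation A (Localization.Away p) := .trans A P _
  have hk := Algebra.FinitePresentation.ker_fG_of_surjective
    (IsScalarTower.toAlgHom A (Localization.Away p) (Localization.Away (algebraMap P C p))) hs'
  haveI : Module.FinitePresentation (Localization.Away p) (Localization.Away (algebraMap P C p)) :=
    Module.finitePresentation_of_surjective (Algebra.linearMap _ _) hs' hk
  haveI : IsLocalization (Algebra.algebraMapSubmonoid C (Submonoid.powers p))
      (Localization.Away (algebraMap P C p)) := by
    rw [Algebra.algebraMapSubmonoid, Submonoid.map_powers]; infer_instance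
  haveI : IsLocalizedModule (Submonoid.powers p)
      ((IsScalarTower.toAlgHom P C (Localization.Away (algebraMap P C p))).toLinearMap) :=
    isLocalizedModule_iff_isLocalization.2 ‹_›
  exact .of_equiv ((IsLocalizedModule.iso (Submonoid.powers p)
    ((IsScalarTower.toAlgHom P C (Localization.Away (algebraMap P C p))).toLinearMap)).extendScalarsOfIsLocalization
      (Submonoid.powers p) (Localization.Away p)).symm

omit [Algebra A P] [Algebra P C] [IsScalarTower A P C] in
/-- A flat algebra of finite type, finitely presented over a dense finite family of basic opens, is finitely
presented. -/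
theorem algebra_fp [Algebra.FiniteType A C] [Module.Flat A C] {n : ℕ} (g : Fin n → A)
    (hdense : Function.Injective (RingHom.pi (fun i => algebraMap A (Localization.Away (g i)))))
    (hfp : ∀ i, Algebra.FinitePresentation A (Localization.Away (algebraMap A C (g i)))) :
    Algebra.FinitePresentation A C := by
  obtain ⟨m, π, hπ⟩ := Algebra.FiniteType.iff_quotient_mvPolynomial''.1 ‹Algebra.FiniteType A C›
  letI := π.toRingHom.toAlgebra
  haveI : IsScalarTower A (MvPolynomial (Fin m) A) C := IsScalarTower.of_algebraMap_eq fun a => (π.commutes a).symm
  haveI : Module.Finite (MvPolynomial (Fin m) A) C := Module.Finite.of_surjective (Algebra.linearMap _ _) hπ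
  haveI := Groth.Agent.S1239.result (A := A) (B := MvPolynomial (Fin m) A) C g hdense
    fun i => module_fp_localized hπ (g i) (hfp i)
  exact Algebra.FinitePresentation.of_surjective (f := π) hπ
    (Module.FinitePresentation.fg_ker (Algebra.linearMap (MvPolynomial (Fin m) A) C) hπ)

end Groth.Agent.AlgSpDec.LfpDense
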