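import Groth.Agent.AlgSpDec.SchDenseFacts
import Groth.Agent.AlgSpDec.LfpOverDenseRing

/-!
# Flat morphisms of finite type which are of finite presentation over a dense open
-/

set_option autoImplicit false
set_option linter.style.haveILetI false
set_option backward.isDefEq.respectTransparency false
set_option backward.isDefEq.respectTransparency.types false

universe u

open CategoryTheory AlgebraicGeometry Opposite TopologicalSpace Groth.Agent.SchDenseLib

namespace Groth.Agent.AlgSpDec.LfpDense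

variable {X Y : Scheme.{u}}

theorem finitePresentation_appLE_of_le (f : X ⟶ Y) (U : X.Opens) [LocallyOfFinitePresentation (U.ι ≫ f)]
    {W : Y.Opens} (hW : IsAffineOpen W) {V : X.Opens} (hV : IsAffineOpen V) (hVU : V ≤ U) (e : V ≤ f ⁻¹ᵁ W) :
    (f.appLE W V e).hom.FinitePresentation := by
  have hr : V ≤ U.ι.opensRange := hVU.trans_eq U.opensRange_ι.symm
  have h := (U.ι ≫ f).finitePresentation_appLE hW (hV.preimage_of_isOpenImmersion U.ι hr)
    (U.ι.preimage_mono e)
  rw [← Scheme.Hom.appLE_comp_appLE U.ι f W V (U.ι ⁻¹ᵁ V) e le_rfl, CommRingCat.hom_comp,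
    ← Scheme.Hom.app_eq_appLE] at h
  haveI : IsIso (U.ι.app V) := U.ι.isIso_app V hr
  have h2 := RingHom.finitePresentation_respectsIso.1 _ (asIso (U.ι.app V)).commRingCatIsoToRingEquiv.symm h
  convert! h2 using 1
  ext x
  exact (asIso (U.ι.app V)).commRingCatIsoToRingEquiv.symm_apply_apply _ |>.symm

/-- A flat morphism locally of finite type, of finite presentation over a retrocompact schematically dense open,
is locally of finite presentation. -/
theorem lfp_of_flat_schDense (f : X ⟶ Y) [LocallyOfFiniteType f] [Flat f] (U : Y.Opens)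
    (hd : CInt.IsSchematicallyDense U) [QuasiCompact U.ι] [LocallyOfFinitePresentation (f ∣_ U)] :
    LocallyOfFinitePresentation f := by
  haveI : LocallyOfFinitePresentation ((f ⁻¹ᵁ U).ι ≫ f) := by
    rw [← morphismRestrict_ι]; infer_instance
  refine ⟨fun {W} hW {O} hO e => ?_⟩
  obtain ⟨T, hTU, hT⟩ := SchDenseFacts.exists_finset hW (SchDenseFacts.isCompact_inf_of_quasiCompact U W hW)
  letI : Algebra Γ(Y, W) Γ(X, O) := (f.appLE W O e).hom.toAlgebra
  haveI : Module.Flat Γ(Y, W) Γ(X, O) := f.flat_appLE hW hO e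
  haveI : Algebra.FiniteType Γ(Y, W) Γ(X, O) := f.finiteType_appLE hW hO e
  let g : Fin T.card → Γ(Y, W) := fun i => (T.equivFin.symm i).1
  refine algebra_fp g ((injective_iff_map_eq_zero _).2 fun a ha => ?_) fun i => ?_
  · have key : ∀ j, Y.presheaf.map (homOfLE (Y.basicOpen_le (g j))).op a = 0 := fun j => by
      haveI := hW.isLocalization_basicOpen (g j)
      have h0 : algebraMap Γ(Y, W) (Localization.Away (g j)) a = 0 := congrFun ha j
      have h1 := congrArg
        (IsLocalization.algEquiv (Submonoid.powers (g j)) (Localization.Away (g j)) Γ(Y, Y.basicOpen (g j))) h0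
      rw [AlgEquiv.commutes, map_zero] at h1
      exact h1
    have hres : ∀ x ∈ W ⊓ U, ∃ (V : Y.Opens) (h : V ≤ W ⊓ U), x ∈ V ∧
        Y.presheaf.map (homOfLE (h.trans inf_le_left)).op a = 0 := by
      intro x hx
      obtain ⟨t, ht, hxt⟩ := hT x hx
      obtain ⟨j, hj⟩ : ∃ j, g j = t := ⟨T.equivFin ⟨t, ht⟩, by simp [g]⟩
      subst hj
      exact ⟨Y.basicOpen (g j), le_inf (Y.basicOpen_le _) (hTU _ ht), hxt, key j⟩
    choose V hV hxV hVa using hres
    refine (iff_eq_zero U).1 hd W a ?_
    refine Y.sheaf.eq_of_locally_eq' (fun x : ↥(W ⊓ U : Y.Opens) => V x.1 x.2) (W ⊓ U)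
      (fun x => homOfLE (hV x.1 x.2)) (fun x hx => Opens.mem_iSup.2 ⟨⟨x, hx⟩, hxV x hx⟩) _ 0 fun x => ?_
    rw [map_zero]
    show (Y.presheaf.map (homOfLE inf_le_left).op ≫ Y.presheaf.map (homOfLE (hV x.1 x.2)).op) a = 0
    rw [← Functor.map_comp]
    exact hVa x.1 x.2
  · let t := g i
    have ht : t ∈ T := (T.equivFin.symm i).2
    let t' := f.appLE W O e t
    haveI := hO.isLocalization_basicOpen t'
    have hle : X.basicOpen t' ≤ f ⁻¹ᵁ U := by
      refine le_trans (le_of_eq ?_) (inf_le_right.trans (f.preimage_mono (hTU t ht)) :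
        O ⊓ f ⁻¹ᵁ Y.basicOpen t ≤ _)
      rw [Scheme.preimage_basicOpen, ← Scheme.basicOpen_res]
      rfl
    have h := finitePresentation_appLE_of_le f (f ⁻¹ᵁ U) hW (hO.basicOpen t') hle
      ((X.basicOpen_le t').trans e)
    letI : Algebra Γ(Y, W) Γ(X, X.basicOpen t') := (f.appLE W _ ((X.basicOpen_le t').trans e)).hom.toAlgebra
    haveI : Algebra.FinitePresentation Γ(Y, W) Γ(X, X.basicOpen t') := h
    haveI : IsScalarTower Γ(Y, W) Γ(X, O) Γ(X, X.basicOpen t') := IsScalarTower.of_algebraMap_eq fun z => by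
      show f.appLE W _ _ z = (f.appLE W O e ≫ X.presheaf.map (homOfLE (X.basicOpen_le t')).op) z
      rw [Scheme.Hom.appLE_map]
    exact Algebra.FinitePresentation.equiv (R := Γ(Y, W))
      ((IsLocalization.algEquiv (Submonoid.powers t') Γ(X, X.basicOpen t') (Localization.Away t')).restrictScalars
        Γ(Y, W))

end Groth.Agent.AlgSpDec.LfpDense
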