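import Groth.Agent.AlgSpDec.IsoOverDense
import Groth.Agent.AlgSpDec.SchDenseSp
import Groth.Agent.AlgSpLib.FpqcDescent
import Groth.Agent.AlgSpLib.Descent2
import Groth.Agent.AlgSpPts.Sep
import Groth.Agent.S9973

/-!
# Flat morphisms of algebraic spaces which are good over a dense open subspace
-/

set_option linter.style.haveILetI false
set_option autoImplicit false
set_option backward.isDefEq.respectTransparency false
set_option backward.isDefEq.respectTransparency.types false

universe u

open CategoryTheory CategoryTheory.Limits AlgebraicGeometry AlgSp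
open Groth.Agent.AlgSpLib Groth.Agent.AlgSpPts

namespace Groth.Agent.AlgSpDec.LfpDense

variable {S : Scheme.{u}} {X Y V P : Sp S} {f : X ⟶ Y} {j : V ⟶ Y} {fst : P ⟶ X} {snd : P ⟶ V}

/-- Local finite presentation of a flat morphism is detected over a dense open subspace. -/
theorem lfp_space (hX : IsAlgSpace X) (hY : IsAlgSpace Y) (hlft : LocP @LocallyOfFiniteType f)
    (hfl : LocP @Flat f) (hjq : IsQuasiCompactMor j) (hjd : IsSchDense j) (hP : IsPullback fst snd f j)
    (hV : LocP @LocallyOfFinitePresentation snd) : LocP @LocallyOfFinitePresentation f := by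
  obtain ⟨U, W, a, b, h, ha, ha', hb, -, w⟩ := exists_chart hX hY f
  haveI : Flat h.left := hfl a b h ha hb w
  haveI : LocallyOfFiniteType h.left := hlft a b h ha hb w
  let T := SchDenseSp.pre hY hjd.1 b
  haveI := SchDenseSp.quasiCompact_pre_ι hY hjd.1 hjq b
  have hd : CInt.IsSchematicallyDense T := SchDenseSp.dense_pre hY hjd hb
  let WT : Over S := Over.mk (T.ι ≫ W.hom)
  let iT : WT ⟶ W := CategoryTheory.Over.homMk T.ι rfl
  obtain ⟨fstT, sqT⟩ := SchDenseSp.exists_isPullback hY hjd.1 b
  let R : Over S := Over.mk ((h.left ⁻¹ᵁ T).ι ≫ U.hom)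
  let inc : R ⟶ U := CategoryTheory.Over.homMk (h.left ⁻¹ᵁ T).ι rfl
  let hT : R ⟶ WT := CategoryTheory.Over.homMk (h.left ∣_ T) (by
    show (h.left ∣_ T) ≫ T.ι ≫ W.hom = (h.left ⁻¹ᵁ T).ι ≫ U.hom
    rw [morphismRestrict_ι_assoc, Over.w h])
  have e : inc ≫ h = hT ≫ iT := by
    ext1
    exact (morphismRestrict_ι h.left T).symm
  let a' : (yon S).obj R ⟶ P := hP.lift ((yon S).map inc ≫ a) ((yon S).map hT ≫ fstT) (by
    rw [Category.assoc, w, ← Functor.map_comp_assoc, e, Functor.map_comp_assoc, Category.assoc, sqT.w])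
  have hfst : RepWith @Etale fst :=
    repWith_mono (fun _ _ k (_ : IsOpenImmersion k) => inferInstanceAs (Etale k)) _
      (repWith_of_isPullback hP.flip hjd.1)
  have ha₁ : RepWith @Etale a' := repWith_etale_of_comp a' fst (by
    rw [hP.lift_fst]
    exact repWith_comp ((repWith_yon_map_iff @Etale inc).2 (inferInstanceAs (Etale (h.left ⁻¹ᵁ T).ι))) ha) hfst
  have hb₁ : RepWith @Etale fstT := repWith_of_isPullback sqT.flip hb
  have : LocallyOfFinitePresentation (h.left ∣_ T) := hV a' fstT hT ha₁ hb₁ (hP.lift_snd _ _ _)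
  exact locP_of_chart ha ha' hb w (lfp_of_flat_schDense h.left T hd)

/-- A flat morphism of algebraic spaces, locally of finite presentation, which is a monomorphism is etale. -/
theorem etale_of_flat_lfp_mono (hX : IsAlgSpace X) (hY : IsAlgSpace Y) (hfl : LocP @Flat f)
    (hfp : LocP @LocallyOfFinitePresentation f) [Mono f] : LocP @Etale f := by
  obtain ⟨W, b, hb, hbs⟩ := hY.atlas
  obtain ⟨U, e, h, he, hes, hh⟩ := exists_chart_over hX hY f b
  have ha : RepWith @Etale (e ≫ pullback.fst f b) := repWith_comp he (repWith_fst f hb)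
  have has : RepWith @Surjective (e ≫ pullback.fst f b) := repWith_comp hes (repWith_fst f hbs)
  have w : (e ≫ pullback.fst f b) ≫ f = (yon S).map h ≫ b := by
    rw [Category.assoc, pullback.condition, ← Category.assoc, hh]
  haveI : Flat h.left := hfl _ b h ha hb w
  haveI : LocallyOfFinitePresentation h.left := hfp _ b h ha hb w
  haveI : Mono (pullback.snd f b) := inferInstance
  have hk : IsKernelPair e ((yon S).map (he.rep.fst' e)) ((yon S).map (he.rep.snd e)) := he.rep.isPullback' e
  have hk2 : IsPullback ((yon S).map (he.rep.fst' e)) ((yon S).map (he.rep.snd e)) ((yon S).map h)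
      ((yon S).map h) := by
    rw [← hh]
    exact IsKernelPair.comp_of_mono hk
  have hk3 : IsPullback (he.rep.fst' e).left (he.rep.snd e).left h.left h.left :=
    ((IsPullback.of_map (yon S) ((yon S).map_injective (by
      rw [Functor.map_comp, Functor.map_comp]; exact hk2.w)) hk2)).map (CategoryTheory.Over.forget S)
  haveI : Etale (pullback.fst h.left h.left) := by
    haveI : Etale (he.rep.fst' e).left := he.property _ _ _ (he.rep.isPullback' e).flip
    rw [← hk3.isoPullback_inv_fst]
    infer_instance
  haveI : Etale (pullback.diagonal h.left ≫ pullback.fst h.left h.left) := by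
    rw [pullback.diagonal_fst]; infer_instance
  haveI := Etale.of_comp (pullback.diagonal h.left) (pullback.fst h.left h.left)
  haveI : IsOpenImmersion (pullback.diagonal h.left) := IsOpenImmersion.of_flat_of_mono _
  have : Etale h.left := Etale.iff_flat_and_formallyUnramified.2 ⟨‹_›, inferInstance, ‹_›⟩
  exact locP_of_chart ha has hb w this

/-- A separated flat morphism is a monomorphism if it is one over a dense open subspace. -/
theorem mono_space (hX : IsAlgSpace X) (hY : IsAlgSpace Y) (hV₀ : IsAlgSpace V) (hs : IsSeparatedMor f)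
    (hfl : LocP @Flat f) (hjq : IsQuasiCompactMor j) (hjd : IsSchDense j) (hP : IsPullback fst snd f j)
    [Mono snd] : Mono f := by
  let g := pullback.fst f f ≫ f
  have hQ : IsAlgSpace (pullback f f) := isAlgSpace_pullback hX hX hY f f
  have hgfl : LocP @Flat g := locP_comp hQ hX hY
    (locP_of_isPullback (IsPullback.of_hasPullback f f).flip hX hY hX hfl) hfl
  let jQ := pullback.snd j g
  have hjQ : IsSchDense jQ := S9973.result (X := ⟨pullback f f, hQ⟩) (Y := ⟨Y, hY⟩) (V := ⟨V, hV₀⟩)
    (V' := ⟨pullback j g, isAlgSpace_pullback hV₀ hQ hY j g⟩) (ObjectProperty.homMk g) hgfl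
    (ObjectProperty.homMk j) hjd hjq (ObjectProperty.homMk (pullback.fst j g)) (ObjectProperty.homMk jQ)
    (IsPullback.of_hasPullback j g)
  have hjQq : IsQuasiCompactMor jQ := isQuasiCompactMor_of_isPullback (IsPullback.of_hasPullback j g) hjq
  obtain ⟨T, b, hb, hbs⟩ := hQ.atlas
  let sq := hs.rep.isPullback b
  let δ := hs.rep.snd b
  haveI : IsClosedImmersion δ.left := hs.property_snd b
  let W := SchDenseSp.pre hQ hjQ.1 b
  haveI := SchDenseSp.quasiCompact_pre_ι hQ hjQ.1 hjQq b
  have hd : CInt.IsSchematicallyDense W := SchDenseSp.dense_pre hQ hjQ hb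
  let iT : Over.mk (W.ι ≫ T.hom) ⟶ T := CategoryTheory.Over.homMk W.ι rfl
  obtain ⟨fstW, sqW⟩ := SchDenseSp.exists_isPullback hQ hjQ.1 b
  let m := (yon S).map iT ≫ b
  let v := fstW ≫ pullback.fst j g
  have hv : v ≫ j = m ≫ g := by
    simp only [v, Category.assoc, pullback.condition]
    exact sqW.w_assoc g
  let l₁ := hP.lift (m ≫ pullback.fst f f) v (by rw [hv, Category.assoc])
  let l₂ := hP.lift (m ≫ pullback.snd f f) v (by rw [hv, Category.assoc, ← pullback.condition])
  have hl : l₁ = l₂ := by
    rw [← cancel_mono snd, hP.lift_snd, hP.lift_snd]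
  have he : m ≫ pullback.fst f f = m ≫ pullback.snd f f := by
    simpa only [l₁, l₂, IsPullback.lift_fst] using congrArg (· ≫ fst) hl
  let k' := sq.lift (m ≫ pullback.fst f f) ((yon S).map iT) (by
    apply pullback.hom_ext
    · simp only [Category.assoc, pullback.diagonal_fst, Category.comp_id]
      rfl
    · simp only [Category.assoc, pullback.diagonal_snd, Category.comp_id]
      exact he)
  obtain ⟨k, hk⟩ := (yon S).map_surjective k'
  have hkδ : k ≫ δ = iT := (yon S).map_injective (by rw [Functor.map_comp, hk]; exact sq.lift_snd _ _ _)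
  have hker : δ.left.ker = ⊥ := le_bot_iff.1 (by
    have h1 := Scheme.Hom.le_ker_comp k.left δ.left
    rwa [← Over.comp_left, hkδ, show iT.left.ker = ⊥ from (SchDenseFacts.iff_ker_eq_bot W).1 hd] at h1)
  haveI : IsIso δ.left := isIso_of_closedImmersion_of_ker_eq_bot _ hker
  haveI : IsIso δ := @isIso_of_reflects_iso _ _ _ _ _ _ δ (CategoryTheory.Over.forget S) ‹IsIso δ.left› _
  have hsurj : IsSurjectiveMor b := fun y => by
    obtain ⟨v, hv⟩ := surjective_ofPt hbs y
    exact ⟨_, (Points.ofPt_eq_map_ofScheme b v).symm.trans hv⟩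
  have : IsIso (pullback.diagonal f) := isIso_of_fpqc (f := pullback.diagonal f)
    (p := fun _ : PUnit.{u + 1} => (yon S).map δ) (q := fun _ => hs.rep.fst b) hX hQ
    (fun _ => IsAlgSpace.yon_obj T) (fun _ => IsAlgSpace.yon_obj _)
    (isFpqcCover_of_isEtaleMor (IsAlgSpace.yon_obj T) hQ (AlgSp.isEtaleMor_of_repWith b hb) hsurj)
    (fun _ => sq) fun _ => inferInstance
  exact (pullback.isIso_diagonal_iff f).1 this

/-- A separated flat morphism, locally of finite type, which is an isomorphism over a dense open subspace is an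
open immersion. -/
theorem isOpenImmersion_space (hX : IsAlgSpace X) (hY : IsAlgSpace Y) (hV₀ : IsAlgSpace V) (hs : IsSeparatedMor f)
    (hlft : LocP @LocallyOfFiniteType f) (hfl : LocP @Flat f) (hjq : IsQuasiCompactMor j) (hjd : IsSchDense j)
    (hP : IsPullback fst snd f j) [IsIso snd] : RepWith @IsOpenImmersion f := by
  haveI := mono_space hX hY hV₀ hs hfl hjq hjd hP
  have hV : LocP @LocallyOfFinitePresentation snd :=
    locP_of_repWith (repWith_mono (Q := @LocallyOfFinitePresentation)
      (fun _ _ k (_ : IsOpenImmersion k) => inferInstanceAs (LocallyOfFinitePresentation k)) _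
      (repWith_of_isIso @IsOpenImmersion snd))
  exact repWith_isOpenImmersion_of_mono_of_etale hX hY f
    (etale_of_flat_lfp_mono hX hY hfl (lfp_space hX hY hlft hfl hjq hjd hP hV))

end Groth.Agent.AlgSpDec.LfpDense
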