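import Groth.Agent.AlgSpPts.OpenSub
import Groth.Agent.AlgSpDec.Glue
import Groth.Agent.AlgSpDec.AffineProps
import Groth.Agent.AlgSpDec.SchImage
import Groth.Agent.AlgSpDec.GroupScheme
import Groth.Agent.ChevSp.Geo
import Groth.Agent.NormSp.Clopen

/-!
# A space covered by two closed subschemes is a scheme
-/

set_option linter.style.haveILetI false
set_option autoImplicit false
set_option backward.isDefEq.respectTransparency false
set_option backward.isDefEq.respectTransparency.types false
set_option maxHeartbeats 1000000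

universe u

open CategoryTheory CategoryTheory.Limits AlgebraicGeometry AlgSp
open Groth.Agent Groth.Agent.AlgSpLib

namespace Groth.Agent.AlgSpDec.TwoClosed

variable {S : Scheme.{u}} {X : Sp S}

theorem isClosed_image {T : Over S} {e : (yon S).obj T ⟶ X} (he : RepWith @IsClosedImmersion e)
    {C : Set ↥T.left} (hC : IsClosed C) : IsClosed (Points.ofPt e '' C) := by
  have hu : RepWith @UniversallyClosed e :=
    repWith_mono (fun _ _ g (_ : IsClosedImmersion g) => (inferInstance : UniversallyClosed g)) _ he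
  have h := AlgSpPts.isClosedMap_map hu ((Points.schemeHomeo T) '' C) ((Points.schemeHomeo T).isClosedMap C hC)
  rw [← Set.image_comp] at h
  convert h using 2
  exact Points.ofPt_eq_map_ofScheme e _

theorem ofPt_injective {T : Over S} {e : (yon S).obj T ⟶ X} (he : RepWith @IsClosedImmersion e) :
    Function.Injective (Points.ofPt e) := fun x y h => by
  haveI := mono_of_closedImmersion he
  rw [Points.ofPt_eq_map_ofScheme, Points.ofPt_eq_map_ofScheme] at h
  exact (Points.schemeEquiv T).injective (injective_points_map_of_mono e h)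

/-- A morphism from a scheme whose points lie in an open subspace factors through it. -/
theorem exists_factor_open {W : Sp S} {j : W ⟶ X} (hj : RepWith @IsOpenImmersion j) {T : Over S}
    (g : (yon S).obj T ⟶ X) (hg : ∀ t, Points.ofPt g t ∈ Set.range (Points.map j)) :
    ∃ g' : (yon S).obj T ⟶ W, g' ≫ j = g := by
  haveI : IsOpenImmersion (hj.rep.snd g).left := hj.property_snd g
  haveI : Surjective (hj.rep.snd g).left :=
    ⟨fun t => (NormSp.ofPt_mem_range_iff (hj.rep.isPullback g) t).1 (hg t)⟩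
  haveI : IsIso ((Over.forget S).map (hj.rep.snd g)) :=
    (isIso_iff_isOpenImmersion_and_surjective _).2 ⟨‹_›, ‹_›⟩
  haveI : IsIso (hj.rep.snd g) := isIso_of_reflects_iso _ (Over.forget S)
  exact ⟨(yon S).map (inv (hj.rep.snd g)) ≫ hj.rep.fst g, by
    rw [Category.assoc, hj.rep.w g, ← Category.assoc, ← Functor.map_comp, IsIso.inv_hom_id,
      CategoryTheory.Functor.map_id, Category.id_comp]⟩

variable {A B : Over S} {eA : (yon S).obj A ⟶ X} {eB : (yon S).obj B ⟶ X}

/-- Affine opens of the two pieces with the same trace make an affine open subspace. -/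
theorem exists_affine_open (hX : IsAlgSpace X) (hA : RepWith @IsClosedImmersion eA) (hB : RepWith @IsClosedImmersion eB)
    (hcov : ∀ x, x ∈ Set.range (Points.ofPt eA) ∨ x ∈ Set.range (Points.ofPt eB)) {DA : A.left.Opens}
    (hDA : IsAffineOpen DA) {DB : B.left.Opens} (hDB : IsAffineOpen DB)
    (htr : ∀ a b, Points.ofPt eA a = Points.ofPt eB b → (a ∈ DA ↔ b ∈ DB)) :
    ∃ (Z : Over S) (j : (yon S).obj Z ⟶ X), RepWith @IsOpenImmersion j ∧
      (∀ a ∈ DA, Points.ofPt eA a ∈ Set.range (Points.map j)) ∧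
        ∀ b ∈ DB, Points.ofPt eB b ∈ Set.range (Points.map j) := by
  let N : Set (Points X) := Points.ofPt eA '' (DA : Set ↥A.left)ᶜ ∪ Points.ofPt eB '' (DB : Set ↥B.left)ᶜ
  have hN : IsClosed N := (isClosed_image hA DA.isOpen.isClosed_compl).union (isClosed_image hB DB.isOpen.isClosed_compl)
  obtain ⟨W, j, hW, hj, hrange⟩ := AlgSpPts.exists_open_subspace hX hN.isOpen_compl
  have hmemA : ∀ a, Points.ofPt eA a ∈ Set.range (Points.map j) ↔ a ∈ DA := by
    intro a
    rw [hrange]
    constructor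
    · intro h
      by_contra ha
      exact h (Or.inl ⟨a, ha, rfl⟩)
    · rintro ha (⟨a', ha', e⟩ | ⟨b, hb, e⟩)
      · exact ha' (ofPt_injective hA e ▸ ha)
      · exact hb ((htr a b e.symm).1 ha)
  have hmemB : ∀ b, Points.ofPt eB b ∈ Set.range (Points.map j) ↔ b ∈ DB := by
    intro b
    rw [hrange]
    constructor
    · intro h
      by_contra hb
      exact h (Or.inr ⟨b, hb, rfl⟩)
    · rintro hb (⟨a, ha, e⟩ | ⟨b', hb', e⟩)
      · exact ha ((htr a b e).2 hb)
      · exact hb' (ofPt_injective hB e ▸ hb)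
  let TT : ULift.{u} Bool → Over S := fun k => if k.down then Over.mk (DA.ι ≫ A.hom) else Over.mk (DB.ι ≫ B.hom)
  let g : ∀ k, (yon S).obj (TT k) ⟶ X := fun k =>
    match k with
    | ⟨true⟩ => (yon S).map (Over.homMk DA.ι rfl : Over.mk (DA.ι ≫ A.hom) ⟶ A) ≫ eA
    | ⟨false⟩ => (yon S).map (Over.homMk DB.ι rfl : Over.mk (DB.ι ≫ B.hom) ⟶ B) ≫ eB
  have hg : ∀ k t, Points.ofPt (g k) t ∈ Set.range (Points.map j) := by
    rintro ⟨_ | _⟩ t
    · show Points.ofPt ((yon S).map (Over.homMk DB.ι rfl : Over.mk (DB.ι ≫ B.hom) ⟶ B) ≫ eB) t ∈ _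
      rw [ofPt_comp]
      exact (hmemB _).2 t.2
    · show Points.ofPt ((yon S).map (Over.homMk DA.ι rfl : Over.mk (DA.ι ≫ A.hom) ⟶ A) ≫ eA) t ∈ _
      rw [ofPt_comp]
      exact (hmemA _).2 t.2
  choose g' hg' using fun k => exists_factor_open hj (g k) (hg k)
  obtain ⟨m, hm⟩ := exists_hom_sigma TT g'
  haveI : ∀ k, IsAffine (TT k).left := by
    rintro ⟨_ | _⟩
    exacts [hDB, hDA]
  haveI : IsAffine (sigmaOver TT).left := inferInstanceAs (IsAffine (∐ fun k => (TT k).left))
  haveI := mono_of_openImmersion hj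
  have hsurj : Function.Surjective (Points.map m) := by
    intro y
    have hy : Points.map j y ∈ Set.range (Points.map j) := ⟨y, rfl⟩
    obtain ⟨k, t, ht⟩ : ∃ k t, Points.ofPt (g k) t = Points.map j y := by
      rcases hcov (Points.map j y) with ⟨a, ha⟩ | ⟨b, hb⟩
      · exact ⟨⟨true⟩, ⟨a, (hmemA a).1 (ha ▸ hy)⟩, (ofPt_comp _ eA _).trans ha⟩
      · exact ⟨⟨false⟩, ⟨b, (hmemB b).1 (hb ▸ hy)⟩, (ofPt_comp _ eB _).trans hb⟩
    refine ⟨Points.map ((yon S).map (sigmaι TT k)) (Points.ofScheme _ t), injective_points_map_of_mono j ?_⟩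
    rw [← Points.map_comp, ← Points.map_comp, ← Points.ofPt_eq_map_ofScheme, ← ht]
    congr 1
    rw [← Category.assoc, hm k, hg' k]
  have hc : IsUnivClosedMor m := by
    refine isUnivClosedMor_of_repWith_universallyClosed ⟨hW.representable_from_yon m, fun U V h fst snd sq => ?_⟩
    -- the two pieces cover the pullback and are closed in the base
    let RA := hA.rep.pullback (h ≫ j)
    let RB := hB.rep.pullback (h ≫ j)
    haveI : IsClosedImmersion (hA.rep.snd (h ≫ j)).left := hA.property_snd _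
    haveI : IsClosedImmersion (hB.rep.snd (h ≫ j)).left := hB.property_snd _
    let qA : RA ⟶ A := hA.rep.fst' (h ≫ j)
    let qB : RB ⟶ B := hB.rep.fst' (h ≫ j)
    have hA' : ∀ r, qA.left r ∈ DA := fun r => by
      rw [← hmemA, ← ofPt_comp, Functor.relativelyRepresentable.map_fst', hA.rep.w, ← Category.assoc,
        ← Points.map_ofPt]
      exact ⟨_, rfl⟩
    have hB' : ∀ r, qB.left r ∈ DB := fun r => by
      rw [← hmemB, ← ofPt_comp, Functor.relativelyRepresentable.map_fst', hB.rep.w, ← Category.assoc,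
        ← Points.map_ofPt]
      exact ⟨_, rfl⟩
    let lA : RA ⟶ TT ⟨true⟩ := Over.homMk (IsOpenImmersion.lift DA.ι qA.left (by
        rintro _ ⟨r, rfl⟩
        exact (Scheme.Opens.range_ι _).ge (hA' r))) (by
      show _ ≫ DA.ι ≫ A.hom = RA.hom
      rw [← Category.assoc, IsOpenImmersion.lift_fac, Over.w qA])
    let lB : RB ⟶ TT ⟨false⟩ := Over.homMk (IsOpenImmersion.lift DB.ι qB.left (by
        rintro _ ⟨r, rfl⟩
        exact (Scheme.Opens.range_ι _).ge (hB' r))) (by
      show _ ≫ DB.ι ≫ B.hom = RB.hom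
      rw [← Category.assoc, IsOpenImmersion.lift_fac, Over.w qB])
    have eA' : ((yon S).map lA ≫ (yon S).map (sigmaι TT ⟨true⟩) ≫ m) = (yon S).map (hA.rep.snd (h ≫ j)) ≫ h := by
      rw [← cancel_mono j, hm, Category.assoc, hg', Category.assoc, ← hA.rep.w,
        ← Functor.relativelyRepresentable.map_fst']
      show (yon S).map lA ≫ (yon S).map (Over.homMk DA.ι rfl : Over.mk (DA.ι ≫ A.hom) ⟶ A) ≫ eA = _
      rw [← Category.assoc, ← Functor.map_comp]
      congr 2
      exact Over.OverMorphism.ext (IsOpenImmersion.lift_fac _ _ _)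
    have eB' : ((yon S).map lB ≫ (yon S).map (sigmaι TT ⟨false⟩) ≫ m) = (yon S).map (hB.rep.snd (h ≫ j)) ≫ h := by
      rw [← cancel_mono j, hm, Category.assoc, hg', Category.assoc, ← hB.rep.w,
        ← Functor.relativelyRepresentable.map_fst']
      show (yon S).map lB ≫ (yon S).map (Over.homMk DB.ι rfl : Over.mk (DB.ι ≫ B.hom) ⟶ B) ≫ eB = _
      rw [← Category.assoc, ← Functor.map_comp]
      congr 2
      exact Over.OverMorphism.ext (IsOpenImmersion.lift_fac _ _ _)
    obtain ⟨fst, rfl⟩ := (yon S).map_surjective fst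
    let cA : RA ⟶ V := (yon S).preimage (sq.lift ((yon S).map (lA ≫ sigmaι TT ⟨true⟩)) ((yon S).map (hA.rep.snd (h ≫ j)))
      (by rw [Functor.map_comp, Category.assoc]; exact eA'))
    let cB : RB ⟶ V := (yon S).preimage (sq.lift ((yon S).map (lB ≫ sigmaι TT ⟨false⟩)) ((yon S).map (hB.rep.snd (h ≫ j)))
      (by rw [Functor.map_comp, Category.assoc]; exact eB'))
    have hcA : cA ≫ snd = hA.rep.snd (h ≫ j) := (yon S).map_injective (by
      rw [Functor.map_comp, Functor.map_preimage, IsPullback.lift_snd])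
    have hcB : cB ≫ snd = hB.rep.snd (h ≫ j) := (yon S).map_injective (by
      rw [Functor.map_comp, Functor.map_preimage, IsPullback.lift_snd])
    let c : RA.left ⨿ RB.left ⟶ V.left := coprod.desc cA.left cB.left
    haveI : UniversallyClosed (c ≫ snd.left) := by
      rw [coprod.desc_comp, ← Over.comp_left, ← Over.comp_left, hcA, hcB]
      infer_instance
    haveI : Surjective c := ⟨fun v => by
      obtain ⟨k, t, ht⟩ := exists_sigmaι TT (fst.left v)
      let Vk : Over S := pullback (sigmaι TT k) fst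
      let p₁ : Vk ⟶ TT k := pullback.fst _ _
      let p₂ : Vk ⟶ V := pullback.snd _ _
      have hp : p₁ ≫ sigmaι TT k = p₂ ≫ fst := pullback.condition
      obtain ⟨z, -, rfl⟩ := Scheme.exists_preimage_of_isPullback
        ((IsPullback.of_hasPullback (sigmaι TT k) fst).map (Over.forget S)) t v ht
      clear ht
      obtain ⟨_ | _⟩ := k
      · let iD : TT ⟨false⟩ ⟶ B := Over.homMk DB.ι rfl
        let r : Vk ⟶ RB := hB.rep.lift' (p₁ ≫ iD) (p₂ ≫ snd) (by
          have e₁ : (yon S).map (sigmaι TT ⟨false⟩) ≫ m ≫ j = (yon S).map iD ≫ eB := by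
            rw [← Category.assoc, hm, hg']
          rw [Functor.map_comp, Functor.map_comp, Category.assoc, Category.assoc, ← e₁, ← Category.assoc,
            ← Functor.map_comp, hp, Functor.map_comp]
          simp only [Category.assoc]
          rw [reassoc_of% sq.w])
        have hr : r ≫ lB = p₁ := by
          haveI : Mono iD.left := inferInstanceAs (Mono DB.ι)
          apply Over.OverMorphism.ext
          rw [← cancel_mono iD.left, ← Over.comp_left, ← Over.comp_left, Category.assoc,
            show lB ≫ iD = qB from Over.OverMorphism.ext (IsOpenImmersion.lift_fac _ _ _)]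
          exact congrArg (fun f => Over.Hom.left f) (Functor.relativelyRepresentable.lift'_fst _ _ _ _)
        have hrc : r ≫ cB = p₂ := by
          refine (yon S).map_injective (sq.hom_ext ?_ ?_)
          · rw [Functor.map_comp, Category.assoc, Functor.map_preimage, IsPullback.lift_fst, ← Functor.map_comp,
              ← Functor.map_comp, ← Category.assoc, hr, hp]
          · rw [← Functor.map_comp, ← Functor.map_comp, Category.assoc, hcB,
              Functor.relativelyRepresentable.lift'_snd]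
        refine ⟨(coprod.inr : RB.left ⟶ RA.left ⨿ RB.left) (r.left z), ?_⟩
        show (r.left ≫ coprod.inr ≫ c) z = _
        rw [coprod.inr_desc, ← Over.comp_left, hrc]
        rfl
      · let iD : TT ⟨true⟩ ⟶ A := Over.homMk DA.ι rfl
        let r : Vk ⟶ RA := hA.rep.lift' (p₁ ≫ iD) (p₂ ≫ snd) (by
          have e₁ : (yon S).map (sigmaι TT ⟨true⟩) ≫ m ≫ j = (yon S).map iD ≫ eA := by
            rw [← Category.assoc, hm, hg']
          rw [Functor.map_comp, Functor.map_comp, Category.assoc, Category.assoc, ← e₁, ← Category.assoc,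
            ← Functor.map_comp, hp, Functor.map_comp]
          simp only [Category.assoc]
          rw [reassoc_of% sq.w])
        have hr : r ≫ lA = p₁ := by
          haveI : Mono iD.left := inferInstanceAs (Mono DA.ι)
          apply Over.OverMorphism.ext
          rw [← cancel_mono iD.left, ← Over.comp_left, ← Over.comp_left, Category.assoc,
            show lA ≫ iD = qA from Over.OverMorphism.ext (IsOpenImmersion.lift_fac _ _ _)]
          exact congrArg (fun f => Over.Hom.left f) (Functor.relativelyRepresentable.lift'_fst _ _ _ _)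
        have hrc : r ≫ cA = p₂ := by
          refine (yon S).map_injective (sq.hom_ext ?_ ?_)
          · rw [Functor.map_comp, Category.assoc, Functor.map_preimage, IsPullback.lift_fst, ← Functor.map_comp,
              ← Functor.map_comp, ← Category.assoc, hr, hp]
          · rw [← Functor.map_comp, ← Functor.map_comp, Category.assoc, hcA,
              Functor.relativelyRepresentable.lift'_snd]
        refine ⟨(coprod.inl : RA.left ⟶ RA.left ⨿ RB.left) (r.left z), ?_⟩
        show (r.left ≫ coprod.inl ≫ c) z = _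
        rw [coprod.inl_desc, ← Over.comp_left, hrc]
        rfl
    ⟩
    exact UniversallyClosed.of_comp_surjective c snd.left
  obtain ⟨Q, hQ, ⟨eQ⟩⟩ := ChevSp.exists_affine_of_univClosed hW m hc hsurj
  refine ⟨Q, eQ.hom ≫ j, repWith_comp (repWith_of_isIso _ eQ.hom) hj, fun a ha => ?_, fun b hb => ?_⟩
  · obtain ⟨w, hw⟩ := (hmemA a).2 ha
    exact ⟨Points.map eQ.inv w, by rw [← Points.map_comp, Iso.inv_hom_id_assoc, hw]⟩
  · obtain ⟨w, hw⟩ := (hmemB b).2 hb
    exact ⟨Points.map eQ.inv w, by rw [← Points.map_comp, Iso.inv_hom_id_assoc, hw]⟩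

/-- A space covered by two closed subschemes is a scheme. -/
theorem isRepresentable_of_two_closed (hX : IsAlgSpace X) (hA : RepWith @IsClosedImmersion eA)
    (hB : RepWith @IsClosedImmersion eB)
    (hcov : ∀ x, x ∈ Set.range (Points.ofPt eA) ∨ x ∈ Set.range (Points.ofPt eB)) : X.obj.IsRepresentable := by
  -- the overlap
  let P := hA.rep.pullback eB
  let pA : P ⟶ A := hA.rep.fst' eB
  let pB : P ⟶ B := hA.rep.snd eB
  haveI : IsClosedImmersion pB.left := hA.property_snd eB
  haveI : IsClosedImmersion pA.left := hB.property eA _ pA (hA.rep.isPullback' eB).flip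
  have hw : ∀ p, Points.ofPt eA (pA.left p) = Points.ofPt eB (pB.left p) := fun p => by
    rw [← ofPt_comp, Functor.relativelyRepresentable.map_fst', hA.rep.w, ofPt_comp]
  have hmeet : ∀ a b, Points.ofPt eA a = Points.ofPt eB b → ∃ p, pA.left p = a ∧ pB.left p = b := by
    intro a b h
    rw [Points.ofPt_eq_map_ofScheme eA] at h
    obtain ⟨p, hp₁, hp₂⟩ := AlgSpPts.exists_lift (hA.rep.isPullback eB) h
    refine ⟨p, ?_, hp₂⟩
    rw [← Functor.relativelyRepresentable.map_fst'] at hp₁
    have := congrArg (Points.toScheme A) hp₁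
    rwa [Points.toScheme_ofScheme, Points.toScheme_ofPt] at this
  -- points outside one of the pieces
  have houtA : ∀ a, Points.ofPt eA a ∉ Set.range (Points.ofPt eB) → ∃ (Z : Over S) (j : (yon S).obj Z ⟶ X),
      RepWith @IsOpenImmersion j ∧ Points.ofPt eA a ∈ Set.range (Points.map j) := by
    intro a ha
    obtain ⟨D, hD, haD, hle⟩ := exists_isAffineOpen_mem_and_subset (x := a)
      (U := ⟨(Set.range pA.left)ᶜ, pA.left.isClosedEmbedding.isClosed_range.isOpen_compl⟩)
      (fun ⟨p, hp⟩ => ha ⟨pB.left p, by rw [← hw, hp]⟩)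
    obtain ⟨Z, j, hj, h, -⟩ := exists_affine_open hX hA hB hcov hD (isAffineOpen_bot B.left) fun a' b e => by
      refine ⟨fun h => False.elim ?_, fun h => False.elim h⟩
      obtain ⟨p, hp, -⟩ := hmeet a' b e
      exact hle h ⟨p, hp⟩
    exact ⟨Z, j, hj, h a haD⟩
  have houtB : ∀ b, Points.ofPt eB b ∉ Set.range (Points.ofPt eA) → ∃ (Z : Over S) (j : (yon S).obj Z ⟶ X),
      RepWith @IsOpenImmersion j ∧ Points.ofPt eB b ∈ Set.range (Points.map j) := by
    intro b hb
    obtain ⟨D, hD, hbD, hle⟩ := exists_isAffineOpen_mem_and_subset (x := b)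
      (U := ⟨(Set.range pB.left)ᶜ, pB.left.isClosedEmbedding.isClosed_range.isOpen_compl⟩)
      (fun ⟨p, hp⟩ => hb ⟨pA.left p, by rw [hw, hp]⟩)
    obtain ⟨Z, j, hj, -, h⟩ := exists_affine_open hX hA hB hcov (isAffineOpen_bot A.left) hD fun a b' e => by
      refine ⟨fun h => False.elim h, fun h => False.elim ?_⟩
      obtain ⟨p, -, hp⟩ := hmeet a b' e
      exact hle h ⟨p, hp⟩
    exact ⟨Z, j, hj, h b hbD⟩
  -- points on both
  have hboth : ∀ p, ∃ (Z : Over S) (j : (yon S).obj Z ⟶ X),
      RepWith @IsOpenImmersion j ∧ Points.ofPt eA (pA.left p) ∈ Set.range (Points.map j) := by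
    intro p
    obtain ⟨A₀, hA₀, haA₀, -⟩ := exists_isAffineOpen_mem_and_subset (U := (⊤ : A.left.Opens)) (x := pA.left p) trivial
    obtain ⟨B₀, hB₀, hbB₀, -⟩ := exists_isAffineOpen_mem_and_subset (U := (⊤ : B.left.Opens)) (x := pB.left p) trivial
    let O : P.left.Opens := pA.left ⁻¹ᵁ A₀ ⊓ pB.left ⁻¹ᵁ B₀
    have hpO : p ∈ O := ⟨haA₀, hbB₀⟩
    obtain ⟨f, hf, haf⟩ := hA₀.exists_basicOpen_le
      (V := ⟨(pA.left '' (O : Set ↥P.left)ᶜ)ᶜ, (pA.left.isClosedMap _ O.isOpen.isClosed_compl).isOpen_compl⟩)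
      ⟨pA.left p, fun ⟨q, hq, e⟩ => hq (pA.left.isClosedEmbedding.injective e ▸ hpO)⟩ haA₀
    let D₁ := A.left.basicOpen f
    let P₁ := pA.left ⁻¹ᵁ D₁
    have hP₁ : P₁ ≤ pB.left ⁻¹ᵁ B₀ := fun q hq => (not_not.1 fun h => hf hq ⟨q, h, rfl⟩ : q ∈ O).2
    obtain ⟨g, hg, hbg⟩ := hB₀.exists_basicOpen_le
      (V := ⟨(pB.left '' (P₁ : Set ↥P.left)ᶜ)ᶜ, (pB.left.isClosedMap _ P₁.isOpen.isClosed_compl).isOpen_compl⟩)
      ⟨pB.left p, fun ⟨q, hq, e⟩ => hq (pB.left.isClosedEmbedding.injective e ▸ (haf : p ∈ P₁))⟩ hbB₀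
    obtain ⟨g', hg'⟩ := pA.left.app_surjective D₁ (hA₀.basicOpen f)
      (P.left.presheaf.map (homOfLE hP₁).op (pB.left.app B₀ g))
    have hpre : pA.left ⁻¹ᵁ A.left.basicOpen g' = pB.left ⁻¹ᵁ B.left.basicOpen g := by
      rw [Scheme.preimage_basicOpen, hg', Scheme.basicOpen_res, ← Scheme.preimage_basicOpen]
      exact inf_eq_right.2 fun q hq => not_not.1 fun h => hg hq ⟨q, h, rfl⟩
    obtain ⟨Z, j, hj, h, -⟩ := exists_affine_open hX hA hB hcov ((hA₀.basicOpen f).basicOpen g') (hB₀.basicOpen g)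
      fun a b e => by
        obtain ⟨q, rfl, rfl⟩ := hmeet a b e
        exact (SetLike.ext_iff.1 hpre q)
    exact ⟨Z, j, hj, h _ ((SetLike.ext_iff.1 hpre p).2 hbg)⟩
  refine GroupScheme.isRepresentable_of_nhds hX fun x => ?_
  rcases hcov x with ⟨a, rfl⟩ | ⟨b, rfl⟩
  · by_cases h : Points.ofPt eA a ∈ Set.range (Points.ofPt eB)
    · obtain ⟨b, hb⟩ := h
      obtain ⟨p, rfl, -⟩ := hmeet a b hb.symm
      exact hboth p
    · exact houtA a h
  · by_cases h : Points.ofPt eB b ∈ Set.range (Points.ofPt eA)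
    · obtain ⟨a, ha⟩ := h
      obtain ⟨p, rfl, -⟩ := hmeet a b ha
      rw [← ha]
      exact hboth p
    · exact houtB b h

end Groth.Agent.AlgSpDec.TwoClosed
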