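import Groth.Agent.AlgSpDec.LimMono
import Groth.Agent.AlgSpDec.LimHomScheme
import Groth.Agent.AlgSpDec.AffineLocal
import Groth.Agent.AlgSpDec.ImmDescentSp
import Groth.Agent.AlgSpDec.TwoClosed
import Groth.Agent.AlgSpPts.OpenSub
import Groth.Agent.AlgSpDec.Glue
import Groth.Agent.S2076

/-!
# Maps into a limit that are eventually immersions
-/

set_option linter.style.haveILetI false
set_option autoImplicit false
set_option backward.isDefEq.respectTransparency false
set_option backward.isDefEq.respectTransparency.types false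

universe u v

open CategoryTheory CategoryTheory.Limits Opposite AlgebraicGeometry AlgSp Groth.Agent.AlgSpLib Groth.Agent.AlgSpPts

namespace Groth.Agent.AlgSpDec.LimImmersion

variable {S : Scheme.{u}}

theorem exists_immersion_stage {J : Type u} [SmallCategory J] [IsCofiltered J] (V : Scheme.{u}) (W : J ⥤ Over V)
    (hWA : ∀ j, IsAffine (W.obj j).left) (cW : Cone W) (hcW : IsLimit cW) {Q : Scheme.{u}} [CompactSpace Q]
    (h : Q ⟶ cW.pt.left) [IsImmersion h] [LocallyOfFiniteType (h ≫ cW.pt.hom)] :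
    ∃ j₀ : J, ∀ (j : J) (_ : j ⟶ j₀), IsImmersion (h ≫ (cW.π.app j).left) := by
  classical
  have := IsCofiltered.isConnected J
  let E := W ⋙ CategoryTheory.Over.forget V
  let e : Cone E := (CategoryTheory.Over.forget V).mapCone cW
  have he : IsLimit e := isLimitOfPreserves (CategoryTheory.Over.forget V) hcW
  have : ∀ j, IsAffine (E.obj j) := hWA
  have : ∀ {i j : J} (f : i ⟶ j), IsAffineHom (E.map f) := fun f => inferInstance
  -- a quasi-compact open of the coborder containing the image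
  have key : ∀ q : Q, ∃ O : cW.pt.left.Opens, IsAffineOpen O ∧ h q ∈ O ∧ O ≤ h.coborderRange := fun q => by
    obtain ⟨O, hO, hq, hle⟩ := exists_isAffineOpen_mem_and_subset (U := h.coborderRange) (x := h q)
      (subset_coborder (Set.mem_range_self q))
    exact ⟨O, hO, hq, hle⟩
  choose O hO hqO hOle using key
  obtain ⟨s, hs⟩ := (isCompact_range h.continuous).elim_finite_subcover (fun q => (O q : Set cW.pt.left))
    (fun q => (O q).2) (by
      rintro _ ⟨q, rfl⟩
      exact Set.mem_iUnion.2 ⟨q, hqO q⟩)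
  let Ω : cW.pt.left.Opens := ⨆ q : s, O q.1
  have hΩc : IsCompact (Ω : Set cW.pt.left) := by
    rw [TopologicalSpace.Opens.coe_iSup]
    exact isCompact_iUnion fun q => (hO q.1).isCompact
  have hΩr : Set.range h ⊆ Ω := fun x hx => by
    obtain ⟨q, hq, hxq⟩ := Set.mem_iUnion₂.1 (hs hx)
    exact TopologicalSpace.Opens.mem_iSup.2 ⟨⟨q, hq⟩, hxq⟩
  have hΩle : Ω ≤ h.coborderRange := iSup_le fun q => hOle q.1
  obtain ⟨i, U, hUc, hU⟩ := exists_preimage_eq E e he Ω hΩc
  -- the closed immersion into the open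
  have hr : Set.range h ⊆ Set.range (e.π.app i ⁻¹ᵁ U).ι := by
    rw [Scheme.Opens.range_ι, hU]
    exact hΩr
  let l : Q ⟶ (e.π.app i ⁻¹ᵁ U).toScheme := IsOpenImmersion.lift (e.π.app i ⁻¹ᵁ U).ι h hr
  have hl : IsClosedImmersion l := by
    let d : (e.π.app i ⁻¹ᵁ U).toScheme ⟶ h.coborderRange.toScheme :=
      cW.pt.left.homOfLE ((le_of_eq hU).trans hΩle)
    have e1 : l ≫ d = h.liftCoborder := by
      rw [← cancel_mono h.coborderRange.ι, Category.assoc, Scheme.homOfLE_ι, IsOpenImmersion.lift_fac,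
        Scheme.Hom.liftCoborder_ι]
    have : IsClosedImmersion (l ≫ d) := e1 ▸ inferInstance
    exact IsClosedImmersion.of_comp l d
  -- the system of opens over the base
  let Wo : CategoryTheory.Over i ⥤ CategoryTheory.Over V :=
    { obj := fun j => CategoryTheory.Over.mk ((E.map j.hom ⁻¹ᵁ U).ι ≫ (W.obj j.left).hom)
      map := fun {j k} f => CategoryTheory.Over.homMk ((opensDiagram E i U).map f) (by
        show (E.map f.left).resLE _ _ _ ≫ (E.map k.hom ⁻¹ᵁ U).ι ≫ (W.obj k.left).hom = _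
        rw [Scheme.Hom.resLE_comp_ι_assoc]
        exact congrArg ((E.map j.hom ⁻¹ᵁ U).ι ≫ ·) (CategoryTheory.Over.w (W.map f.left)))
      map_id := fun j => Over.OverMorphism.ext ((opensDiagram E i U).map_id j)
      map_comp := fun f g => Over.OverMorphism.ext ((opensDiagram E i U).map_comp f g) }
  let co : Cone Wo :=
    { pt := CategoryTheory.Over.mk ((e.π.app i ⁻¹ᵁ U).ι ≫ cW.pt.hom)
      π :=
        { app := fun j => CategoryTheory.Over.homMk ((opensCone E e i U).π.app j) (by
            show (e.π.app j.left).resLE _ _ _ ≫ (E.map j.hom ⁻¹ᵁ U).ι ≫ (W.obj j.left).hom = _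
            rw [Scheme.Hom.resLE_comp_ι_assoc]
            exact congrArg ((e.π.app i ⁻¹ᵁ U).ι ≫ ·) (CategoryTheory.Over.w (cW.π.app j.left)))
          naturality := fun j k f => Over.OverMorphism.ext ((opensCone E e i U).π.naturality f) } }
  have := IsCofiltered.isConnected (CategoryTheory.Over i)
  have hco : IsLimit ((CategoryTheory.Over.forget V).mapCone co) := isLimitOpensCone E e he i U
  have hco' : IsLimit co := isLimitOfReflects (CategoryTheory.Over.forget V) hco
  have : ∀ (j k : CategoryTheory.Over i) (f : j ⟶ k), IsAffineHom (Wo.map f).left := fun j k f =>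
    inferInstanceAs (IsAffineHom ((opensDiagram E i U).map f))
  have hcpt : ∀ j : CategoryTheory.Over i, CompactSpace (Wo.obj j).left := fun j =>
    isCompact_iff_compactSpace.1 (QuasiCompact.isCompact_preimage (f := E.map j.hom) _ U.2 hUc)
  have : IsClosedImmersion (show Q ⟶ co.pt.left from l) := hl
  have : LocallyOfFiniteType ((show Q ⟶ co.pt.left from l) ≫ co.pt.hom) := by
    show LocallyOfFiniteType (l ≫ (e.π.app i ⁻¹ᵁ U).ι ≫ cW.pt.hom)
    rw [IsOpenImmersion.lift_fac_assoc]
    infer_instance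
  obtain ⟨j, hj⟩ := Groth.Agent.S2076.result V Wo co hco' (show Q ⟶ co.pt.left from l)
  refine ⟨j.left, fun k φ => ?_⟩
  let j' : CategoryTheory.Over i := CategoryTheory.Over.mk (φ ≫ j.hom)
  let f : j' ⟶ j := CategoryTheory.Over.homMk φ rfl
  have : IsClosedImmersion ((l ≫ (co.π.app j').left) ≫ (Wo.map f).left) := by
    rw [Category.assoc, ← CategoryTheory.Over.comp_left, co.w f]
    exact hj
  have : IsClosedImmersion (l ≫ (co.π.app j').left) := IsClosedImmersion.of_comp _ (Wo.map f).left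
  have e2 : h ≫ (cW.π.app k).left = (l ≫ (co.π.app j').left) ≫ (E.map j'.hom ⁻¹ᵁ U).ι := by
    show _ = (l ≫ (e.π.app k).resLE _ _ _) ≫ (E.map (φ ≫ j.hom) ⁻¹ᵁ U).ι
    rw [Category.assoc, Scheme.Hom.resLE_comp_ι, IsOpenImmersion.lift_fac_assoc]
    rfl
  rw [e2]
  infer_instance

/-- A pullback square descends along a monomorphism. -/
theorem isPullback_of_mono {C : Type*} [Category C] {P A B O D : C} {a : P ⟶ A} {b : P ⟶ B} {m : A ⟶ O} {e : B ⟶ O}
    {j : O ⟶ D} [Mono j] (h : IsPullback a b (m ≫ j) (e ≫ j)) : IsPullback a b m e := by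
  have w : a ≫ m = b ≫ e := by rw [← cancel_mono j, Category.assoc, Category.assoc]; exact h.w
  refine ⟨⟨w⟩, ⟨PullbackCone.IsLimit.mk w
    (fun s => h.lift s.fst s.snd (by rw [← Category.assoc, s.condition, Category.assoc]))
    (fun s => h.lift_fst _ _ _) (fun s => h.lift_snd _ _ _)
    (fun s t h1 h2 => h.hom_ext (by rw [h1, h.lift_fst]) (by rw [h2, h.lift_snd]))⟩⟩

/-- Pullback squares extend along a monomorphism. -/
theorem isPullback_comp_mono {C : Type*} [Category C] {P A B O D : C} {a : P ⟶ A} {b : P ⟶ B} {m : A ⟶ O} {e : B ⟶ O}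
    (j : O ⟶ D) [Mono j] (h : IsPullback a b m e) : IsPullback a b (m ≫ j) (e ≫ j) :=
  ⟨⟨by rw [← Category.assoc, h.w, Category.assoc]⟩, ⟨PullbackCone.IsLimit.mk _
    (fun s => h.lift s.fst s.snd (by rw [← cancel_mono j, Category.assoc, Category.assoc]; exact s.condition))
    (fun s => h.lift_fst _ _ _) (fun s => h.lift_snd _ _ _)
    (fun s t h1 h2 => h.hom_ext (by rw [h1, h.lift_fst]) (by rw [h2, h.lift_snd]))⟩⟩

/-- An immersion into a limit of spaces, finitely presented over the base, is eventually an immersion. -/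
theorem eventually_immersion [QuasiSeparatedSpace ↥S] {I : Type u} [SmallCategory I] [IsCofiltered I] (B : Space S)
    (D : I ⥤ Sp S) (hD : ∀ i, IsAlgSpace (D.obj i)) (t : D ⟶ (Functor.const I).obj B.obj)
    (hDa : ∀ (i j : I) (φ : i ⟶ j), IsAffineMor (D.map φ)) (c : Cone D) (hc : IsLimit c)
    (hqs : ∀ i, IsQuasiSeparatedSp (D.obj i)) (Y : Space S) (hYqc : IsQuasiCompactSp Y.obj) (y : Y.obj ⟶ c.pt)
    (hy : RepWith @IsImmersion y) [Mono y] (i₁ : I)
    (hYB : LocP @LocallyOfFiniteType (y ≫ c.π.app i₁ ≫ t.app i₁)) :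
    ∃ i₀ : I, ∀ (i : I) (_ : i ⟶ i₀), RepWith @IsImmersion (y ≫ c.π.app i) := by
  classical
  let g := y ≫ c.π.app i₁
  obtain ⟨U₀, a₀, ha₀, ha₀s⟩ := (hD i₁).atlas
  obtain ⟨UY, aY, hUY, haY, haYs⟩ := exists_affine_atlas hYqc
  have : IsAffine UY.left := hUY
  -- an affine chart whose image contains the image of `Y`
  obtain ⟨Z, πZ, uZ, hZ, hπZ, hπZs, huZ⟩ := exists_affine_cover_lift ha₀ ha₀s (aY ≫ g)
  obtain ⟨s, hs⟩ := (isCompact_range uZ.left.continuous).elim_finite_subcover
    (fun O : U₀.left.affineOpens => (O.1 : Set U₀.left)) (fun O => O.1.2) (fun x _ => by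
      obtain ⟨O, hO, hx, -⟩ := exists_isAffineOpen_mem_and_subset (U := (⊤ : U₀.left.Opens)) (x := x) trivial
      exact Set.mem_iUnion.2 ⟨⟨O, hO⟩, hx⟩)
  let Uc : Scheme.{u} := ∐ fun O : s => O.1.1.toScheme
  have : ∀ O : s, IsAffine O.1.1.toScheme := fun O => O.1.2
  let jc : Uc ⟶ U₀.left := Sigma.desc fun O => O.1.1.ι
  have : Etale jc := IsZariskiLocalAtSource.sigmaDesc fun O => inferInstance
  let U₁ : Over S := Over.mk (jc ≫ U₀.hom)
  let j₁ : U₁ ⟶ U₀ := CategoryTheory.Over.homMk jc rfl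
  let a₁ : (yon S).obj U₁ ⟶ D.obj i₁ := (yon S).map j₁ ≫ a₀
  have ha₁ : RepWith @Etale a₁ := repWith_comp ((repWith_yon_map_iff _ _).2 (inferInstanceAs (Etale jc))) ha₀
  have : IsAffine U₁.left := inferInstanceAs (IsAffine Uc)
  obtain ⟨V, b, hb, hbs⟩ := B.property.atlas
  obtain ⟨U, πU, vU, hU, hπU, hπUs, hvU⟩ := exists_affine_cover_lift hb hbs (a₁ ≫ t.app i₁)
  let a : (yon S).obj U ⟶ D.obj i₁ := (yon S).map πU ≫ a₁
  have ha : RepWith @Etale a := repWith_comp ((repWith_yon_map_iff _ _).2 hπU) ha₁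
  -- the open subspace covered by the chart
  obtain ⟨O, jO, hOA, hjO, hjOr⟩ := exists_open_subspace (hD i₁) (W := Points.ofPt a '' Set.univ)
    (AlgSpLib.isOpenMap_ofPt ha _ isOpen_univ)
  have := mono_of_openImmersion hjO
  have hgO : ∀ z, Points.ofPt (aY ≫ g) z ∈ Set.range (Points.map jO) := fun z => by
    rw [hjOr]
    obtain ⟨z', rfl⟩ := πZ.left.surjective z
    obtain ⟨O', hO', hx⟩ := Set.mem_iUnion₂.1 (hs (Set.mem_range_self z'))
    let w : Uc := Sigma.ι (fun O : s => O.1.1.toScheme) ⟨O', hO'⟩ ⟨uZ.left z', hx⟩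
    obtain ⟨u', hu'⟩ := πU.left.surjective w
    refine ⟨u', trivial, ?_⟩
    have e1 : jc w = uZ.left z' := by
      rw [← Scheme.Hom.comp_apply, Sigma.ι_desc]
      rfl
    rw [← AlgSpLib.ofPt_comp πZ (aY ≫ g) z', huZ, AlgSpLib.ofPt_comp uZ a₀ z', ← e1, ← hu']
    simp only [a, a₁]
    rw [AlgSpLib.ofPt_comp, AlgSpLib.ofPt_comp]
    rfl
  obtain ⟨gU, hgU⟩ := TwoClosed.exists_factor_open hjO (aY ≫ g) hgO
  have hKP := (Y.property.representable_from_yon aY).isPullback' aY
  have := isLocallySurjective_of_etale_surjective haY haYs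
  have : Epi aY := (Sheaf.isLocallySurjective_iff_epi _).1 this
  obtain ⟨gO, hgO'⟩ := exists_desc_of_kernelPair hKP gU (by
    rw [← cancel_mono jO, Category.assoc, Category.assoc, hgU, reassoc_of% hKP.w])
  have hgO'' : gO ≫ jO = g := by rw [← cancel_epi aY, reassoc_of% hgO', hgU]
  obtain ⟨aO, haO'⟩ : ∃ aO : (yon S).obj U ⟶ O, aO ≫ jO = a :=
    TwoClosed.exists_factor_open hjO a fun z => by rw [hjOr]; exact ⟨z, trivial, rfl⟩
  have sqa : IsPullback (𝟙 _) aO a jO := IsPullback.of_horiz_isIso_mono ⟨by rw [Category.id_comp, haO']⟩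
  have haO : RepWith @Etale aO := repWith_of_isPullback sqa ha
  have haOs : RepWith @Surjective aO := ⟨haO.rep, fun T W g f₁ f₂ sq => ⟨fun x => by
    have sq' := isPullback_comp_mono jO sq
    rw [haO'] at sq'
    have : Points.ofPt (g ≫ jO) x ∈ Set.range (Points.map jO) :=
      ⟨Points.ofPt g x, Points.map_ofPt _ _ _⟩
    rw [hjOr] at this
    obtain ⟨z, -, hz⟩ := this
    exact (NormSp.ofPt_mem_range_iff sq' x).1
      ⟨Points.ofScheme U z, (Points.ofPt_eq_map_ofScheme _ _).symm.trans hz⟩⟩⟩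
  -- the system over the chart
  have : IsAffine U.left := hU
  obtain ⟨W, cW, hcW, p, fst, aW, bW, haw, sqW, hwb, hA, hWA, sqj, hfst, hp⟩ :=
    exists_limit_square'' D hDa c hc i₁ a
  have := IsCofiltered.isConnected (CategoryTheory.Over i₁)
  -- the base change of `Y`
  let Q := hy.rep.pullback fst
  let qY : (yon S).obj Q ⟶ Y.obj := hy.rep.fst fst
  let hQ : Q ⟶ cW.pt := hy.rep.snd fst
  have sQ : IsPullback qY ((yon S).map hQ) y fst := hy.rep.isPullback fst
  have : IsImmersion hQ.left := hy.property_snd fst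
  have sQ₁ : IsPullback qY ((yon S).map (hQ ≫ p)) g a := by
    rw [Functor.map_comp]
    exact (sQ.flip.paste_horiz sqW.flip).flip
  have : CompactSpace ↥Q.left := by
    have hr : Representable (aY ≫ g) := (hD i₁).representable_from_yon _
    have sR := hr.isPullback' a
    have : QuasiCompact (hr.snd a).left := quasiCompact_fibreProd (hqs i₁) sR
    have : CompactSpace ↥(hr.pullback a).left := QuasiCompact.compactSpace_of_compactSpace (hr.snd a).left
    obtain ⟨r, hr'⟩ := (yon S).map_surjective (sQ₁.lift ((yon S).map (hr.fst' a) ≫ aY) ((yon S).map (hr.snd a))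
      (by rw [Category.assoc]; exact sR.w))
    have sr : IsPullback ((yon S).map (hr.fst' a)) ((yon S).map r) aY qY := by
      refine IsPullback.of_bot ?_ (by rw [hr', sQ₁.lift_fst]) sQ₁
      rw [hr', sQ₁.lift_snd]
      exact sR
    have : Surjective r.left := (repWith_yon_map_iff _ r).1 (repWith_of_isPullback sr haYs)
    exact r.left.surjective.compactSpace r.left.continuous
  let β : ∀ k : CategoryTheory.Over i₁, W.obj k ⟶ V := fun k => bW k ≫ vU
  let E : CategoryTheory.Over i₁ ⥤ CategoryTheory.Over V.left :=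
    { obj := fun k => CategoryTheory.Over.mk (β k).left
      map := fun {k k'} f => CategoryTheory.Over.homMk (W.map f).left
        (congrArg CommaMorphism.left (show W.map f ≫ β k' = β k by simp only [β]; rw [← Category.assoc, hwb f]))
      map_id := fun k => by ext; simp
      map_comp := fun f f' => by ext; simp }
  let cE : Cone E :=
    { pt := CategoryTheory.Over.mk (p ≫ vU).left
      π :=
        { app := fun k => CategoryTheory.Over.homMk (cW.π.app k).left
            (congrArg CommaMorphism.left (show cW.π.app k ≫ β k = p ≫ vU by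
              simp only [β]; rw [← Category.assoc, ← hp k]))
          naturality := fun k k' f => by
            ext
            simp [E]
            rw [← Over.comp_left, cW.w] } }
  have hcE : IsLimit cE :=
    isLimitOfReflects (CategoryTheory.Over.forget V.left) (isLimitOfPreserves (Over.forget S) hcW)
  have haQ : RepWith @Etale qY := repWith_of_isPullback sQ₁.flip ha
  have : LocallyOfFiniteType (hQ.left ≫ cE.pt.hom) := by
    refine hYB qY b (hQ ≫ p ≫ vU) haQ hb ?_
    rw [← Category.assoc y (c.π.app i₁), reassoc_of% sQ₁.w]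
    simp only [a, Functor.map_comp, Category.assoc, hvU]
  obtain ⟨j₀, hj₀⟩ := exists_immersion_stage V.left E hWA cE hcE hQ.left
  obtain ⟨m₀, hm₀⟩ := eventually_mono B D hD t hDa c hc hqs Y hYqc y i₁ hYB
  obtain ⟨i₀, u₀, u₁, -⟩ := IsCofilteredOrEmpty.cone_objs j₀.left m₀
  refine ⟨i₀, fun i φ => ?_⟩
  let k : CategoryTheory.Over i₁ := CategoryTheory.Over.mk (φ ≫ u₀ ≫ j₀.hom)
  have : IsImmersion (hQ.left ≫ (cW.π.app k).left) :=
    hj₀ k (CategoryTheory.Over.homMk (φ ≫ u₀) (Category.assoc _ _ _))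
  have : Mono (y ≫ c.π.app i) := hm₀ i (φ ≫ u₁)
  -- the open subspace at the stage
  have sOk := IsPullback.of_hasPullback (D.map k.hom) jO
  let jk : pullback (D.map k.hom) jO ⟶ D.obj i := pullback.fst _ _
  have hjk : RepWith @IsOpenImmersion jk := repWith_of_isPullback sOk.flip hjO
  let mk : Y.obj ⟶ pullback (D.map k.hom) jO := pullback.lift (y ≫ c.π.app i) gO (by
    rw [Category.assoc, c.w, hgO''])
  have hmk : mk ≫ jk = y ≫ c.π.app i := pullback.lift_fst _ _ _
  have : Mono mk := mono_of_mono_fac hmk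
  let ek : (yon S).obj (W.obj k) ⟶ pullback (D.map k.hom) jO := pullback.lift (aW k) ((yon S).map (bW k) ≫ aO) (by
    rw [Category.assoc, haO']; exact (sqj k).w)
  have sek : IsPullback ek ((yon S).map (bW k)) (pullback.snd (D.map k.hom) jO) aO := by
    refine IsPullback.of_right ?_ (pullback.lift_snd _ _ _) sOk
    rw [haO', pullback.lift_fst]
    exact sqj k
  have hek : RepWith @Etale ek := repWith_of_isPullback sek.flip haO
  have heks : RepWith @Surjective ek := repWith_of_isPullback sek.flip haOs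
  have := mono_of_openImmersion hjk
  have sqk : IsPullback fst ((yon S).map (cW.π.app k)) (c.π.app k.left) (aW k) := by
    refine IsPullback.of_bot ?_ (hfst k) (sqj k)
    rw [← Functor.map_comp, ← hp k, c.w]
    exact sqW
  have sQk : IsPullback qY ((yon S).map (hQ ≫ cW.π.app k)) mk ek := by
    refine isPullback_of_mono (j := jk) ?_
    rw [hmk, pullback.lift_fst, Functor.map_comp]
    exact (sQ.flip.paste_horiz sqk.flip).flip
  have : IsImmersion (hQ ≫ cW.π.app k).left := ‹IsImmersion (hQ.left ≫ (cW.π.app k).left)›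
  have h1 : RepWith @IsImmersion mk := ImmDescentSp.repWith_isImmersion_of_chart mk ek hek heks sQk
  rw [← hmk]
  exact repWith_comp h1 (repWith_mono (fun _ _ e (h : IsOpenImmersion e) => (inferInstance : IsImmersion e)) _ hjk)

end Groth.Agent.AlgSpDec.LimImmersion
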