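import Groth.Agent.AlgSpDec.LimPresSheafify

/-!
# Limit preservation is fppf local on the base
-/

set_option linter.style.haveILetI false
set_option autoImplicit false
set_option backward.isDefEq.respectTransparency false
set_option backward.isDefEq.respectTransparency.types false

universe u v

open CategoryTheory CategoryTheory.Limits AlgebraicGeometry Opposite AlgSp
open Groth.Agent.AlgSpPts Groth.Agent.AlgSpDec.FppfStage Groth.Agent.AlgSpDec.LfpLimPres
open Groth.Agent.AlgSpDec.LimPresSheafify

namespace Groth.Agent.AlgSpDec.LimPresLocal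

variable {S : Scheme.{u}}

/-- Limit preservation of the restriction to `U` applies to systems over `S` mapping compatibly to `U`. -/
theorem lp_of_over {F : PSp S} {U : Over S} (hU : IsLimitPreserving (S := U.left) ((Over.map U.hom).op ⋙ F))
    {J : Type u} [SmallCategory J] [IsCofiltered J] (W : J ⥤ Over S) (cW : Cone W)
    (hc : IsLimit ((Over.forget S).mapCone cW)) (hWA : ∀ j, IsAffine (W.obj j).left) (hA : IsAffine cW.pt.left)
    (β : ∀ j, W.obj j ⟶ U) (hβ : ∀ {j k : J} (f : j ⟶ k), W.map f ≫ β k = β j) :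
    (∀ x : F.obj (op cW.pt), ∃ (k : J) (z : F.obj (op (W.obj k))), F.map (cW.π.app k).op z = x) ∧
    ∀ (i : J) (x x' : F.obj (op (W.obj i))), F.map (cW.π.app i).op x = F.map (cW.π.app i).op x' →
      ∃ (k : J) (f : k ⟶ i), F.map (W.map f).op x = F.map (W.map f).op x' := by
  have := IsCofiltered.isConnected J
  obtain ⟨j₀⟩ := IsCofiltered.nonempty (C := J)
  let E : J ⥤ Over U.left :=
    { obj := fun j => CategoryTheory.Over.mk (β j).left
      map := fun {j k} f => CategoryTheory.Over.homMk (W.map f).left (congrArg CommaMorphism.left (hβ f))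
      map_id := fun j => by ext; simp
      map_comp := fun f g => by ext; simp }
  let γ : cW.pt ⟶ U := cW.π.app j₀ ≫ β j₀
  have hγ : ∀ j, cW.π.app j ≫ β j = γ := fun j => by
    obtain ⟨l, f, g, -⟩ := IsCofilteredOrEmpty.cone_objs j j₀
    simp only [γ]
    rw [← cW.w f, ← cW.w g, Category.assoc, Category.assoc, hβ, hβ]
  let cE : Cone E :=
    { pt := CategoryTheory.Over.mk γ.left
      π :=
        { app := fun j => CategoryTheory.Over.homMk (cW.π.app j).left (congrArg CommaMorphism.left (hγ j))
          naturality := fun j k f => by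
            ext
            simp [E]
            rw [← Over.comp_left, cW.w] } }
  have hcE : IsLimit ((Over.forget U.left).mapCone cE) := hc
  obtain ⟨hcol⟩ := hU E cE hcE hWA hA
  let e : ∀ j, (Over.map U.hom).obj (E.obj j) ⟶ W.obj j := fun j =>
    CategoryTheory.Over.homMk (𝟙 _) ((Category.id_comp _).trans (Over.w (β j)).symm)
  let e' : ∀ j, W.obj j ⟶ (Over.map U.hom).obj (E.obj j) := fun j =>
    CategoryTheory.Over.homMk (𝟙 _) ((Category.id_comp _).trans (Over.w (β j)))
  let d : (Over.map U.hom).obj cE.pt ⟶ cW.pt :=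
    CategoryTheory.Over.homMk (𝟙 _) ((Category.id_comp _).trans (Over.w γ).symm)
  let d' : cW.pt ⟶ (Over.map U.hom).obj cE.pt :=
    CategoryTheory.Over.homMk (𝟙 _) ((Category.id_comp _).trans (Over.w γ))
  refine ⟨fun x => ?_, fun i x x' hxx => ?_⟩
  · obtain ⟨k, z, hz⟩ := Types.jointly_surjective_of_isColimit hcol (F.map d.op x)
    refine ⟨k.unop, F.map (e' k.unop).op z, ?_⟩
    have h1 := congrArg (F.map d'.op) hz
    refine (map_map' F _ (e' k.unop) z).trans (Eq.trans ?_ (h1.trans ((map_map' F d' d x).trans ?_)))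
    · refine Eq.trans ?_ (map_map' F d' ((Over.map U.hom).map (cE.π.app k.unop)) z).symm
      exact map_congr F (Over.OverMorphism.ext ((Category.comp_id _).trans (Category.id_comp _).symm)) z
    · refine (map_congr F (show d' ≫ d = 𝟙 _ from Over.OverMorphism.ext (Category.id_comp _)) x).trans ?_
      rw [op_id, Functor.map_id_apply]
  · obtain ⟨k, f, hk⟩ := (Types.FilteredColimit.isColimit_eq_iff' hcol
      (i := op i) (F.map (e i).op x) (F.map (e i).op x')).1 (by
        have h1 := congrArg (F.map d.op) hxx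
        refine (map_map' F ((Over.map U.hom).map (cE.π.app i)) (e i) x).trans (Eq.trans ?_
          (map_map' F ((Over.map U.hom).map (cE.π.app i)) (e i) x').symm)
        have hh : (Over.map U.hom).map (cE.π.app i) ≫ e i = d ≫ cW.π.app i :=
          Over.OverMorphism.ext ((Category.comp_id _).trans (Category.id_comp _).symm)
        rw [hh]
        exact (map_map' F d (cW.π.app i) x).symm.trans (h1.trans (map_map' F d (cW.π.app i) x')))
    refine ⟨k.unop, f.unop, ?_⟩
    have h1 := congrArg (F.map (e' k.unop).op) hk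
    have he : e' k.unop ≫ (Over.map U.hom).map (E.map f.unop) ≫ e i = W.map f.unop :=
      Over.OverMorphism.ext ((Category.id_comp _).trans (Category.comp_id _))
    rw [← he]
    exact (map_map' F (e' k.unop) _ x).symm.trans (((congrArg _ (map_map' F _ (e i) x).symm).trans
      (h1.trans (congrArg _ (map_map' F _ (e i) x')))).trans (map_map' F (e' k.unop) _ x'))

theorem exists_cov_over {ι : Type u} (U : ι → Over S) (hfl : ∀ j, Flat (U j).hom)
    (hfp : ∀ j, LocallyOfFinitePresentation (U j).hom)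
    (hsurj : ∀ s : ↥S, ∃ (j : ι) (x : ↥(U j).left), (U j).hom.base x = s) (T : Over S) [IsAffine T.left] :
    ∃ (κ : Type u) (_ : Finite κ) (V : κ → Over S) (v : ∀ a, V a ⟶ T), IsCov v ∧
      ∀ a, ∃ j, Nonempty (V a ⟶ U j) := by
  let R : Sieve T :=
    { arrows := fun Z _ => ∃ j, Nonempty (Z ⟶ U j)
      downward_closed := fun ⟨j, ⟨h⟩⟩ g => ⟨j, ⟨g ≫ h⟩⟩ }
  have hR : R ∈ AlgSp.J S T := by
    rw [GrothendieckTopology.mem_over_iff]
    have hm : Presieve.ofArrows (fun j => pullback (U j).hom T.hom) (fun j => pullback.snd (U j).hom T.hom) ∈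
        Scheme.precoverage (@Flat ⊓ @LocallyOfFinitePresentation) T.left := by
      refine (Scheme.ofArrows_mem_precoverage_iff _).2 ⟨fun t => ?_, fun j =>
        ⟨MorphismProperty.pullback_snd _ _ (hfl j), MorphismProperty.pullback_snd _ _ (hfp j)⟩⟩
      obtain ⟨j, x, hx⟩ := hsurj (T.hom t)
      obtain ⟨z, -, hz⟩ := Scheme.exists_preimage_of_isPullback (IsPullback.of_hasPullback (U j).hom T.hom) x t hx
      exact ⟨j, z, hz⟩
    refine GrothendieckTopology.superset_covering _ ?_ (Precoverage.generate_mem_toGrothendieck hm)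
    rintro Z _ ⟨Y, g, _, ⟨j⟩, rfl⟩
    rw [Sieve.overEquiv_iff]
    refine ⟨j, ⟨CategoryTheory.Over.homMk (g ≫ pullback.fst (U j).hom T.hom) ?_⟩⟩
    show (g ≫ pullback.fst (U j).hom T.hom) ≫ (U j).hom = (g ≫ pullback.snd (U j).hom T.hom) ≫ T.hom
    rw [Category.assoc, Category.assoc, pullback.condition]
  obtain ⟨κ, hκ, V, v, hv, hvR⟩ := exists_cov hR
  exact ⟨κ, hκ, V, v, hv, hvR⟩

theorem isLimitPreserving_of_locally (F : PSp S) (hF : Presheaf.IsSheaf (AlgSp.J S) F) {ι : Type u}
    (U : ι → Over S) (hfl : ∀ j, Flat (U j).hom) (hfp : ∀ j, LocallyOfFinitePresentation (U j).hom)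
    (hsurj : ∀ s : ↥S, ∃ (j : ι) (x : ↥(U j).left), (U j).hom.base x = s)
    (hloc : ∀ j, IsLimitPreserving (S := (U j).left) ((Over.map (U j).hom).op ⋙ F)) : IsLimitPreserving F := by
  have hinj : InjLP (toPt F) := by
    intro I _ _ D c hc hD hT i x x' _ hxx
    have := hD i
    obtain ⟨κ, _, V, v, hv, hVU⟩ := exists_cov_over U hfl hfp hsurj (D.obj i)
    have hd : ∀ d : κ, ∃ k : CategoryTheory.Over i, ∀ (Z : Over S) (h : Z ⟶ D.obj k.left) (g : Z ⟶ V d),
        g ≫ v d = h ≫ D.map k.hom → F.map (h ≫ D.map k.hom).op x = F.map (h ≫ D.map k.hom).op x' := by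
      intro d
      obtain ⟨j, ⟨h⟩⟩ := hVU d
      have := hv.aff d
      obtain ⟨W, cW, hcW, fst, q, aW, bW, sq, hA, hWA, hwa, hwb, sqj, hfst, hq⟩ := exists_system D c hc hD i (v d)
      have := IsCofiltered.isConnected (CategoryTheory.Over i)
      let top : CategoryTheory.Over i := CategoryTheory.Over.mk (𝟙 i)
      have e : ∀ u, F.map (cW.π.app top).op (F.map (bW top ≫ v d).op u) = F.map fst.op (F.map (c.π.app i).op u) := by
        intro u
        refine (map_map' F _ _ u).trans (Eq.trans ?_ (map_map' F fst (c.π.app i) u).symm)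
        exact map_congr F (by rw [← Category.assoc, ← hq top, ← sq.w]) u
      obtain ⟨k, φ, hk⟩ := (lp_of_over (hloc j) W cW (isLimitOfPreserves (Over.forget S) hcW) hWA hA
        (fun k => bW k ≫ h) (fun f => by rw [← Category.assoc, hwb f])).2 top
        (F.map (bW top ≫ v d).op x) (F.map (bW top ≫ v d).op x') (by rw [e, e]; exact congrArg _ hxx)
      rw [map_map', map_map', reassoc_of% hwb φ, ← (sqj k).w] at hk
      refine ⟨k, fun Z g g' hg => ?_⟩
      have := congrArg (F.map ((sqj k).lift g g' hg.symm).op) hk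
      rw [map_map', map_map', (sqj k).lift_fst_assoc] at this
      exact this
    choose kd hkd using hd
    obtain ⟨l, hl⟩ := exists_common kd
    have := hD l.left
    have := hv.aff
    let v' : ∀ d, pullback (D.map l.hom) (v d) ⟶ D.obj l.left := fun d => pullback.fst _ _
    have hv' : IsCov v' := hv.of_isPullback (fun d => isAffine_pullback _ _)
      (q := fun d => pullback.snd _ _) (p := D.map l.hom) (fun d => IsPullback.of_hasPullback _ _)
    refine ⟨l.left, l.hom, eq_of_cov hF hv' _ _ fun d => ?_⟩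
    obtain ⟨ρ⟩ := hl d
    have e := hkd d _ (v' d ≫ D.map ρ.left) (pullback.snd _ _) (by
      rw [Category.assoc, ← D.map_comp, CategoryTheory.Over.w ρ]
      exact pullback.condition.symm)
    rw [Category.assoc, ← D.map_comp, CategoryTheory.Over.w ρ] at e
    rw [map_map', map_map']
    exact e
  refine (isLimitPreserving_iff_relLP F).2 ⟨fun I _ _ D c hc hD hT i y x _ => ?_, hinj⟩
  have := hD i
  obtain ⟨κ, _, V, v, hv, hVU⟩ := exists_cov_over U hfl hfp hsurj (D.obj i)
  have hd : ∀ d : κ, ∃ (k : CategoryTheory.Over i) (Vk : Over S) (p : Vk ⟶ D.obj k.left) (q' : Vk ⟶ V d)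
      (s : F.obj (op Vk)), IsPullback p q' (D.map k.hom) (v d) ∧ IsAffine Vk.left ∧
      ∀ (T' : Over S) (f : T' ⟶ c.pt) (g : T' ⟶ Vk), f ≫ c.π.app k.left = g ≫ p →
        F.map g.op s = F.map f.op x := by
    intro d
    obtain ⟨j, ⟨h⟩⟩ := hVU d
    have := hv.aff d
    obtain ⟨W, cW, hcW, fst, q, aW, bW, sq, hA, hWA, hwa, hwb, sqj, hfst, hq⟩ := exists_system D c hc hD i (v d)
    have := IsCofiltered.isConnected (CategoryTheory.Over i)
    obtain ⟨k, z, hz⟩ := (lp_of_over (hloc j) W cW (isLimitOfPreserves (Over.forget S) hcW) hWA hA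
      (fun k => bW k ≫ h) (fun f => by rw [← Category.assoc, hwb f])).1 (F.map fst.op x)
    refine ⟨k, W.obj k, aW k, bW k, z, sqj k, hWA k, fun T' f g hfg => ?_⟩
    let o := sq.lift f (g ≫ bW k) (by rw [Category.assoc, ← (sqj k).w, ← c.w k.hom, reassoc_of% hfg])
    have e : o ≫ cW.π.app k = g := by
      apply (sqj k).hom_ext
      · rw [Category.assoc, ← hfst k, sq.lift_fst_assoc, hfg]
      · rw [Category.assoc, ← hq k, sq.lift_snd]
    rw [← map_congr F e z, ← map_map' F]
    refine Eq.trans (congrArg _ hz) ?_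
    rw [map_map', sq.lift_fst]
  choose kd Vk p q' s sqd hVkA hsl using hd
  obtain ⟨l, hl⟩ := exists_common kd
  have := hD l.left
  have := hVkA
  have := fun d => hD (kd d).left
  let ρ : ∀ d, l ⟶ kd d := fun d => (hl d).some
  let u' : ∀ d, pullback (D.map (ρ d).left) (p d) ⟶ D.obj l.left := fun d => pullback.fst _ _
  have hu : IsCov u' := hv.of_isPullback (fun d => isAffine_pullback _ _)
    (q := fun d => pullback.snd _ _ ≫ q' d) (p := D.map l.hom) (fun d => by
      have := (IsPullback.of_hasPullback (D.map (ρ d).left) (p d)).flip.paste_horiz (sqd d).flip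
      rw [← D.map_comp, CategoryTheory.Over.w (ρ d)] at this
      exact this.flip)
  obtain ⟨k, φ, z, -, hzx⟩ := exists_glue_stage (toPt F) hF isSheaf_ptPSp hinj D c hc hD hT l.left PUnit.unit x hu
    (fun d => F.map (pullback.snd (D.map (ρ d).left) (p d)).op (s d)) (fun _ => rfl)
    (fun d T' f g hfg => by
      rw [map_map']
      refine hsl d T' f _ ?_
      rw [← c.w (ρ d).left, reassoc_of% hfg, Category.assoc]
      simp only [u']
      rw [pullback.condition])
  exact ⟨k, φ ≫ l.hom, z, rfl, hzx⟩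

end Groth.Agent.AlgSpDec.LimPresLocal
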