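import Groth.Agent.AlgSpDec.LimScheme
import Groth.Agent.AlgSpDec.LimClosure
import Groth.Agent.AlgSpDec.LimAffineBase
import Groth.Agent.AlgSpDec.Glue
import Groth.Agent.AlgSpLib.AffineDescProps
import Groth.Agent.AlgSpPts.Descent

/-!
# Maximal ideals of the base over which a space is not a scheme
-/

set_option linter.style.haveILetI false
set_option autoImplicit false
set_option backward.isDefEq.respectTransparency false
set_option backward.isDefEq.respectTransparency.types false
set_option maxHeartbeats 1000000

universe u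

open CategoryTheory CategoryTheory.Limits AlgebraicGeometry AlgSp
open Groth.Agent Groth.Agent.AlgSpLib

namespace Groth.Agent.AlgSpDec.MinIdeal

variable {A : CommRingCat.{u}}

/-- The closed subscheme of an ideal, over the base. -/
noncomputable abbrev sub (I : Ideal A) : Over (Spec A) := Over.mk (Spec.map (CommRingCat.ofHom (Ideal.Quotient.mk I)))

/-- The inclusion of the closed subscheme. -/
noncomputable abbrev incl (I : Ideal A) : sub I ⟶ Over.mk (𝟙 (Spec A)) :=
  Over.homMk (Spec.map (CommRingCat.ofHom (Ideal.Quotient.mk I)))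

instance (I : Ideal A) : IsClosedImmersion (incl I).left :=
  IsClosedImmersion.spec_of_surjective _ Ideal.Quotient.mk_surjective

instance (I : Ideal A) : Mono (incl I) := (Over.forget _).mono_of_mono_map (inferInstanceAs (Mono (incl I).left))

/-- A scheme maps into the subscheme of an ideal iff the ideal dies on it. -/
theorem exists_lift_iff {R : Over (Spec A)} (I : Ideal A) :
    Nonempty (R ⟶ sub I) ↔ I ≤ RingHom.ker ((Scheme.ΓSpecIso A).inv ≫ R.hom.appTop).hom := by
  constructor
  · rintro ⟨w⟩ a ha
    rw [RingHom.mem_ker]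
    have e : (Scheme.ΓSpecIso A).inv ≫ R.hom.appTop =
        CommRingCat.ofHom (Ideal.Quotient.mk I) ≫ (Scheme.ΓSpecIso _).inv ≫ w.left.appTop := by
      rw [← Over.w w, Scheme.Hom.comp_appTop]
      exact (reassoc_of% (Scheme.ΓSpecIso_inv_naturality (CommRingCat.ofHom (Ideal.Quotient.mk I)))) _
        |>.symm
    show ((Scheme.ΓSpecIso A).inv ≫ R.hom.appTop).hom a = 0
    rw [e, CommRingCat.hom_comp, RingHom.comp_apply,
      show (CommRingCat.ofHom (Ideal.Quotient.mk I)).hom a = 0 from Ideal.Quotient.eq_zero_iff_mem.2 ha, map_zero]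
  · intro h
    let ψ : CommRingCat.of (A ⧸ I) ⟶ Γ(R.left, ⊤) := CommRingCat.ofHom (Ideal.Quotient.lift I _ h)
    have e : CommRingCat.ofHom (Ideal.Quotient.mk I) ≫ ψ = (Scheme.ΓSpecIso A).inv ≫ R.hom.appTop := rfl
    refine ⟨Over.homMk (R.left.toSpecΓ ≫ Spec.map ψ) ?_⟩
    show (R.left.toSpecΓ ≫ Spec.map ψ) ≫ Spec.map (CommRingCat.ofHom (Ideal.Quotient.mk I)) = R.hom
    rw [Category.assoc, ← Spec.map_comp, e, Spec.map_comp, ← Scheme.toSpecΓ_naturality_assoc,
      ← SpecMap_ΓSpecIso_hom, ← Spec.map_comp, Iso.inv_hom_id, Spec.map_id]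
    exact Category.comp_id _

/-- A space over an affine scheme which is not a scheme has a maximal ideal over which it is not one. -/
theorem exists_maximal (X : Space (Spec A)) (q : X.obj ⟶ (yon (Spec A)).obj (Over.mk (𝟙 (Spec A))))
    (hqc : IsQuasiCompactMor q) (hqs : IsQuasiSeparatedMor q) (hX : ¬ X.obj.obj.IsRepresentable) :
    ∃ I : Ideal A, ¬ (pullback q ((yon (Spec A)).map (incl I))).obj.IsRepresentable ∧
      ∀ I' : Ideal A, I < I' → (pullback q ((yon (Spec A)).map (incl I'))).obj.IsRepresentable := by
  let XI : Ideal A → Sp (Spec A) := fun I => pullback q ((yon (Spec A)).map (incl I))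
  have hXI : ∀ I, IsAlgSpace (XI I) := fun I =>
    isAlgSpace_pullback X.property (IsAlgSpace.yon_obj _) (IsAlgSpace.yon_obj _) _ _
  have hyT : IsQuasiCompactSp ((yon (Spec A)).obj (Over.mk (𝟙 (Spec A)))) :=
    (AlgSpPts.isQuasiCompactSp_yon_iff _).2 (inferInstanceAs (CompactSpace ↥(Spec A)))
  have hXqc : IsQuasiCompactSp X.obj := isQuasiCompactSp_of_mor (IsAlgSpace.yon_obj _) hqc hyT
  have hXqs : IsQuasiSeparatedSp X.obj := by
    rw [AlgSpPts.isQuasiSeparatedSp_iff_mor, (AlgSpPts.isTerminalYon (Spec A)).hom_ext ((AlgSpPts.isTerminalYon (Spec A)).from _) q]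
    exact hqs
  have haff : ∀ I, RepWith @IsAffineHom (pullback.fst q ((yon (Spec A)).map (incl I))) := fun I =>
    repWith_fst q ((repWith_yon_map_iff _ (incl I)).2 (inferInstanceAs (IsAffineHom (incl I).left)))
  have hbot : ¬ (XI ⊥).obj.IsRepresentable := by
    intro h
    haveI : IsIso (incl (⊥ : Ideal A)) := by
      obtain ⟨r⟩ := (exists_lift_iff (R := Over.mk (𝟙 (Spec A))) (⊥ : Ideal A)).2 bot_le
      exact ⟨r, (cancel_mono (incl (⊥ : Ideal A))).1 (Over.OverMorphism.ext (by
        rw [Category.assoc, Category.id_comp]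
        exact (congrArg ((incl (⊥ : Ideal A)).left ≫ ·) (Over.w r)).trans (Category.comp_id _))),
        Over.OverMorphism.ext (Over.w r)⟩
    obtain ⟨T, ⟨r⟩⟩ := h.has_representation
    exact hX (isRepresentable_of_iso (isoOfRepresentableBy r ≪≫ asIso (pullback.fst q ((yon (Spec A)).map (incl ⊥)))))
  have hz := zorn_le_nonempty₀ {I : Ideal A | ¬ (XI I).obj.IsRepresentable} (fun C hC hch I₀ hI₀ => by
    let J' := (↥C)ᵒᵈ
    haveI : IsCodirectedOrder J' := ⟨fun x y => by
      rcases hch.total (OrderDual.ofDual x).2 (OrderDual.ofDual y).2 with h | h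
      · exact ⟨y, (show (OrderDual.ofDual x : ↥C) ≤ OrderDual.ofDual y from h), le_rfl⟩
      · exact ⟨x, le_rfl, (show (OrderDual.ofDual y : ↥C) ≤ OrderDual.ofDual x from h)⟩⟩
    haveI : Nonempty J' := ⟨OrderDual.toDual ⟨I₀, hI₀⟩⟩
    haveI := IsCofiltered.isConnected J'
    let J : Ideal A := sSup C
    let idl : J' → Ideal A := fun j => (OrderDual.ofDual j).1
    have hmap : ∀ {j k : J'} (_ : j ⟶ k), Nonempty (sub (idl j) ⟶ sub (idl k)) := fun {j k} f =>
      (exists_lift_iff _).2 (le_trans (show idl k ≤ idl j from leOfHom f) ((exists_lift_iff (idl j)).1 ⟨𝟙 _⟩))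
    have hsubs : ∀ {R : Over (Spec A)} {I : Ideal A} (x y : R ⟶ sub I), x = y := fun {R I} x y =>
      (cancel_mono (incl I)).1 ((Over.mkIdTerminal).hom_ext _ _)
    let W : J' ⥤ Over (Spec A) :=
      { obj := fun j => sub (idl j)
        map := fun f => Classical.choice (hmap f)
        map_id := fun _ => hsubs _ _
        map_comp := fun _ _ => hsubs _ _ }
    let cW : Cone W :=
      { pt := sub J
        π := { app := fun j => Classical.choice ((exists_lift_iff _).2 (le_trans
                (le_sSup (OrderDual.ofDual j).2) ((exists_lift_iff J).1 ⟨𝟙 _⟩)))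
               naturality := fun _ _ _ => hsubs _ _ } }
    let hcW : IsLimit cW :=
      { lift := fun s => Classical.choice ((exists_lift_iff J).2 (sSup_le fun I hI =>
          (exists_lift_iff I).1 ⟨s.π.app (OrderDual.toDual (⟨I, hI⟩ : ↥C))⟩))
        fac := fun _ _ => hsubs _ _
        uniq := fun _ _ _ => hsubs _ _ }
    let hY := isLimitOfPreserves (yon (Spec A)) hcW
    have hinc : ∀ j, (yon (Spec A)).map (cW.π.app j) ≫ (yon (Spec A)).map (incl (idl j)) =
        (yon (Spec A)).map (incl J) := fun j => by
      rw [← Functor.map_comp]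
      exact congrArg _ ((Over.mkIdTerminal).hom_ext _ _)
    have hincW : ∀ {j k} (f : j ⟶ k), (yon (Spec A)).map (W.map f) ≫ (yon (Spec A)).map (incl (idl k)) =
        (yon (Spec A)).map (incl (idl j)) := fun f => by
      rw [← Functor.map_comp]
      exact congrArg _ ((Over.mkIdTerminal).hom_ext _ _)
    let D : J' ⥤ Sp (Spec A) :=
      { obj := fun j => XI (idl j)
        map := fun {j k} f => pullback.lift (pullback.fst _ _) (pullback.snd _ _ ≫ (yon (Spec A)).map (W.map f))
          (by rw [pullback.condition, Category.assoc, hincW])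
        map_id := fun j => pullback.hom_ext (by simp [XI]) (by
          rw [pullback.lift_snd, show W.map (𝟙 j) = 𝟙 (W.obj j) from hsubs _ _, CategoryTheory.Functor.map_id]
          exact (Category.comp_id _).trans (Category.id_comp _).symm)
        map_comp := fun f g => pullback.hom_ext (by simp [XI]) (by simp [XI]) }
    let c : Cone D :=
      { pt := XI J
        π := { app := fun j => pullback.lift (pullback.fst _ _) (pullback.snd _ _ ≫ (yon (Spec A)).map (cW.π.app j))
                (by rw [pullback.condition, Category.assoc, hinc])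
               naturality := fun j k f => pullback.hom_ext (by simp [D, XI]) (by
                 refine (congrArg (· ≫ pullback.snd q ((yon (Spec A)).map (incl (idl k)))) (Category.id_comp _)).trans ?_
                 simp only [D, XI, Category.assoc, pullback.lift_snd, pullback.lift_snd_assoc]
                 rw [← Functor.map_comp, cW.w f]) } }
    have hfst : ∀ (s : Cone D) (j k : J'), s.π.app j ≫ pullback.fst q _ = s.π.app k ≫ pullback.fst q _ :=
      fun s j k => by
        obtain ⟨l, a, b, -⟩ := IsCofilteredOrEmpty.cone_objs j k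
        rw [← s.w a, ← s.w b]
        simp [D, XI]
    let sW : Cone D → Cone (W ⋙ yon (Spec A)) := fun s =>
      { pt := s.pt
        π := { app := fun j => s.π.app j ≫ pullback.snd q ((yon (Spec A)).map (incl (idl j)))
               naturality := fun j k f => by
                 dsimp
                 rw [Category.id_comp, ← s.w f]
                 simp [D, XI] } }
    let j₀ : J' := OrderDual.toDual ⟨I₀, hI₀⟩
    let hc : IsLimit c :=
      { lift := fun s => pullback.lift (s.π.app j₀ ≫ pullback.fst _ _) (hY.lift (sW s)) ((AlgSpPts.isTerminalYon _).hom_ext _ _)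
        fac := fun s j => pullback.hom_ext (by simp [c, XI, hfst s j₀ j]) (by
          simp only [c, XI, Category.assoc, pullback.lift_snd, pullback.lift_snd_assoc]
          exact hY.fac (sW s) j)
        uniq := fun s l hl => pullback.hom_ext (by simp [← hl j₀, c, XI]) (hY.hom_ext fun j => by
          refine Eq.trans ?_ ((congrArg (· ≫ (yon (Spec A)).map (cW.π.app j)) (pullback.lift_snd _ _ _)).trans
            (hY.fac (sW s) j)).symm
          simp [sW, ← hl j, c, XI]) }
    refine ⟨J, fun hr => ?_, fun I hI => le_sSup hI⟩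
    obtain ⟨T, ⟨r⟩⟩ := hr.has_representation
    have hDa : ∀ (j k : J') (f : j ⟶ k), IsAffineMor (D.map f) := fun j k f => by
      haveI := AlgSpPts.mono_of_repWith (repWith_mono (fun _ _ e (_ : IsClosedImmersion e) => inferInstanceAs (Mono e)) _
        (repWith_fst q ((repWith_yon_map_iff _ (incl (idl k))).2 (inferInstanceAs (IsClosedImmersion (incl (idl k)).left)))))
      exact isAffineMor_cancel_mono _ (pullback.fst _ _) (by
        rw [show D.map f ≫ pullback.fst q _ = pullback.fst q _ from pullback.lift_fst _ _ _]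
        exact isAffineMor_of_repWith le_rfl (haff _))
    obtain ⟨j, hj⟩ := exists_isRepresentable_stage D (fun j => hXI _) hDa
      (fun j => isQuasiCompactSp_of_affine X.property _ (haff _) hXqc)
      (fun j => isQuasiSeparatedSp_of_affine _ (haff _) hXqs) c hc (isoOfRepresentableBy r)
    exact hC (OrderDual.ofDual j).2 hj) ⊥ hbot
  obtain ⟨I, -, hI⟩ := hz
  exact ⟨I, hI.prop, fun I' h => by_contra fun hn => h.not_ge (hI.le_of_ge hn h.le)⟩

end Groth.Agent.AlgSpDec.MinIdeal
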