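import Groth.Agent.AlgSpDec.Closed
import Groth.Agent.AlgSpDec.MonoPoint
import Groth.Agent.AlgSpDec.LimOpen
import Groth.Agent.GrpSchLib.SmoothReduced

/-!
# The fibre over a point with a quasi-compact monomorphic representative
-/

set_option backward.isDefEq.respectTransparency false
set_option backward.isDefEq.respectTransparency.types false

open CategoryTheory Limits Opposite AlgebraicGeometry MorphismProperty AlgSp Groth.Agent.AlgSpLib
  Groth.Agent.AlgSpPts Topology Order

universe u

namespace Groth.Agent.AlgSpDec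

variable {S : Scheme.{u}}

/-- A monomorphism from a reduced discrete scheme with discrete image is a preimmersion. -/
theorem isPreimmersion_of_mono_discrete {V U : Scheme.{u}} (f : V ⟶ U) [Mono f] [IsReduced V]
    [DiscreteTopology ↥V] (hloc : ∀ v : ↥V, ∃ O : Set ↥U, IsOpen O ∧ f v ∈ O ∧ O ∩ Set.range f ⊆ {f v}) :
    IsPreimmersion f := by
  refine { toSurjectiveOnStalks := ⟨fun v => ?_⟩, isEmbedding := ?_ }
  · have : Mono (V.fromSpecResidueField v ≫ f) := mono_comp _ _
    have : Mono (Spec.map (f.residueFieldMap v) ≫ U.fromSpecResidueField (f v)) := by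
      rw [Scheme.Hom.SpecMap_residueFieldMap_fromSpecResidueField]; infer_instance
    have : Mono (Spec.map (f.residueFieldMap v)) := mono_of_mono _ (U.fromSpecResidueField (f v))
    have : Nonempty ↥(Spec (V.residueField v)) := inferInstanceAs (Nonempty (PrimeSpectrum _))
    have : IsIso (Spec.map (f.residueFieldMap v)) :=
      isIso_of_mono_to_field (K := ↥(U.residueField (f v))) (Spec.map (f.residueFieldMap v))
    have hbij := isIso_SpecMap_iff.1 this
    intro z
    obtain ⟨y, hy⟩ := hbij.2 (V.residue v z)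
    obtain ⟨y, rfl⟩ := U.residue_surjective (f v) y
    refine ⟨y, ?_⟩
    have hfield : IsField ↥(V.presheaf.stalk v) := by
      have : Ring.KrullDimLE 0 ↥(V.presheaf.stalk v) := by
        refine krullDimLE_of_coheight_le (n := 0) (le_of_eq ?_)
        exact (coheight_eq_zero (α := ↥V)).2 fun w hw => le_of_eq (Specializes.eq hw)
      exact Ring.KrullDimLE.isField_of_isReduced
    let _ := hfield.toField
    have h2 : V.residue v (f.stalkMap v y) = V.residue v z := by
      rw [← hy]
      exact (congrArg (fun m => m.hom y) (Scheme.residue_residueFieldMap f v)).symm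
    exact (V.residue v).hom.injective h2
  · refine ⟨⟨?_⟩, f.injective⟩
    rw [eq_comm]
    refine le_antisymm (fun s _ => ?_) (continuous_iff_le_induced.1 f.continuous)
    choose O hO hvO hOr using hloc
    refine ⟨⋃ v ∈ s, O v, isOpen_biUnion fun v _ => hO v, ?_⟩
    ext w
    simp only [Set.mem_preimage, Set.mem_iUnion, exists_prop]
    refine ⟨?_, fun hw => ⟨w, hw, hvO w⟩⟩
    rintro ⟨v, hv, hw⟩
    rwa [f.injective (hOr v ⟨hw, Set.mem_range_self w⟩)]

/-- The inverse image of a quasi-compact monomorphic point in an etale chart is a preimmersion. -/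
theorem isPreimmersion_point_chart {X : Sp S} {p : FieldPt X} [Mono p.toHom] (hq : RepWith @QuasiCompact p.toHom)
    {U : Over S} {a : (yon S).obj U ⟶ X} (ha : RepWith @Etale a) {V : Over S} {pK : V ⟶ p.pt} {pU : V ⟶ U}
    (sq : IsPullback ((yon S).map pK) ((yon S).map pU) p.toHom a) : IsPreimmersion pU.left := by
  have : Etale pK.left := ha.property _ _ _ sq.flip
  have : Mono pU := (yon S).mono_of_mono_map (PullbackCone.mono_snd_of_is_pullback_of_mono sq.isLimit)
  have : Mono pU.left := inferInstanceAs (Mono ((Over.forget S).map pU))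
  have hd : DiscreteTopology ↥V.left := by
    have h1 := pK.left.isDiscrete_preimage_singleton (IsLocalRing.closedPoint p.K)
    rw [show pK.left ⁻¹' {IsLocalRing.closedPoint p.K} = Set.univ from
      Set.eq_univ_of_forall fun x => Subsingleton.elim (α := ↥p.pt.left) _ _] at h1
    exact isDiscrete_univ_iff.1 h1
  have : IsReduced V.left := GrpSchLib.isReduced_of_smooth_field pK.left
  have hu : ∀ v, Points.ofPt a (pU.left v) = Points.mk p := fun v => by
    have h1 : Points.ofPt a (pU.left v) = Points.ofPt p.toHom (pK.left v) := by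
      rw [← ofPt_comp, ← ofPt_comp, sq.w]
    rw [h1, show pK.left v = IsLocalRing.closedPoint p.K from Subsingleton.elim (α := ↥p.pt.left) _ _,
      Points.ofPt_toHom]
  refine isPreimmersion_of_mono_discrete pU.left fun v => ?_
  obtain ⟨A, hA', huA, -⟩ :=
    exists_isAffineOpen_mem_and_subset (U := (⊤ : U.left.Opens)) (x := pU.left v) trivial
  have hfinx : ∀ (V' : Over S) (b : (yon S).obj V' ⟶ X), IsAffine V'.left → RepWith @Etale b →
      (Points.ofPt b ⁻¹' {Points.mk p}).Finite := fun V' b _ hb => finite_fibre_of_repWith hb p hq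
  have hF : ((A : Set ↥U.left) ∩ Points.ofPt a ⁻¹' {Points.mk p}).Finite := by
    let j : Over.mk (A.ι ≫ U.hom) ⟶ U := Over.homMk A.ι rfl
    have : IsAffine (Over.mk (A.ι ≫ U.hom)).left := hA'
    have h1 := hfinx _ ((yon S).map j ≫ a) this
      (repWith_comp ((repWith_yon_map_iff _ j).2 (inferInstanceAs (Etale A.ι))) ha)
    refine (h1.image A.ι).subset ?_
    rintro v ⟨hvA, hv⟩
    refine ⟨⟨v, hvA⟩, ?_, rfl⟩
    change Points.ofPt ((yon S).map j ≫ a) ⟨v, hvA⟩ = _
    rw [ofPt_comp]
    exact hv
  obtain ⟨O₁, hO₁, huO₁, hO₁F⟩ := isOpen_singleton_fibre hF (u := pU.left v) ⟨huA, hu v⟩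
    fun w hw hwu => (eq_of_specializes _ hfinx ha (hu v) hw.2 hwu).symm
  refine ⟨(A : Set ↥U.left) ∩ O₁, A.isOpen.inter hO₁, ⟨huA, huO₁⟩, ?_⟩
  rintro _ ⟨⟨hwA, hwO⟩, w, rfl⟩
  exact hO₁F ⟨hwO, hwA, hu w⟩

theorem map_toHom_eq {Y : Sp S} (r : FieldPt Y) (x : Points ((yon S).obj r.pt)) :
    Points.map r.toHom x = Points.mk r := by
  haveI : Subsingleton ↥r.pt.left := inferInstanceAs (Subsingleton (PrimeSpectrum r.K))
  haveI : Subsingleton (Points ((yon S).obj r.pt)) :=
    (Points.schemeHomeo r.pt).toEquiv.subsingleton_congr.1 inferInstance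
  rw [Subsingleton.elim x (Points.ofPt (𝟙 _) (IsLocalRing.closedPoint r.K : ↥r.pt.left)), Points.map_ofPt,
    Category.id_comp, Points.ofPt_toHom]

/-- The fibre over a quasi-compact monomorphic point is embedded in the source. -/
theorem isEmbedding_point_fibre {X Y Xk : Sp S} (hX : IsAlgSpace X) (hY : IsAlgSpace Y) {f : X ⟶ Y}
    (r : FieldPt Y) [Mono r.toHom] (hq : RepWith @QuasiCompact r.toHom) {fst : Xk ⟶ X}
    {snd : Xk ⟶ (yon S).obj r.pt} (sq : IsPullback fst snd f r.toHom) :
    IsEmbedding (Points.map fst) ∧ Set.range (Points.map fst) = Points.map f ⁻¹' {Points.mk r} := by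
  have : Mono fst := PullbackCone.mono_fst_of_is_pullback_of_mono sq.isLimit
  have hinj := injective_points_map_of_mono fst
  constructor
  · refine ⟨⟨?_⟩, hinj⟩
    rw [eq_comm]
    refine le_antisymm (fun s hs => ?_) (continuous_iff_le_induced.1 (Points.continuous_map fst))
    obtain ⟨U, W, a, b, h, ha, ha', hb, -, w⟩ := exists_chart hX hY f
    let Wk := hq.rep.pullback b
    let pK : Wk ⟶ r.pt := hq.rep.fst' b
    let pW : Wk ⟶ W := hq.rep.snd b
    have sqW : IsPullback ((yon S).map pK) ((yon S).map pW) r.toHom b := hq.rep.isPullback' b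
    haveI : IsPreimmersion pW.left := isPreimmersion_point_chart hq hb sqW
    let q₁ : pullback h pW ⟶ U := pullback.fst h pW
    let q₂ : pullback h pW ⟶ Wk := pullback.snd h pW
    haveI : IsPreimmersion q₁.left :=
      MorphismProperty.of_isPullback (P := @IsPreimmersion)
        ((IsPullback.of_hasPullback h pW).flip.map (Over.forget S)) ‹IsPreimmersion pW.left›
    obtain ⟨ak, hak⟩ : ∃ ak : (yon S).obj (pullback h pW) ⟶ Xk,
        ak ≫ fst = (yon S).map q₁ ≫ a :=
      ⟨sq.lift ((yon S).map q₁ ≫ a) ((yon S).map (q₂ ≫ pK)) (by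
        rw [Category.assoc, w, Functor.map_comp, Category.assoc, sqW.w, ← Category.assoc,
          ← Functor.map_comp, pullback.condition, Functor.map_comp, Category.assoc]), sq.lift_fst _ _ _⟩
    obtain ⟨O, hO, hOs⟩ := q₁.left.isEmbedding.isOpen_iff.1 (hs.preimage (Points.continuous_ofPt ak))
    refine ⟨Points.ofPt a '' O, isOpenMap_ofPt ha _ hO, ?_⟩
    have hcomm : ∀ z, Points.ofPt a (q₁.left z) = Points.map fst (Points.ofPt ak z) := fun z => by
      rw [Points.map_ofPt, hak, ofPt_comp]
    have hlift : ∀ (u : ↥U.left) (x : Points Xk), Points.ofPt a u = Points.map fst x →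
        ∃ z, q₁.left z = u ∧ Points.ofPt ak z = x := by
      intro u x hx
      have he : Points.ofPt b (h.left u) = Points.ofPt r.toHom (IsLocalRing.closedPoint r.K) := by
        rw [← ofPt_comp, ← w, ← Points.map_ofPt, hx, ← Points.map_comp, sq.w, Points.map_comp,
          map_toHom_eq, Points.ofPt_toHom]
      obtain ⟨t, ht, -⟩ := exists_ofPt_of_eq sqW.flip he
      obtain ⟨z, hz, -⟩ := Scheme.exists_preimage_of_isPullback
        ((IsPullback.of_hasPullback h pW).map (Over.forget S)) u t ht.symm
      refine ⟨z, hz, hinj ?_⟩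
      rw [← hcomm, ← hx]
      exact congrArg _ hz
    ext x
    constructor
    · rintro ⟨u, huO, hux⟩
      obtain ⟨z, rfl, rfl⟩ := hlift u x hux
      have : z ∈ q₁.left ⁻¹' O := huO
      rwa [hOs] at this
    · intro hx
      obtain ⟨u, hu⟩ := surjective_ofPt ha' (Points.map fst x)
      obtain ⟨z, hz, rfl⟩ := hlift u x hu
      have hz' : z ∈ q₁.left ⁻¹' O := by rw [hOs]; exact hx
      exact ⟨q₁.left z, hz', hcomm z⟩
  · ext x
    constructor
    · rintro ⟨y, rfl⟩
      show Points.map f (Points.map fst y) = Points.mk r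
      rw [← Points.map_comp, sq.w, Points.map_comp]
      exact map_toHom_eq r _
    · intro hx
      obtain ⟨y, hy, -⟩ := exists_point_of_isPullback sq (x := x)
        (y := Points.ofPt (𝟙 _) (IsLocalRing.closedPoint r.K : ↥r.pt.left)) (by
          rw [Points.map_ofPt, Category.id_comp, Points.ofPt_toHom]; exact hx)
      exact ⟨y, hy⟩

end Groth.Agent.AlgSpDec
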