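import Groth.Agent.AlgSpPts.SepDescent

/-!
# Properness from a finite jointly surjective family of closed subspaces
-/

set_option backward.isDefEq.respectTransparency false
set_option backward.isDefEq.respectTransparency.types false

universe u

open CategoryTheory CategoryTheory.Limits AlgebraicGeometry Opposite AlgSp Groth.Agent.AlgSpLib Groth.Agent.AlgSpPts

namespace Groth.Agent.AlgSpDec

variable {S : Scheme.{u}} {Y B : Sp S} {ι : Type*} [Finite ι] {X : ι → Sp S} (a : ∀ k, X k ⟶ Y) (q : Y ⟶ B)

theorem image_eq_iUnion {Z Z' : Sp S} {W : ι → Sp S} (snd : Z' ⟶ Z) (l : ∀ k, W k ⟶ Z')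
    (hl : ∀ z, ∃ k, z ∈ Set.range (Points.map (l k))) (A : Set (Points Z')) :
    Points.map snd '' A = ⋃ k, Points.map (l k ≫ snd) '' (Points.map (l k) ⁻¹' A) := by
  ext z
  constructor
  · rintro ⟨x, hx, rfl⟩
    obtain ⟨k, w, rfl⟩ := hl x
    exact Set.mem_iUnion.2 ⟨k, w, hx, Points.map_comp _ _ w⟩
  · intro h
    obtain ⟨k, w, hw, rfl⟩ := Set.mem_iUnion.1 h
    exact ⟨Points.map (l k) w, hw, (Points.map_comp _ _ w).symm⟩

/-- Universal closedness descends along a finite jointly surjective family. -/
theorem isUnivClosedMor_of_family (hs : ∀ y, ∃ k, y ∈ Set.range (Points.map (a k)))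
    (hq : ∀ k, IsUnivClosedMor (a k ≫ q)) : IsUnivClosedMor q := by
  intro Z Z' hZ g fst snd sq A hA
  rw [image_eq_iUnion snd (fun k => pullback.snd (a k) fst) (fun z => ?_) A]
  · refine isClosed_iUnion_of_finite fun k => ?_
    exact hq k hZ g _ _ ((IsPullback.of_hasPullback (a k) fst).paste_vert sq) _
      (hA.preimage (Points.continuous_map _))
  · obtain ⟨k, x, hx⟩ := hs (Points.map fst z)
    obtain ⟨w, -, hw⟩ := exists_point_of_isPullback (IsPullback.of_hasPullback (a k) fst) hx
    exact ⟨k, w, hw⟩

/-- Separatedness descends along a finite jointly surjective family of universally closed morphisms. -/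
theorem isSeparatedMor_of_family (hX : ∀ k, IsAlgSpace (X k)) (hY : IsAlgSpace Y) (hB : IsAlgSpace B)
    (hc : ∀ k, IsUnivClosedMor (a k)) (hs : ∀ y, ∃ k, y ∈ Set.range (Points.map (a k)))
    (hq : ∀ k, IsSeparatedMor (a k ≫ q)) : IsSeparatedMor q := by
  obtain ⟨hr, hl, -, -, hmono⟩ := diagonal_package hY hB q
  have : Mono (pullback.diagonal q) := mono_of_repWith hmono
  refine repWith_isClosedImmersion_of_univClosed hr hl fun Z Z' hZ g fst snd sq => ?_
  intro A hA
  choose P l₁ l₂ a₁ a₂ sq₁ sq₂ hl' using fun k => exists_factor_diagonal (a k) q g sq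
  rw [image_eq_iUnion snd l₁ (fun z => ?_) A]
  · refine isClosed_iUnion_of_finite fun k => ?_
    have hXX := isAlgSpace_pullback (hX k) (hX k) hB (a k ≫ q) (a k ≫ q)
    have hYY := isAlgSpace_pullback hY hY hB q q
    have hm : IsUnivClosedMor (selfMap (a k) q) := by
      rw [selfMap_eq]
      exact isUnivClosedMor_comp (isAlgSpace_pullback hY (hX k) hB q (a k ≫ q)) hYY
        (isUnivClosedMor_of_isPullback (isPullback_map_left (a k) q _) (hc k))
        (isUnivClosedMor_of_isPullback (isPullback_map_right (a k) q _) (hc k))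
    have h2 : IsClosedMap (Points.map (l₂ k)) :=
      isClosedMap_map (repWith_mono (fun A B e (he : IsClosedImmersion e) => (inferInstance : UniversallyClosed e)) _
        (repWith_of_isPullback (sq₂ k) (hq k)))
    have h3 : IsClosedMap (Points.map (pullback.snd (selfMap (a k) q) g)) :=
      hm hZ g _ _ (IsPullback.of_hasPullback (selfMap (a k) q) g)
    rw [hl' k]
    rw [show Points.map (l₂ k ≫ pullback.snd (selfMap (a k) q) g) =
      Points.map (pullback.snd (selfMap (a k) q) g) ∘ Points.map (l₂ k) from funext fun x => Points.map_comp _ _ x]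
    exact (h3.comp h2) _ (hA.preimage (Points.continuous_map _))
  · obtain ⟨k, x, hx⟩ := hs (Points.map fst z)
    obtain ⟨w, -, hw⟩ := exists_point_of_isPullback (sq₁ k) hx
    exact ⟨k, w, hw⟩

/-- Properness of a morphism locally of finite type descends along a finite jointly surjective family of
universally closed morphisms. -/
theorem isProperMor_of_family (hX : ∀ k, IsAlgSpace (X k)) (hY : IsAlgSpace Y) (hB : IsAlgSpace B)
    (hc : ∀ k, IsUnivClosedMor (a k)) (hs : ∀ y, ∃ k, y ∈ Set.range (Points.map (a k)))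
    (hl : LocP @LocallyOfFiniteType q) (hq : ∀ k, IsProperMor (a k ≫ q)) : IsProperMor q := by
  have huc := isUnivClosedMor_of_family a q hs fun k => (hq k).2.2
  exact ⟨isSeparatedMor_of_family a q hX hY hB hc hs fun k => (hq k).1,
    ⟨hl, isQuasiCompactMor_of_univClosed hY hB huc⟩, huc⟩

end Groth.Agent.AlgSpDec
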