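import Groth.Agent.AlgSpDec.ClosedPush
import Groth.Agent.AlgSpLib.Points
import Mathlib.CategoryTheory.Sites.DenseSubsite.InducedTopology
import Mathlib.CategoryTheory.Sites.DenseSubsite.SheafEquiv
import Mathlib.CategoryTheory.Limits.Types.Limits
import Mathlib.Algebra.Category.Grp.Limits

/-!
# The essential image of a direct image along a closed immersion or an integral universally injective morphism
-/

set_option backward.isDefEq.respectTransparency false
set_option backward.isDefEq.respectTransparency.types false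

universe v' u' u

open CategoryTheory CategoryTheory.Limits AlgebraicGeometry Opposite AlgSp
open Groth.Agent.AlgSpLib Groth.Agent.AlgSpPts

namespace Groth.Agent.AlgSpDec.ClosedPush

variable {S : Scheme.{u}} {Y X : Sp S} {f : Y ⟶ X} (hf : Representable f)

/-- the object `E` misses the image of `f` -/
def Avoids (f : Y ⟶ X) (E : EtOver X) : Prop :=
  Disjoint (Set.range (Points.map E.obj.hom)) (Set.range (Points.map f))

theorem isLocallyFaithful_bc : (EtOver.bc hf).IsLocallyFaithful (etTop Y) := by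
  refine ⟨fun {U V} n₁ n₂ e => ?_⟩
  have sq := U.property.rep.isPullback' V.obj.hom
  let P : EtOver X := EtOver.mk ((yon S).map (U.property.rep.fst' V.obj.hom) ≫ U.obj.hom) (by
    refine repWith_comp ((repWith_yon_map_iff _ _).2 ?_) U.property
    exact V.property.property _ _ _ sq.flip)
  let p₁ : P ⟶ U := EtOver.homMk (U.property.rep.fst' V.obj.hom) rfl
  let p₂ : P ⟶ V := EtOver.homMk (U.property.rep.snd V.obj.hom) sq.w.symm
  have graph : ∀ n : U ⟶ V, ∃ γ : U ⟶ P, γ ≫ p₁ = 𝟙 U ∧ γ ≫ p₂ = n := by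
    intro n
    obtain ⟨l, h₁, h₂⟩ := sq.exists_lift (𝟙 _) ((yon S).map n.hom.left)
      ((Category.id_comp _).trans (EtOver.w n).symm)
    obtain ⟨l, rfl⟩ := (yon S).map_surjective l
    rw [← Functor.map_comp, ← (yon S).map_id] at h₁
    rw [← Functor.map_comp] at h₂
    refine ⟨EtOver.homMk l ?_, EtOver.hom_ext _ _ ((yon S).map_injective h₁),
      EtOver.hom_ext _ _ ((yon S).map_injective h₂)⟩
    show (yon S).map l ≫ (yon S).map _ ≫ U.obj.hom = U.obj.hom
    rw [← Functor.map_comp_assoc, (yon S).map_injective h₁, CategoryTheory.Functor.map_id, Category.id_comp]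
  obtain ⟨γ₁, h₁, h₁'⟩ := graph n₁
  obtain ⟨γ₂, h₂, h₂'⟩ := graph n₂
  have eγ : (EtOver.bc hf).map γ₁ = (EtOver.bc hf).map γ₂ := by
    have k₁ : (EtOver.bc hf).map γ₁ ≫ (EtOver.bc hf).map p₁ = (EtOver.bc hf).map γ₂ ≫ (EtOver.bc hf).map p₁ := by
      rw [← Functor.map_comp, ← Functor.map_comp, h₁, h₂]
    have k₂ : (EtOver.bc hf).map γ₁ ≫ (EtOver.bc hf).map p₂ = (EtOver.bc hf).map γ₂ ≫ (EtOver.bc hf).map p₂ := by
      rw [← Functor.map_comp, ← Functor.map_comp, h₁', h₂', e]
    refine EtOver.hom_ext _ _ (hf.hom_ext ?_ ?_)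
    · exact (EtOver.map_bcMap_fst hf γ₁).trans (EtOver.map_bcMap_fst hf γ₂).symm
    · refine (yon S).map_injective (sq.hom_ext ?_ ?_)
      · rw [← Functor.map_comp, ← Functor.map_comp]
        refine congrArg (yon S).map ?_
        have := congrArg (fun k => k.hom.left ≫ EtOver.bcπ hf U) k₁
        change (_ ≫ _) ≫ _ = (_ ≫ _) ≫ _ at this
        rw [Category.assoc, Category.assoc, EtOver.bc_map, EtOver.bc_map, EtOver.bc_map, EtOver.bcMap_snd] at this
        dsimp only [EtOver.bc_map] at this ⊢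
        simp only [Category.assoc] at this ⊢
        exact this
      · rw [← Functor.map_comp, ← Functor.map_comp]
        refine congrArg (yon S).map ?_
        have := congrArg (fun k => k.hom.left ≫ EtOver.bcπ hf V) k₂
        change (_ ≫ _) ≫ _ = (_ ≫ _) ≫ _ at this
        rw [Category.assoc, Category.assoc, EtOver.bc_map, EtOver.bc_map, EtOver.bc_map, EtOver.bcMap_snd] at this
        dsimp only [EtOver.bc_map] at this ⊢
        simp only [Category.assoc] at this ⊢
        exact this
  -- the pullback of the two graphs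
  let n₀ := EtOver.pullbackFst γ₁ γ₂
  have hc := EtOver.pullback_condition γ₁ γ₂
  have hn : n₀ ≫ n₁ = n₀ ≫ n₂ := by
    have a := congrArg (· ≫ p₂) hc
    have b := congrArg (· ≫ p₁) hc
    simp only [Category.assoc, h₁, h₂, h₁', h₂', Category.comp_id] at a b
    rw [a, ← b]
  obtain ⟨d, hd, -⟩ := (EtOver.isPullback_bc_map_pullback hf γ₁ γ₂).exists_lift (𝟙 _) (𝟙 _)
    (by rw [eγ])
  refine (etTop Y).superset_covering ?_ ((etTop Y).top_mem _)
  intro W g _
  exact ⟨_, n₀, g ≫ d, hn, by rw [Category.assoc, hd]; exact (Category.comp_id g).symm⟩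

theorem isEmpty_bc_of_avoids {E : EtOver X} (hE : Avoids f E) : IsEmpty ↥((EtOver.bc hf).obj E).obj.left.left := by
  refine ⟨fun p => ?_⟩
  refine Set.disjoint_left.1 hE ⟨Points.map ((yon S).map (EtOver.bcπ hf E)) (Points.ofScheme _ p), rfl⟩
    ⟨Points.map (EtOver.bcObj hf E).obj.hom (Points.ofScheme _ p), ?_⟩
  rw [← Points.map_comp, (EtOver.isPullback_bcObj hf E).w, Points.map_comp]

theorem avoids_of_hom {E E' : EtOver X} (g : E' ⟶ E) (hE : Avoids f E) : Avoids f E' := by
  refine Set.disjoint_of_subset_left ?_ hE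
  rintro _ ⟨x, rfl⟩
  exact ⟨Points.map ((yon S).map g.hom.left) x, (Points.map_comp _ _ x).symm.trans (by rw [EtOver.w g])⟩

/-- a sheaf trivial away from the image is a sheaf for the topology induced by `bc` -/
theorem isSheaf_induced [(EtOver.bc hf).IsCoverDense (etTop Y)] [(EtOver.bc hf).IsLocallyFull (etTop Y)]
    (hcl : ∀ E : EtOver X, IsClosed (Set.range (EtOver.bcπ hf E).left))
    (G : (EtOver X)ᵒᵖ ⥤ Type (u + 1)) (hG : Presieve.IsSheaf (etTop X) G)
    (huniq : ∀ E : EtOver X, Avoids f E → Nonempty (Unique (G.obj (op E)))) :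
    Presieve.IsSheaf ((EtOver.bc hf).inducedTopology (etTop Y)) G := by
  haveI := isLocallyFaithful_bc hf
  intro U R hR
  rw [Functor.mem_inducedTopology_iff_of_isCoverDense] at hR
  let R' : Sieve U :=
    { arrows := fun V g => R g ∨ Avoids f V
      downward_closed := fun {V W g} h k => h.imp (fun h => R.downward_closed h k) (avoids_of_hom k) }
  have hR' : R' ∈ etTop X U := by
    have pt : ∀ x : ↥U.obj.left.left, ∃ (V : EtOver X) (g : V ⟶ U), R' g ∧ x ∈ Set.range g.hom.left.left := by
      intro x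
      by_cases hx : x ∈ Set.range (EtOver.bcπ hf U).left
      · obtain ⟨w, rfl⟩ := hx
        obtain ⟨P, hP, hPR⟩ := (etPre Y).mem_toGrothendieck_iff_of_isStableUnderComposition.1 hR
        obtain ⟨ι, Z, g, rfl⟩ := P.exists_eq_ofArrows
        obtain ⟨i, z, hz⟩ := (ofArrows_mem_etPre_iff Z g).1 hP w
        obtain ⟨V, v, k, hv, e⟩ := hPR _ _ (Presieve.ofArrows.mk i)
        refine ⟨V, v, Or.inl hv, (EtOver.bcπ hf V).left (k.hom.left.left z), ?_⟩
        have eb : (EtOver.bcMap hf v).hom.left.left (k.hom.left.left z) = w := by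
          rw [← hz, e]
          exact (Scheme.Hom.comp_apply _ _ z).symm
        rw [← eb, ← Scheme.Hom.comp_apply, ← Scheme.Hom.comp_apply (EtOver.bcMap hf v).hom.left.left,
          ← Over.comp_left, ← Over.comp_left, EtOver.bcMap_snd]
      · let O : U.obj.left.left.Opens := ⟨(Set.range (EtOver.bcπ hf U).left)ᶜ, (hcl U).isOpen_compl⟩
        refine ⟨etOpen U O, etOpenι U O, Or.inr (Set.disjoint_left.2 ?_), (range_etOpenι U O).ge hx⟩
        rintro _ ⟨p, rfl⟩ ⟨y, hy⟩
        rw [← Points.ofScheme_toScheme _ p, ← Points.ofPt_eq_map_ofScheme] at hy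
        set q := Points.toScheme (etOpen U O).obj.left p
        have e1 : Points.ofPt (etOpen U O).obj.hom q = Points.ofPt U.obj.hom ((etOpenι U O).hom.left.left q) :=
          ofPt_comp _ _ _
        rw [e1, Points.ofPt_eq_map_ofScheme] at hy
        obtain ⟨z, -, hz⟩ := exists_point_of_isPullback (EtOver.isPullback_bcObj hf U) hy
        have hq : (etOpenι U O).hom.left.left q ∈ (O : Set ↥U.obj.left.left) := (range_etOpenι U O).le ⟨q, rfl⟩
        refine hq ⟨Points.toScheme _ z, ?_⟩
        rw [← Points.ofScheme_toScheme _ z, Points.map_ofPt, Category.id_comp] at hz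
        exact ((Points.toScheme_ofPt (EtOver.bcπ hf U) _).symm.trans (congrArg (Points.toScheme _) hz)).trans
          (Points.toScheme_ofScheme _ _)
    choose V g hg hx using pt
    refine (etTop X).superset_covering ?_ (ofArrows_mem_etTop V g fun x => ⟨x, hx x⟩)
    intro W h hh
    obtain ⟨x, k, rfl⟩ := (Sieve.mem_ofArrows_iff _ _ _).1 hh
    exact R'.downward_closed (hg x) k
  intro x hxc
  have hsub : ∀ (W : EtOver X) (_ : Avoids f W) (a b : G.obj (op W)), a = b := fun W hW a b =>
    let ⟨h⟩ := huniq W hW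
    (h.eq_default a).trans (h.eq_default b).symm
  classical
  let x' : Presieve.FamilyOfElements G (R' : Presieve U) := fun V g h =>
    if h' : R g then x g h' else (huniq V (h.resolve_left h')).some.default
  have hxc' : x'.Compatible := by
    intro V₁ V₂ W g₁ g₂ f₁ f₂ h₁ h₂ e
    by_cases a₁ : R f₁
    · by_cases a₂ : R f₂
      · simp only [x', dif_pos a₁, dif_pos a₂]
        exact hxc g₁ g₂ a₁ a₂ e
      · exact hsub W (avoids_of_hom g₂ (h₂.resolve_left a₂)) _ _
    · exact hsub W (avoids_of_hom g₁ (h₁.resolve_left a₁)) _ _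
  refine ⟨(hG R' hR').amalgamate x' hxc', fun V g h => ?_, fun t ht => ?_⟩
  · refine ((hG R' hR').valid_glue hxc' g (Or.inl h)).trans ?_
    simp only [x', dif_pos h]
  · refine (hG R' hR').isSeparatedFor.ext fun V g h => ?_
    rw [(hG R' hR').valid_glue hxc' g h]
    by_cases h' : R g
    · simp only [x', dif_pos h']
      exact ht g h'
    · exact hsub V (h.resolve_left h') _ _

theorem unique_of_avoids (H : EtSh Y (Type (u + 1))) {E : EtOver X} (hE : Avoids f E) :
    Nonempty (Unique (H.obj.obj (op ((EtOver.bc hf).obj E)))) := by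
  haveI := isEmpty_bc_of_avoids hf hE
  refine ⟨Types.isTerminalEquivUnique _ (Sheaf.isTerminalOfBotCover H _ ((etTop Y).superset_covering ?_
    (ofArrows_mem_etTop (E := (EtOver.bc hf).obj E) (fun i : PEmpty.{1} => (EtOver.bc hf).obj E)
      (fun i => i.elim) fun x => isEmptyElim x)))⟩
  intro V g hg
  obtain ⟨i, -⟩ := (Sieve.mem_ofArrows_iff _ _ _).1 hg
  exact i.elim

theorem mem_essImage (hX : IsAlgSpace X) (H : LiftableSp hf) (A : Type u') [Category.{v'} A]
    [∀ M : (EtOver Y)ᵒᵖ, HasLimitsOfShape (StructuredArrow M (EtOver.bc hf).op) A] (G : EtSh X A)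
    (hG : Presheaf.IsSheaf ((EtOver.bc hf).inducedTopology (etTop Y)) G.obj) :
    (pushEt hf A).essImage G := by
  haveI := isCoverDense_bc hf hX H
  haveI := isLocallyFull_bc hf H
  haveI := isLocallyFaithful_bc hf
  let e := (EtOver.bc hf).sheafInducedTopologyEquivOfIsCoverDense (etTop Y) A
  let G' : Sheaf ((EtOver.bc hf).inducedTopology (etTop Y)) A := ⟨G.obj, hG⟩
  exact ⟨e.functor.obj G', ⟨(fullyFaithfulSheafToPresheaf _ _).preimageIso
    ((sheafToPresheaf ((EtOver.bc hf).inducedTopology (etTop Y)) A).mapIso (e.unitIso.app G').symm)⟩⟩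

end Groth.Agent.AlgSpDec.ClosedPush
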