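import Groth.Agent.AlgSpDec.MonoCriterion2
import Groth.Agent.AlgSpDec.FreeQuotSep
import Groth.Agent.AlgSpDec.LqfChart
import Groth.Agent.DescLib.EtaleFibre
import Groth.Agent.SGA1Q.SigmaFinite
import Mathlib.FieldTheory.Galois.Basic
import Mathlib.FieldTheory.IsSepClosed

/-!
# Field valued points lift to affine etale charts

For a field valued point of an algebraic space, no separation hypothesis, an affine etale chart with a
rational lift is constructed as the quotient of an affine open of pairwise distinct tuples of points of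
an affine chart by the permutations of the entries.
-/

set_option backward.isDefEq.respectTransparency false
set_option backward.isDefEq.respectTransparency.types false

universe u

open CategoryTheory Limits Opposite AlgebraicGeometry AlgSp Groth.Agent.AlgSpLib Groth.Agent.AlgSpPts

namespace Groth.Agent.AlgSpDec.RatLift

variable {S : Scheme.{u}} {X : Sp S}

/-- Pairs over a chart with affine source are separated over the second factor. -/
theorem isSeparated_of_pair {U W P : Over S} [IsAffine U.left] {φ : (yon S).obj U ⟶ X} {g : (yon S).obj W ⟶ X}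
    {p₁ : P ⟶ U} {p₂ : P ⟶ W} (sq : IsPullback ((yon S).map p₁) ((yon S).map p₂) φ g) :
    IsSeparated p₂.left := by
  have : IsSeparated (U.hom ≫ terminal.from S) := by rw [terminal.comp_from]; infer_instance
  have : IsSeparated U.hom := IsSeparated.of_comp U.hom (terminal.from S)
  have hw : p₁.left ≫ U.hom = p₂.left ≫ W.hom := (Over.w p₁).trans (Over.w p₂).symm
  let j := pullback.lift (f := U.hom) (g := W.hom) p₁.left p₂.left hw
  have : Mono j := ⟨fun {Z} y y' h => by
    have h1 : y ≫ p₁.left = y' ≫ p₁.left := by simpa [j] using congrArg (· ≫ pullback.fst U.hom W.hom) h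
    have h2 : y ≫ p₂.left = y' ≫ p₂.left := by simpa [j] using congrArg (· ≫ pullback.snd U.hom W.hom) h
    have hy : y' ≫ P.hom = y ≫ P.hom := by
      rw [← Over.w p₁, ← Category.assoc, ← Category.assoc, h1]
    let Y : Over S := Over.mk (y ≫ P.hom)
    let yo : Y ⟶ P := CategoryTheory.Over.homMk y rfl
    let yo' : Y ⟶ P := CategoryTheory.Over.homMk y' hy
    have : (yon S).map yo = (yon S).map yo' := sq.hom_ext
      (by rw [← Functor.map_comp, ← Functor.map_comp]; congr 1; exact Over.OverMorphism.ext h1)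
      (by rw [← Functor.map_comp, ← Functor.map_comp]; congr 1; exact Over.OverMorphism.ext h2)
    exact congrArg Over.Hom.left ((yon S).map_injective this)⟩
  rw [show p₂.left = j ≫ pullback.snd U.hom W.hom from (pullback.lift_snd _ _ _).symm]
  infer_instance

/-- The fibre powers of a chart exist as schemes. -/
theorem exists_tuples {U : Over S} [IsAffine U.left] {φ : (yon S).obj U ⟶ X} (hφ : RepWith @Etale φ) (m : ℕ) :
    ∃ (W : Over S) (pr : Fin (m + 1) → (W ⟶ U)),
      (∀ i j, (yon S).map (pr i) ≫ φ = (yon S).map (pr j) ≫ φ) ∧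
      (∀ {T : Over S} {f g : T ⟶ W}, (∀ i, f ≫ pr i = g ≫ pr i) → f = g) ∧
      (∀ {T : Over S} (f : Fin (m + 1) → (T ⟶ U)), (∀ i j, (yon S).map (f i) ≫ φ = (yon S).map (f j) ≫ φ) →
        ∃ l : T ⟶ W, ∀ i, l ≫ pr i = f i) ∧
      ∃ i, Etale (pr i).left ∧ IsSeparated (pr i).left := by
  induction m with
  | zero =>
    exact ⟨U, fun _ => 𝟙 U, fun _ _ => rfl, fun h => by simpa using h 0,
      fun f _ => ⟨f 0, fun i => by rw [Subsingleton.elim (α := Fin 1) i 0, Category.comp_id]⟩, 0,
      inferInstanceAs (Etale (𝟙 U.left)), inferInstanceAs (IsSeparated (𝟙 U.left))⟩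
  | succ m ih =>
    obtain ⟨W, pr, hw, hext, hlift, i₀, he, hs⟩ := ih
    let g := (yon S).map (pr i₀) ≫ φ
    let P := hφ.rep.pullback g
    let p₁ : P ⟶ U := hφ.rep.fst' g
    let p₂ : P ⟶ W := hφ.rep.snd g
    have sq : IsPullback ((yon S).map p₁) ((yon S).map p₂) φ g := hφ.rep.isPullback' g
    have : Etale p₂.left := hφ.property_snd g
    have : IsSeparated p₂.left := isSeparated_of_pair sq
    have h0 : ∀ i, (yon S).map p₁ ≫ φ = (yon S).map (p₂ ≫ pr i) ≫ φ := fun i => by
      rw [sq.w, Functor.map_comp, Category.assoc]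
      exact congrArg ((yon S).map p₂ ≫ ·) (hw i₀ i)
    refine ⟨P, Fin.cases p₁ fun i => p₂ ≫ pr i, ?_, ?_, ?_, i₀.succ, ?_, ?_⟩
    · intro i j
      induction i using Fin.cases with
      | zero =>
        induction j using Fin.cases with
        | zero => rfl
        | succ j => exact h0 j
      | succ i =>
        induction j using Fin.cases with
        | zero => exact (h0 i).symm
        | succ j => exact (h0 i).symm.trans (h0 j)
    · intro T f g h
      apply (yon S).map_injective
      refine sq.hom_ext ?_ ?_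
      · rw [← Functor.map_comp, ← Functor.map_comp]
        exact congrArg (yon S).map (h 0)
      · rw [← Functor.map_comp, ← Functor.map_comp]
        refine congrArg (yon S).map (hext fun i => ?_)
        rw [Category.assoc, Category.assoc]
        simpa using h i.succ
    · intro T f hf
      obtain ⟨l, hl⟩ := hlift (fun i => f i.succ) fun i j => hf _ _
      obtain ⟨k, hk⟩ := (yon S).map_surjective (sq.lift ((yon S).map (f 0)) ((yon S).map l) (by
        change _ = (yon S).map l ≫ (yon S).map (pr i₀) ≫ φ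
        rw [← Functor.map_comp_assoc, hl]
        exact hf _ _))
      have hk₁ : k ≫ p₁ = f 0 := (yon S).map_injective (by rw [Functor.map_comp, hk, sq.lift_fst])
      have hk₂ : k ≫ p₂ = l := (yon S).map_injective (by rw [Functor.map_comp, hk, sq.lift_snd])
      refine ⟨k, fun i => ?_⟩
      induction i using Fin.cases with
      | zero => simpa using hk₁
      | succ i => simp only [Fin.cases_succ]; rw [reassoc_of% hk₂, hl]
    · simp only [Fin.cases_succ]
      exact inferInstanceAs (Etale (p₂.left ≫ (pr i₀).left))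
    · simp only [Fin.cases_succ]
      exact inferInstanceAs (IsSeparated (p₂.left ≫ (pr i₀).left))

theorem isAffineOpen_inf' {W : Scheme.{u}} [W.IsSeparated] {ι : Type*} {s : Finset ι} (hs : s.Nonempty)
    (O : ι → W.Opens) (h : ∀ i, IsAffineOpen (O i)) : IsAffineOpen (s.inf' hs O) := by
  induction hs using Finset.Nonempty.cons_induction with
  | singleton a => simpa using h a
  | cons a s _ hs ih =>
    rw [Finset.inf'_cons hs]
    exact (h a).inf ih

theorem mem_inf' {W : Scheme.{u}} {ι : Type*} {s : Finset ι} (hs : s.Nonempty) (O : ι → W.Opens) (z : ↥W) :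
    z ∈ s.inf' hs O ↔ ∀ i ∈ s, z ∈ O i := by
  induction hs using Finset.Nonempty.cons_induction with
  | singleton a => simp
  | cons a s _ hs ih =>
    rw [Finset.inf'_cons hs, TopologicalSpace.Opens.mem_inf, ih]
    simp

/-- An invariant affine open around a point. -/
theorem exists_invariant_affine {U W : Over S} [IsAffine U.left] {pr : W ⟶ U} [IsSeparated pr.left]
    [Etale pr.left] {P : Type*} [Group P] [Finite P] (ρ : P →* Aut W) (W₀ : W.left.Opens) (w : ↥W.left)
    (hw : ∀ σ : P, (ρ σ).hom.left w ∈ W₀) :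
    ∃ A : W.left.Opens, IsAffineOpen A ∧ w ∈ A ∧ A ≤ W₀ ∧ ∀ σ : P, (ρ σ).hom.left ⁻¹ᵁ A = A := by
  have : IsSeparated (pr.left ≫ terminal.from U.left) := inferInstance
  have : W.left.IsSeparated := ⟨by
    rw [show terminal.from W.left = pr.left ≫ terminal.from U.left from Subsingleton.elim _ _]; infer_instance⟩
  let f : W₀.toScheme ⟶ U.left := W₀.ι ≫ pr.left
  have : IsSeparated f := inferInstance
  have : Etale f := inferInstance
  obtain ⟨V, hV, hTV⟩ := exists_affineOpen_of_finite f
    (Set.finite_range fun σ : P => (⟨(ρ σ).hom.left w, hw σ⟩ : W₀.toScheme))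
  let O : W.left.Opens := W₀.ι ''ᵁ V
  have hO : IsAffineOpen O := hV.image_of_isOpenImmersion W₀.ι
  cases nonempty_fintype P
  let A : W.left.Opens := Finset.univ.inf' Finset.univ_nonempty fun σ : P => (ρ σ).hom.left ⁻¹ᵁ O
  have hA : ∀ z, z ∈ A ↔ ∀ σ : P, (ρ σ).hom.left z ∈ O := by
    intro z
    rw [mem_inf']
    exact ⟨fun h σ => h σ (Finset.mem_univ σ), fun h σ _ => h σ⟩
  have hiso : ∀ σ : P, IsIso (ρ σ).hom.left := fun σ => inferInstanceAs (IsIso ((Over.forget S).map (ρ σ).hom))
  refine ⟨A, isAffineOpen_inf' _ _ fun σ => ?_, (hA w).2 fun σ => ?_, fun z hz => ?_, fun σ => ?_⟩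
  · exact hO.preimage (ρ σ).hom.left
  · exact ⟨⟨(ρ σ).hom.left w, hw σ⟩, hTV ⟨σ, rfl⟩, rfl⟩
  · obtain ⟨v, -, hv⟩ := (hA z).1 hz 1
    have h1 : (ρ 1).hom.left z = z := by rw [map_one]; rfl
    rw [h1] at hv
    rw [← hv]
    exact v.2
  · ext z
    change (ρ σ).hom.left z ∈ A ↔ z ∈ A
    rw [hA, hA]
    have e : ∀ τ : P, (ρ τ).hom.left ((ρ σ).hom.left z) = (ρ (τ * σ)).hom.left z := fun τ => by
      rw [map_mul]; rfl
    refine ⟨fun h τ => ?_, fun h τ => ?_⟩
    · have := h (τ * σ⁻¹)
      rwa [e, inv_mul_cancel_right] at this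
    · rw [e]; exact h _

/-- The quotient of an affine scheme by a free finite group, mapped to the space. -/
theorem exists_quotient_chart (hX : IsAlgSpace X) {A : Over S} [IsAffine A.left] {G : Type u} [Group G] [Finite G]
    {ρ : G →* Aut A}
    (hfree : ∀ (g : G) (x : A.left), g ≠ 1 →
      A.left.fromSpecResidueField x ≫ (ρ g).hom.left ≠ A.left.fromSpecResidueField x)
    {ψ : (yon S).obj A ⟶ X} (hψ : RepWith @Etale ψ) (hinv : ∀ g, (yon S).map (ρ g).hom ≫ ψ = ψ) :
    ∃ (B : Over S) (q : A ⟶ B) (b : (yon S).obj B ⟶ X), IsAffine B.left ∧ RepWith @Etale b ∧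
      (yon S).map q ≫ b = ψ ∧ ∀ g, (ρ g).hom ≫ q = q := by
  let c : Cofan (fun _ : G => A) := Cofan.mk (∐ fun _ : G => A) (Sigma.ι _)
  have hc : IsColimit c := coproductIsCoproduct _
  let s : c.pt ⟶ A := Sigma.desc fun _ => 𝟙 A
  let t : c.pt ⟶ A := Sigma.desc fun g => (ρ g).hom
  have hs : ∀ g, c.inj g ≫ s = 𝟙 A := fun g => Sigma.ι_desc _ g
  have ht : ∀ g, c.inj g ≫ t = (ρ g).hom := fun g => Sigma.ι_desc _ g
  have H := FreeAction.isEtaleEqvRel hfree hc hs ht
  have : Etale s.left := H.etale_left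
  obtain ⟨e, he⟩ := FreeAction.exists_iso hc
  have : IsFinite s.left := by
    have h1 : e.hom ≫ s.left = Sigma.desc fun _ : G => 𝟙 A.left := by
      refine Sigma.hom_ext _ _ fun g => ?_
      rw [← Category.assoc, he, Sigma.ι_desc, ← Over.comp_left, hs]
      rfl
    have h2 : IsFinite (e.hom ≫ s.left) := h1 ▸ SGA1Q.isFinite_sigmaDesc _ fun _ => inferInstance
    exact (MorphismProperty.cancel_left_of_respectsIso @IsFinite e.hom s.left).1 h2
  have sqG := isPullback_quotMap H.toIsEqvRel
  have hls : Sheaf.IsLocallySurjective (quotMap s t) := by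
    have : Epi (QuotSh.quotπ Scheme.fppfPrecoverage s t) := by
      unfold QuotSh.quotπ
      infer_instance
    exact (CategoryTheory.Sheaf.isLocallySurjective_iff_epi (quotMap s t)).2 (epi_comp _ _)
  obtain ⟨g, hg⟩ := exists_desc_of_kernelPair sqG ψ (by
    let θ : sigmaOver (fun _ : G => A) ⟶ c.pt := Over.homMk e.hom (by
      refine Sigma.hom_ext _ _ fun g => ?_
      rw [← Category.assoc, he, Over.w (c.inj g)]
      exact (Sigma.ι_desc (fun _ : G => A.hom) g).symm)
    have : IsIso θ.left := inferInstanceAs (IsIso e.hom)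
    have : IsIso ((Over.forget S).map θ) := this
    have : IsIso θ := isIso_of_reflects_iso θ (Over.forget S)
    rw [← cancel_epi ((yon S).map θ)]
    refine hom_ext_sigma _ fun g => ?_
    have hθ : sigmaι (fun _ : G => A) g ≫ θ = c.inj g := Over.OverMorphism.ext (he g)
    rw [← Functor.map_comp_assoc, ← Functor.map_comp_assoc, ← Functor.map_comp_assoc, ← Functor.map_comp_assoc,
      Category.assoc, Category.assoc, reassoc_of% hθ, reassoc_of% hθ, ht, hs, hinv,
      CategoryTheory.Functor.map_id, Category.id_comp])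
  obtain ⟨B, q, m₀, hB, hq, hm₀, hqm⟩ := exists_quot_of_finite_relation sqG
  let b := m₀ ≫ g
  have hqb : (yon S).map q ≫ b = ψ := by
    change (yon S).map q ≫ m₀ ≫ g = ψ
    rw [← Category.assoc, hqm]
    exact hg
  have hqq : IsPullback t s q q := by
    have hw : t ≫ q = s ≫ q := (yon S).map_injective ((cancel_mono m₀).1 (by
      rw [Functor.map_comp, Functor.map_comp, Category.assoc, Category.assoc, hqm, sqG.w]))
    refine IsPullback.of_map (yon S) hw ⟨⟨by rw [← Functor.map_comp, ← Functor.map_comp, hw]⟩,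
      ⟨PullbackCone.isLimitAux' _ fun d => ?_⟩⟩
    refine ⟨sqG.lift d.fst d.snd (by rw [← hqm, reassoc_of% d.condition]), sqG.lift_fst _ _ _,
      sqG.lift_snd _ _ _, fun {x} h1 h2 => sqG.hom_ext (h1.trans (sqG.lift_fst _ _ _).symm)
        (h2.trans (sqG.lift_snd _ _ _).symm)⟩
  have hb : Representable b := representable_from_yon' hX b
  have hc' : Representable ((yon S).map q ≫ b) := representable_from_yon' hX _
  let RZ := hc'.pullback ((yon S).map q ≫ b)
  let a' : RZ ⟶ A := hc'.fst' ((yon S).map q ≫ b)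
  let b' : RZ ⟶ A := hc'.snd ((yon S).map q ≫ b)
  have sqR : IsPullback ((yon S).map a') ((yon S).map b') ((yon S).map q ≫ b) ((yon S).map q ≫ b) :=
    hc'.isPullback' _
  have : Etale b'.left := (hqb ▸ hψ : RepWith @Etale ((yon S).map q ≫ b)).property _ _ _ sqR
  obtain ⟨j, hja, hjb⟩ := exists_rel_lift sqR t s (by
    rw [← Functor.map_comp_assoc, ← Functor.map_comp_assoc, hqq.w])
  have : Mono j := ⟨fun {T} x y h => H.injective T x y
    (by rw [← hja, ← Category.assoc, h, Category.assoc])
    (by rw [← hjb, ← Category.assoc, h, Category.assoc])⟩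
  have : Mono j.left := inferInstanceAs (Mono ((Over.forget S).map j))
  have : Etale (j.left ≫ b'.left) := by rw [← Over.comp_left, hjb]; infer_instance
  have : Etale j.left := Etale.of_comp j.left b'.left
  have : IsOpenImmersion j.left := IsOpenImmersion.of_flat_of_mono j.left
  have hd : RepWith @IsOpenImmersion (pullback.diagonal b) :=
    repWith_openImm_diagonal hb hq sqR (j := j) (by rw [hja, hjb]; exact hqq)
  refine ⟨B, q, b, hB, repWith_etale_of_cover hb hq ?_ ?_ hd, hqb, fun σ => ?_⟩
  · rw [hqb]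
    exact repWith_mono (fun _ _ k hk => by
      have : Etale k := hk
      exact (inferInstance : Flat k)) _ hψ
  · rw [hqb]
    exact repWith_mono (fun _ _ k hk => by
      have : Etale k := hk
      exact (inferInstance : LocallyOfFinitePresentation k)) _ hψ
  · have h := congrArg (fun k => c.inj σ ≫ k) hqq.w
    simpa only [← Category.assoc, ht, hs, Category.id_comp] using h

/-- Every field valued point lifts to an affine etale chart. -/
theorem exists_affine_lift (hX : IsAlgSpace X) (q : FieldPt X) :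
    ∃ (B : Over S) (b : (yon S).obj B ⟶ X) (l : q.pt ⟶ B),
      IsAffine B.left ∧ RepWith @Etale b ∧ (yon S).map l ≫ b = q.toHom := by
  obtain ⟨U, φ, u, hU, hφ, hu⟩ := exists_affine_chart_at hX (Points.mk q)
  let T := hφ.rep.pullback q.toHom
  let T₁ : T ⟶ U := hφ.rep.fst' q.toHom
  let T₂ : T ⟶ q.pt := hφ.rep.snd q.toHom
  have sqT : IsPullback ((yon S).map T₁) ((yon S).map T₂) φ q.toHom := hφ.rep.isPullback' q.toHom
  have : Etale T₂.left := hφ.property_snd q.toHom
  obtain ⟨z, -, -⟩ := exists_ofPt_of_eq sqT (u := u) (v := IsLocalRing.closedPoint q.K) (by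
    rw [Points.ofPt_toHom]; exact hu)
  have : DiscreteTopology ↥T.left := discreteTopology_of_etale_field (K := q.K) T₂.left
  have : IsReduced q.pt.left := inferInstanceAs (IsReduced (Spec (CommRingCat.of q.K)))
  have : IsReduced T.left := isReduced_of_etaleMor T₂.left
  have := isOpenImmersion_of_discrete (T.left.fromSpecResidueField z)
  let k := q.K
  let k' := T.left.residueField z
  let φ₀ : CommRingCat.of k ⟶ k' := Spec.preimage (T.left.fromSpecResidueField z ≫ T₂.left)
  have hφ₀ : Spec.map φ₀ = T.left.fromSpecResidueField z ≫ T₂.left := Spec.map_preimage _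
  let _ : Algebra k k' := φ₀.hom.toAlgebra
  have hE : Etale (Spec.map φ₀) := by rw [hφ₀]; infer_instance
  rw [HasRingHomProperty.Spec_iff (P := @Etale)] at hE
  have : Algebra.Etale k k' := hE
  have : Module.Finite k k' := Algebra.FormallyUnramified.finite_of_free _ _
  have : Algebra.IsSeparable k k' := (Algebra.FormallyUnramified.iff_isSeparable _ _).1 inferInstance
  let Ω := SeparableClosure k
  let L := IntermediateField.normalClosure k k' Ω
  have : Normal k L := inferInstance
  have : Algebra.IsSeparable k L := Algebra.isSeparable_tower_bot_of_isSeparable k L Ω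
  have : IsGalois k L := ⟨⟩
  have : FiniteDimensional k L := normalClosure.is_finiteDimensional k k' Ω
  let ι₀ : k' →ₐ[k] Ω := IsSepClosed.lift
  let ι₁ : k' →ₐ[k] L := AlgHom.codRestrict ι₀ L.toSubalgebra
    fun x => ι₀.fieldRange_le_normalClosure ⟨x, rfl⟩
  let I := k' →ₐ[k] L
  have : Nonempty I := ⟨ι₁⟩
  obtain ⟨m, ⟨en⟩⟩ : ∃ m, Nonempty (I ≃ Fin (m + 1)) := by
    obtain ⟨n, ⟨en⟩⟩ := Finite.exists_equiv_fin I
    obtain ⟨m, rfl⟩ := Nat.exists_eq_succ_of_ne_zero (n := n) fun h => by
      subst h; exact (en ι₁).elim0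
    exact ⟨m, ⟨en⟩⟩
  let χ : CommRingCat.of k ⟶ CommRingCat.of L := CommRingCat.ofHom (algebraMap k L)
  let Lp : Over S := Over.mk (Spec.map χ ≫ q.str)
  let π : Lp ⟶ q.pt := Over.homMk (Spec.map χ) rfl
  have hι : ∀ ι : I, φ₀ ≫ CommRingCat.ofHom ι.toRingHom = χ := fun ι => CommRingCat.hom_ext ι.comp_algebraMap
  let rz : ∀ ι : I, Lp ⟶ T := fun ι => CategoryTheory.Over.homMk
    (Spec.map (CommRingCat.ofHom ι.toRingHom) ≫ T.left.fromSpecResidueField z) (by
      change _ = Spec.map χ ≫ q.str
      rw [← hι ι, Spec.map_comp, Category.assoc, hφ₀, Category.assoc, Category.assoc]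
      exact congrArg (fun h => _ ≫ _ ≫ h) (Over.w T₂).symm)
  have hrz : ∀ ι, rz ι ≫ T₂ = π := fun ι => Over.OverMorphism.ext (by
    change (Spec.map _ ≫ _) ≫ T₂.left = Spec.map χ
    rw [Category.assoc, ← hφ₀, ← Spec.map_comp, hι])
  have hrz' : ∀ ι ι', rz ι ≫ T₁ = rz ι' ≫ T₁ → ι = ι' := by
    intro ι ι' h
    have h' : rz ι = rz ι' := (yon S).map_injective (sqT.hom_ext
      (by rw [← Functor.map_comp, ← Functor.map_comp, h])
      (by rw [← Functor.map_comp, ← Functor.map_comp, hrz, hrz]))
    have h'' := Spec.map_injective ((cancel_mono _).1 (congrArg CommaMorphism.left h'))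
    exact AlgHom.coe_ringHom_injective (congrArg CommRingCat.Hom.hom h'')
  obtain ⟨W, pr, hw, hext, hlift, i₀, he₀, hs₀⟩ := exists_tuples hφ m
  obtain ⟨l, hl⟩ := hlift (fun i => rz (en.symm i) ≫ T₁) fun i j => by
    simp only [Functor.map_comp, Category.assoc, sqT.w]
    rw [← Functor.map_comp_assoc, ← Functor.map_comp_assoc, hrz, hrz]
  -- the action of the permutations
  let P := Equiv.Perm (ULift.{u} (Fin (m + 1)))
  choose act hact using fun σ : P => hlift (fun i => pr (σ.symm ⟨i⟩).down) fun i j => hw _ _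
  have hact1 : act 1 = 𝟙 W := hext fun i => by rw [hact, Category.id_comp]; rfl
  have hactm : ∀ σ τ : P, act τ ≫ act σ = act (σ * τ) := fun σ τ => hext fun i => by
    rw [Category.assoc, hact, hact, hact]; rfl
  let ρ : P →* Aut W :=
    { toFun := fun σ => ⟨act σ, act σ⁻¹, by rw [hactm, inv_mul_cancel, hact1],
        by rw [hactm, mul_inv_cancel, hact1]⟩
      map_one' := Iso.ext hact1
      map_mul' := fun σ τ => Iso.ext (hactm σ τ).symm }
  -- the locus of distinct tuples
  let R := hφ.rep.pullback φ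
  let t : R ⟶ U := hφ.rep.fst' φ
  let s : R ⟶ U := hφ.rep.snd φ
  have sqR : IsPullback ((yon S).map t) ((yon S).map s) φ φ := hφ.rep.isPullback' φ
  have : Etale s.left := hφ.property_snd φ
  have : IsSeparated s.left := isSeparated_of_pair sqR
  obtain ⟨δ, hδt, hδs⟩ := exists_rel_lift sqR (𝟙 U) (𝟙 U) rfl
  have hδs' : δ.left ≫ s.left = 𝟙 _ := congrArg CommaMorphism.left hδs
  have : IsSplitMono δ.left := ⟨⟨⟨s.left, hδs'⟩⟩⟩
  have : Etale (δ.left ≫ s.left) := by rw [hδs']; infer_instance
  have : Etale δ.left := Etale.of_comp δ.left s.left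
  have : IsOpenImmersion δ.left := IsOpenImmersion.of_flat_of_mono δ.left
  have : IsClosedImmersion (δ.left ≫ s.left) := by rw [hδs']; infer_instance
  have : IsClosedImmersion δ.left := IsClosedImmersion.of_comp δ.left s.left
  choose mm hmt hms using fun i j => exists_rel_lift sqR (pr i) (pr j) (hw i j)
  let bad : Set ↥W.left := ⋃ p ∈ {p : Fin (m + 1) × Fin (m + 1) | p.1 ≠ p.2},
    (mm p.1 p.2).left ⁻¹' Set.range δ.left
  have hbad : IsClosed bad := (Set.toFinite _).isClosed_biUnion fun p _ =>
    δ.left.isClosedEmbedding.isClosed_range.preimage (mm p.1 p.2).left.continuous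
  let W₀ : W.left.Opens := ⟨badᶜ, hbad.isOpen_compl⟩
  have hdist : ∀ {T' : Over S} (f : T' ⟶ W) (i j : Fin (m + 1)), (∀ x, f.left x ∈ (mm i j).left ⁻¹' Set.range δ.left) →
      f ≫ pr i = f ≫ pr j := by
    intro T' f i j hf
    let n := IsOpenImmersion.lift δ.left (f ≫ mm i j).left (by rintro _ ⟨x, rfl⟩; exact hf x)
    have hn : n ≫ δ.left = (f ≫ mm i j).left := IsOpenImmersion.lift_fac _ _ _
    have ht' : (f ≫ mm i j ≫ t).left = n := by
      change f.left ≫ (mm i j).left ≫ t.left = n
      rw [← Category.assoc, ← Over.comp_left, ← hn, Category.assoc, ← Over.comp_left, hδt]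
      exact Category.comp_id _
    have hs' : (f ≫ mm i j ≫ s).left = n := by
      change f.left ≫ (mm i j).left ≫ s.left = n
      rw [← Category.assoc, ← Over.comp_left, ← hn, Category.assoc, ← Over.comp_left, hδs]
      exact Category.comp_id _
    rw [← hmt i j, ← hms i j]
    exact Over.OverMorphism.ext (ht'.trans hs'.symm)
  let x₀ := IsLocalRing.closedPoint L
  have hlW : ∀ σ : P, (ρ σ).hom.left (l.left x₀) ∈ W₀ := by
    intro σ hmem
    obtain ⟨⟨i, j⟩, hij, hx⟩ := Set.mem_iUnion₂.1 hmem
    have := hdist (l ≫ act σ) i j fun x => by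
      rw [show x = x₀ from Subsingleton.elim (α := PrimeSpectrum L) _ _]
      exact hx
    simp only [Category.assoc, hact, hl] at this
    have h2 := en.symm.injective.eq_iff.1 (hrz' _ _ this)
    exact hij (congrArg ULift.down (σ.symm.injective (ULift.ext _ _ h2)))
  have : IsSeparated (pr i₀).left := hs₀
  have : Etale (pr i₀).left := he₀
  obtain ⟨A, hA, hlA, hAW, hAinv⟩ := exists_invariant_affine (pr := pr i₀) ρ W₀ (l.left x₀) hlW
  let Ao : Over S := Over.mk (A.ι ≫ W.hom)
  let jA : Ao ⟶ W := Over.homMk A.ι rfl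
  have : Mono jA := (Over.forget S).mono_of_mono_map (inferInstanceAs (Mono A.ι))
  have : IsAffine Ao.left := hA
  choose actA hactA using fun σ : P => (⟨CategoryTheory.Over.homMk
      (IsOpenImmersion.lift A.ι (A.ι ≫ (act σ).left)
        (Set.range_subset_iff.2 fun a => ⟨⟨(act σ).left a.1, (hAinv σ).symm.le a.2⟩, rfl⟩)) (by
        change _ ≫ A.ι ≫ W.hom = A.ι ≫ W.hom
        rw [IsOpenImmersion.lift_fac_assoc, Category.assoc, Over.w (act σ)]),
      Over.OverMorphism.ext (IsOpenImmersion.lift_fac _ _ _)⟩ : ∃ a : Ao ⟶ Ao, a ≫ jA = jA ≫ act σ)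
  have hA1 : actA 1 = 𝟙 Ao := (cancel_mono jA).1 (by rw [hactA, hact1, Category.comp_id, Category.id_comp])
  have hAm : ∀ σ τ : P, actA τ ≫ actA σ = actA (σ * τ) := fun σ τ => (cancel_mono jA).1 (by
    rw [Category.assoc, hactA, reassoc_of% hactA, hactm, hactA])
  let ρA : P →* Aut Ao :=
    { toFun := fun σ => ⟨actA σ, actA σ⁻¹, by rw [hAm, inv_mul_cancel, hA1],
        by rw [hAm, mul_inv_cancel, hA1]⟩
      map_one' := Iso.ext hA1
      map_mul' := fun σ τ => Iso.ext (hAm σ τ).symm }
  have hfree : ∀ (σ : P) (x : Ao.left), σ ≠ 1 →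
      Ao.left.fromSpecResidueField x ≫ (ρA σ).hom.left ≠ Ao.left.fromSpecResidueField x := by
    intro σ x hσ h
    obtain ⟨i, hi⟩ : ∃ i, σ.symm i ≠ i := by
      by_contra hh
      push Not at hh
      exact hσ (Equiv.ext fun i => (congrArg σ (hh i)).symm.trans (σ.apply_symm_apply i))
    let pt : Over.mk (Ao.left.fromSpecResidueField x ≫ Ao.hom) ⟶ Ao :=
      Over.homMk (Ao.left.fromSpecResidueField x) rfl
    have h1 : pt ≫ actA σ = pt := Over.OverMorphism.ext h
    have h2 : (pt ≫ jA) ≫ pr (σ.symm i).down = (pt ≫ jA) ≫ pr i.down := by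
      calc (pt ≫ jA) ≫ pr (σ.symm i).down = (pt ≫ jA) ≫ act σ ≫ pr i.down := by rw [hact]
        _ = ((pt ≫ actA σ) ≫ jA) ≫ pr i.down := by simp only [Category.assoc, reassoc_of% hactA]
        _ = _ := by rw [h1]
    rw [← hmt (σ.symm i).down i.down] at h2
    conv_rhs at h2 => rw [← hms (σ.symm i).down i.down]
    let M := (pt ≫ jA) ≫ mm (σ.symm i).down i.down
    have h3 : M = (pt ≫ jA ≫ pr i.down) ≫ δ := by
      apply (yon S).map_injective
      refine sqR.hom_ext ?_ ?_ <;>
        simp only [← Functor.map_comp, M, Category.assoc, hδt, hδs, hms, Category.comp_id]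
      refine congrArg (yon S).map ?_
      simpa only [Category.assoc, hms] using h2
    refine (hAW (x.2 : x.1 ∈ A)) (Set.mem_biUnion (x := ((σ.symm i).down, i.down))
      (fun e => hi (ULift.ext _ _ e)) ?_)
    refine ⟨(pt ≫ jA ≫ pr i.down).left (IsLocalRing.closedPoint (Ao.left.residueField x)), ?_⟩
    have h4 : M.left (IsLocalRing.closedPoint (Ao.left.residueField x)) =
        (mm (σ.symm i).down i.down).left x.1 := by
      change (mm _ _).left (A.ι (Ao.left.fromSpecResidueField x _)) = _
      rw [Scheme.fromSpecResidueField_apply]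
      rfl
    rw [← h4, h3]
    rfl
  let ψ : (yon S).obj Ao ⟶ X := (yon S).map (jA ≫ pr i₀) ≫ φ
  have hψ : RepWith @Etale ψ := repWith_comp ((repWith_yon_map_iff _ _).2
    (inferInstanceAs (Etale (A.ι ≫ (pr i₀).left)))) hφ
  obtain ⟨B, qB, b, hB, hb, hqb, hqinv⟩ := exists_quotient_chart hX hfree hψ fun σ => by
    change (yon S).map (actA σ) ≫ _ = _
    simp only [ψ, Functor.map_comp, Category.assoc]
    rw [← Functor.map_comp_assoc, hactA, Functor.map_comp_assoc]
    rw [← Functor.map_comp_assoc (yon S) (act σ), hact]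
    exact congrArg ((yon S).map jA ≫ ·) (hw _ _)
  -- the lift
  obtain ⟨lA, hlA⟩ : ∃ lA : Lp ⟶ Ao, lA ≫ jA = l :=
    ⟨CategoryTheory.Over.homMk (IsOpenImmersion.lift A.ι l.left (Set.range_subset_iff.2 fun x => ⟨⟨l.left x₀, hlA⟩,
      congrArg l.left (Subsingleton.elim (α := PrimeSpectrum L) x₀ x)⟩)) (by
      change _ ≫ A.ι ≫ W.hom = _
      rw [IsOpenImmersion.lift_fac_assoc]
      exact Over.w l), Over.OverMorphism.ext (IsOpenImmersion.lift_fac _ _ _)⟩
  let r : Spec (CommRingCat.of L) ⟶ B.left := (lA ≫ qB).left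
  have : IsAffine B.left := hB
  let θ : Γ(B.left, ⊤) ⟶ CommRingCat.of L := Spec.preimage (r ≫ B.left.isoSpec.hom)
  have hθ : Spec.map θ = r ≫ B.left.isoSpec.hom := Spec.map_preimage _
  have hfix : ∀ (g : L ≃ₐ[k] L) y, g (θ.hom y) = θ.hom y := by
    intro g y
    let γ : CommRingCat.of L ⟶ CommRingCat.of L := CommRingCat.ofHom g.toRingEquiv.toRingHom
    let γo : Lp ⟶ Lp := CategoryTheory.Over.homMk (Spec.map γ) (by
      change Spec.map γ ≫ Spec.map χ ≫ q.str = Spec.map χ ≫ q.str
      rw [← Spec.map_comp_assoc]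
      congr 2
      exact CommRingCat.hom_ext (RingHom.ext fun a => g.commutes a))
    let σ : P := Equiv.ulift.trans ((en.symm.trans ((AlgEquiv.arrowCongr AlgEquiv.refl g).trans en)).symm.trans
      Equiv.ulift.symm)
    have h1 : γo ≫ lA = lA ≫ actA σ := by
      refine (cancel_mono jA).1 ?_
      rw [Category.assoc, Category.assoc, hactA, hlA, reassoc_of% hlA]
      refine hext fun i => ?_
      rw [Category.assoc, Category.assoc, hact, hl, hl, ← Category.assoc]
      congr 1
      apply Over.OverMorphism.ext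
      change Spec.map γ ≫ Spec.map _ ≫ _ = _ ≫ _
      rw [← Spec.map_comp_assoc]
      have hσ : en.symm (σ.symm ⟨i⟩).down = AlgEquiv.arrowCongr AlgEquiv.refl g (en.symm i) := en.symm_apply_apply _
      rw [hσ]
      rfl
    have h2 : Spec.map γ ≫ r = r := by
      have := congrArg (fun h => (h ≫ qB).left) h1
      simp only [Category.assoc] at this
      rw [show actA σ ≫ qB = qB from hqinv σ] at this
      exact this
    have h3 : θ ≫ γ = θ := Spec.map_injective (by rw [Spec.map_comp, hθ, reassoc_of% h2])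
    exact RingHom.congr_fun (congrArg CommRingCat.Hom.hom h3) y
  have hθk : ∀ y, ∃ a : k, algebraMap k L a = θ.hom y := fun y =>
    IntermediateField.mem_bot.1 ((IsGalois.mem_bot_iff_fixed (θ.hom y)).2 fun g => hfix g y)
  choose θ' hθ' using hθk
  have hinj : Function.Injective (algebraMap k L) := (algebraMap k L).injective
  let θk : Γ(B.left, ⊤) →+* k :=
    { toFun := θ'
      map_one' := hinj (by rw [hθ', map_one, map_one])
      map_mul' := fun a a' => hinj (by rw [hθ', map_mul, map_mul, hθ', hθ'])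
      map_zero' := hinj (by rw [hθ', map_zero, map_zero])
      map_add' := fun a a' => hinj (by rw [hθ', map_add, map_add, hθ', hθ']) }
  let bk : Spec (CommRingCat.of k) ⟶ B.left := Spec.map (CommRingCat.ofHom θk) ≫ B.left.isoSpec.inv
  have hbk : Spec.map χ ≫ bk = r := by
    rw [← Spec.map_comp_assoc, show CommRingCat.ofHom θk ≫ χ = θ from CommRingCat.hom_ext (RingHom.ext hθ'),
      hθ, Category.assoc, Iso.hom_inv_id, Category.comp_id]
  have hfl : Flat (Spec.map χ) := by
    rw [HasRingHomProperty.Spec_iff (P := @Flat)]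
    exact RingHom.flat_algebraMap_iff.2 inferInstance
  have hfp : LocallyOfFinitePresentation (Spec.map χ) := by
    rw [HasRingHomProperty.Spec_iff (P := @LocallyOfFinitePresentation)]
    exact RingHom.finitePresentation_algebraMap.2
      (Algebra.FinitePresentation.of_finiteType.1 inferInstance)
  have : Nonempty ↥(Spec (CommRingCat.of L)) := inferInstanceAs (Nonempty (PrimeSpectrum L))
  have : Subsingleton ↥(Spec (CommRingCat.of k)) := inferInstanceAs (Subsingleton (PrimeSpectrum k))
  have hsj : Surjective (Spec.map χ) := surjective_of_subsingleton _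
  have : Epi (Spec.map χ) := Flat.epi_of_flat_of_surjective _
  let lk : q.pt ⟶ B := CategoryTheory.Over.homMk bk (by
    change bk ≫ B.hom = q.str
    rw [← cancel_epi (Spec.map χ), reassoc_of% hbk]
    exact Over.w (lA ≫ qB))
  refine ⟨B, b, lk, hB, hb, hom_ext_of_fppf π ⟨⟨hsj, hfl⟩, hfp⟩ _ _ ?_⟩
  rw [← Functor.map_comp_assoc, show π ≫ lk = lA ≫ qB from Over.OverMorphism.ext hbk, Functor.map_comp,
    Category.assoc, hqb]
  simp only [ψ]
  rw [← Functor.map_comp_assoc, reassoc_of% hlA, hl, Functor.map_comp, Category.assoc, sqT.w,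
    ← Functor.map_comp_assoc, hrz]

end Groth.Agent.AlgSpDec.RatLift
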