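import Mathlib.RingTheory.Finiteness.Nakayama
import Mathlib.RingTheory.TensorProduct.Quotient
import Mathlib.RingTheory.DiscreteValuationRing.Basic
import Mathlib.AlgebraicGeometry.Morphisms.Flat
import Mathlib.AlgebraicGeometry.Noetherian
import Mathlib.RingTheory.Flat.TorsionFree

/-!
# Reducedness near the special fibre of a flat family over a discrete valuation ring
-/

set_option backward.isDefEq.respectTransparency false
set_option backward.isDefEq.respectTransparency.types false

universe u

open CategoryTheory CategoryTheory.Limits AlgebraicGeometry TensorProduct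

namespace Groth.Agent.AlgSpDec.ReducedDvr

/-- A reduced quotient by a regular element spreads out to an open neighbourhood. -/
theorem exists_away {B : Type u} [CommRing B] [IsNoetherianRing B] (π : B) (hπ : IsSMulRegular B π)
    (hred : _root_.IsReduced (B ⧸ Ideal.span {π})) :
    ∃ r : B, r - 1 ∈ Ideal.span {π} ∧ _root_.IsReduced (Localization.Away r) := by
  have hle : nilradical B ≤ Ideal.span {π} • nilradical B := by
    intro n hn
    have h1 : n ∈ Ideal.span {π} :=
      Ideal.Quotient.eq_zero_iff_mem.1 (IsReduced.eq_zero _ ((mem_nilradical.1 hn).map (Ideal.Quotient.mk _)))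
    obtain ⟨m, rfl⟩ := Ideal.mem_span_singleton.1 h1
    refine Submodule.smul_mem_smul (Ideal.mem_span_singleton_self π) (mem_nilradical.2 ?_)
    obtain ⟨k, hk⟩ := mem_nilradical.1 hn
    rw [mul_pow] at hk
    exact ⟨k, hπ.pow k (show π ^ k • m ^ k = π ^ k • (0 : B) by simpa using hk)⟩
  obtain ⟨r, hr, hr0⟩ := Submodule.exists_sub_one_mem_and_smul_eq_zero_of_fg_of_le_smul _ _
    (IsNoetherian.noetherian (nilradical B)) hle
  refine ⟨r, hr, ⟨fun z hz => ?_⟩⟩
  obtain ⟨⟨x, s, a, rfl⟩, hx⟩ := IsLocalization.surj (Submonoid.powers r) z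
  have hxn : IsNilpotent (algebraMap B (Localization.Away r) x) := by
    rw [← hx]
    exact (Commute.all _ _).isNilpotent_mul_right hz
  obtain ⟨k, hk⟩ := hxn
  rw [← map_pow] at hk
  obtain ⟨⟨_, b, rfl⟩, hb⟩ := (IsLocalization.map_eq_zero_iff (Submonoid.powers r) _ _).1 hk
  have hn : r ^ b * x ∈ nilradical B := mem_nilradical.2 ⟨k + 1, by
    rw [mul_pow, pow_succ x, pow_succ (r ^ b)]
    calc (r ^ b) ^ k * r ^ b * (x ^ k * x) = (r ^ b) ^ k * x * (r ^ b * x ^ k) := by ring
      _ = 0 := by
        rw [show r ^ b * x ^ k = 0 from hb, mul_zero]⟩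
  have h0 : algebraMap B (Localization.Away r) x = 0 :=
    (IsLocalization.map_eq_zero_iff (Submonoid.powers r) _ _).2
      ⟨⟨r ^ (b + 1), b + 1, rfl⟩, by
        have := hr0 _ hn
        rw [smul_eq_mul] at this
        show r ^ (b + 1) * x = 0
        rw [pow_succ, mul_comm (r ^ b) r, mul_assoc]
        exact this⟩
  rw [h0] at hx
  exact ((IsLocalization.map_units (Localization.Away r) (⟨r ^ a, a, rfl⟩ : Submonoid.powers r)).mul_left_eq_zero).1 hx

variable {R : Type u} [CommRing R] [IsDomain R] [IsDiscreteValuationRing R]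

/-- A flat family of finite type with reduced special fibre is reduced near the special fibre. -/
theorem exists_open_reduced {U : Scheme.{u}} (h : U ⟶ Spec (CommRingCat.of R)) [Flat h] [LocallyOfFiniteType h]
    [AlgebraicGeometry.IsReduced (pullback h (Spec.map (CommRingCat.ofHom (IsLocalRing.residue R))))]
    (u : U) (hu : h u = IsLocalRing.closedPoint R) :
    ∃ O : U.Opens, u ∈ O ∧ AlgebraicGeometry.IsReduced O.toScheme := by
  have : IsLocallyNoetherian U := LocallyOfFiniteType.isLocallyNoetherian h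
  obtain ⟨V, hV, huV, -⟩ := exists_isAffineOpen_mem_and_subset (U := (⊤ : U.Opens)) (x := u) trivial
  let B := Γ(U, V)
  let φ : CommRingCat.of R ⟶ B := (Scheme.ΓSpecIso _).inv ≫ h.appLE ⊤ V (by simp)
  let _ : Algebra R B := φ.hom.toAlgebra
  have hfl : φ.hom.Flat := by
    have h1 := HasRingHomProperty.appLE @Flat h ‹_› ⟨⊤, isAffineOpen_top _⟩ ⟨V, hV⟩ (by simp)
    exact RingHom.Flat.comp (RingHom.Flat.of_bijective (ConcreteCategory.bijective_of_isIso
      (Scheme.ΓSpecIso (CommRingCat.of R)).inv)) h1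
  have : Module.Flat R B := hfl
  have : IsNoetherianRing B := IsLocallyNoetherian.component_noetherian ⟨V, hV⟩
  obtain ⟨ϖ, hϖ⟩ := IsDiscreteValuationRing.exists_irreducible R
  have hπ : IsSMulRegular B (algebraMap R B ϖ) := by
    intro x y hxy
    refine Module.Flat.isSMulRegular_of_isRegular (M := B) (IsRegular.of_ne_zero hϖ.ne_zero) ?_
    simpa [Algebra.smul_def] using hxy
  have hfac : Spec.map φ = hV.fromSpec ≫ h := by
    have h1 := (isAffineOpen_top (Spec (CommRingCat.of R))).SpecMap_appLE_fromSpec h hV (by simp)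
    rw [← h1, Spec.map_comp]
    congr 1
    rw [IsAffineOpen.fromSpec_top, Scheme.isoSpec_Spec_inv]
  -- the special fibre of the affine piece
  have hred : _root_.IsReduced (B ⧸ Ideal.span {algebraMap R B ϖ}) := by
    have hm : Ideal.span {algebraMap R B ϖ} = (IsLocalRing.maximalIdeal R).map (algebraMap R B) := by
      rw [(IsDiscreteValuationRing.irreducible_iff_uniformizer ϖ).1 hϖ, Ideal.map_span, Set.image_singleton]
    rw [hm]
    have e := (Algebra.TensorProduct.quotIdealMapEquivTensorQuot B (IsLocalRing.maximalIdeal R))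
    suffices h' : _root_.IsReduced (B ⊗[R] IsLocalRing.ResidueField R) from
      @isReduced_of_injective _ (B ⊗[R] (R ⧸ IsLocalRing.maximalIdeal R)) _ _ _ _ _ e.toRingEquiv.toRingHom
        e.injective h'
    let g := Spec.map (CommRingCat.ofHom (IsLocalRing.residue R))
    let j : pullback (Spec.map φ) g ⟶ pullback h g :=
      pullback.map _ _ _ _ hV.fromSpec (𝟙 _) (𝟙 _) (by simp [hfac]) (by simp)
    have : IsOpenImmersion hV.fromSpec := inferInstance
    have hj : AlgebraicGeometry.IsReduced (pullback (Spec.map φ) g) := isReduced_of_isOpenImmersion j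
    have : AlgebraicGeometry.IsReduced (pullback (Spec.map (CommRingCat.ofHom (algebraMap R B)))
        (Spec.map (CommRingCat.ofHom (algebraMap R (IsLocalRing.ResidueField R))))) := hj
    have : AlgebraicGeometry.IsReduced (Spec (CommRingCat.of (B ⊗[R] IsLocalRing.ResidueField R))) :=
      isReduced_of_isOpenImmersion (pullbackSpecIso R B (IsLocalRing.ResidueField R)).inv
    exact isReduced_of_injective (Scheme.ΓSpecIso (CommRingCat.of (B ⊗[R] IsLocalRing.ResidueField R))).inv.hom
      (ConcreteCategory.bijective_of_isIso _).1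
  obtain ⟨r, hr, hrr⟩ := exists_away _ hπ hred
  refine ⟨U.basicOpen r, ?_, ?_⟩
  · have hp := (hV.fromSpec_primeIdealOf ⟨u, huV⟩)
    let p := hV.primeIdealOf ⟨u, huV⟩
    have hπp : algebraMap R B ϖ ∈ p.asIdeal := by
      have h1 : (Spec.map φ) p = IsLocalRing.closedPoint R := by
        rw [hfac, Scheme.Hom.comp_apply, hp, hu]
      have h2 : ϖ ∈ ((Spec.map φ) p).asIdeal := by
        rw [h1]
        exact (IsLocalRing.mem_maximalIdeal _).2 hϖ.not_isUnit
      exact h2
    have hrp : r ∉ p.asIdeal := fun hrp => p.isPrime.ne_top ((Ideal.eq_top_iff_one _).2 (by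
      have h3 : r - 1 ∈ p.asIdeal := Ideal.span_le.2 (Set.singleton_subset_iff.2 hπp) hr
      simpa using p.asIdeal.sub_mem hrp h3))
    have h4 : p ∈ hV.fromSpec ⁻¹' (U.basicOpen r : Set U) := by
      rw [← Scheme.Hom.coe_preimage, hV.fromSpec_preimage_basicOpen]
      exact hrp
    rw [Set.mem_preimage, hp] at h4
    exact h4
  · have := hV.isLocalization_basicOpen r
    have : _root_.IsReduced Γ(U, U.basicOpen r) :=
      isReduced_of_injective ((IsLocalization.algEquiv (Submonoid.powers r) Γ(U, U.basicOpen r)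
        (Localization.Away r)).toRingEquiv.toRingHom) (AlgEquiv.injective _)
    exact isReduced_of_isOpenImmersion (hV.basicOpen r).isoSpec.hom

/-- The fraction field of a discrete valuation ring inverts a uniformizer. -/
theorem isAway (ϖ : R) (hϖ : Irreducible ϖ) : IsLocalization.Away ϖ (FractionRing R) := by
  refine (isLocalization_iff _ _).mpr ⟨fun ⟨_, n, hn⟩ => ?_, fun z => ?_, fun {x y} hxy => ?_⟩
  · subst hn
    show IsUnit (algebraMap R _ (ϖ ^ n))
    exact IsLocalization.map_units (FractionRing R) (⟨ϖ ^ n, mem_nonZeroDivisors_of_ne_zero (pow_ne_zero n hϖ.ne_zero)⟩ : nonZeroDivisors R)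
  · obtain ⟨⟨a, s⟩, hs⟩ := IsLocalization.surj (nonZeroDivisors R) z
    obtain ⟨n, u, hu⟩ := IsDiscreteValuationRing.eq_unit_mul_pow_irreducible (nonZeroDivisors.ne_zero s.2) hϖ
    refine ⟨(a * ↑u⁻¹, ⟨ϖ ^ n, n, rfl⟩), ?_⟩
    show z * algebraMap R _ (ϖ ^ n) = algebraMap R _ (a * ↑u⁻¹)
    have hz : z * algebraMap R (FractionRing R) (s : R) = algebraMap R _ a := hs
    rw [map_mul, ← hz, mul_assoc, ← map_mul]
    congr 2
    rw [hu, mul_comm (u : R), mul_assoc, ← Units.val_mul, mul_inv_cancel, Units.val_one, mul_one]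
  · exact ⟨1, by simpa using IsFractionRing.injective R (FractionRing R) hxy⟩

end Groth.Agent.AlgSpDec.ReducedDvr
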