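import Groth.Agent.AlgSpDec.MonoPoint
import Groth.Agent.AlgSpDec.SchImage
import Groth.Agent.AlgSpDec.Glue
import Groth.Agent.AlgSpPts.Dim
import Mathlib.Topology.Spectral.ConstructibleTopology

/-!
# Reduced spaces mapping to one point of a locally noetherian space
-/

set_option backward.isDefEq.respectTransparency false
set_option backward.isDefEq.respectTransparency.types false

universe u

open CategoryTheory Limits Opposite AlgebraicGeometry AlgSp Groth.Agent.AlgSpLib Groth.Agent.AlgSpPts Order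

namespace Groth.Agent.AlgSpDec

variable {S : Scheme.{u}} {X : Sp S}

theorem eq_of_specializes_of_ofPt_eq {U : Over S} [IsLocallyNoetherian U.left] {a : (yon S).obj U ⟶ X}
    (ha : RepWith @Etale a) {u v : ↥U.left} (h : Points.ofPt a u = Points.ofPt a v) (hs : v ⤳ u) :
    v = u := by
  have he := coheight_eq_of_charts ha ha h
  by_contra hne
  have hlt : u < v := lt_of_le_not_ge hs fun h' => hne (Specializes.antisymm hs h').eq
  have hd := ringKrullDim_stalk_eq_coheight v
  have hfin : coheight v < ⊤ := by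
    refine lt_top_iff_ne_top.2 fun htop => ?_
    rw [htop] at hd
    exact ringKrullDim_ne_top (R := U.left.presheaf.stalk v) hd
  exact (coheight_strictAnti hlt hfin).ne he.symm

/-- A continuous compact-open preserving map from a spectral space to a noetherian space whose image has
no specialisations has finite image. -/
theorem finite_range_of_antichain {T A : Type u} [TopologicalSpace T] [TopologicalSpace A] [CompactSpace T]
    [QuasiSober T] [PrespectralSpace T] [QuasiSeparatedSpace T] [TopologicalSpace.NoetherianSpace A]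
    (g : T → A) (hg : Continuous g) (hc : ∀ O : Set A, IsOpen O → IsCompact (g ⁻¹' O))
    (h : ∀ t t' : T, g t ⤳ g t' → g t = g t') : (Set.range g).Finite := by
  let π : WithConstructibleTopology T → T := WithTopology.ofTopology
  let Zs : T → Set (WithConstructibleTopology T) := fun t => π ⁻¹' {t' | g t' = g t}
  have hopen : ∀ t, IsOpen (Zs t) := fun t => by
    have e : {t' | g t' = g t} = g ⁻¹' closure {g t} := Set.ext fun t' =>
      ⟨fun (e : g t' = g t) => subset_closure e,
        fun hh => (h t t' (specializes_iff_mem_closure.2 hh)).symm⟩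
    rw [WithConstructibleTopology.isOpen_iff]
    have : @IsOpen T (constructibleTopology T) {t' | g t' = g t} := by
      rw [e]
      exact (hc _ isClosed_closure.isOpen_compl).isOpen_constructibleTopology_of_isClosed
        (isClosed_closure.preimage hg)
    exact this
  obtain ⟨s, hs⟩ := isCompact_univ.elim_finite_subcover Zs hopen fun x _ => Set.mem_iUnion.2 ⟨π x, rfl⟩
  refine (s.finite_toSet.image g).subset ?_
  rintro _ ⟨t, rfl⟩
  obtain ⟨x, rfl⟩ : ∃ x, π x = t := ⟨WithTopology.toTopology _ t, rfl⟩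
  obtain ⟨t₀, ht₀, hx⟩ := Set.mem_iUnion₂.1 (hs (Set.mem_univ x))
  exact ⟨t₀, ht₀, (hx : g (π x) = g t₀).symm⟩

theorem exists_factor_residual (hX : IsAlgSpace X) (hN : IsLocNoethSp X) {Z : Sp S} (hZ : IsAlgSpace Z)
    (i : Z ⟶ X) [Mono i] {x : Points X} (hi : x ∈ Set.range (Points.map i)) {W : Over S} [IsReduced W.left]
    (g : (yon S).obj W ⟶ X) (hg : ∀ w, Points.ofPt g w = x) : ∃ g', g' ≫ i = g := by
  obtain ⟨U, a, ha, ha'⟩ := hX.atlas
  have := isLocallyNoetherian_chart ha hN
  let W' := ha.rep.pullback g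
  let gU : W' ⟶ U := ha.rep.fst' g
  let π : W' ⟶ W := ha.rep.snd g
  have hP := ha.rep.isPullback' g
  have : Etale π.left := ha.property_snd g
  have : Surjective π.left := ha'.property _ _ _ (ha.rep.isPullback g)
  have : IsReduced W'.left := isReduced_of_etaleMor π.left
  have hux : ∀ w, Points.ofPt a (gU.left w) = x := fun w => by
    rw [← ofPt_comp, hP.w, ofPt_comp, hg]
  refine exists_factor_of_cover ((repWith_yon_map_iff _ π).2 ‹_›) ((repWith_yon_map_iff _ π).2 ‹_›) g ?_
  have key : ∀ w' : ↥W'.left, ∃ (O : W'.left.Opens) (l : (yon S).obj (Over.mk (O.ι ≫ W'.hom)) ⟶ Z),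
      w' ∈ O ∧ l ≫ i = (yon S).map (Over.homMk O.ι rfl : Over.mk (O.ι ≫ W'.hom) ⟶ W') ≫ (yon S).map π ≫ g := by
    intro w'
    obtain ⟨A, hA, huA, -⟩ := exists_isAffineOpen_mem_and_subset (U := (⊤ : U.left.Opens)) (x := gU.left w') trivial
    obtain ⟨W₁, hW₁, hw₁, hle⟩ := exists_isAffineOpen_mem_and_subset (U := gU.left ⁻¹ᵁ A) (x := w') huA
    have : IsAffine W₁.toScheme := hW₁
    have : IsAffine A.toScheme := hA
    let g₁ : W₁.toScheme ⟶ A.toScheme := gU.left.resLE A W₁ hle
    have : IsNoetherian A.toScheme := { }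
    have hfin := finite_range_of_antichain (fun t => g₁ t) g₁.continuous
      (fun O hO => QuasiCompact.isCompact_preimage (f := g₁) O hO (TopologicalSpace.NoetherianSpace.isCompact O))
      fun t t' h => Subtype.ext (by
        have h1 := h.map A.ι.continuous
        simp only [← Scheme.Hom.comp_apply, g₁, Scheme.Hom.resLE_comp_ι] at h1
        have h2 := eq_of_specializes_of_ofPt_eq ha
          ((hux (W₁.ι t')).trans (hux (W₁.ι t)).symm) h1
        change (gU.left.resLE A W₁ hle ≫ A.ι) t = (gU.left.resLE A W₁ hle ≫ A.ι) t'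
        rw [Scheme.Hom.resLE_comp_ι]
        exact h2)
    have hval : ∀ t : W₁.toScheme, (g₁ t).1 = gU.left (W₁.ι t) := fun t => by
      change (gU.left.resLE A W₁ hle ≫ A.ι) t = _
      rw [Scheme.Hom.resLE_comp_ι]
      rfl
    obtain ⟨O₁, hO₁, huO₁, hO₁F⟩ := isOpen_singleton_fibre (hfin.image (fun z : A.toScheme => A.ι z))
      (u := gU.left w') ⟨_, ⟨⟨w', hw₁⟩, rfl⟩, hval ⟨w', hw₁⟩⟩ (by
        rintro _ ⟨_, ⟨t, rfl⟩, rfl⟩ hs
        change A.ι (g₁ t) ⤳ _ at hs
        change A.ι (g₁ t) = _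
        rw [show A.ι (g₁ t) = gU.left (W₁.ι t) from hval t] at hs ⊢
        exact eq_of_specializes_of_ofPt_eq ha ((hux w').trans (hux _).symm) hs)
    let O : W'.left.Opens := W₁ ⊓ gU.left ⁻¹ᵁ ⟨O₁, hO₁⟩
    have : IsReduced O.toScheme := isReduced_of_isOpenImmersion O.ι
    let u := gU.left w'
    obtain ⟨l, hl⟩ := exists_factor_residueField (O.ι ≫ gU.left) u fun o => by
      rw [Scheme.Hom.comp_apply]
      exact hO₁F ⟨o.2.2, _, ⟨⟨o.1, o.2.1⟩, rfl⟩, hval ⟨o.1, o.2.1⟩⟩
    let q := FieldPt.ofPt a u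
    have hP' : IsAlgSpace (pullback i q.toHom) :=
      isAlgSpace_pullback hZ (IsAlgSpace.yon_obj _) hX _ _
    obtain ⟨z₀, hz₀⟩ := hi
    obtain ⟨z, -, -⟩ := exists_point_of_isPullback (IsPullback.of_hasPullback i q.toHom)
      (x := z₀) (y := Points.ofScheme q.pt (IsLocalRing.closedPoint q.K)) (by
        rw [hz₀, ← Points.ofPt_eq_map_ofScheme, FieldPt.toHom_ofPt, ofPt_comp]
        exact ((congrArg (Points.ofPt a) (Scheme.fromSpecResidueField_apply u _)).trans (hux w')).symm)
    have := isIso_of_mono_field hP' (pullback.snd i q.toHom) z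
    let c := inv (pullback.snd i q.toHom) ≫ pullback.fst i q.toHom
    have hc : c ≫ i = q.toHom := by
      simp only [c, Category.assoc, pullback.condition, IsIso.inv_hom_id_assoc]
    let jO : Over.mk (O.ι ≫ W'.hom) ⟶ W' := Over.homMk O.ι rfl
    let lO : Over.mk (O.ι ≫ W'.hom) ⟶ q.pt := CategoryTheory.Over.homMk l (by
      change l ≫ U.left.fromSpecResidueField u ≫ U.hom = O.ι ≫ W'.hom
      rw [reassoc_of% hl, CategoryTheory.Over.w])
    have hlO : lO ≫ (CategoryTheory.Over.homMk (U.left.fromSpecResidueField u) rfl : q.pt ⟶ U) = jO ≫ gU :=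
      Over.OverMorphism.ext hl
    refine ⟨O, (yon S).map lO ≫ c, ⟨hw₁, huO₁⟩, ?_⟩
    rw [Category.assoc, hc, FieldPt.toHom_ofPt, ← Category.assoc, ← Functor.map_comp, hlO, Functor.map_comp,
      Category.assoc, hP.w]
  choose O l hmem hl using key
  let T : ↥W'.left → Over S := fun w => Over.mk ((O w).ι ≫ W'.hom)
  let jT : ∀ w, T w ⟶ W' := fun w => Over.homMk (O w).ι rfl
  let σ : sigmaOver T ⟶ W' := CategoryTheory.Over.homMk (Sigma.desc fun w => (jT w).left)
    (Sigma.hom_ext _ _ fun w => by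
      rw [← Category.assoc, Sigma.ι_desc, Over.w (jT w)]
      exact (Sigma.ι_desc (fun w => (T w).hom) w).symm)
  have hσ : ∀ w, sigmaι T w ≫ σ = jT w := fun w =>
    Over.OverMorphism.ext (Sigma.ι_desc (fun w => (jT w).left) w)
  have hσe : Etale σ.left := IsZariskiLocalAtSource.sigmaDesc (P := @Etale) fun w =>
    inferInstanceAs (Etale (O w).ι)
  have hσs : Surjective σ.left := ⟨fun w => ⟨(sigmaι T w).left ⟨w, hmem w⟩, by
    rw [← Scheme.Hom.comp_apply, ← Over.comp_left, hσ]; rfl⟩⟩
  refine exists_factor_of_cover ((repWith_yon_map_iff _ σ).2 hσe) ((repWith_yon_map_iff _ σ).2 hσs) _ ?_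
  obtain ⟨L, hL⟩ := exists_hom_sigma T l
  refine ⟨L, hom_ext_sigma T fun w => ?_⟩
  rw [← Category.assoc, hL, hl, ← Functor.map_comp_assoc, ← Functor.map_comp_assoc, ← Functor.map_comp_assoc, hσ]

end Groth.Agent.AlgSpDec
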