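import Groth.Agent.AlgSpDec.QuotRep
import Groth.Agent.AlgSpDec.MonoPoint
import Groth.Agent.AlgSpLib.LocP
import Groth.Agent.AlgSpLib.EtLocalInst

/-!
# Residual spaces: the image sheaf of a point
-/

set_option backward.isDefEq.respectTransparency false
set_option backward.isDefEq.respectTransparency.types false

universe u

open CategoryTheory Limits Opposite AlgebraicGeometry AlgSp Groth.Agent.AlgSpLib Groth.Agent.AlgSpPts

namespace Groth.Agent.AlgSpDec

variable {S : Scheme.{u}}

/-- A preimmersion into a discrete reduced scheme is an open immersion. -/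
theorem isOpenImmersion_of_discrete {A B : Scheme.{u}} (k : A ⟶ B) [IsPreimmersion k] [DiscreteTopology B]
    [IsReduced B] : IsOpenImmersion k := by
  refine IsOpenImmersion.iff_isIso_stalkMap.2 ⟨⟨k.isEmbedding, isOpen_discrete _⟩, fun x => ?_⟩
  refine (ConcreteCategory.isIso_iff_bijective _).2 ⟨?_, k.stalkMap_surjective x⟩
  have hd : ringKrullDim (B.presheaf.stalk (k x)) = 0 := by
    rw [ringKrullDim_stalk_eq_coheight]
    simp only [WithBot.coe_eq_zero, Order.coheight_eq_zero]
    intro y hy
    exact le_of_eq (hy : y ⤳ k x).eq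
  have : Ring.KrullDimLE 0 (B.presheaf.stalk (k x)) := Ring.krullDimLE_iff.2 (by simpa using hd.le)
  have hF : IsField (B.presheaf.stalk (k x)) := Ring.KrullDimLE.isField_of_isReduced
  let _ := hF.toField
  exact (k.stalkMap x).hom.injective

/-- The image of a field point of a space is a one-point algebraic space with an etale cover by the field. -/
theorem exists_residual {X : Sp S} (hX : IsAlgSpace X) (x : Points X) :
    ∃ (Z : Sp S) (i : Z ⟶ X) (k : Type u) (_ : Field k) (str : Spec (CommRingCat.of k) ⟶ S)
      (p : (yon S).obj (Over.mk str) ⟶ Z), IsAlgSpace Z ∧ Mono i ∧ Set.range (Points.map i) = {x} ∧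
      RepWith @Etale p ∧ RepWith @Surjective p := by
  obtain ⟨U, a, u, hU, ha, rfl⟩ := exists_affine_chart_at hX x
  let φ : Over.mk (U.left.fromSpecResidueField u ≫ U.hom) ⟶ U := Over.homMk (U.left.fromSpecResidueField u) rfl
  let p := (yon S).map φ ≫ a
  have hp : Representable p := representable_from_yon' hX p
  let R := hp.pullback p
  let t : R ⟶ Over.mk (U.left.fromSpecResidueField u ≫ U.hom) := hp.fst' p
  let s : R ⟶ Over.mk (U.left.fromSpecResidueField u ≫ U.hom) := hp.snd p
  have sqR : IsPullback ((yon S).map t) ((yon S).map s) p p := hp.isPullback' p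
  let P := ha.rep.pullback p
  let P₁ : P ⟶ U := ha.rep.fst' p
  let P₂ : P ⟶ Over.mk (U.left.fromSpecResidueField u ≫ U.hom) := ha.rep.snd p
  have sqP : IsPullback ((yon S).map P₁) ((yon S).map P₂) a p := ha.rep.isPullback' p
  have : Etale P₂.left := ha.property_snd p
  obtain ⟨k, hk⟩ := (yon S).map_surjective (sqP.lift ((yon S).map (t ≫ φ)) ((yon S).map s) (by
    rw [Functor.map_comp, Category.assoc]; exact sqR.w))
  have hk₁ : k ≫ P₁ = t ≫ φ := (yon S).map_injective (by rw [Functor.map_comp, hk, sqP.lift_fst])
  have hk₂ : k ≫ P₂ = s := (yon S).map_injective (by rw [Functor.map_comp, hk, sqP.lift_snd])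
  have sqk : IsPullback ((yon S).map t) ((yon S).map k) ((yon S).map φ) ((yon S).map P₁) := by
    refine IsPullback.of_bot (?_ : IsPullback ((yon S).map t) ((yon S).map k ≫ (yon S).map P₂)
      ((yon S).map φ ≫ a) p) (by rw [← Functor.map_comp, ← Functor.map_comp, hk₁]) sqP
    rw [← Functor.map_comp, hk₂]
    exact sqR
  have : IsPreimmersion k.left := MorphismProperty.of_isPullback (P := @IsPreimmersion)
    (isPullback_of_yon sqk) (inferInstanceAs (IsPreimmersion (U.left.fromSpecResidueField u)))
  have : DiscreteTopology P.left := by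
    have h1 := P₂.left.isDiscrete_preimage_singleton (IsLocalRing.closedPoint (U.left.residueField u))
    rw [show P₂.left ⁻¹' {IsLocalRing.closedPoint (U.left.residueField u)} = Set.univ from
      Set.eq_univ_of_forall fun v => Subsingleton.elim (α := PrimeSpectrum (U.left.residueField u)) _ _] at h1
    exact isDiscrete_univ_iff.1 h1
  have : IsReduced (Over.mk (U.left.fromSpecResidueField u ≫ U.hom)).left :=
    inferInstanceAs (IsReduced (Spec (U.left.residueField u)))
  have : IsReduced P.left := isReduced_of_etaleMor P₂.left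
  have := isOpenImmersion_of_discrete k.left
  have : Etale s.left := by
    rw [← hk₂]
    exact inferInstanceAs (Etale (k.left ≫ P₂.left))
  have : Surjective s.left := ⟨fun v => by
    obtain ⟨d, hd⟩ := (yon S).map_surjective (sqR.lift (𝟙 _) (𝟙 _) rfl)
    refine ⟨d.left v, ?_⟩
    rw [← Scheme.Hom.comp_apply, ← Over.comp_left,
      (yon S).map_injective ((((yon S).map_comp d s).trans (congrArg (· ≫ _) hd)).trans
        ((sqR.lift_snd _ _ _).trans ((yon S).map_id _).symm))]
    rfl⟩
  let Z := Sheaf.image p
  let e : (yon S).obj _ ⟶ Z := Sheaf.toImage p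
  let i : Z ⟶ X := Sheaf.imageι p
  have sqe : IsPullback ((yon S).map t) ((yon S).map s) e e := by
    refine ⟨⟨(cancel_mono i).1 ?_⟩, ⟨PullbackCone.IsLimit.mk _
      (fun c => sqR.lift c.fst c.snd ?_) (fun c => sqR.lift_fst _ _ _) (fun c => sqR.lift_snd _ _ _)
      fun c m h1 h2 => sqR.hom_ext (h1.trans (sqR.lift_fst _ _ _).symm) (h2.trans (sqR.lift_snd _ _ _).symm)⟩⟩
    · simp only [Category.assoc, e, i, Sheaf.toImage_ι]
      exact sqR.w
    · have := congrArg (· ≫ i) c.condition
      simpa only [Category.assoc, e, i, Sheaf.toImage_ι] using this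
  have : Sheaf.IsLocallySurjective e := inferInstanceAs (Sheaf.IsLocallySurjective (Sheaf.toImage p))
  have hr : Representable e := representable_of_kernelPair sqe
  have := isLocalAtTarget_fppf (@Etale : MorphismProperty Scheme.{u})
  have := isLocalAtTarget_fppf (@Surjective : MorphismProperty Scheme.{u})
  have hee : RepWith @Etale e := repWith_of_locallySurjective hr e sqe _ ((repWith_yon_map_iff _ _).2 ‹_›)
  have hes : RepWith @Surjective e := repWith_of_locallySurjective hr e sqe _ ((repWith_yon_map_iff _ _).2 ‹_›)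
  refine ⟨Z, i, U.left.residueField u, inferInstance, _, e, isAlgSpace_of_etale_kernelPair sqe,
    inferInstance, ?_, hee, hes⟩
  refine Set.eq_singleton_iff_unique_mem.2 ⟨?_, ?_⟩
  · refine ⟨Points.ofPt e (IsLocalRing.closedPoint (U.left.residueField u)), ?_⟩
    rw [Points.map_ofPt, show e ≫ i = p from Sheaf.toImage_ι p, ofPt_comp]
    exact congrArg (Points.ofPt a) (Scheme.fromSpecResidueField_apply u _)
  · rintro _ ⟨z, rfl⟩
    obtain ⟨v, rfl⟩ := surjective_ofPt hes z
    rw [Points.map_ofPt, show e ≫ i = p from Sheaf.toImage_ι p, ofPt_comp]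
    exact congrArg (Points.ofPt a) (Scheme.fromSpecResidueField_apply u _)

end Groth.Agent.AlgSpDec
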