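import Groth.Agent.AlgSpDec.IdealEt
import Groth.Agent.AlgSpDec.IntPushScheme
import Groth.Agent.AlgSpLib.EtLift
import Groth.Agent.RingPO.BaseChange
import Groth.Agent.RingPO.Recognize

/-!
# Scheme theoretic unions as pushouts
-/

set_option linter.style.haveILetI false
set_option autoImplicit false
set_option backward.isDefEq.respectTransparency false
set_option backward.isDefEq.respectTransparency.types false

universe u v w

open CategoryTheory CategoryTheory.Limits AlgebraicGeometry AlgSp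
open Groth.Agent.AlgSpLib Groth.Agent.AlgSpPts

namespace Groth.Agent.AlgSpDec.SchUnion

/-- The union of two closed subschemes is their pushout along the intersection. -/
theorem isPushout_of_kers {U Y Z W V : Scheme.{u}} {iy : Y ⟶ U} {iz : Z ⟶ U} {w : W ⟶ U} {v : V ⟶ U}
    [IsClosedImmersion iy] [IsClosedImmersion iz] [IsClosedImmersion w] [IsClosedImmersion v]
    (a : Y ⟶ W) (b : Z ⟶ W) (c : V ⟶ Y) (d : V ⟶ Z) (ha : a ≫ w = iy) (hb : b ≫ w = iz) (hc : c ≫ iy = v)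
    (hd : d ≫ iz = v)
    (hK : ∀ O : U.affineOpens, w.ker.ideal O = iy.ker.ideal O ⊓ iz.ker.ideal O)
    (hL : ∀ O : U.affineOpens, v.ker.ideal O = iy.ker.ideal O ⊔ iz.ker.ideal O) : IsPushout c d a b := by
  subst ha hb hc
  have hac : c ≫ a = d ≫ b := by rw [← cancel_mono w, Category.assoc, Category.assoc, hd]
  have : IsClosedImmersion a := IsClosedImmersion.of_comp a w
  have : IsClosedImmersion b := IsClosedImmersion.of_comp b w
  have : IsClosedImmersion c := IsClosedImmersion.of_comp c (a ≫ w)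
  let M : ∀ O : U.affineOpens, RingPO.Model c d a b := fun O => by
    let C' := O.2.preimage w
    let A' := C'.preimage a
    let B := C'.preimage b
    let A := A'.preimage c
    have eA : c ⁻¹ᵁ a ⁻¹ᵁ w ⁻¹ᵁ O.1 ≤ d ⁻¹ᵁ b ⁻¹ᵁ w ⁻¹ᵁ O.1 := by
      rw [← Scheme.Hom.comp_preimage c a, hac, Scheme.Hom.comp_preimage]
    refine
      { A := Γ(V, c ⁻¹ᵁ a ⁻¹ᵁ w ⁻¹ᵁ O.1)
        A' := Γ(Y, a ⁻¹ᵁ w ⁻¹ᵁ O.1)
        B := Γ(Z, b ⁻¹ᵁ w ⁻¹ᵁ O.1)
        C := Γ(W, w ⁻¹ᵁ O.1)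
        p := (c.appLE _ _ le_rfl).hom
        q := (d.appLE _ _ eA).hom
        α := (a.appLE _ _ le_rfl).hom
        β := (b.appLE _ _ le_rfl).hom
        h := ?_
        φ := C'.fromSpec
        u := A'.fromSpec
        v := B.fromSpec
        w := A.fromSpec
        hw₁ := by rw [CommRingCat.ofHom_hom, A'.SpecMap_appLE_fromSpec c A le_rfl]
        hw₂ := by rw [CommRingCat.ofHom_hom, B.SpecMap_appLE_fromSpec d A eA]
        hu := RingPO.isPullback_fromSpec a C'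
        hv := RingPO.isPullback_fromSpec b C' }
    have hw : Function.Surjective (w.app O.1).hom := w.app_surjective O.1 O.2
    obtain ⟨φ, hφ⟩ : ∃ φ : Γ(U, O.1) →+* Γ(Y, a ⁻¹ᵁ w ⁻¹ᵁ O.1),
        φ = (a.appLE (w ⁻¹ᵁ O.1) _ le_rfl).hom.comp (w.app O.1).hom := ⟨_, rfl⟩
    obtain ⟨ψ, hψ⟩ : ∃ ψ : Γ(U, O.1) →+* Γ(Z, b ⁻¹ᵁ w ⁻¹ᵁ O.1),
        ψ = (b.appLE (w ⁻¹ᵁ O.1) _ le_rfl).hom.comp (w.app O.1).hom := ⟨_, rfl⟩
    have eφ : ((a ≫ w).app O.1).hom = φ := by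
      rw [hφ, Scheme.Hom.comp_app, Scheme.Hom.app_eq_appLE a]; rfl
    have eψ : ((b ≫ w).app O.1).hom = ψ := by
      rw [hψ, Scheme.Hom.comp_app, Scheme.Hom.app_eq_appLE b]; rfl
    have eV : ((c ≫ a ≫ w).app O.1).hom = (c.appLE (a ⁻¹ᵁ w ⁻¹ᵁ O.1) _ le_rfl).hom.comp φ := by
      rw [← eφ, Scheme.Hom.comp_app c, Scheme.Hom.app_eq_appLE c]; rfl
    have hI : ∀ r, r ∈ (a ≫ w).ker.ideal O ↔ φ r = 0 := fun r => by
      rw [Scheme.Hom.ker_apply, RingHom.mem_ker, ← eφ]; rfl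
    have hJ : ∀ r, r ∈ (b ≫ w).ker.ideal O ↔ ψ r = 0 := fun r => by
      rw [Scheme.Hom.ker_apply, RingHom.mem_ker, ← eψ]; rfl
    have hW : ∀ r, r ∈ w.ker.ideal O ↔ (w.app O.1).hom r = 0 := fun r => by
      rw [Scheme.Hom.ker_apply, RingHom.mem_ker]
    have hVk : ∀ r, r ∈ (c ≫ a ≫ w).ker.ideal O ↔ (c.appLE (a ⁻¹ᵁ w ⁻¹ᵁ O.1) _ le_rfl).hom (φ r) = 0 := fun r => by
      rw [Scheme.Hom.ker_apply, RingHom.mem_ker, ← RingHom.comp_apply, ← eV]; rfl
    have hcomm : ∀ z, (c.appLE (a ⁻¹ᵁ w ⁻¹ᵁ O.1) _ le_rfl).hom ((a.appLE (w ⁻¹ᵁ O.1) _ le_rfl).hom z) =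
        (d.appLE (b ⁻¹ᵁ w ⁻¹ᵁ O.1) _ eA).hom ((b.appLE (w ⁻¹ᵁ O.1) _ le_rfl).hom z) := fun z => by
      rw [← CommRingCat.comp_apply, ← CommRingCat.comp_apply, Scheme.Hom.appLE_comp_appLE,
        Scheme.Hom.appLE_comp_appLE]
      simp only [hac]
    refine ⟨?_, hcomm, fun z z' e₁ e₂ => ?_, fun y x e => ?_⟩
    · rw [← Scheme.Hom.app_eq_appLE]
      exact c.app_surjective _ A'
    · obtain ⟨r, rfl⟩ := hw z
      obtain ⟨r', rfl⟩ := hw z'
      have f₁ : φ (r - r') = 0 := by rw [map_sub, hφ]; exact sub_eq_zero.2 e₁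
      have f₂ : ψ (r - r') = 0 := by rw [map_sub, hψ]; exact sub_eq_zero.2 e₂
      have h3 : r - r' ∈ w.ker.ideal O := hK O ▸ ⟨(hI _).2 f₁, (hJ _).2 f₂⟩
      rwa [hW, map_sub, sub_eq_zero] at h3
    · have hsx : Function.Surjective φ := eφ ▸ (a ≫ w).app_surjective O.1 O.2
      have hsy : Function.Surjective ψ := eψ ▸ (b ≫ w).app_surjective O.1 O.2
      obtain ⟨r₁, rfl⟩ := hsx x
      obtain ⟨r₂, rfl⟩ := hsy y
      have h3 : r₁ - r₂ ∈ (a ≫ w).ker.ideal O ⊔ (b ≫ w).ker.ideal O := by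
        rw [← hL O, hVk, map_sub, map_sub, sub_eq_zero]
        refine e.trans ?_
        rw [hψ, hφ, RingHom.comp_apply, RingHom.comp_apply, hcomm]
      obtain ⟨x₁, hx₁, x₂, hx₂, hx⟩ := Submodule.mem_sup.1 h3
      refine ⟨(w.app O.1).hom (r₁ - x₁), ?_, ?_⟩
      · rw [← RingHom.comp_apply, ← hφ, map_sub, (hI x₁).1 hx₁, sub_zero]
      · rw [← RingHom.comp_apply, ← hψ,
          show r₁ - x₁ = r₂ + x₂ by rw [eq_add_of_sub_eq' hx.symm]; abel, map_add, (hJ x₂).1 hx₂, add_zero]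
  refine RingPO.isPushout_of_models hac M fun x => ?_
  obtain ⟨O, hO, hx, -⟩ := exists_isAffineOpen_mem_and_subset (x := w x) (U := (⊤ : U.Opens)) trivial
  exact ⟨⟨O, hO⟩, (hO.preimage w).range_fromSpec.ge hx⟩

variable {S : Scheme.{u}} {X Y Z W V : Sp S} {iY : Y ⟶ X} {iZ : Z ⟶ X} {w : W ⟶ X} {v : V ⟶ X}

/-- The chart of an affine open of an etale chart. -/
noncomputable def openChart {U : Over S} (p : (yon S).obj U ⟶ X) (hp : RepWith @Etale p) (O : U.left.Opens) :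
    EtOver X :=
  EtOver.mk ((yon S).map (Over.homMk O.ι rfl : Over.mk (O.ι ≫ U.hom) ⟶ U) ≫ p)
    (repWith_comp ((repWith_yon_map_iff _ _).2 (inferInstanceAs (Etale O.ι))) hp)

theorem idealOfRep_openChart (hi : RepWith @IsClosedImmersion iY) {U : Over S} (p : (yon S).obj U ⟶ X)
    (hp : RepWith @Etale p) (O : U.left.affineOpens) (hE : IsAffine (openChart p hp O.1).obj.left.left)
    (hO : IsAffineOpen (O.1.ι ''ᵁ ⊤)) :
    (idealOfRep hi.1).ideal (openChart p hp O.1) hE = ((hi.rep.snd p).left.ker.ideal ⟨O.1.ι ''ᵁ ⊤, hO⟩ :) := by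
  rw [idealOfRep_eq hi _ hE, ker_bcπ hi p (openChart p hp O.1) (Over.homMk O.1.ι rfl) rfl]
  have : IsAffine O.1.toScheme := O.2
  change ((hi.rep.snd p).left.ker.comap O.1.ι).ideal ⟨⊤, isAffineOpen_top _⟩ = _
  rw [Scheme.IdealSheafData.ideal_comap_of_isOpenImmersion, Scheme.Opens.ι_appIso]
  rfl

variable {a : Y ⟶ W} {b : Z ⟶ W} {c : V ⟶ Y} {d : V ⟶ Z}

/-- The square of a union and an intersection over an etale chart. -/
theorem exists_square (hY : RepWith @IsClosedImmersion iY) (hZ : RepWith @IsClosedImmersion iZ)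
    (hW : RepWith @IsClosedImmersion w) (hV : RepWith @IsClosedImmersion v)
    (ha : a ≫ w = iY) (hb : b ≫ w = iZ) (hc : c ≫ iY = v) (hd : d ≫ iZ = v)
    (hK : ∀ (E : EtOver X) (hE : IsAffine E.obj.left.left), (idealOfRep hW.1).ideal E hE =
      (idealOfRep hY.1).ideal E hE ⊓ (idealOfRep hZ.1).ideal E hE)
    (hL : idealOfRep hV.1 = idealOfRep hY.1 ⊔ idealOfRep hZ.1)
    {U : Over S} (p : (yon S).obj U ⟶ X) (hp : RepWith @Etale p) :
    ∃ (YU ZU WU VU : Over S) (a₀ : YU ⟶ WU) (b₀ : ZU ⟶ WU) (c₀ : VU ⟶ YU) (d₀ : VU ⟶ ZU) (wU : WU ⟶ U)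
      (lY : (yon S).obj YU ⟶ Y) (lZ : (yon S).obj ZU ⟶ Z) (lW : (yon S).obj WU ⟶ W) (lV : (yon S).obj VU ⟶ V),
      IsPushout ((AlgSp.ofScheme S).map c₀) ((AlgSp.ofScheme S).map d₀) ((AlgSp.ofScheme S).map a₀)
        ((AlgSp.ofScheme S).map b₀) ∧
      IsPullback lW ((yon S).map wU) w p ∧ IsPullback lY ((yon S).map (a₀ ≫ wU)) iY p ∧
      IsPullback lZ ((yon S).map (b₀ ≫ wU)) iZ p ∧ (yon S).map a₀ ≫ lW = lY ≫ a ∧ (yon S).map b₀ ≫ lW = lZ ≫ b ∧
      lV ≫ c = (yon S).map c₀ ≫ lY ∧ lV ≫ d = (yon S).map d₀ ≫ lZ := by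
  have sY := hY.rep.isPullback p
  have sZ := hZ.rep.isPullback p
  have sW := hW.rep.isPullback p
  have sV := hV.rep.isPullback p
  have hmY : Mono iY := AlgSpPts.mono_of_repWith (repWith_mono (fun _ _ h hh => by
    have : IsClosedImmersion h := hh
    exact inferInstanceAs (Mono h)) _ hY)
  have hmZ : Mono iZ := AlgSpPts.mono_of_repWith (repWith_mono (fun _ _ h hh => by
    have : IsClosedImmersion h := hh
    exact inferInstanceAs (Mono h)) _ hZ)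
  obtain ⟨a₀, a₁, a₂⟩ : ∃ a₀, (yon S).map a₀ ≫ hW.rep.fst p = hY.rep.fst p ≫ a ∧
      a₀ ≫ hW.rep.snd p = hY.rep.snd p :=
    ⟨hW.rep.lift (hY.rep.fst p ≫ a) (hY.rep.snd p) (by rw [Category.assoc, ha, sY.w]),
      hW.rep.lift_fst _ _ _, hW.rep.lift_snd _ _ _⟩
  obtain ⟨b₀, b₁, b₂⟩ : ∃ b₀, (yon S).map b₀ ≫ hW.rep.fst p = hZ.rep.fst p ≫ b ∧
      b₀ ≫ hW.rep.snd p = hZ.rep.snd p :=
    ⟨hW.rep.lift (hZ.rep.fst p ≫ b) (hZ.rep.snd p) (by rw [Category.assoc, hb, sZ.w]),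
      hW.rep.lift_fst _ _ _, hW.rep.lift_snd _ _ _⟩
  obtain ⟨c₀, c₁, c₂⟩ : ∃ c₀, (yon S).map c₀ ≫ hY.rep.fst p = hV.rep.fst p ≫ c ∧
      c₀ ≫ hY.rep.snd p = hV.rep.snd p :=
    ⟨hY.rep.lift (hV.rep.fst p ≫ c) (hV.rep.snd p) (by rw [Category.assoc, hc, sV.w]),
      hY.rep.lift_fst _ _ _, hY.rep.lift_snd _ _ _⟩
  obtain ⟨d₀, d₁, d₂⟩ : ∃ d₀, (yon S).map d₀ ≫ hZ.rep.fst p = hV.rep.fst p ≫ d ∧
      d₀ ≫ hZ.rep.snd p = hV.rep.snd p :=
    ⟨hZ.rep.lift (hV.rep.fst p ≫ d) (hV.rep.snd p) (by rw [Category.assoc, hd, sV.w]),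
      hZ.rep.lift_fst _ _ _, hZ.rep.lift_snd _ _ _⟩
  have : IsClosedImmersion (hY.rep.snd p).left := hY.property_snd p
  have : IsClosedImmersion (hZ.rep.snd p).left := hZ.property_snd p
  have : IsClosedImmersion (hW.rep.snd p).left := hW.property_snd p
  have : IsClosedImmersion (hV.rep.snd p).left := hV.property_snd p
  have kers : ∀ O : U.left.affineOpens,
      (hW.rep.snd p).left.ker.ideal O = (hY.rep.snd p).left.ker.ideal O ⊓ (hZ.rep.snd p).left.ker.ideal O ∧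
      (hV.rep.snd p).left.ker.ideal O = (hY.rep.snd p).left.ker.ideal O ⊔ (hZ.rep.snd p).left.ker.ideal O := by
    intro O
    have hO : IsAffineOpen (O.1.ι ''ᵁ ⊤) := by rw [Scheme.Opens.ι_image_top]; exact O.2
    have e : (⟨O.1.ι ''ᵁ ⊤, hO⟩ : U.left.affineOpens) = O := Subtype.ext O.1.ι_image_top
    have hE : IsAffine (openChart p hp O.1).obj.left.left := O.2
    have h1 := hK _ hE
    have h2 : (idealOfRep hV.1).ideal _ hE = (idealOfRep hY.1).ideal _ hE ⊔ (idealOfRep hZ.1).ideal _ hE := by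
      rw [hL]; rfl
    simp only [idealOfRep_openChart hY p hp O hE hO, idealOfRep_openChart hZ p hp O hE hO,
      idealOfRep_openChart hW p hp O hE hO, idealOfRep_openChart hV p hp O hE hO] at h1 h2
    rw [← e]
    exact ⟨h1, h2⟩
  have hac : c₀ ≫ a₀ = d₀ ≫ b₀ := Over.OverMorphism.ext (by
    rw [← cancel_mono (hW.rep.snd p).left]
    exact congrArg CommaMorphism.left (show (c₀ ≫ a₀) ≫ hW.rep.snd p = (d₀ ≫ b₀) ≫ hW.rep.snd p by
      rw [Category.assoc, Category.assoc, a₂, b₂, c₂, d₂]))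
  have hpo : IsPushout c₀.left d₀.left a₀.left b₀.left :=
    isPushout_of_kers a₀.left b₀.left c₀.left d₀.left (congrArg CommaMorphism.left a₂)
      (congrArg CommaMorphism.left b₂) (congrArg CommaMorphism.left c₂) (congrArg CommaMorphism.left d₂)
      (fun O => (kers O).1) (fun O => (kers O).2)
  have hc₀ : IsClosedImmersion (c₀.left ≫ (hY.rep.snd p).left) := by
    rw [← Over.comp_left, c₂]; infer_instance
  have hd₀ : IsClosedImmersion (d₀.left ≫ (hZ.rep.snd p).left) := by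
    rw [← Over.comp_left, d₂]; infer_instance
  have := IsClosedImmersion.of_comp c₀.left (hY.rep.snd p).left
  have := IsClosedImmersion.of_comp d₀.left (hZ.rep.snd p).left
  have haff : ∀ y : ↥(hZ.rep.pullback p).left, ∃ O : (hY.rep.pullback p).left.Opens, IsAffineOpen O ∧
      d₀.left ⁻¹' {y} ⊆ (c₀.left ⁻¹ᵁ O : Set ↥(hV.rep.pullback p).left) := fun y => by
    by_cases h : y ∈ Set.range d₀.left
    · obtain ⟨x, rfl⟩ := h
      obtain ⟨O, hO, hx, -⟩ := exists_isAffineOpen_mem_and_subset (x := c₀.left x)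
        (U := (⊤ : (hY.rep.pullback p).left.Opens)) trivial
      refine ⟨O, hO, fun z hz => ?_⟩
      rwa [d₀.left.isClosedEmbedding.injective (show d₀.left z = d₀.left x from hz)]
    · exact ⟨⊥, isAffineOpen_bot _, fun z hz => absurd ⟨z, hz⟩ h⟩
  refine ⟨_, _, _, _, a₀, b₀, c₀, d₀, hW.rep.snd p, hY.rep.fst p, hZ.rep.fst p, hW.rep.fst p, hV.rep.fst p,
    IntPush'.isPushout_ofScheme c₀ d₀ haff a₀ b₀
      (IsPushout.of_map (Over.forget S) hac hpo), sW, a₂.symm ▸ sY, b₂.symm ▸ sZ, a₁, b₁, c₁.symm, d₁.symm⟩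

/-- The square of a union and an intersection is cocartesian among algebraic spaces. -/
theorem existsUnique_desc (hX : IsAlgSpace X) (hY : RepWith @IsClosedImmersion iY)
    (hZ : RepWith @IsClosedImmersion iZ) (hW : RepWith @IsClosedImmersion w) (hV : RepWith @IsClosedImmersion v)
    (ha : a ≫ w = iY) (hb : b ≫ w = iZ) (hc : c ≫ iY = v) (hd : d ≫ iZ = v)
    (hK : ∀ (E : EtOver X) (hE : IsAffine E.obj.left.left), (idealOfRep hW.1).ideal E hE =
      (idealOfRep hY.1).ideal E hE ⊓ (idealOfRep hZ.1).ideal E hE)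
    (hL : idealOfRep hV.1 = idealOfRep hY.1 ⊔ idealOfRep hZ.1)
    {T : Space S} (g₁ : Y ⟶ T.obj) (g₂ : Z ⟶ T.obj) (e : c ≫ g₁ = d ≫ g₂) :
    ∃! g : W ⟶ T.obj, a ≫ g = g₁ ∧ b ≫ g = g₂ := by
  obtain ⟨U, p, hp, hps⟩ := hX.atlas
  obtain ⟨RU, sU, tU', kU⟩ := hp.rep p
  obtain ⟨tU, rfl⟩ := (yon S).map_surjective tU'
  have hpR : RepWith @Etale ((yon S).map tU ≫ p) :=
    repWith_comp (repWith_of_isPullback kU.flip hp) hp
  obtain ⟨YU, ZU, WU, VU, a₀, b₀, c₀, d₀, wU, lY, lZ, lW, lV, hpo, sW, sY, sZ, ea, eb, ec, ed⟩ :=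
    exists_square hY hZ hW hV ha hb hc hd hK hL p hp
  obtain ⟨YR, ZR, WR, VR, aR, bR, cR, dR, wR, mY, mZ, mW, mV, hpoR, rW, rY, rZ, fa, fb, -, -⟩ :=
    exists_square hY hZ hW hV ha hb hc hd hK hL _ hpR
  have hq : RepWith @Etale lW := repWith_of_isPullback sW.flip hp
  have hqs : RepWith @Surjective lW := repWith_of_isPullback sW.flip hps
  have : Epi lW := epi_of_etale_surjective hq hqs
  have : Epi lY := epi_of_etale_surjective (repWith_of_isPullback sY.flip hp) (repWith_of_isPullback sY.flip hps)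
  have : Epi lZ := epi_of_etale_surjective (repWith_of_isPullback sZ.flip hp) (repWith_of_isPullback sZ.flip hps)
  let G₁ : (AlgSp.ofScheme S).obj YU ⟶ T := ObjectProperty.homMk (lY ≫ g₁)
  let G₂ : (AlgSp.ofScheme S).obj ZU ⟶ T := ObjectProperty.homMk (lZ ≫ g₂)
  have hG : (AlgSp.ofScheme S).map c₀ ≫ G₁ = (AlgSp.ofScheme S).map d₀ ≫ G₂ := ObjectProperty.hom_ext _ (by
    show (yon S).map c₀ ≫ lY ≫ g₁ = (yon S).map d₀ ≫ lZ ≫ g₂
    rw [← reassoc_of% ec, e, reassoc_of% ed])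
  obtain ⟨G, hGdef⟩ : ∃ G : (yon S).obj WU ⟶ T.obj, G = (hpo.desc G₁ G₂ hG).hom := ⟨_, rfl⟩
  have hGa : (yon S).map a₀ ≫ G = lY ≫ g₁ := by
    rw [hGdef]; exact congrArg InducedCategory.Hom.hom (hpo.inl_desc G₁ G₂ hG)
  have hGb : (yon S).map b₀ ≫ G = lZ ≫ g₂ := by
    rw [hGdef]; exact congrArg InducedCategory.Hom.hom (hpo.inr_desc G₁ G₂ hG)
  -- agreement on the overlaps
  have hRU : ((yon S).map tU) ≫ p = (yon S).map sU ≫ p := kU.w
  have agree : ∀ (x : RU ⟶ U), (yon S).map x ≫ p = (yon S).map tU ≫ p →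
      ∃ (r : (yon S).obj WR ⟶ (yon S).obj WU), r ≫ lW = mW ∧ r ≫ (yon S).map wU = (yon S).map (wR ≫ x) ∧
        (yon S).map aR ≫ r ≫ G = mY ≫ g₁ ∧ (yon S).map bR ≫ r ≫ G = mZ ≫ g₂ := by
    intro x hx
    obtain ⟨r, r₁, r₂⟩ := sW.exists_lift mW ((yon S).map (wR ≫ x)) (by
      rw [rW.w, Functor.map_comp, Category.assoc, hx])
    obtain ⟨ry, ry₁, ry₂⟩ := sY.exists_lift mY ((yon S).map (aR ≫ wR ≫ x)) (by
      rw [rY.w, Functor.map_comp, Functor.map_comp, Functor.map_comp, Category.assoc, Category.assoc,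
        Category.assoc, hx])
    obtain ⟨rz, rz₁, rz₂⟩ := sZ.exists_lift mZ ((yon S).map (bR ≫ wR ≫ x)) (by
      rw [rZ.w, Functor.map_comp, Functor.map_comp, Functor.map_comp, Category.assoc, Category.assoc,
        Category.assoc, hx])
    have hy : ry ≫ (yon S).map a₀ = (yon S).map aR ≫ r := sW.hom_ext
      (by rw [Category.assoc, ea, reassoc_of% ry₁, Category.assoc, r₁, fa])
      (by rw [Category.assoc, ← Functor.map_comp, ry₂, Category.assoc, r₂, ← Functor.map_comp])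
    have hz : rz ≫ (yon S).map b₀ = (yon S).map bR ≫ r := sW.hom_ext
      (by rw [Category.assoc, eb, reassoc_of% rz₁, Category.assoc, r₁, fb])
      (by rw [Category.assoc, ← Functor.map_comp, rz₂, Category.assoc, r₂, ← Functor.map_comp])
    exact ⟨r, r₁, r₂, by rw [← reassoc_of% hy, hGa, reassoc_of% ry₁],
      by rw [← reassoc_of% hz, hGb, reassoc_of% rz₁]⟩
  obtain ⟨rt, rt₁, rt₂, rta, rtb⟩ := agree tU rfl
  obtain ⟨rs, rs₁, rs₂, rsa, rsb⟩ := agree sU hRU.symm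
  have hrG : rt ≫ G = rs ≫ G := by
    exact congrArg InducedCategory.Hom.hom (hpoR.hom_ext
      (k := (ObjectProperty.homMk (rt ≫ G) : (AlgSp.ofScheme S).obj WR ⟶ T))
      (l := (ObjectProperty.homMk (rs ≫ G) : (AlgSp.ofScheme S).obj WR ⟶ T))
      (ObjectProperty.hom_ext _ (rta.trans rsa.symm)) (ObjectProperty.hom_ext _ (rtb.trans rsb.symm)))
  obtain ⟨R, sR, tR', kp⟩ := hq.rep lW
  obtain ⟨tR, rfl⟩ := (yon S).map_surjective tR'
  obtain ⟨u, u₁, u₂⟩ := kU.exists_lift ((yon S).map (tR ≫ wU)) ((yon S).map (sR ≫ wU)) (by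
    rw [Functor.map_comp, Functor.map_comp, Category.assoc, Category.assoc, ← sW.w, ← Category.assoc, kp.w,
      Category.assoc])
  obtain ⟨r, r₁, r₂⟩ := rW.exists_lift ((yon S).map tR ≫ lW) u (by
    rw [Category.assoc, sW.w, reassoc_of% u₁, Functor.map_comp, Category.assoc])
  have et : r ≫ rt = (yon S).map tR := sW.hom_ext (by rw [Category.assoc, rt₁, r₁])
    (by rw [Category.assoc, rt₂, Functor.map_comp, reassoc_of% r₂, u₁, Functor.map_comp])
  have es : r ≫ rs = (yon S).map sR := sW.hom_ext (by rw [Category.assoc, rs₁, r₁, kp.w])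
    (by rw [Category.assoc, rs₂, Functor.map_comp, reassoc_of% r₂, u₂, Functor.map_comp])
  obtain ⟨g, hg⟩ := Cofork.IsColimit.desc' (EtLift.isColimitOfAtlas hq hqs kp) G (by
    rw [← et, ← es, Category.assoc, Category.assoc, hrG])
  simp only [Cofork.π_ofπ] at hg
  refine ⟨g, ⟨?_, ?_⟩, fun g' hg' => ?_⟩
  · rw [← cancel_epi lY, ← reassoc_of% ea, hg, hGa]
  · rw [← cancel_epi lZ, ← reassoc_of% eb, hg, hGb]
  · rw [← cancel_epi lW, hg]
    exact congrArg InducedCategory.Hom.hom (hpo.hom_ext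
      (k := (ObjectProperty.homMk (lW ≫ g') : (AlgSp.ofScheme S).obj WU ⟶ T))
      (l := (ObjectProperty.homMk G : (AlgSp.ofScheme S).obj WU ⟶ T))
      (ObjectProperty.hom_ext _ ((reassoc_of% ea) g' |>.trans (by rw [hg'.1]; exact hGa.symm)))
      (ObjectProperty.hom_ext _ ((reassoc_of% eb) g' |>.trans (by rw [hg'.2]; exact hGb.symm))))

end Groth.Agent.AlgSpDec.SchUnion
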