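import Groth.Agent.AlgSpDec.Glue
import Groth.Prelude.Def_AlgSpRep
import Mathlib.CategoryTheory.Limits.FunctorCategory.EpiMono

/-!
# Zariski sheaves covered by subsheaves are fppf sheaves
-/

set_option linter.style.haveILetI false
set_option autoImplicit false
set_option backward.isDefEq.respectTransparency false
set_option backward.isDefEq.respectTransparency.types false

universe u v w

open CategoryTheory CategoryTheory.Limits Opposite AlgebraicGeometry AlgSp
open Groth.Agent.AlgSpLib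

namespace Groth.Agent.AlgSpDec.SubCover

variable {S : Scheme.{u}}

/-- A covering sieve contains flat lfp morphisms through every point. -/
theorem exists_flat_lfp_family {T : Over S} {R : Sieve T} (hR : R ∈ J S T) :
    ∃ (V : T.left → Over S) (φ : ∀ t, V t ⟶ T), (∀ t, R (φ t)) ∧
      (∀ t, Flat (φ t).left ∧ LocallyOfFinitePresentation (φ t).left) ∧ ∀ t, t ∈ Set.range (φ t).left := by
  rw [GrothendieckTopology.mem_over_iff] at hR
  have : (@Flat ⊓ @LocallyOfFinitePresentation : MorphismProperty Scheme.{u}).ContainsIdentities :=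
    ⟨fun X => ⟨inferInstanceAs (Flat (𝟙 X)), inferInstanceAs (LocallyOfFinitePresentation (𝟙 X))⟩⟩
  have : Scheme.fppfPrecoverage.HasIsos := inferInstanceAs (Scheme.precoverage (@Flat ⊓ @LocallyOfFinitePresentation)).HasIsos
  have : Scheme.fppfPrecoverage.HasPullbacks := ⟨fun {X} R f hR => inferInstance⟩
  obtain ⟨Rp, hRp, hle⟩ := Precoverage.mem_toGrothendieck_iff_of_isStableUnderComposition.1 hR
  obtain ⟨hsurj, hp⟩ : (∀ x : T.left, ∃ (U : Scheme.{u}) (g : U ⟶ T.left), Rp g ∧ x ∈ Set.range g) ∧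
      ∀ {U : Scheme.{u}} (g : U ⟶ T.left), Rp g → Flat g ∧ LocallyOfFinitePresentation g := by
    rw [Scheme.fppfPrecoverage] at hRp
    refine ⟨fun x => ?_, fun {U} g hg => hRp.2 hg⟩
    obtain ⟨ι, U, g, rfl⟩ := Presieve.exists_eq_ofArrows Rp
    rw [Scheme.ofArrows_mem_precoverage_iff] at hRp
    obtain ⟨i, hi⟩ := hRp.1 x
    exact ⟨U i, g i, ⟨i⟩, hi⟩
  choose U g hg hx using hsurj
  exact ⟨fun x => Over.mk (g x ≫ T.hom), fun x => CategoryTheory.Over.homMk (g x) rfl,
    fun x => (Sieve.overEquiv_iff R (g x)).1 (hle _ _ (hg x)), fun x => hp _ (hg x), hx⟩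

/-- The inclusion of an open subscheme over the base. -/
noncomputable def incl {T : Over S} (O : T.left.Opens) : Over.mk (O.ι ≫ T.hom) ⟶ T :=
  CategoryTheory.Over.homMk O.ι rfl

/-- Opens covering the scheme generate a covering sieve for the Zariski and the fppf topologies. -/
theorem mem_zariski {T : Over S} (O : T.left → T.left.Opens) (hO : ∀ t, t ∈ O t) :
    Sieve.generate (Presieve.ofArrows (fun t => Over.mk ((O t).ι ≫ T.hom)) (fun t => incl (O t))) ∈
      QuotSh.J Scheme.zariskiPrecoverage S T ∧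
    Sieve.generate (Presieve.ofArrows (fun t => Over.mk ((O t).ι ≫ T.hom)) (fun t => incl (O t))) ∈ J S T := by
  let 𝒰 : T.left.OpenCover := T.left.openCoverOfIsOpenCover O
    (TopologicalSpace.Opens.ext (Set.eq_univ_of_forall fun t => by
      simp only [TopologicalSpace.Opens.coe_iSup, Set.mem_iUnion]; exact ⟨t, hO t⟩))
  constructor
  · rw [GrothendieckTopology.mem_over_iff]
    refine GrothendieckTopology.superset_covering _ ?_ (Precoverage.generate_mem_toGrothendieck 𝒰.mem₀)
    rw [Sieve.generate_le_iff]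
    rintro _ _ ⟨i⟩
    rw [Sieve.overEquiv_iff]
    exact Sieve.le_generate _ _ _ (Presieve.ofArrows.mk i)
  · refine mem_J_of_openCover 𝒰 _ fun i => ?_
    exact Sieve.le_generate _ _ _ (Presieve.ofArrows.mk i)

/-- A flat lfp morphism covers its open image. -/
theorem exists_image {T V : Over S} (φ : V ⟶ T) [Flat φ.left] [LocallyOfFinitePresentation φ.left] :
    ∃ (O : T.left.Opens) (ψ : V ⟶ Over.mk (O.ι ≫ T.hom)), (O : Set ↥T.left) = Set.range φ.left ∧
      ψ ≫ incl O = φ ∧ fppf ψ.left := by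
  let O : T.left.Opens := ⟨Set.range φ.left, φ.left.isOpenMap.isOpen_range⟩
  let l := IsOpenImmersion.lift O.ι φ.left (by rw [Scheme.Opens.range_ι]; exact subset_rfl)
  have hl : l ≫ O.ι = φ.left := IsOpenImmersion.lift_fac _ _ _
  have sq : IsPullback l (𝟙 _) O.ι φ.left := by
    refine IsPullback.of_isLimit' ⟨by rw [hl, Category.id_comp]⟩
      (PullbackCone.IsLimit.mk _ (fun s => s.snd) (fun s => ?_) (fun s => Category.comp_id _) fun s m _ h => ?_)
    · rw [← cancel_mono O.ι, Category.assoc, hl, s.condition]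
    · rw [← h, Category.comp_id]
  have : Flat l := MorphismProperty.of_isPullback sq.flip ‹Flat φ.left›
  have : LocallyOfFinitePresentation l := MorphismProperty.of_isPullback sq.flip ‹LocallyOfFinitePresentation φ.left›
  have : Surjective l := ⟨fun o => by
    obtain ⟨v, hv⟩ := (Scheme.Opens.range_ι O).subset ⟨o, rfl⟩
    exact ⟨v, O.ι.isOpenEmbedding.injective (by rw [← Scheme.Hom.comp_apply, hl, hv])⟩⟩
  exact ⟨O, CategoryTheory.Over.homMk l (by change l ≫ O.ι ≫ T.hom = _; rw [reassoc_of% hl, Over.w φ]), rfl,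
    Over.OverMorphism.ext hl, fppf_of l⟩

variable {F : PSp S} {ι : Type v} {Fi : ι → PSp S} (m : ∀ i, Fi i ⟶ F) [∀ i, Mono (m i)]
  (hb : ∀ i, RepBySp (m i))

theorem injective_app (i : ι) (X : (Over S)ᵒᵖ) : Function.Injective ((m i).app X) :=
  (mono_iff_injective _).1 ((NatTrans.mono_iff_mono_app _).1 inferInstance X)

include hb in
/-- A section lying locally in a member lies in it. -/
theorem mem_range_of_locally (i : ι) {T : Over S} (y : F.obj (op T)) (R : Sieve T) (hR : R ∈ J S T)
    (h : ∀ ⦃T' : Over S⦄ (φ : T' ⟶ T), R φ → F.map φ.op y ∈ Set.range ((m i).app (op T'))) :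
    y ∈ Set.range ((m i).app (op T)) := by
  let ξ : (pyon S).obj T ⟶ F := uliftYonedaEquiv.{u + 1}.symm y
  obtain ⟨hP, -⟩ := hb i ξ _ _ (IsPullback.of_hasPullback (m i) ξ)
  choose g hg using h
  have hw : ∀ ⦃T' : Over S⦄ (φ : T' ⟶ T) (hφ : R φ),
      uliftYonedaEquiv.symm (g φ hφ) ≫ m i = (pyon S).map φ ≫ ξ := fun T' φ hφ => by
    apply uliftYonedaEquiv.injective
    rw [uliftYonedaEquiv_comp, Equiv.apply_symm_apply, hg]
    change F.map φ.op y = F.map (𝟙 T' ≫ φ).op y
    rw [Category.id_comp]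
  let κ : ∀ ⦃T' : Over S⦄ (φ : T' ⟶ T), R φ → ((pyon S).obj T' ⟶ pullback (m i) ξ) := fun T' φ hφ =>
    pullback.lift (uliftYonedaEquiv.symm (g φ hφ)) ((pyon S).map φ) (hw φ hφ)
  have hinj : ∀ X, Function.Injective ((pullback.snd (m i) ξ).app X) := fun X =>
    (mono_iff_injective _).1 ((NatTrans.mono_iff_mono_app _).1 inferInstance X)
  let x : Presieve.FamilyOfElements (pullback (m i) ξ) R.arrows := fun T' φ hφ => uliftYonedaEquiv (κ φ hφ)
  have hx : ∀ ⦃T' : Over S⦄ (φ : T' ⟶ T) (hφ : R φ),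
      (pullback.snd (m i) ξ).app (op T') (x φ hφ) = ULift.up φ := fun T' φ hφ => by
    rw [← uliftYonedaEquiv_comp, pullback.lift_snd]
    change ULift.up (𝟙 T' ≫ φ) = _
    rw [Category.id_comp]
  have hc : x.Compatible := fun Y₁ Y₂ Z g₁ g₂ f₁ f₂ h₁ h₂ e => hinj _ (by
    rw [NatTrans.naturality_apply, NatTrans.naturality_apply, hx, hx]
    exact congrArg ULift.up e)
  obtain ⟨p, hp, -⟩ := (isSheaf_iff_isSheaf_of_type _ _).1 hP R hR x hc
  have h1 : (pullback.snd (m i) ξ).app (op T) p = ULift.up (𝟙 T) := by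
    refine (((isSheaf_iff_isSheaf_of_type _ _).1 ((yon S).obj T).property).isSeparated R hR).ext
      fun T' φ hφ => ?_
    change ((pyon S).obj T).map φ.op _ = ((pyon S).obj T).map φ.op _
    rw [← NatTrans.naturality_apply, hp φ hφ, hx]
    exact congrArg ULift.up (Category.comp_id φ).symm
  refine ⟨(pullback.fst (m i) ξ).app (op T) p, ?_⟩
  rw [← ConcreteCategory.comp_apply, ← NatTrans.comp_app, pullback.condition, NatTrans.comp_app,
    ConcreteCategory.comp_apply, h1]
  change F.map (𝟙 T).op y = y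
  simp

variable (ha : ∀ i, Presheaf.IsSheaf (J S) (Fi i))
  (hz : Presheaf.IsSheaf (QuotSh.J Scheme.zariskiPrecoverage S) F)
  (hc : ∀ (T : Over S) (x : F.obj (op T)), ∃ R ∈ J S T,
    ∀ ⦃T' : Over S⦄ (f : T' ⟶ T), R.arrows f → ∃ i, F.map f.op x ∈ Set.range ((m i).app (op T')))

include hb hc in
/-- Sections lie Zariski locally in the members. -/
theorem exists_open {T : Over S} (x : F.obj (op T)) (t : T.left) :
    ∃ (O : T.left.Opens) (i : ι), t ∈ O ∧
      F.map (incl O).op x ∈ Set.range ((m i).app (op (Over.mk (O.ι ≫ T.hom)))) := by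
  obtain ⟨R, hR, hR'⟩ := hc T x
  obtain ⟨V, φ, hφ, hp, ht⟩ := exists_flat_lfp_family hR
  obtain ⟨i, hi⟩ := hR' (φ t) (hφ t)
  have := (hp t).1
  have := (hp t).2
  obtain ⟨O, ψ, hO, hψ, hψf⟩ := exists_image (φ t)
  refine ⟨O, i, hO.symm.subset (ht t), mem_range_of_locally m hb i _ (Sieve.generate (Presieve.singleton ψ))
    (mem_J_of_fppf ψ hψf _ (Sieve.le_generate _ _ _ (Presieve.singleton_self ψ))) fun T' f hf => ?_⟩
  obtain ⟨Z, k, e, he, rfl⟩ := hf
  cases he
  obtain ⟨a, ha'⟩ := hi
  refine ⟨(Fi i).map k.op a, ?_⟩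
  rw [NatTrans.naturality_apply, ha', ← hψ]
  simp

include hb hc ha hz in
/-- Sections agreeing locally are equal. -/
theorem ext_of_locally {T : Over S} {s t : F.obj (op T)} (R : Sieve T) (hR : R ∈ J S T)
    (h : ∀ ⦃T' : Over S⦄ (φ : T' ⟶ T), R φ → F.map φ.op s = F.map φ.op t) : s = t := by
  choose O i hO hi using exists_open m hb hc s
  refine (((isSheaf_iff_isSheaf_of_type _ _).1 hz).isSeparated _ (mem_zariski O hO).1).ext fun T' f hf => ?_
  obtain ⟨Z, k, e, he, rfl⟩ := hf
  obtain ⟨p⟩ := he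
  suffices hs : F.map (incl (O p)).op s = F.map (incl (O p)).op t by
    rw [op_comp, Functor.map_comp, ConcreteCategory.comp_apply, ConcreteCategory.comp_apply, hs]
  have hR' := (J S).pullback_stable (incl (O p)) hR
  obtain ⟨a, ha'⟩ := hi p
  obtain ⟨b, hb'⟩ := mem_range_of_locally m hb (i p) (F.map (incl (O p)).op t) _ hR' fun T'' φ hφ =>
    ⟨(Fi (i p)).map φ.op a, by
      have := h _ hφ
      rw [op_comp, Functor.map_comp, ConcreteCategory.comp_apply, ConcreteCategory.comp_apply] at this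
      rw [NatTrans.naturality_apply, ha', this]⟩
  rw [← ha', ← hb']
  refine congrArg _ ((((isSheaf_iff_isSheaf_of_type _ _).1 (ha (i p))).isSeparated _ hR').ext fun T'' φ hφ => ?_)
  apply injective_app m
  rw [NatTrans.naturality_apply, NatTrans.naturality_apply, ha', hb']
  have := h _ hφ
  rwa [op_comp, Functor.map_comp, ConcreteCategory.comp_apply, ConcreteCategory.comp_apply] at this

include hb hc ha hz in
/-- A Zariski sheaf covered fppf locally by subsheaves is an fppf sheaf. -/
theorem isSheaf : Presheaf.IsSheaf (J S) F := by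
  refine (isSheaf_iff_isSheaf_of_type _ _).2 fun T R hR x hx => ?_
  let R' : Sieve T :=
    { arrows := fun Y f => ∃ i, ∃ hf : R f, x f hf ∈ Set.range ((m i).app (op Y))
      downward_closed := by
        rintro Y Z f ⟨i, hf, a, ha'⟩ g
        refine ⟨i, R.downward_closed hf g, (Fi i).map g.op a, ?_⟩
        rw [NatTrans.naturality_apply, ha']
        exact ((Presieve.compatible_iff_sieveCompatible x).1 hx f g hf).symm }
  have hR' : R' ∈ J S T := (J S).transitive hR R' fun Y f hf => by
    obtain ⟨Q, hQ, hQ'⟩ := hc Y (x f hf)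
    refine (J S).superset_covering (fun Z g hg => ?_) hQ
    obtain ⟨i, hi⟩ := hQ' g hg
    exact ⟨i, R.downward_closed hf g, ((Presieve.compatible_iff_sieveCompatible x).1 hx f g hf).symm ▸ hi⟩
  obtain ⟨V, φ, hφ, hp, ht⟩ := exists_flat_lfp_family hR'
  choose i hφR hi using hφ
  have hpf := fun t => (hp t).1
  have hpl := fun t => (hp t).2
  choose O ψ hO hψ hψf using fun t => exists_image (φ t)
  have hR₂ := fun t => (J S).pullback_stable (incl (O t)) hR
  have hmem : ∀ (t : T.left) ⦃Y : Over S⦄ (f : Y ⟶ Over.mk ((O t).ι ≫ T.hom)) (hf : R (f ≫ incl (O t))),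
      x (f ≫ incl (O t)) hf ∈ Set.range ((m (i t)).app (op Y)) := fun t Y f hf => by
    refine mem_range_of_locally m hb (i t) _ _
      ((J S).pullback_stable f (mem_J_of_fppf (ψ t) (hψf t) (Sieve.generate (Presieve.singleton (ψ t)))
        (Sieve.le_generate _ _ _ (Presieve.singleton_self (ψ t))))) fun Z g hg => ?_
    obtain ⟨W, k, e, he, hk⟩ := hg
    cases he
    have e1 : g ≫ f ≫ incl (O t) = k ≫ φ t := by rw [← reassoc_of% hk, hψ]
    obtain ⟨a, ha'⟩ := hi t
    refine ⟨(Fi (i t)).map k.op a, ?_⟩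
    rw [NatTrans.naturality_apply, ha']
    exact (hx g k hf (hφR t) e1).symm
  choose z hz' using hmem
  have hglue : ∀ t, ∃ s : (Fi (i t)).obj (op (Over.mk ((O t).ι ≫ T.hom))),
      ∀ ⦃Y : Over S⦄ (f : Y ⟶ Over.mk ((O t).ι ≫ T.hom)) (hf : R (f ≫ incl (O t))),
        F.map f.op ((m (i t)).app _ s) = x _ hf := fun t => by
    let y : Presieve.FamilyOfElements (Fi (i t)) (Sieve.pullback (incl (O t)) R).arrows := fun Y f hf => z t f hf
    have hy : y.Compatible := fun Y₁ Y₂ Z g₁ g₂ f₁ f₂ h₁ h₂ e => injective_app m _ _ (by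
      rw [NatTrans.naturality_apply, NatTrans.naturality_apply, hz', hz']
      exact hx g₁ g₂ h₁ h₂ (by rw [reassoc_of% e]))
    obtain ⟨s, hs, -⟩ := (isSheaf_iff_isSheaf_of_type _ _).1 (ha (i t)) _ (hR₂ t) y hy
    exact ⟨s, fun Y f hf => by rw [← NatTrans.naturality_apply, hs f hf, hz']⟩
  choose s hs using hglue
  let u : ∀ t, F.obj (op (Over.mk ((O t).ι ≫ T.hom))) := fun t => (m (i t)).app _ (s t)
  have hu : Presieve.Arrows.Compatible F (fun t => incl (O t)) u := fun a b W ga gb e => by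
    refine ext_of_locally m hb ha hz hc _ ((J S).pullback_stable (ga ≫ incl (O a)) hR) fun Y f hf => ?_
    have h1 := hs a (f ≫ ga) (by rw [Category.assoc]; exact hf)
    have h2 := hs b (f ≫ gb) (by rw [Category.assoc, ← e]; exact hf)
    rw [op_comp, Functor.map_comp, ConcreteCategory.comp_apply] at h1 h2
    rw [h1, h2]
    congr 1
    rw [Category.assoc, Category.assoc, e]
  have hmemO : ∀ t, t ∈ O t := fun t => (hO t).symm.subset (ht t)
  obtain ⟨a, ha', -⟩ := (Presieve.isSheafFor_arrows_iff F _).1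
    ((Presieve.isSheafFor_iff_generate _).2 ((isSheaf_iff_isSheaf_of_type _ _).1 hz _ (mem_zariski O hmemO).1)) u hu
  refine ⟨a, fun Y f hf => ?_, fun b hb' => ?_⟩
  · refine ext_of_locally m hb ha hz hc _ ((J S).pullback_stable f (mem_zariski O hmemO).2) fun Z g hg => ?_
    obtain ⟨W, k, e, ⟨t⟩, hk⟩ := hg
    have hgf : R (k ≫ incl (O t)) := hk ▸ R.downward_closed hf g
    calc F.map g.op (F.map f.op a) = F.map (k ≫ incl (O t)).op a := by
          rw [hk, op_comp, Functor.map_comp, ConcreteCategory.comp_apply]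
      _ = F.map k.op (u t) := by rw [op_comp, Functor.map_comp, ConcreteCategory.comp_apply, ha' t]
      _ = x (k ≫ incl (O t)) hgf := hs t k hgf
      _ = F.map g.op (x f hf) := by
          have := hx (𝟙 Z) g hgf hf (by rw [Category.id_comp, hk])
          rwa [op_id, F.map_id, ConcreteCategory.id_apply] at this
  · refine ext_of_locally m hb ha hz hc R hR fun Y f hf => ?_
    rw [hb' f hf]
    refine (ext_of_locally m hb ha hz hc _ ((J S).pullback_stable f (mem_zariski O hmemO).2) fun Z g hg => ?_).symm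
    obtain ⟨W, k, e, ⟨t⟩, hk⟩ := hg
    have hgf : R (k ≫ incl (O t)) := hk ▸ R.downward_closed hf g
    calc F.map g.op (F.map f.op a) = F.map (k ≫ incl (O t)).op a := by
          rw [hk, op_comp, Functor.map_comp, ConcreteCategory.comp_apply]
      _ = F.map k.op (u t) := by rw [op_comp, Functor.map_comp, ConcreteCategory.comp_apply, ha' t]
      _ = x (k ≫ incl (O t)) hgf := hs t k hgf
      _ = F.map g.op (x f hf) := by
          have := hx (𝟙 Z) g hgf hf (by rw [Category.id_comp, hk])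
          rwa [op_id, F.map_id, ConcreteCategory.id_apply] at this

end Groth.Agent.AlgSpDec.SubCover
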