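import Groth.Agent.MorLib.Thick.Affine
import Mathlib.AlgebraicGeometry.Morphisms.FinitePresentation
import Mathlib.AlgebraicGeometry.Morphisms.ClosedImmersion
import Mathlib.RingTheory.Nilpotent.Lemmas
import Mathlib.RingTheory.FinitePresentation

/-!
# A morphism which is a closed immersion modulo a thickening of the base
-/

universe u

open CategoryTheory CategoryTheory.Limits AlgebraicGeometry TensorProduct

namespace Groth.Agent.AlgSpDec.ThickClosedImm

/-- surjectivity modulo a nilpotent ideal -/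
theorem surjective_of_mod {B A : Type u} [CommRing B] [CommRing A] (φ : B →+* A) (I : Ideal B)
    (hI : I ≤ nilradical B) (hs : ∀ a, ∃ b, a - φ b ∈ I.map φ) (h : φ.FiniteType ∨ I.FG) :
    Function.Surjective φ := by
  obtain ⟨I₀, hfg, hle, hs₀⟩ : ∃ I₀ : Ideal B, I₀.FG ∧ I₀ ≤ I ∧ ∀ a, ∃ b, a - φ b ∈ I₀.map φ := by
    rcases h with h | h
    swap
    · exact ⟨I, h, le_rfl, hs⟩
    algebraize [φ]
    obtain ⟨s, hsgen⟩ := (‹Algebra.FiniteType B A›).out
    choose b hb using hs
    classical
    have hfin : ∀ x : A, ∃ t : Finset B, ↑t ⊆ (I : Set B) ∧ x - φ (b x) ∈ (Ideal.span (t : Set B)).map φ := by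
      intro x
      obtain ⟨T, hT, hT'⟩ := Submodule.mem_span_finite_of_mem_span (S := φ '' (I : Set B)) (hb x)
      obtain ⟨t, ht, rfl⟩ := Finset.subset_set_image_iff.1 hT
      refine ⟨t, ht, ?_⟩
      rw [Ideal.map_span]
      simpa using hT'
    choose t ht ht' using hfin
    classical
    refine ⟨Ideal.span (↑(s.biUnion t) : Set B), ⟨s.biUnion t, rfl⟩, Ideal.span_le.2 fun y hy => ?_, fun a => ?_⟩
    · obtain ⟨x, -, hxy⟩ := Finset.mem_biUnion.1 (Finset.mem_coe.1 hy)
      exact ht x hxy
    · set J := (Ideal.span (↑(s.biUnion t) : Set B)).map φ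
      have ha : a ∈ Algebra.adjoin B (s : Set A) := hsgen ▸ Algebra.mem_top
      induction ha using Algebra.adjoin_induction with
      | mem x hx =>
        refine ⟨b x, Ideal.map_mono (Ideal.span_mono ?_) (ht' x)⟩
        exact Finset.coe_subset.2 (Finset.subset_biUnion_of_mem t (Finset.mem_coe.1 hx))
      | algebraMap r => exact ⟨r, by simp [RingHom.algebraMap_toAlgebra]⟩
      | add x y _ _ hx hy =>
        obtain ⟨p, hp⟩ := hx
        obtain ⟨q, hq⟩ := hy
        exact ⟨p + q, by rw [map_add, add_sub_add_comm]; exact J.add_mem hp hq⟩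
      | mul x y _ _ hx hy =>
        obtain ⟨p, hp⟩ := hx
        obtain ⟨q, hq⟩ := hy
        refine ⟨p * q, ?_⟩
        rw [map_mul, show x * y - φ p * φ q = (x - φ p) * y + φ p * (y - φ q) by ring]
        exact J.add_mem (J.mul_mem_right _ hp) (J.mul_mem_left _ hq)
  have step : ∀ (n : ℕ) (a : A), a ∈ (I₀ ^ n).map φ → ∃ b, a - φ b ∈ (I₀ ^ (n + 1)).map φ := by
    intro n a ha
    induction ha using Submodule.span_induction with
    | mem x hx =>
      obtain ⟨c, -, rfl⟩ := hx
      exact ⟨c, by simp⟩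
    | zero => exact ⟨0, by simp⟩
    | add x y _ _ hx hy =>
      obtain ⟨p, hp⟩ := hx
      obtain ⟨q, hq⟩ := hy
      exact ⟨p + q, by rw [map_add, add_sub_add_comm]; exact Ideal.add_mem _ hp hq⟩
    | smul r x hxI hx =>
      obtain ⟨p, hp⟩ := hx
      obtain ⟨q, hq⟩ := hs₀ r
      refine ⟨q * p, ?_⟩
      rw [smul_eq_mul, map_mul, show r * x - φ q * φ p = (r - φ q) * x + φ q * (x - φ p) by ring]
      refine Ideal.add_mem _ ?_ (Ideal.mul_mem_left _ _ hp)
      rw [pow_succ', Ideal.map_mul]
      exact Ideal.mul_mem_mul hq hxI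
  have key : ∀ (n : ℕ) (a : A), ∃ b, a - φ b ∈ (I₀ ^ n).map φ := by
    intro n
    induction n with
    | zero => exact fun a => ⟨0, by simp [Ideal.map_top]⟩
    | succ n ih =>
      intro a
      obtain ⟨b, hb⟩ := ih a
      obtain ⟨c, hc⟩ := step n _ hb
      exact ⟨b + c, by rw [map_add, ← sub_sub]; exact hc⟩
  obtain ⟨N, hN⟩ := (Ideal.FG.isNilpotent_iff_le_nilradical hfg).2 (hle.trans hI)
  intro a
  obtain ⟨b, hb⟩ := key N a
  rw [hN, Ideal.zero_eq_bot, Ideal.map_bot, Ideal.mem_bot, sub_eq_zero] at hb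
  exact ⟨b, hb.symm⟩

/-- a morphism to an affine scheme which is a closed immersion over a thickening is one -/
theorem isClosedImmersion_of_thick {X V Z X' : Scheme.{u}} [IsAffine V] (f : X ⟶ V) (i : Z ⟶ V)
    [IsClosedImmersion i] [Surjective i] {a : X' ⟶ X} {b : X' ⟶ Z} (sq : IsPullback a b f i)
    [IsClosedImmersion b] (h : LocallyOfFiniteType f ∨ LocallyOfFinitePresentation i) :
    IsClosedImmersion f := by
  have : IsAffine Z := isAffine_of_isAffineHom i
  have : IsAffine X' := isAffine_of_isAffineHom b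
  have : IsClosedImmersion a := MorphismProperty.of_isPullback (P := @IsClosedImmersion) sq.flip ‹_›
  have : Surjective a := MorphismProperty.of_isPullback (P := @Surjective) sq.flip ‹_›
  have : IsAffine X := MorLib.Thick.isAffine_of_thickening a a.surjective
  -- the affine picture
  obtain ⟨φ, hφ⟩ := Spec.map_surjective (X.isoSpec.inv ≫ f ≫ V.isoSpec.hom)
  let B := Γ(V, ⊤)
  let A := Γ(X, ⊤)
  obtain ⟨I, e, he⟩ := (IsClosedImmersion.Spec_iff (f := i ≫ V.isoSpec.hom)).1 inferInstance
  let q : B ⟶ CommRingCat.of (B ⧸ I) := CommRingCat.ofHom (Ideal.Quotient.mk I)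
  have hI : I ≤ nilradical B := by
    intro x hx
    refine (mem_nilradical).2 ((nilpotent_iff_mem_prime).2 fun J hJ => ?_)
    obtain ⟨z, hz⟩ := (i ≫ V.isoSpec.hom).surjective (⟨J, hJ⟩ : PrimeSpectrum B)
    rw [he, Scheme.Hom.comp_apply] at hz
    have hJ' : I ≤ (Spec.map q (e.hom z)).asIdeal := fun y hy => by
      show q y ∈ (e.hom z).asIdeal
      rw [show q y = 0 from Ideal.Quotient.eq_zero_iff_mem.2 hy]
      exact zero_mem _
    have := hJ' hx
    rw [show Spec.map q (e.hom z) = (⟨J, hJ⟩ : PrimeSpectrum B) from hz] at this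
    exact this
  algebraize [φ.hom]
  have sqA : IsPullback (a ≫ X.isoSpec.hom) (b ≫ e.hom) (Spec.map φ) (Spec.map q) :=
    sq.of_iso (Iso.refl _) X.isoSpec e V.isoSpec (by simp) (by simp) (by simp [hφ]) (by simp [he, q])
  have hsnd : IsClosedImmersion (pullback.snd (Spec.map φ) (Spec.map q)) := by
    rw [← IsPullback.isoPullback_inv_snd sqA]
    infer_instance
  have hs : ∀ x : A, ∃ y : B, x - φ.hom y ∈ I.map φ.hom := by
    intro x
    have h3 : Function.Surjective (Algebra.TensorProduct.includeRight (R := B) (A := A) (B := B ⧸ I)) := by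
      let r : CommRingCat.of (B ⧸ I) ⟶ CommRingCat.of (A ⊗[B] (B ⧸ I)) := CommRingCat.ofHom
        (Algebra.TensorProduct.includeRight (R := B) (A := A) (B := B ⧸ I)).toRingHom
      have h1 : IsClosedImmersion (Spec.map r) := by
        have e1 : Spec.map r = (pullbackSpecIso B A (B ⧸ I)).inv ≫ pullback.snd _ _ := (pullbackSpecIso_inv_snd _ _ _).symm
        rw [e1]
        haveI : IsClosedImmersion (pullback.snd (Spec.map (CommRingCat.ofHom (algebraMap B A))) (Spec.map (CommRingCat.ofHom (algebraMap B (B ⧸ I))))) := hsnd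
        infer_instance
      have h2 : Function.Surjective (Spec.map r).appTop := (IsClosedImmersion.isAffine_surjective_of_isAffine (f := Spec.map r)).2
      intro t
      obtain ⟨y, hy⟩ := h2 ((Scheme.ΓSpecIso _).inv t)
      refine ⟨(Scheme.ΓSpecIso _).hom y, ?_⟩
      have := congrArg (Scheme.ΓSpecIso _).hom hy
      rw [← ConcreteCategory.comp_apply, Scheme.ΓSpecIso_naturality, ConcreteCategory.comp_apply,
        ← ConcreteCategory.comp_apply (Scheme.ΓSpecIso _).inv, Iso.inv_hom_id] at this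
      exact this
    obtain ⟨y', hy'⟩ := h3 (x ⊗ₜ 1)
    obtain ⟨y, rfl⟩ := Ideal.Quotient.mk_surjective y'
    refine ⟨y, ?_⟩
    let ψ : A ⊗[B] (B ⧸ I) →ₐ[B] A ⧸ I.map φ.hom :=
      Algebra.TensorProduct.lift (Ideal.Quotient.mkₐ B _) (Ideal.Quotient.liftₐ I (Algebra.ofId B _) fun z hz => by
        rw [Algebra.ofId_apply, IsScalarTower.algebraMap_apply B A (A ⧸ I.map φ.hom), Ideal.Quotient.algebraMap_eq,
          Ideal.Quotient.eq_zero_iff_mem]
        exact Ideal.mem_map_of_mem _ hz) fun _ _ => Commute.all _ _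
    have := congrArg ψ hy'
    simp [ψ, IsScalarTower.algebraMap_apply B A (A ⧸ I.map φ.hom)] at this
    exact (Ideal.Quotient.eq).1 this.symm
  have hh : φ.hom.FiniteType ∨ I.FG := by
    rcases h with h | h
    · left
      have : LocallyOfFiniteType (Spec.map φ) := by rw [hφ]; infer_instance
      exact (HasRingHomProperty.Spec_iff (P := @LocallyOfFiniteType)).1 this
    · right
      have : LocallyOfFinitePresentation (Spec.map q) := by
        rw [show Spec.map q = e.inv ≫ i ≫ V.isoSpec.hom by rw [Iso.eq_inv_comp]; exact he.symm]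
        infer_instance
      have h' : q.hom.FinitePresentation := (HasRingHomProperty.Spec_iff (P := @LocallyOfFinitePresentation)).1 this
      have h'' : (RingHom.ker q.hom).FG := by
        letI := q.hom.toAlgebra
        have : Algebra.FinitePresentation B (B ⧸ I) := h'
        exact Algebra.FinitePresentation.ker_fG_of_surjective (Algebra.ofId B (B ⧸ I)) Ideal.Quotient.mk_surjective
      simpa [q] using h''
  have : IsClosedImmersion (Spec.map φ) :=
    IsClosedImmersion.spec_of_surjective _ (surjective_of_mod φ.hom I hI hs hh)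
  have e' : f = X.isoSpec.hom ≫ Spec.map φ ≫ V.isoSpec.inv := by rw [hφ]; simp
  rw [e']
  infer_instance

end Groth.Agent.AlgSpDec.ThickClosedImm
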