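import Groth.Agent.AlgSpDec.ThickPushSpace
import Groth.Agent.AlgSpDec.ThickPushLegs

/-!
# Glueing spaces along pushouts along thickenings
-/

set_option linter.style.haveILetI false
set_option autoImplicit false
set_option backward.isDefEq.respectTransparency false
set_option backward.isDefEq.respectTransparency.types false

universe u v w

open CategoryTheory CategoryTheory.Limits AlgebraicGeometry AlgSp
open Groth.Agent.AlgSpLib Groth.Agent.AlgSpPts

namespace Groth.Agent.AlgSpDec.ThickPush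

variable {S : Scheme.{u}}

/-- Being cartesian descends along an epimorphism on the corner. -/
theorem isPullback_of_epi {A V V' Y Y' W : Sp S} {i : V ⟶ V'} {v : V ⟶ Y} {v' : V' ⟶ Y'} {t : Y ⟶ Y'}
    {q : W ⟶ V'} {m : A ⟶ W} {l : A ⟶ V} [Epi q] (w : i ≫ v' = v ≫ t) (sqA : IsPullback m l q i)
    (sqB : IsPullback m (l ≫ v) (q ≫ v') t) : IsPullback i v v' t := by
  let θ : V ⟶ pullback v' t := pullback.lift i v w
  have : Mono θ := ⟨fun {Z} c d h => by
    have hi : c ≫ i = d ≫ i := by simpa [θ] using congrArg (· ≫ pullback.fst v' t) h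
    have hv : c ≫ v = d ≫ v := by simpa [θ] using congrArg (· ≫ pullback.snd v' t) h
    let e₁ := pullback.fst q (c ≫ i)
    let e₂ := pullback.snd q (c ≫ i)
    have : Epi e₂ := epi_of_isPullback_sheaf (IsPullback.of_hasPullback q (c ≫ i))
    let rc := sqA.lift e₁ (e₂ ≫ c) (by rw [pullback.condition, Category.assoc])
    let rd := sqA.lift e₁ (e₂ ≫ d) (by rw [Category.assoc e₂ d i, ← hi]; exact pullback.condition)
    have e : rc = rd := sqB.hom_ext (by simp [rc, rd]) (by simp [rc, rd, hv])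
    rw [← cancel_epi e₂]
    simpa [rc, rd] using congrArg (· ≫ l) e⟩
  let e₁ := pullback.fst q (pullback.fst v' t)
  let e₂ := pullback.snd q (pullback.fst v' t)
  have : Epi e₂ := epi_of_isPullback_sheaf (IsPullback.of_hasPullback q (pullback.fst v' t))
  let r := sqB.lift e₁ (e₂ ≫ pullback.snd v' t) (by
    rw [Category.assoc, ← pullback.condition (f := v') (g := t), ← Category.assoc, pullback.condition]
    simp [e₂])
  have hx : (r ≫ l) ≫ θ = e₂ := by
    apply pullback.hom_ext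
    · simp only [Category.assoc, θ, pullback.lift_fst]
      rw [← sqA.w, IsPullback.lift_fst_assoc]
      exact pullback.condition
    · simp only [Category.assoc, θ, pullback.lift_snd]
      exact sqB.lift_snd _ _ _
  have : Epi θ := epi_of_epi_fac hx
  have : IsIso θ := isIso_of_mono_of_epi θ
  exact IsPullback.of_iso_pullback ⟨w⟩ (asIso θ) (pullback.lift_fst _ _ _) (pullback.lift_snd _ _ _)

variable {X X' Y Y' : Sp S} {t : X ⟶ X'} {f : X ⟶ Y} {f' : X' ⟶ Y'} {t' : Y ⟶ Y'}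

/-- Base change of a chart along a flat morphism to it. -/
theorem Chart.exists_restrict (C : Chart t f f' t') {W : Over S} (h : W ⟶ C.V') [Flat h.left] :
    ∃ (W₀ W₁ W₂ : Over S) (g₀ : W₀ ⟶ C.U) (g₁ : W₁ ⟶ C.U') (g₂ : W₂ ⟶ C.V) (i : W₀ ⟶ W₁) (j : W₀ ⟶ W₂)
      (m₁ : W₁ ⟶ W) (m₂ : W₂ ⟶ W), IsThickSq i j m₁ m₂ ∧ IsPullback m₁ g₁ h C.a' ∧ IsPullback m₂ g₂ h C.b ∧
        IsPullback i g₀ g₁ C.u ∧ IsPullback j g₀ g₂ C.a := by
  let W₁ := pullback h C.a'
  let W₂ := pullback h C.b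
  let W₀ := pullback (pullback.snd h C.a') C.u
  let i : W₀ ⟶ W₁ := pullback.fst _ _
  let g₀ : W₀ ⟶ C.U := pullback.snd _ _
  let j : W₀ ⟶ W₂ := pullback.lift (i ≫ pullback.fst h C.a') (g₀ ≫ C.a) (by
    simp only [i, g₀, Category.assoc, pullback.condition, pullback.condition_assoc, C.thickSq.pushout.w])
  have hj : j ≫ pullback.snd h C.b = g₀ ≫ C.a := pullback.lift_snd _ _ _
  have hm : i ≫ pullback.fst h C.a' = j ≫ pullback.fst h C.b := (pullback.lift_fst _ _ _).symm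
  have s₁ := IsPullback.of_hasPullback h C.a'
  have s₂ := IsPullback.of_hasPullback h C.b
  have s₀ : IsPullback i g₀ (pullback.snd h C.a') C.u := IsPullback.of_hasPullback _ _
  exact ⟨W₀, W₁, W₂, g₀, pullback.snd _ _, pullback.snd _ _, i, j, pullback.fst _ _, pullback.fst _ _,
    C.thickSq.baseChange s₁ s₂ s₀ hj hm, s₁, s₂, s₀, C.thickSq.cart s₁ s₂ s₀ hj hm⟩

section glue

variable {W' WY WX' WX : Sp S} {w : W' ⟶ Y'} {aY : WY ⟶ W'} {bY : WY ⟶ Y} {aX' : WX' ⟶ W'} {bX' : WX' ⟶ X'}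
  {cY : WX ⟶ WY} {cX' : WX ⟶ WX'} {bX : WX ⟶ X}

/-- Flat spaces over a pushout along a thickening are the pushouts of their restrictions. -/
theorem Chart.existsUnique_desc (C : Chart t f f' t') (hY' : IsAlgSpace Y') (hW' : IsAlgSpace W')
    (hw : LocP @Flat w) (hWY : IsPullback aY bY w t') (hWX' : IsPullback aX' bX' w f')
    (hWX₁ : IsPullback cY bX bY f) (hWX₂ : IsPullback cX' bX bX' t) (hcomm : cY ≫ aY = cX' ≫ aX')
    {T : Sp S} (hT : IsAlgSpace T) (g₁ : WY ⟶ T) (g₂ : WX' ⟶ T) (e : cY ≫ g₁ = cX' ≫ g₂) :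
    ∃! g : W' ⟶ T, aY ≫ g = g₁ ∧ aX' ≫ g = g₂ := by
  let P := pullback w C.p
  have hP : IsAlgSpace P := isAlgSpace_pullback hW' (IsAlgSpace.yon_obj C.V') hY' w C.p
  obtain ⟨Wc, q₀, hq₀, hq₀s⟩ := hP.atlas
  obtain ⟨h, hh⟩ := (yon S).map_surjective (q₀ ≫ pullback.snd w C.p)
  obtain ⟨q, hq, hqs, hqw⟩ : ∃ q : (yon S).obj Wc ⟶ W', RepWith @Etale q ∧ RepWith @Surjective q ∧
      q ≫ w = (yon S).map h ≫ C.p :=
    ⟨q₀ ≫ pullback.fst w C.p, repWith_comp hq₀ (repWith_fst w C.etale),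
      repWith_comp hq₀s (repWith_fst w C.surjective), by simp only [hh, Category.assoc, pullback.condition]⟩
  have : Epi q := epi_of_etale_surjective hq hqs
  have : Flat h.left :=
    locP_of_isPullback (IsPullback.of_hasPullback w C.p) hW' hY' (IsAlgSpace.yon_obj C.V') hw q₀ (𝟙 _) h hq₀
      (repWith_id _ _) (by rw [hh, Category.comp_id])
  obtain ⟨R, sR, tR', kp⟩ := hq.rep q
  obtain ⟨tR, rfl⟩ := (yon S).map_surjective tR'
  have : Etale sR.left := hq.2 _ _ _ kp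
  have : Flat (sR ≫ h).left := by
    rw [Over.comp_left]
    infer_instance
  obtain ⟨W₀, W₁, W₂, e₀, e₁, e₂, i, j, m₁, m₂, K, s₁, s₂, s₀, s₀'⟩ := C.exists_restrict h
  obtain ⟨R₀, R₁, R₂, d₀, d₁, d₂, iR, jR, n₁, n₂, KR, r₁, r₂, -, -⟩ := C.exists_restrict (sR ≫ h)
  -- the lifts
  obtain ⟨l₁, l₁a, l₁b⟩ := hWX'.exists_lift ((yon S).map m₁ ≫ q) ((yon S).map e₁ ≫ C.pU') (by
    rw [Category.assoc, hqw, ← Category.assoc, ← Functor.map_comp, s₁.w, Functor.map_comp, Category.assoc,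
      ← C.sqf'.w, Category.assoc])
  obtain ⟨l₂, l₂a, l₂b⟩ := hWY.exists_lift ((yon S).map m₂ ≫ q) ((yon S).map e₂ ≫ C.pV) (by
    rw [Category.assoc, hqw, ← Category.assoc, ← Functor.map_comp, s₂.w, Functor.map_comp, Category.assoc,
      ← C.sqt'.w, Category.assoc])
  obtain ⟨l₀, l₀a, l₀b⟩ := hWX₁.exists_lift ((yon S).map j ≫ l₂) ((yon S).map e₀ ≫ C.pU) (by
    rw [Category.assoc, l₂b, ← Category.assoc, ← Functor.map_comp, s₀'.w, Functor.map_comp, Category.assoc,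
      ← C.sqf.w, Category.assoc])
  have l₀c : l₀ ≫ cX' = (yon S).map i ≫ l₁ := hWX'.hom_ext
    (by rw [Category.assoc, ← hcomm, reassoc_of% l₀a, l₂a, Category.assoc, l₁a, ← Category.assoc,
      ← Category.assoc, ← Functor.map_comp, ← Functor.map_comp, K.pushout.w])
    (by rw [Category.assoc, hWX₂.w, reassoc_of% l₀b, C.sqt.w, Category.assoc, l₁b, ← Category.assoc,
      ← Category.assoc, ← Functor.map_comp, ← Functor.map_comp, s₀.w])
  -- uniqueness
  have uniq : ∀ k k' : W' ⟶ T, aY ≫ k = aY ≫ k' → aX' ≫ k = aX' ≫ k' → k = k' := fun k k' hk₁ hk₂ => by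
    rw [← cancel_epi q]
    exact K.hom_ext hT (by rw [← reassoc_of% l₁a, ← reassoc_of% l₁a, hk₂])
      (by rw [← reassoc_of% l₂a, ← reassoc_of% l₂a, hk₁])
  -- existence
  obtain ⟨G, hG₁, hG₂⟩ := K.exists_desc hT (l₁ ≫ g₂) (l₂ ≫ g₁) (by
    rw [← reassoc_of% l₀c, ← e, reassoc_of% l₀a])
  have S₁ : IsPullback ((yon S).map m₁) ((yon S).map e₁ ≫ C.pU') ((yon S).map h ≫ C.p) f' :=
    (s₁.map (yon S)).paste_vert C.sqf'.flip
  have S₂ : IsPullback ((yon S).map m₂) ((yon S).map e₂ ≫ C.pV) ((yon S).map h ≫ C.p) t' :=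
    (s₂.map (yon S)).paste_vert C.sqt'.flip
  have hwR : (yon S).map tR ≫ (yon S).map h ≫ C.p = (yon S).map sR ≫ (yon S).map h ≫ C.p := by
    rw [← hqw, ← Category.assoc, kp.w, Category.assoc]
  have hG : (yon S).map tR ≫ G = (yon S).map sR ≫ G := by
    refine KR.hom_ext hT ?_ ?_
    · obtain ⟨a₁, a₁m, a₁e⟩ := S₁.exists_lift ((yon S).map (n₁ ≫ tR)) ((yon S).map d₁ ≫ C.pU') (by
        rw [Functor.map_comp, Category.assoc, hwR, ← Category.assoc, ← Category.assoc, ← Functor.map_comp,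
          ← Functor.map_comp, Category.assoc n₁ sR h, r₁.w, Functor.map_comp, Category.assoc, ← C.sqf'.w,
          Category.assoc])
      obtain ⟨b₁, b₁m, b₁e⟩ := S₁.exists_lift ((yon S).map (n₁ ≫ sR)) ((yon S).map d₁ ≫ C.pU') (by
        rw [← Category.assoc, ← Functor.map_comp, Category.assoc n₁ sR h, r₁.w, Functor.map_comp, Category.assoc,
          ← C.sqf'.w, Category.assoc])
      have e' : a₁ ≫ l₁ = b₁ ≫ l₁ := hWX'.hom_ext
        (by rw [Category.assoc, Category.assoc, l₁a, reassoc_of% a₁m, reassoc_of% b₁m, Functor.map_comp,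
          Functor.map_comp, Category.assoc, Category.assoc, kp.w])
        (by rw [Category.assoc, Category.assoc, l₁b, a₁e, b₁e])
      rw [← Category.assoc, ← Category.assoc, ← Functor.map_comp, ← Functor.map_comp, ← a₁m, ← b₁m,
        Category.assoc, Category.assoc, hG₁, reassoc_of% e']
    · obtain ⟨a₂, a₂m, a₂e⟩ := S₂.exists_lift ((yon S).map (n₂ ≫ tR)) ((yon S).map d₂ ≫ C.pV) (by
        rw [Functor.map_comp, Category.assoc, hwR, ← Category.assoc, ← Category.assoc, ← Functor.map_comp,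
          ← Functor.map_comp, Category.assoc n₂ sR h, r₂.w, Functor.map_comp, Category.assoc, ← C.sqt'.w,
          Category.assoc])
      obtain ⟨b₂, b₂m, b₂e⟩ := S₂.exists_lift ((yon S).map (n₂ ≫ sR)) ((yon S).map d₂ ≫ C.pV) (by
        rw [← Category.assoc, ← Functor.map_comp, Category.assoc n₂ sR h, r₂.w, Functor.map_comp, Category.assoc,
          ← C.sqt'.w, Category.assoc])
      have e' : a₂ ≫ l₂ = b₂ ≫ l₂ := hWY.hom_ext
        (by rw [Category.assoc, Category.assoc, l₂a, reassoc_of% a₂m, reassoc_of% b₂m, Functor.map_comp,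
          Functor.map_comp, Category.assoc, Category.assoc, kp.w])
        (by rw [Category.assoc, Category.assoc, l₂b, a₂e, b₂e])
      rw [← Category.assoc, ← Category.assoc, ← Functor.map_comp, ← Functor.map_comp, ← a₂m, ← b₂m,
        Category.assoc, Category.assoc, hG₂, reassoc_of% e']
  obtain ⟨g, hg⟩ := Cofork.IsColimit.desc' (EtLift.isColimitOfAtlas hq hqs kp) G hG
  simp only [Cofork.π_ofπ] at hg
  have q₁ : IsPullback ((yon S).map m₁) l₁ q aX' :=
    IsPullback.of_bot (by rw [l₁b, hqw]; exact S₁) l₁a.symm hWX'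
  have q₂ : IsPullback ((yon S).map m₂) l₂ q aY :=
    IsPullback.of_bot (by rw [l₂b, hqw]; exact S₂) l₂a.symm hWY
  have : Epi l₁ := epi_of_isPullback_sheaf q₁
  have : Epi l₂ := epi_of_isPullback_sheaf q₂
  refine ⟨g, ⟨?_, ?_⟩, fun g' hg' => ?_⟩
  · rw [← cancel_epi l₂, reassoc_of% l₂a, hg, hG₂]
  · rw [← cancel_epi l₁, reassoc_of% l₁a, hg, hG₁]
  · refine uniq g' g ?_ ?_
    · rw [hg'.1, ← cancel_epi l₂, reassoc_of% l₂a, hg, hG₂]
    · rw [hg'.2, ← cancel_epi l₁, reassoc_of% l₁a, hg, hG₁]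

end glue

/-- A pushout square of spaces along a thickening over another, in charts. -/
structure Legs {U U' V V' : Sp S} {uX : U ⟶ X} {u' : U' ⟶ X'} {v : V ⟶ Y} {iV : V ⟶ V'} {iU' : U' ⟶ V'}
    (v' : V' ⟶ Y') (D : Chart t f f' t') where
  /-- the chart of `V'` -/
  W : Over S
  /-- the chart of `U'` -/
  W₁ : Over S
  /-- the chart of `V` -/
  W₂ : Over S
  /-- the map of charts on `V'` -/
  h : W ⟶ D.V'
  /-- the map of charts on `U'` -/
  g₁ : W₁ ⟶ D.U'
  /-- the map of charts on `V` -/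
  g₂ : W₂ ⟶ D.V
  /-- the thickened leg -/
  m₁ : W₁ ⟶ W
  /-- the affine leg -/
  m₂ : W₂ ⟶ W
  /-- the chart map of `V'` -/
  q : (yon S).obj W ⟶ V'
  /-- the chart map of `U'` -/
  l₁ : (yon S).obj W₁ ⟶ U'
  /-- the chart map of `V` -/
  l₂ : (yon S).obj W₂ ⟶ V
  etale : RepWith @Etale q
  surjective : RepWith @Surjective q
  etale₁ : RepWith @Etale l₁
  etale₂ : RepWith @Etale l₂
  w : q ≫ v' = (yon S).map h ≫ D.p
  w₁ : l₁ ≫ u' = (yon S).map g₁ ≫ D.pU'
  w₂ : l₂ ≫ v = (yon S).map g₂ ≫ D.pV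
  sq₁ : IsPullback ((yon S).map m₁) l₁ q iU'
  sq₂ : IsPullback ((yon S).map m₂) l₂ q iV
  cart₁ : IsPullback m₁ g₁ h D.a'
  cart₂ : IsPullback m₂ g₂ h D.b
  transfer : (LocallyOfFiniteType h.left ↔ LocallyOfFiniteType g₁.left ∧ LocallyOfFiniteType g₂.left) ∧
    (Flat h.left ↔ Flat g₁.left ∧ Flat g₂.left) ∧
    ((Flat h.left ∧ LocallyOfFinitePresentation h.left) ↔
      (Flat g₁.left ∧ LocallyOfFinitePresentation g₁.left) ∧ (Flat g₂.left ∧ LocallyOfFinitePresentation g₂.left)) ∧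
    (Smooth h.left ↔ Smooth g₁.left ∧ Smooth g₂.left) ∧
    (Etale h.left ↔ Etale g₁.left ∧ Etale g₂.left)

/-- Pushout squares along thickenings over one another have compatible charts. -/
theorem nonempty_legs {U U' V V' : Sp S} {uX : U ⟶ X} {u' : U' ⟶ X'} {v : V ⟶ Y} {uV : U ⟶ V} {uU' : U ⟶ U'}
    {iV : V ⟶ V'} {iU' : U' ⟶ V'} {v' : V' ⟶ Y'} (D : Chart t f f' t') (C : Chart uU' uV iU' iV)
    (hY' : IsAlgSpace Y') (hV' : IsAlgSpace V') (hUV : IsPullback uV uX v f) (hUU' : IsPullback uU' uX u' t)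
    (hv₁ : iV ≫ v' = v ≫ t') (hv₂ : iU' ≫ v' = u' ≫ f') :
    Nonempty (Legs (uX := uX) (u' := u') (v := v) (iV := iV) (iU' := iU') v' D) := by
  let P := pullback (C.p ≫ v') D.p
  have hP : IsAlgSpace P :=
    isAlgSpace_pullback (IsAlgSpace.yon_obj C.V') (IsAlgSpace.yon_obj D.V') hY' (C.p ≫ v') D.p
  obtain ⟨W, q₀, hq₀, hq₀s⟩ := hP.atlas
  obtain ⟨m, hm⟩ := (yon S).map_surjective (q₀ ≫ pullback.fst (C.p ≫ v') D.p)
  obtain ⟨h, hh⟩ := (yon S).map_surjective (q₀ ≫ pullback.snd (C.p ≫ v') D.p)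
  have hme : RepWith @Etale ((yon S).map m) := hm ▸ repWith_comp hq₀ (repWith_fst _ D.etale)
  have hms : RepWith @Surjective ((yon S).map m) := hm ▸ repWith_comp hq₀s (repWith_fst _ D.surjective)
  have hm' : Etale m.left := (repWith_yon_map_iff _ _).1 hme
  have : Flat m.left := inferInstance
  obtain ⟨q, hq⟩ : ∃ q : (yon S).obj W ⟶ V', q = (yon S).map m ≫ C.p := ⟨_, rfl⟩
  have hw : q ≫ v' = (yon S).map h ≫ D.p := by
    simp only [hq, hm, hh, Category.assoc, pullback.condition]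
  obtain ⟨W₀, W₁, W₂, e₀, e₁, e₂, i, j, m₁, m₂, K, s₁, s₂, s₀, s₀'⟩ := C.exists_restrict m
  obtain ⟨l₁, hl₁⟩ : ∃ l₁ : (yon S).obj W₁ ⟶ U', l₁ = (yon S).map e₁ ≫ C.pU' := ⟨_, rfl⟩
  obtain ⟨l₂, hl₂⟩ : ∃ l₂ : (yon S).obj W₂ ⟶ V, l₂ = (yon S).map e₂ ≫ C.pV := ⟨_, rfl⟩
  have q₁ : IsPullback ((yon S).map m₁) l₁ q iU' := by
    rw [hl₁, hq]; exact (s₁.map (yon S)).paste_vert C.sqf'.flip
  have q₂ : IsPullback ((yon S).map m₂) l₂ q iV := by
    rw [hl₂, hq]; exact (s₂.map (yon S)).paste_vert C.sqt'.flip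
  obtain ⟨g₁', hg₁a, hg₁b⟩ := D.sqf'.exists_lift (l₁ ≫ u') ((yon S).map (m₁ ≫ h)) (by
    rw [Category.assoc, ← hv₂, ← reassoc_of% q₁.w, hw, Functor.map_comp, Category.assoc])
  obtain ⟨g₁, rfl⟩ := (yon S).map_surjective g₁'
  obtain ⟨g₂', hg₂a, hg₂b⟩ := D.sqt'.exists_lift (l₂ ≫ v) ((yon S).map (m₂ ≫ h)) (by
    rw [Category.assoc, ← hv₁, ← reassoc_of% q₂.w, hw, Functor.map_comp, Category.assoc])
  obtain ⟨g₂, rfl⟩ := (yon S).map_surjective g₂'
  have ha : m₁ ≫ h = g₁ ≫ D.a' := (yon S).map_injective (by rw [← hg₁b, Functor.map_comp])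
  have hb : m₂ ≫ h = g₂ ≫ D.b := (yon S).map_injective (by rw [← hg₂b, Functor.map_comp])
  obtain ⟨l₀, hl₀⟩ : ∃ l₀ : (yon S).obj W₀ ⟶ U, l₀ = (yon S).map e₀ ≫ C.pU := ⟨_, rfl⟩
  have sU₁ : IsPullback ((yon S).map i) (l₀ ≫ uX) (l₁ ≫ u') t := by
    rw [hl₀, hl₁]; exact ((s₀.map (yon S)).paste_vert C.sqt.flip).paste_vert hUU'
  have sU₂ : IsPullback ((yon S).map j) (l₀ ≫ uX) (l₂ ≫ v) f := by
    rw [hl₀, hl₂]; exact ((s₀'.map (yon S)).paste_vert C.sqf.flip).paste_vert hUV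
  obtain ⟨g₀', hg₀a, hg₀b⟩ := D.sqt.exists_lift (l₀ ≫ uX) ((yon S).map (i ≫ g₁)) (by
    rw [← sU₁.w, ← hg₁a, Functor.map_comp, Category.assoc])
  obtain ⟨g₀, rfl⟩ := (yon S).map_surjective g₀'
  have hi : i ≫ g₁ = g₀ ≫ D.u := (yon S).map_injective (by rw [← hg₀b, Functor.map_comp])
  have hj : j ≫ g₂ = g₀ ≫ D.a := (yon S).map_injective (D.sqt'.hom_ext
    (by rw [Functor.map_comp, Functor.map_comp, Category.assoc, Category.assoc, hg₂a, ← D.sqf.w,
      reassoc_of% hg₀a, sU₂.w, Category.assoc])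
    (by rw [← Functor.map_comp, ← Functor.map_comp, Category.assoc, Category.assoc, ← hb,
      ← reassoc_of% K.pushout.w, ha, reassoc_of% hi, D.thickSq.pushout.w]))
  have cX : IsPullback i g₀ g₁ D.u := by
    refine IsPullback.of_map (yon S) hi ?_
    refine IsPullback.of_bot ?_ (by rw [← Functor.map_comp, ← Functor.map_comp, hi]) D.sqt.flip
    rw [hg₀a, hg₁a]
    exact sU₁
  have cY : IsPullback j g₀ g₂ D.a := by
    refine IsPullback.of_map (yon S) hj ?_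
    refine IsPullback.of_bot ?_ (by rw [← Functor.map_comp, ← Functor.map_comp, hj]) D.sqf.flip
    rw [hg₀a, hg₂a]
    exact sU₂
  have := D.thickSq.closed
  have := D.thickSq.affine
  obtain ⟨c₁, c₂⟩ := isPullback_legs D.u.left D.a.left D.a'.left D.b.left D.thickSq.po g₁.left
    g₂.left i.left j.left g₀.left (cX.map (Over.forget S)) (cY.map (Over.forget S)) m₁.left m₂.left D.thickSq.chart K.chart K.po h.left
    (congrArg CommaMorphism.left ha) (congrArg CommaMorphism.left hb)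
  have htr := iff_of_legs D.u.left D.a.left D.a'.left D.b.left D.thickSq.po g₁.left
    g₂.left i.left j.left g₀.left (cX.map (Over.forget S)) (cY.map (Over.forget S)) m₁.left m₂.left D.thickSq.chart K.chart K.po h.left
    (congrArg CommaMorphism.left ha) (congrArg CommaMorphism.left hb)
  have he₁ : RepWith @Etale ((yon S).map e₁) := repWith_of_isPullback (s₁.map (yon S)) hme
  have he₂ : RepWith @Etale ((yon S).map e₂) := repWith_of_isPullback (s₂.map (yon S)) hme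
  exact ⟨⟨W, W₁, W₂, h, g₁, g₂, m₁, m₂, q, l₁, l₂, hq ▸ repWith_comp hme C.etale,
    hq ▸ repWith_comp hms C.surjective,
    hl₁ ▸ repWith_comp he₁ C.etale_U', hl₂ ▸ repWith_comp he₂ C.etale_V, hw, hg₁a.symm, hg₂a.symm, q₁, q₂,
    IsPullback.of_map (Over.forget S) ha c₁, IsPullback.of_map (Over.forget S) hb c₂, htr⟩⟩

namespace Legs

variable {U U' V V' : Sp S} {uX : U ⟶ X} {u' : U' ⟶ X'} {v : V ⟶ Y} {iV : V ⟶ V'} {iU' : U' ⟶ V'} {v' : V' ⟶ Y'}
  {D : Chart t f f' t'} (L : Legs (uX := uX) (u' := u') (v := v) (iV := iV) (iU' := iU') v' D)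
include L

/-- The first cartesian square. -/
theorem isPullback_left (hv₁ : iV ≫ v' = v ≫ t') : IsPullback iV v v' t' := by
  have : Epi L.q := epi_of_etale_surjective L.etale L.surjective
  refine isPullback_of_epi hv₁ L.sq₂ ?_
  rw [L.w, L.w₂]
  exact (L.cart₂.map (yon S)).paste_vert D.sqt'.flip

/-- The second cartesian square. -/
theorem isPullback_right (hv₂ : iU' ≫ v' = u' ≫ f') : IsPullback iU' u' v' f' := by
  have : Epi L.q := epi_of_etale_surjective L.etale L.surjective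
  refine isPullback_of_epi hv₂ L.sq₁ ?_
  rw [L.w, L.w₁]
  exact (L.cart₁.map (yon S)).paste_vert D.sqf'.flip

/-- An etale local property holds for the glued morphism exactly when it holds for both legs. -/
theorem locP_iff {P : MorphismProperty Scheme.{u}} [IsEtLocal P] (hY' : IsAlgSpace Y') (hV' : IsAlgSpace V')
    (hX' : IsAlgSpace X') (hY : IsAlgSpace Y) (hv₁ : iV ≫ v' = v ≫ t') (hv₂ : iU' ≫ v' = u' ≫ f')
    (htr : P L.g₁.left → P L.g₂.left → P L.h.left) : LocP P v' ↔ LocP P v ∧ LocP P u' := by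
  refine ⟨fun h => ⟨locP_of_isPullback (L.isPullback_left hv₁) hV' hY' hY h,
    locP_of_isPullback (L.isPullback_right hv₂) hV' hY' hX' h⟩, fun ⟨h₂, h₁⟩ => ?_⟩
  exact locP_of_chart L.etale L.surjective D.etale L.w
    (htr (h₁ L.l₁ D.pU' L.g₁ L.etale₁ D.etale_U' L.w₁) (h₂ L.l₂ D.pV L.g₂ L.etale₂ D.etale_V L.w₂))

end Legs

/-- The charts of the two squares of a morphism of pushouts. -/
theorem exists_legs {X X' Y Y' U U' V V' : Space S} {t : X ⟶ X'} (ht : IsThickMor t.hom) {f : X ⟶ Y}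
    (hf : IsAffineMor f.hom) {f' : X' ⟶ Y'} {t' : Y ⟶ Y'} (hY' : IsPushout t f f' t') {v : V ⟶ Y} {u' : U' ⟶ X'}
    {uV : U ⟶ V} {uU' : U ⟶ U'} {uX : U ⟶ X} (hUV : IsPullback uV.hom uX.hom v.hom f.hom)
    (hUU' : IsPullback uU'.hom uX.hom u'.hom t.hom) {iV : V ⟶ V'} {iU' : U' ⟶ V'}
    (hV' : IsPushout uV uU' iV iU') {v' : V' ⟶ Y'} (hv₁ : iV ≫ v' = v ≫ t') (hv₂ : iU' ≫ v' = u' ≫ f') :
    ∃ D : Chart t.hom f.hom f'.hom t'.hom,
      Nonempty (Legs (uX := uX.hom) (u' := u'.hom) (v := v.hom) (iV := iV.hom) (iU' := iU'.hom) v'.hom D) := by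
  obtain ⟨D⟩ := nonempty_chart ht hf hY'
  have hu : IsThickMor uU'.hom := repWith_of_isPullback hUU'.flip ht
  have ha : IsAffineMor uV.hom :=
    isAffineMor_of_repWith le_rfl (repWith_of_isPullback hUV.flip (repWith_isAffineHom_of_isAffineMor hf))
  obtain ⟨C⟩ := nonempty_chart hu ha hV'.flip
  exact ⟨D, nonempty_legs D C Y'.property V'.property hUV hUU' (congrArg InducedCategory.Hom.hom hv₁)
    (congrArg InducedCategory.Hom.hom hv₂)⟩

end Groth.Agent.AlgSpDec.ThickPush
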