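import Groth.Agent.AlgSpDec.ThickPushSquare

/-!
# Étale equivalence relations on pushouts along thickenings
-/

set_option linter.style.haveILetI false
set_option autoImplicit false
set_option backward.isDefEq.respectTransparency false
set_option backward.isDefEq.respectTransparency.types false

universe u v w

open CategoryTheory CategoryTheory.Limits AlgebraicGeometry AlgSp

namespace Groth.Agent.AlgSpDec.ThickPush

variable {S : Scheme.{u}} {R U : Over S} {s t : R ⟶ U}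

/-- The diagonal of an equivalence relation. -/
theorem exists_refl (h : IsEqvRel s t) : ∃ ρ : U ⟶ R, ρ ≫ t = 𝟙 U ∧ ρ ≫ s = 𝟙 U :=
  (h.equivalence U).refl (𝟙 U)

/-- The inversion of an equivalence relation. -/
theorem exists_inv (h : IsEqvRel s t) : ∃ σ : R ⟶ R, σ ≫ t = s ∧ σ ≫ s = t :=
  (h.equivalence R).symm ⟨𝟙 R, Category.id_comp _, Category.id_comp _⟩

/-- Composition in an equivalence relation. -/
theorem exists_trans (h : IsEqvRel s t) {T : Over S} (x y : T ⟶ R) (e : x ≫ s = y ≫ t) :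
    ∃ c : T ⟶ R, c ≫ t = x ≫ t ∧ c ≫ s = y ≫ s :=
  (h.equivalence T).trans ⟨x, rfl, rfl⟩ ⟨y, e.symm, rfl⟩

/-- A relation is mono when an étale projection and a thickened mono relation control it. -/
theorem injective_of_thick {V R₀ V₀ : Over S} {s₀ t₀ : R₀ ⟶ V₀} {b : V₀ ⟶ V} {m : R₀ ⟶ R} {s t : R ⟶ V}
    [Etale s.left] [IsClosedImmersion m.left] [Surjective m.left] [Mono b]
    (ws : m ≫ s = s₀ ≫ b) (wt : m ≫ t = t₀ ≫ b) (h₀ : IsEqvRel s₀ t₀)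
    {T : Over S} (r r' : T ⟶ R) (ht : r ≫ t = r' ≫ t) (hs : r ≫ s = r' ≫ s) : r = r' := by
  let k : T.left ⟶ pullback s.left s.left := pullback.lift r.left r'.left (congrArg CommaMorphism.left hs)
  have hΔ : IsOpenImmersion (pullback.diagonal s.left) := inferInstance
  have hrange : Set.range k ⊆ Set.range (pullback.diagonal s.left) := by
    rintro _ ⟨x, rfl⟩
    let T₀ : Over S := Over.mk (T.left.fromSpecResidueField x ≫ T.hom)
    let f : T₀ ⟶ T := Over.homMk (T.left.fromSpecResidueField x) rfl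
    have lift : ∀ y : T₀ ⟶ R, ∃ z : T₀ ⟶ R₀, z ≫ m = y := fun y => by
      have sq := IsPullback.of_hasPullback m.left y.left
      have : IsClosedImmersion (pullback.snd m.left y.left) :=
        MorphismProperty.of_isPullback sq (inferInstance : IsClosedImmersion m.left)
      have : Surjective (pullback.snd m.left y.left) :=
        MorphismProperty.of_isPullback sq (inferInstance : Surjective m.left)
      have : IsReduced T₀.left := inferInstanceAs (IsReduced (Spec (T.left.residueField x)))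
      have : IsIso (pullback.snd m.left y.left) := isIso_of_isClosedImmersion_of_surjective _
      let z : T₀.left ⟶ R₀.left := inv (pullback.snd m.left y.left) ≫ pullback.fst m.left y.left
      have hz : z ≫ m.left = y.left := by
        simp only [z, Category.assoc, pullback.condition, IsIso.inv_hom_id_assoc]
      exact ⟨Over.homMk z (by rw [← Over.w m, reassoc_of% hz, Over.w y]), Over.OverMorphism.ext hz⟩
    obtain ⟨z, hz⟩ := lift (f ≫ r)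
    obtain ⟨z', hz'⟩ := lift (f ≫ r')
    have e : z = z' := h₀.injective T₀ z z'
      ((cancel_mono b).1 (by
        rw [Category.assoc, Category.assoc, ← wt, reassoc_of% hz, reassoc_of% hz', ht]))
      ((cancel_mono b).1 (by
        rw [Category.assoc, Category.assoc, ← ws, reassoc_of% hz, reassoc_of% hz', hs]))
    have he : f ≫ r = f ≫ r' := by rw [← hz, ← hz', e]
    have hk : T.left.fromSpecResidueField x ≫ k =
        (T.left.fromSpecResidueField x ≫ r.left) ≫ pullback.diagonal s.left := by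
      apply pullback.hom_ext
      · simp [k]
      · simp [k]
        exact (congrArg CommaMorphism.left he).symm
    let pt : (Spec (T.left.residueField x) : Scheme) := IsLocalRing.closedPoint _
    refine ⟨(T.left.fromSpecResidueField x ≫ r.left) pt, ?_⟩
    rw [← Scheme.Hom.comp_apply, ← hk, Scheme.Hom.comp_apply, Scheme.fromSpecResidueField_apply]
  let l := IsOpenImmersion.lift (pullback.diagonal s.left) k hrange
  have hl : l ≫ pullback.diagonal s.left = k := IsOpenImmersion.lift_fac _ _ _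
  refine Over.OverMorphism.ext ?_
  have h₁ := congrArg (· ≫ pullback.fst s.left s.left) hl
  have h₂ := congrArg (· ≫ pullback.snd s.left s.left) hl
  simp [k] at h₁ h₂
  exact h₁.symm.trans h₂

variable {X X' Y Y' : Over S} {u : X ⟶ X'} {a : X ⟶ Y} {a' : X' ⟶ Y'} {b : Y ⟶ Y'}
  {R₀ R₁ R₂ : Over S} {s₀ t₀ : R₀ ⟶ X} {s₁ t₁ : R₁ ⟶ X'} {s₂ t₂ : R₂ ⟶ Y} {i : R₀ ⟶ R₁} {j : R₀ ⟶ R₂}

/-- Compatible étale equivalence relations glue along the pushout square. -/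
theorem exists_eqvRel (H : IsThickSq u a a' b) (h₀ : IsEqvRel s₀ t₀) (h₁ : IsEqvRel s₁ t₁)
    (h₂ : IsEqvRel s₂ t₂) [Etale s₁.left] [Etale s₂.left] (sqi : IsPullback i s₀ s₁ u)
    (sqj : IsPullback j s₀ s₂ a) (wi : i ≫ t₁ = t₀ ≫ u) (wj : j ≫ t₂ = t₀ ≫ a) :
    ∃ (R' : Over S) (sR tR : R' ⟶ Y') (m₁ : R₁ ⟶ R') (m₂ : R₂ ⟶ R'),
      IsEtaleEqvRel sR tR ∧ IsPullback m₁ s₁ sR a' ∧ IsPullback m₂ s₂ sR b ∧
      m₁ ≫ tR = t₁ ≫ a' ∧ m₂ ≫ tR = t₂ ≫ b ∧ IsThickSq i j m₁ m₂ := by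
  obtain ⟨R', sR, m₁, m₂, hsR, p₁, p₂, K⟩ := H.exists_etale_glue s₁ s₂ sqi sqj
  let tR : R' ⟶ Y' := K.pushout.desc (t₁ ≫ a') (t₂ ≫ b) (by
    rw [reassoc_of% wi, reassoc_of% wj, H.pushout.w])
  have q₁ : m₁ ≫ tR = t₁ ≫ a' := K.pushout.inl_desc _ _ _
  have q₂ : m₂ ≫ tR = t₂ ≫ b := K.pushout.inr_desc _ _ _
  have := H.mono_inr
  have := H.mono_top
  have := K.closed'
  have := K.surj'
  -- inversion
  obtain ⟨σ₀, σ₀t, σ₀s⟩ := exists_inv h₀
  obtain ⟨σ₁, σ₁t, σ₁s⟩ := exists_inv h₁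
  obtain ⟨σ₂, σ₂t, σ₂s⟩ := exists_inv h₂
  have σi : i ≫ σ₁ = σ₀ ≫ i := h₁.injective _ _ _
    (by rw [Category.assoc, Category.assoc, σ₁t, sqi.w, wi, reassoc_of% σ₀t])
    (by rw [Category.assoc, Category.assoc, σ₁s, sqi.w, wi, reassoc_of% σ₀s])
  have σj : j ≫ σ₂ = σ₀ ≫ j := h₂.injective _ _ _
    (by rw [Category.assoc, Category.assoc, σ₂t, sqj.w, wj, reassoc_of% σ₀t])
    (by rw [Category.assoc, Category.assoc, σ₂s, sqj.w, wj, reassoc_of% σ₀s])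
  let σ : R' ⟶ R' := K.pushout.desc (σ₁ ≫ m₁) (σ₂ ≫ m₂) (by
    rw [reassoc_of% σi, reassoc_of% σj, K.pushout.w])
  have σ₁' : m₁ ≫ σ = σ₁ ≫ m₁ := K.pushout.inl_desc _ _ _
  have σ₂' : m₂ ≫ σ = σ₂ ≫ m₂ := K.pushout.inr_desc _ _ _
  have σt : σ ≫ tR = sR := K.pushout.hom_ext
    (by rw [reassoc_of% σ₁', q₁, reassoc_of% σ₁t, p₁.w])
    (by rw [reassoc_of% σ₂', q₂, reassoc_of% σ₂t, p₂.w])
  have σs : σ ≫ sR = tR := K.pushout.hom_ext
    (by rw [reassoc_of% σ₁', p₁.w, reassoc_of% σ₁s, q₁])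
    (by rw [reassoc_of% σ₂', p₂.w, reassoc_of% σ₂s, q₂])
  have σ₁σ : σ₁ ≫ σ₁ = 𝟙 _ := h₁.injective _ _ _
    (by rw [Category.assoc, σ₁t, σ₁s, Category.id_comp]) (by rw [Category.assoc, σ₁s, σ₁t, Category.id_comp])
  have σ₂σ : σ₂ ≫ σ₂ = 𝟙 _ := h₂.injective _ _ _
    (by rw [Category.assoc, σ₂t, σ₂s, Category.id_comp]) (by rw [Category.assoc, σ₂s, σ₂t, Category.id_comp])
  have σσ : σ ≫ σ = 𝟙 R' := K.pushout.hom_ext
    (by rw [reassoc_of% σ₁', σ₁', reassoc_of% σ₁σ, Category.comp_id])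
    (by rw [reassoc_of% σ₂', σ₂', reassoc_of% σ₂σ, Category.comp_id])
  have htR : Etale tR.left := by
    have : IsIso σ := ⟨σ, σσ, σσ⟩
    have : IsIso σ.left := inferInstanceAs (IsIso ((Over.forget S).map σ))
    have : Etale σ.left := inferInstance
    rw [← σs, Over.comp_left]
    infer_instance
  -- the diagonal
  obtain ⟨ρ₀, ρ₀t, ρ₀s⟩ := exists_refl h₀
  obtain ⟨ρ₁, ρ₁t, ρ₁s⟩ := exists_refl h₁
  obtain ⟨ρ₂, ρ₂t, ρ₂s⟩ := exists_refl h₂
  have ρi : u ≫ ρ₁ = ρ₀ ≫ i := h₁.injective _ _ _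
    (by rw [Category.assoc, Category.assoc, ρ₁t, Category.comp_id, wi, reassoc_of% ρ₀t])
    (by rw [Category.assoc, Category.assoc, ρ₁s, Category.comp_id, sqi.w, reassoc_of% ρ₀s])
  have ρj : a ≫ ρ₂ = ρ₀ ≫ j := h₂.injective _ _ _
    (by rw [Category.assoc, Category.assoc, ρ₂t, Category.comp_id, wj, reassoc_of% ρ₀t])
    (by rw [Category.assoc, Category.assoc, ρ₂s, Category.comp_id, sqj.w, reassoc_of% ρ₀s])
  let ρ : Y' ⟶ R' := H.pushout.desc (ρ₁ ≫ m₁) (ρ₂ ≫ m₂) (by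
    rw [reassoc_of% ρi, reassoc_of% ρj, K.pushout.w])
  have ρ₁' : a' ≫ ρ = ρ₁ ≫ m₁ := H.pushout.inl_desc _ _ _
  have ρ₂' : b ≫ ρ = ρ₂ ≫ m₂ := H.pushout.inr_desc _ _ _
  have ρt : ρ ≫ tR = 𝟙 Y' := H.pushout.hom_ext
    (by rw [reassoc_of% ρ₁', q₁, reassoc_of% ρ₁t, Category.comp_id])
    (by rw [reassoc_of% ρ₂', q₂, reassoc_of% ρ₂t, Category.comp_id])
  have ρs : ρ ≫ sR = 𝟙 Y' := H.pushout.hom_ext
    (by rw [reassoc_of% ρ₁', p₁.w, reassoc_of% ρ₁s, Category.comp_id])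
    (by rw [reassoc_of% ρ₂', p₂.w, reassoc_of% ρ₂s, Category.comp_id])
  -- composition
  let P := pullback sR tR
  let pr₁ : P ⟶ R' := pullback.fst sR tR
  let pr₂ : P ⟶ R' := pullback.snd sR tR
  have hw : pr₁ ≫ sR = pr₂ ≫ tR := pullback.condition
  have : Etale pr₂.left :=
    MorphismProperty.of_isPullback (P := @Etale) ((IsPullback.of_hasPullback sR tR).map (Over.forget S)) hsR
  let P₁ := pullback pr₂ m₁
  let y₁ : P₁ ⟶ R₁ := pullback.snd pr₂ m₁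
  let n₁ : P₁ ⟶ P := pullback.fst pr₂ m₁
  let P₂ := pullback pr₂ m₂
  let y₂ : P₂ ⟶ R₂ := pullback.snd pr₂ m₂
  let n₂ : P₂ ⟶ P := pullback.fst pr₂ m₂
  let P₀ := pullback y₁ i
  let y₀ : P₀ ⟶ R₀ := pullback.snd y₁ i
  let i₀ : P₀ ⟶ P₁ := pullback.fst y₁ i
  let j₀ : P₀ ⟶ P₂ := pullback.lift (i₀ ≫ n₁) (y₀ ≫ j) (by
    simp only [i₀, n₁, y₀, y₁, Category.assoc, pullback.condition, pullback.condition_assoc, K.pushout.w])
  have sP₁ : IsPullback n₁ y₁ pr₂ m₁ := IsPullback.of_hasPullback _ _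
  have sP₂ : IsPullback n₂ y₂ pr₂ m₂ := IsPullback.of_hasPullback _ _
  have sP₀ : IsPullback i₀ y₀ y₁ i := IsPullback.of_hasPullback _ _
  have hj₀ : j₀ ≫ y₂ = y₀ ≫ j := pullback.lift_snd _ _ _
  have hn₀ : i₀ ≫ n₁ = j₀ ≫ n₂ := (pullback.lift_fst _ _ _).symm
  have KP : IsThickSq i₀ j₀ n₁ n₂ := K.baseChange sP₁ sP₂ sP₀ hj₀ hn₀
  obtain ⟨x₁, x₁m, x₁s⟩ := p₁.exists_lift (n₁ ≫ pr₁) (y₁ ≫ t₁) (by
    rw [Category.assoc, hw, reassoc_of% sP₁.w, q₁, Category.assoc])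
  obtain ⟨x₂, x₂m, x₂s⟩ := p₂.exists_lift (n₂ ≫ pr₁) (y₂ ≫ t₂) (by
    rw [Category.assoc, hw, reassoc_of% sP₂.w, q₂, Category.assoc])
  obtain ⟨x₀, x₀i, x₀s⟩ := sqi.exists_lift (i₀ ≫ x₁) (y₀ ≫ t₀) (by
    rw [Category.assoc, x₁s, reassoc_of% sP₀.w, wi, Category.assoc])
  have x₀j : x₀ ≫ j = j₀ ≫ x₂ := p₂.hom_ext
    (by rw [Category.assoc, Category.assoc, x₂m, ← reassoc_of% hn₀, ← x₁m, ← reassoc_of% x₀i, K.pushout.w])
    (by rw [Category.assoc, Category.assoc, x₂s, sqj.w, reassoc_of% x₀s, reassoc_of% hj₀, wj])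
  obtain ⟨c₀, c₀t, c₀s⟩ := exists_trans h₀ x₀ y₀ x₀s
  obtain ⟨c₁, c₁t, c₁s⟩ := exists_trans h₁ x₁ y₁ x₁s
  obtain ⟨c₂, c₂t, c₂s⟩ := exists_trans h₂ x₂ y₂ x₂s
  have ci : i₀ ≫ c₁ = c₀ ≫ i := h₁.injective _ _ _
    (by rw [Category.assoc, Category.assoc, c₁t, wi, reassoc_of% c₀t, ← reassoc_of% x₀i, wi])
    (by rw [Category.assoc, Category.assoc, c₁s, sqi.w, reassoc_of% c₀s, reassoc_of% sP₀.w, sqi.w])
  have cj : j₀ ≫ c₂ = c₀ ≫ j := h₂.injective _ _ _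
    (by rw [Category.assoc, Category.assoc, c₂t, wj, reassoc_of% c₀t, ← reassoc_of% x₀j, wj])
    (by rw [Category.assoc, Category.assoc, c₂s, sqj.w, reassoc_of% c₀s, reassoc_of% hj₀, sqj.w])
  let c : P ⟶ R' := KP.pushout.desc (c₁ ≫ m₁) (c₂ ≫ m₂) (by
    rw [reassoc_of% ci, reassoc_of% cj, K.pushout.w])
  have c₁' : n₁ ≫ c = c₁ ≫ m₁ := KP.pushout.inl_desc _ _ _
  have c₂' : n₂ ≫ c = c₂ ≫ m₂ := KP.pushout.inr_desc _ _ _
  have ct : c ≫ tR = pr₁ ≫ tR := KP.pushout.hom_ext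
    (by rw [reassoc_of% c₁', q₁, reassoc_of% c₁t, ← reassoc_of% x₁m, q₁])
    (by rw [reassoc_of% c₂', q₂, reassoc_of% c₂t, ← reassoc_of% x₂m, q₂])
  have cs : c ≫ sR = pr₂ ≫ sR := KP.pushout.hom_ext
    (by rw [reassoc_of% c₁', p₁.w, reassoc_of% c₁s, reassoc_of% sP₁.w, p₁.w])
    (by rw [reassoc_of% c₂', p₂.w, reassoc_of% c₂s, reassoc_of% sP₂.w, p₂.w])
  refine ⟨R', sR, tR, m₁, m₂, ?_, p₁, p₂, q₁, q₂, K⟩
  refine { injective := fun T r r' ht hs => ?_, equivalence := fun T => ?_, etale_left := hsR, etale_right := htR }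
  · exact injective_of_thick p₂.w q₂ h₂ r r' ht hs
  · refine ⟨fun x => ⟨x ≫ ρ, by simp [ρt], by simp [ρs]⟩, ?_, ?_⟩
    · rintro x y ⟨r, rfl, rfl⟩
      exact ⟨r ≫ σ, by rw [Category.assoc, σt], by rw [Category.assoc, σs]⟩
    · rintro x y z ⟨r, rfl, e⟩ ⟨r', e', rfl⟩
      refine ⟨pullback.lift r r' (e.trans e'.symm) ≫ c, ?_, ?_⟩
      · rw [Category.assoc, ct, pullback.lift_fst_assoc]
      · rw [Category.assoc, cs, pullback.lift_snd_assoc]

end Groth.Agent.AlgSpDec.ThickPush
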