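import Groth.Agent.S0118
import Groth.Agent.S0431
import Groth.Agent.RingPO.BaseChange
import Groth.Agent.S10716
import Groth.Prelude.Def_MoreMor

/-!
# Pushouts of schemes along thickenings and étale schemes over them
-/

set_option linter.style.haveILetI false
set_option autoImplicit false
set_option backward.isDefEq.respectTransparency false
set_option backward.isDefEq.respectTransparency.types false

universe u v w

open CategoryTheory CategoryTheory.Limits AlgebraicGeometry AlgSp

namespace Groth.Agent.AlgSpDec.ThickPushScheme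

/-- Étale schemes over a thickening with the same restriction are isomorphic compatibly. -/
theorem exists_iso_of_thick {X X' : Scheme.{u}} (t : X ⟶ X') [IsClosedImmersion t] [Surjective t]
    {E₁ E₂ F : Scheme.{u}} (e₁ : E₁ ⟶ X') (e₂ : E₂ ⟶ X') [Etale e₁] [Etale e₂] {f : F ⟶ X} {m₁ : F ⟶ E₁}
    {m₂ : F ⟶ E₂} (sq₁ : IsPullback m₁ f e₁ t) (sq₂ : IsPullback m₂ f e₂ t) :
    ∃ e : E₁ ≅ E₂, e.hom ≫ e₂ = e₁ ∧ m₁ ≫ e.hom = m₂ := by
  have := Groth.Agent.S0118.result t
  let A : X'.Etale := Scheme.Etale.mk e₁
  let B : X'.Etale := Scheme.Etale.mk e₂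
  let φ : (EtCoh.bc t).obj A ≅ (EtCoh.bc t).obj B :=
    MorphismProperty.Over.isoMk (sq₁.isoPullback.symm ≪≫ sq₂.isoPullback) (by
      show (sq₁.isoPullback.inv ≫ sq₂.isoPullback.hom) ≫ pullback.snd e₂ t = pullback.snd e₁ t
      rw [Category.assoc, IsPullback.isoPullback_hom_snd, IsPullback.isoPullback_inv_snd])
  let ψ : A ≅ B := (EtCoh.bc t).preimageIso φ
  have hψ : (EtCoh.bc t).map ψ.hom = φ.hom := by simp [ψ]
  let e : E₁ ≅ E₂ := (Scheme.Etale.forget X' ⋙ Over.forget X').mapIso ψ
  refine ⟨e, MorphismProperty.Over.w ψ.hom, ?_⟩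
  have h1 := congrArg (fun k => sq₁.isoPullback.hom ≫ ((Scheme.Etale.forget X ⋙ Over.forget X).map k) ≫
    pullback.fst e₂ t) hψ
  have h2 : ((Scheme.Etale.forget X ⋙ Over.forget X).map ((EtCoh.bc t).map ψ.hom)) ≫ pullback.fst e₂ t =
      pullback.fst e₁ t ≫ e.hom := by
    simp [EtCoh.bc, e, A, B]
    exact pullback.lift_fst _ _ _
  simp only [h2] at h1
  rw [IsPullback.isoPullback_hom_fst_assoc] at h1
  refine h1.trans ?_
  show sq₁.isoPullback.hom ≫ (sq₁.isoPullback.inv ≫ sq₂.isoPullback.hom) ≫ pullback.fst e₂ t = m₂
  rw [Category.assoc, IsPullback.isoPullback_hom_fst, ← Category.assoc, Iso.hom_inv_id, Category.id_comp]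

/-- An étale scheme over the closed subscheme of a thickening is a restriction. -/
theorem exists_etale_lift_of_thick {Y Y' V : Scheme.{u}} (b : Y ⟶ Y') [IsClosedImmersion b] [Surjective b]
    (g : V ⟶ Y) [Etale g] :
    ∃ (W : Scheme.{u}) (h : W ⟶ Y') (m : V ⟶ W), Etale h ∧ IsPullback m g h b := by
  have := Groth.Agent.S0118.result b
  let A := (EtCoh.bc b).objPreimage (Scheme.Etale.mk g)
  let φ := (EtCoh.bc b).objObjPreimageIso (Scheme.Etale.mk g)
  let ψ : pullback A.hom b ≅ V := (Scheme.Etale.forget Y ⋙ Over.forget Y).mapIso φ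
  have hψ : ψ.hom ≫ g = pullback.snd A.hom b := MorphismProperty.Over.w φ.hom
  refine ⟨A.left, A.hom, ψ.inv ≫ pullback.fst A.hom b, A.prop, ?_⟩
  refine (IsPullback.of_hasPullback A.hom b).of_iso ψ (Iso.refl _) (Iso.refl _) (Iso.refl _) ?_ ?_ (by simp) (by simp)
  · rw [Iso.refl_hom, Category.comp_id, Iso.hom_inv_id_assoc]
  · rw [Iso.refl_hom, Category.comp_id]
    exact hψ.symm

/-- A cocone on a span is a colimit when it gives a pushout. -/
theorem isColimit_of_isPushout {C : Type v} [Category.{w} C] {D : WalkingSpan ⥤ C} (c : Cocone D)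
    (h : IsPushout (D.map WalkingSpan.Hom.fst) (D.map WalkingSpan.Hom.snd) (c.ι.app WalkingSpan.left)
      (c.ι.app WalkingSpan.right)) : Nonempty (IsColimit c) := by
  refine ⟨{ desc := fun s => h.desc (s.ι.app WalkingSpan.left) (s.ι.app WalkingSpan.right)
              ((s.w WalkingSpan.Hom.fst).trans (s.w WalkingSpan.Hom.snd).symm)
            fac := fun s j => ?_
            uniq := fun s m hm => h.hom_ext ((hm _).trans (h.inl_desc _ _ _).symm)
              ((hm _).trans (h.inr_desc _ _ _).symm) }⟩
  match j with
  | .zero =>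
    rw [← c.w WalkingSpan.Hom.fst, Category.assoc, h.inl_desc]
    exact s.w WalkingSpan.Hom.fst
  | .left => exact h.inl_desc _ _ _
  | .right => exact h.inr_desc _ _ _

/-- The pushout of schemes along a thickening is the pushout among algebraic spaces. -/
theorem isPushout_ofScheme {S : Scheme.{u}} {X X' Y Y' : Over S} (t : X ⟶ X') (a : X ⟶ Y)
    (a' : X' ⟶ Y') (b : Y ⟶ Y') [IsClosedImmersion t.left] [Surjective t.left] [IsAffineHom a.left]
    (hpo : IsPushout t a a' b) :
    IsPushout ((AlgSp.ofScheme S).map t) ((AlgSp.ofScheme S).map a) ((AlgSp.ofScheme S).map a')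
      ((AlgSp.ofScheme S).map b) := by
  have hpo' : IsPushout t.left a.left a'.left b.left := hpo.map (Over.forget S)
  have hY : ∀ y : Y.left, ∃ c : RingPO.Chart t.left a.left, y ∈ c.V :=
    RingPO.chart_of_thickening t.left.surjective
  have : IsAffineHom a'.left := RingPO.isAffineHom_inl hpo' hY
  have : IsClosedImmersion b.left := RingPO.isClosedImmersion_inr hpo' hY
  have hbs : Function.Surjective b.left := RingPO.surjective_inr hpo' hY t.left.surjective
  have : Surjective b.left := ⟨hbs⟩
  let c : Cocone (span t a) := PushoutCocone.mk a' b hpo.w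
  have h₁ : IsColimit ((Over.forget S).mapCocone c) :=
    (isColimitMapCoconePushoutCoconeEquiv (Over.forget S) hpo.w).symm hpo'.isColimit
  obtain ⟨hcol⟩ := Groth.Agent.S10716.result (span t a) c h₁
    (fun x => by
      obtain ⟨y, hy⟩ := hbs x
      exact ⟨WalkingSpan.right, y, hy⟩)
    (fun D' α c' u hu hsq => by
      have sl : IsPullback (c'.ι.app WalkingSpan.left).left (α.app WalkingSpan.left).left u.left a'.left :=
        (hsq WalkingSpan.left).map (Over.forget S)
      have sr : IsPullback (c'.ι.app WalkingSpan.right).left (α.app WalkingSpan.right).left u.left b.left :=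
        (hsq WalkingSpan.right).map (Over.forget S)
      have s0 : IsPullback (c'.ι.app WalkingSpan.zero).left (α.app WalkingSpan.zero).left u.left (t.left ≫ a'.left) :=
        (hsq WalkingSpan.zero).map (Over.forget S)
      have n₁ : (D'.map WalkingSpan.Hom.fst).left ≫ (α.app WalkingSpan.left).left =
          (α.app WalkingSpan.zero).left ≫ t.left :=
        congrArg CommaMorphism.left (α.naturality WalkingSpan.Hom.fst)
      have n₂ : (D'.map WalkingSpan.Hom.snd).left ≫ (α.app WalkingSpan.right).left =
          (α.app WalkingSpan.zero).left ≫ a.left :=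
        congrArg CommaMorphism.left (α.naturality WalkingSpan.Hom.snd)
      have w₁ : (D'.map WalkingSpan.Hom.fst).left ≫ (c'.ι.app WalkingSpan.left).left = (c'.ι.app WalkingSpan.zero).left :=
        congrArg CommaMorphism.left (c'.w WalkingSpan.Hom.fst)
      have w₂ : (D'.map WalkingSpan.Hom.snd).left ≫ (c'.ι.app WalkingSpan.right).left = (c'.ι.app WalkingSpan.zero).left :=
        congrArg CommaMorphism.left (c'.w WalkingSpan.Hom.snd)
      have : Flat u.left := inferInstance
      have hp := RingPO.isPushout_baseChange hpo' hY (𝟙 Y'.left) u.left (Or.inr inferInstance)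
        (pP := u.left) (sT := 𝟙 _) (IsPullback.of_vert_isIso ⟨by simp⟩) sl.flip sr.flip
        (IsPullback.of_bot (by rw [w₁]; exact s0.flip) n₁.symm sl.flip) n₂ (w₁.trans w₂.symm)
      exact isColimit_of_isPushout _ hp)
    (fun D' α hα het _ => by
      have := het WalkingSpan.right
      obtain ⟨W, h, mV, hh, sqV⟩ := exists_etale_lift_of_thick b.left (α.app WalkingSpan.right).left
      have e₁ : IsPullback (D'.map WalkingSpan.Hom.fst).left (α.app WalkingSpan.zero).left
          (α.app WalkingSpan.left).left t.left := (hα WalkingSpan.Hom.fst).map (Over.forget S)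
      have e₂ : IsPullback (D'.map WalkingSpan.Hom.snd).left (α.app WalkingSpan.zero).left
          (α.app WalkingSpan.right).left a.left := (hα WalkingSpan.Hom.snd).map (Over.forget S)
      have big : IsPullback ((D'.map WalkingSpan.Hom.snd).left ≫ mV) (α.app WalkingSpan.zero).left h
          (t.left ≫ a'.left) := by
        rw [hpo'.w]
        exact e₂.paste_horiz sqV
      let p : pullback h a'.left ⟶ X'.left := pullback.snd h a'.left
      let m₂ : (D'.obj WalkingSpan.zero).left ⟶ pullback h a'.left :=
        pullback.lift ((D'.map WalkingSpan.Hom.snd).left ≫ mV) ((α.app WalkingSpan.zero).left ≫ t.left)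
          (by rw [big.w, Category.assoc])
      have sq₂ : IsPullback m₂ (α.app WalkingSpan.zero).left p t.left := by
        refine IsPullback.of_right ?_ (pullback.lift_snd _ _ _) (IsPullback.of_hasPullback h a'.left)
        rw [pullback.lift_fst]
        exact big
      have := het WalkingSpan.left
      obtain ⟨e, he, hm⟩ := exists_iso_of_thick t.left (α.app WalkingSpan.left).left p e₁ sq₂
      let Wo : Over S := Over.mk (h ≫ Y'.hom)
      let u : Wo ⟶ Y' := Over.homMk h rfl
      let mU : (D'.obj WalkingSpan.left).left ⟶ W := e.hom ≫ pullback.fst h a'.left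
      have hU : IsPullback mU (α.app WalkingSpan.left).left h a'.left :=
        IsPullback.of_iso (IsPullback.of_hasPullback h a'.left) e.symm (Iso.refl _) (Iso.refl _) (Iso.refl _)
          (by simp [mU]) (by simp [← he, p]) (by simp) (by simp)
      have hm' : (D'.map WalkingSpan.Hom.fst).left ≫ mU = (D'.map WalkingSpan.Hom.snd).left ≫ mV := by
        simp only [mU]
        rw [← Category.assoc, hm]
        exact pullback.lift_fst _ _ _
      let ml : D'.obj WalkingSpan.left ⟶ Wo := Over.homMk mU (by
        change mU ≫ h ≫ Y'.hom = _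
        rw [reassoc_of% hU.w, Over.w a']
        exact Over.w (α.app WalkingSpan.left))
      let mr : D'.obj WalkingSpan.right ⟶ Wo := Over.homMk mV (by
        change mV ≫ h ≫ Y'.hom = _
        rw [reassoc_of% sqV.w, Over.w b]
        exact Over.w (α.app WalkingSpan.right))
      have hw : D'.map WalkingSpan.Hom.fst ≫ ml = D'.map WalkingSpan.Hom.snd ≫ mr := Over.OverMorphism.ext hm'
      let c' : Cocone D' :=
        { pt := Wo
          ι :=
            { app := fun j => match j with
                | .zero => D'.map WalkingSpan.Hom.fst ≫ ml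
                | .left => ml
                | .right => mr
              naturality := by
                rintro i j f
                match i, j, f with
                | _, _, WidePushoutShape.Hom.id _ => simp
                | _, _, WidePushoutShape.Hom.init WalkingPair.left => exact (Category.comp_id _).symm
                | _, _, WidePushoutShape.Hom.init WalkingPair.right =>
                  exact hw.symm.trans (Category.comp_id _).symm } }
      refine ⟨c', u, hh, fun j => ?_⟩
      match j with
      | .left => exact IsPullback.of_map (Over.forget S) (Over.OverMorphism.ext hU.w) hU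
      | .right => exact IsPullback.of_map (Over.forget S) (Over.OverMorphism.ext sqV.w) sqV
      | .zero =>
        have h0 : IsPullback ((D'.map WalkingSpan.Hom.fst).left ≫ mU) (α.app WalkingSpan.zero).left h
            (t.left ≫ a'.left) := hm' ▸ big
        exact IsPullback.of_map (Over.forget S) (Over.OverMorphism.ext h0.w) h0)
  refine ⟨⟨by rw [← Functor.map_comp, ← Functor.map_comp, hpo.w]⟩,
    ⟨(isColimitMapCoconePushoutCoconeEquiv (AlgSp.ofScheme S) hpo.w) hcol⟩⟩

end Groth.Agent.AlgSpDec.ThickPushScheme
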