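import Groth.Agent.AlgSpDec.ThickPushRel
import Groth.Agent.AlgSpDec.QuotRep
import Groth.Agent.AlgSpDec.LqfQuot
import Groth.Agent.AlgSpDec.AffineRep
import Groth.Agent.AlgSpDec.EpiPullback
import Groth.Agent.AlgSpLib.EtLift
import Groth.Agent.AlgSpLib.ClosedImmDesc
import Groth.Agent.AlgSpLib.Covers
import Groth.Agent.AlgSpPts.Quot

/-!
# Pushouts of algebraic spaces along thickenings
-/

set_option linter.style.haveILetI false
set_option autoImplicit false
set_option backward.isDefEq.respectTransparency false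
set_option backward.isDefEq.respectTransparency.types false

universe u v w

open CategoryTheory CategoryTheory.Limits AlgebraicGeometry AlgSp
open Groth.Agent.AlgSpLib Groth.Agent.AlgSpPts

namespace Groth.Agent.AlgSpDec.ThickPush

variable {S : Scheme.{u}}

/-- The kernel pair of a map from a scheme is an equivalence relation. -/
theorem isEqvRel_of_kernelPair {F : Sp S} {R U : Over S} {p : (yon S).obj U ⟶ F} {t s : R ⟶ U}
    (sq : IsPullback ((yon S).map t) ((yon S).map s) p p) : IsEqvRel s t := by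
  have key : ∀ {T : Over S} (a b : T ⟶ U), (∃ r : T ⟶ R, r ≫ t = a ∧ r ≫ s = b) ↔
      (yon S).map a ≫ p = (yon S).map b ≫ p := by
    intro T a b
    constructor
    · rintro ⟨r, rfl, rfl⟩
      rw [Functor.map_comp, Functor.map_comp, Category.assoc, Category.assoc, sq.w]
    · intro h
      obtain ⟨r, hr₁, hr₂⟩ := sq.exists_lift _ _ h
      obtain ⟨r, rfl⟩ := (yon S).map_surjective r
      exact ⟨r, (yon S).map_injective (by rw [Functor.map_comp]; exact hr₁),
        (yon S).map_injective (by rw [Functor.map_comp]; exact hr₂)⟩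
  refine { injective := fun T r r' ht hs => ?_, equivalence := fun T => ?_ }
  · exact (yon S).map_injective (sq.hom_ext (by rw [← Functor.map_comp, ← Functor.map_comp, ht])
      (by rw [← Functor.map_comp, ← Functor.map_comp, hs]))
  · exact ⟨fun a => (key a a).2 rfl, fun h => (key _ _).2 ((key _ _).1 h).symm,
      fun h h' => (key _ _).2 (((key _ _).1 h).trans ((key _ _).1 h'))⟩

/-- A square under compatible kernel pairs with epimorphic projections is cartesian. -/
theorem isPullback_of_kernelPairs {A B X Y R R' : Sp S} {q : A ⟶ X} {p : B ⟶ Y} {f : X ⟶ Y} {a : A ⟶ B}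
    {t s : R ⟶ A} {t' s' : R' ⟶ B} {m : R ⟶ R'} [Epi q] (kp : IsPullback t s q q) (kp' : IsPullback t' s' p p)
    (cart : IsPullback m s s' a) (wt : m ≫ t' = t ≫ a) (w : q ≫ f = a ≫ p) : IsPullback q a f p := by
  let θ : A ⟶ pullback f p := pullback.lift q a w
  have : Mono θ := ⟨fun {Z} c d h => by
    have hq : c ≫ q = d ≫ q := by simpa [θ] using congrArg (· ≫ pullback.fst f p) h
    have ha : c ≫ a = d ≫ a := by simpa [θ] using congrArg (· ≫ pullback.snd f p) h
    let r₁ := kp.lift c c rfl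
    let r₂ := kp.lift d c hq.symm
    have e : r₁ = r₂ := cart.hom_ext (kp'.hom_ext
        (by simp only [Category.assoc, wt, r₁, r₂, kp.lift_fst_assoc, ha])
        (by simp only [Category.assoc, cart.w, r₁, r₂, kp.lift_snd_assoc]))
      (by simp only [r₁, r₂, kp.lift_snd])
    simpa [r₁, r₂] using congrArg (· ≫ t) e⟩
  let e₁ := pullback.fst q (pullback.fst f p)
  let e₂ := pullback.snd q (pullback.fst f p)
  have : Epi e₂ := epi_of_isPullback_sheaf (IsPullback.of_hasPullback q (pullback.fst f p))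
  have he : (e₂ ≫ pullback.snd f p) ≫ p = (e₁ ≫ a) ≫ p := by
    rw [Category.assoc, ← pullback.condition, Category.assoc, ← w]
    exact (pullback.condition_assoc f).symm
  let r := cart.lift (kp'.lift _ _ he) e₁ (kp'.lift_snd _ _ _)
  have hx : (r ≫ t) ≫ θ = e₂ := by
    apply pullback.hom_ext
    · simp only [Category.assoc, θ, pullback.lift_fst]
      rw [kp.w, IsPullback.lift_snd_assoc]
      exact pullback.condition
    · simp only [Category.assoc, θ, pullback.lift_snd]
      rw [← wt, IsPullback.lift_fst_assoc, IsPullback.lift_fst]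
  have : Epi θ := epi_of_epi_fac hx
  have : IsIso θ := isIso_of_mono_of_epi θ
  exact IsPullback.of_iso_pullback ⟨w⟩ (asIso θ) (pullback.lift_fst _ _ _) (pullback.lift_snd _ _ _)

variable {X X' Y Y' : Sp S}

/-- Étale charts of a square of sheaves forming pushouts of schemes along thickenings. -/
structure Chart (t : X ⟶ X') (f : X ⟶ Y) (f' : X' ⟶ Y') (t' : Y ⟶ Y') where
  /-- the chart of `X` -/
  U : Over S
  /-- the chart of `X'` -/
  U' : Over S
  /-- the chart of `Y` -/
  V : Over S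
  /-- the chart of `Y'` -/
  V' : Over S
  /-- the thickening -/
  u : U ⟶ U'
  /-- the affine morphism -/
  a : U ⟶ V
  /-- the map to the pushout -/
  a' : U' ⟶ V'
  /-- the thickening of the affine target -/
  b : V ⟶ V'
  /-- the chart map of `X` -/
  pU : (yon S).obj U ⟶ X
  /-- the chart map of `X'` -/
  pU' : (yon S).obj U' ⟶ X'
  /-- the chart map of `Y` -/
  pV : (yon S).obj V ⟶ Y
  /-- the chart map of `Y'` -/
  p : (yon S).obj V' ⟶ Y'
  thickSq : IsThickSq u a a' b
  etale : RepWith @Etale p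
  surjective : RepWith @Surjective p
  sqt : IsPullback pU ((yon S).map u) t pU'
  sqf : IsPullback pU ((yon S).map a) f pV
  sqf' : IsPullback pU' ((yon S).map a') f' p
  sqt' : IsPullback pV ((yon S).map b) t' p

namespace Chart

variable {t : X ⟶ X'} {f : X ⟶ Y} {f' : X' ⟶ Y'} {t' : Y ⟶ Y'} (C : Chart t f f' t')
include C

theorem epi : Epi C.p := epi_of_etale_surjective C.etale C.surjective

theorem etale_V : RepWith @Etale C.pV := repWith_of_isPullback C.sqt'.flip C.etale

theorem surjective_V : RepWith @Surjective C.pV := repWith_of_isPullback C.sqt'.flip C.surjective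

theorem etale_U' : RepWith @Etale C.pU' := repWith_of_isPullback C.sqf'.flip C.etale

theorem surjective_U' : RepWith @Surjective C.pU' := repWith_of_isPullback C.sqf'.flip C.surjective

theorem etale_U : RepWith @Etale C.pU := repWith_of_isPullback C.sqf.flip C.etale_V

theorem surjective_U : RepWith @Surjective C.pU := repWith_of_isPullback C.sqf.flip C.surjective_V

/-- The chart of a square isomorphic to one with a chart. -/
noncomputable def mapIso {Y'' : Sp S} (e : Y' ≅ Y'') : Chart t f (f' ≫ e.hom) (t' ≫ e.hom) where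
  U := C.U
  U' := C.U'
  V := C.V
  V' := C.V'
  u := C.u
  a := C.a
  a' := C.a'
  b := C.b
  pU := C.pU
  pU' := C.pU'
  pV := C.pV
  p := C.p ≫ e.hom
  thickSq := C.thickSq
  etale := repWith_comp C.etale (repWith_of_isIso _ _)
  surjective := repWith_comp C.surjective (repWith_of_isIso _ _)
  sqt := C.sqt
  sqf := C.sqf
  sqf' := C.sqf'.of_iso (Iso.refl _) (Iso.refl _) (Iso.refl _) e (by simp) (by simp) (by simp) (by simp)
  sqt' := C.sqt'.of_iso (Iso.refl _) (Iso.refl _) (Iso.refl _) e (by simp) (by simp) (by simp) (by simp)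

end Chart

variable {t : X ⟶ X'} {f : X ⟶ Y}

theorem exists_chart_pushout (hX : IsAlgSpace X) (hX' : IsAlgSpace X') (hY : IsAlgSpace Y)
    (ht : IsThickMor t) (hf : IsAffineMor f) :
    ∃ (Y' : Sp S) (f' : X' ⟶ Y') (t' : Y ⟶ Y'), IsAlgSpace Y' ∧ t ≫ f' = f ≫ t' ∧ IsThickMor t' ∧
      Nonempty (Chart t f f' t') ∧
      ∀ (T : Sp S), IsAlgSpace T → ∀ (g₁ : X' ⟶ T) (g₂ : Y ⟶ T), t ≫ g₁ = f ≫ g₂ →
        ∃! g : Y' ⟶ T, f' ≫ g = g₁ ∧ t' ≫ g = g₂ := by
  obtain ⟨V, pV, hV, hVs⟩ := hY.atlas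
  have hfa := repWith_isAffineHom_of_isAffineMor hf
  obtain ⟨U, a, pU, sqf⟩ := hfa.rep pV
  have : IsAffineHom a.left := hfa.2 _ _ _ sqf
  have hU : RepWith @Etale pU := repWith_of_isPullback sqf.flip hV
  have hUs : RepWith @Surjective pU := repWith_of_isPullback sqf.flip hVs
  -- the chart of the thickening
  obtain ⟨U', pU', ε, hU', hε⟩ := EtLift.exists_lift hX hX' ht pU hU
  obtain ⟨u, hu⟩ := (yon S).map_surjective (ε.hom ≫ pullback.snd t pU')
  have sqt : IsPullback pU ((yon S).map u) t pU' :=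
    IsPullback.of_iso_pullback ⟨by rw [← hε, hu, Category.assoc, Category.assoc, pullback.condition]⟩
      ε hε hu.symm
  have : IsClosedImmersion u.left := (ht.2 _ _ _ sqt).1
  have : Surjective u.left := (ht.2 _ _ _ sqt).2
  have hU's : RepWith @Surjective pU' := by
    refine ⟨hU'.rep, fun T W z fst snd sqW => ?_⟩
    obtain ⟨T₀, k, z₀, sqT⟩ := ht.rep z
    have hk : Surjective k.left := (ht.2 _ _ _ sqT).2
    obtain ⟨W₀, k₀, w₀, sqW₀⟩ := hUs.rep z₀
    have hk₀ : Surjective k₀.left := hUs.2 _ _ _ sqW₀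
    obtain ⟨g, hg₁, hg₂⟩ := sqW.exists_lift (w₀ ≫ (yon S).map u) ((yon S).map (k₀ ≫ k)) (by
      rw [Category.assoc, ← sqt.w, ← Category.assoc, sqW₀.w, Category.assoc, sqT.w, Functor.map_comp,
        Category.assoc])
    obtain ⟨g, rfl⟩ := (yon S).map_surjective g
    have e : g ≫ snd = k₀ ≫ k := (yon S).map_injective (by rw [Functor.map_comp, hg₂])
    have e' : g.left ≫ snd.left = k₀.left ≫ k.left := congrArg CommaMorphism.left e
    have : Surjective (g.left ≫ snd.left) := e' ▸ inferInstance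
    exact Surjective.of_comp g.left snd.left
  -- the kernel pairs
  obtain ⟨R₂, s₂, t₂', kp₂⟩ := hV.rep pV
  obtain ⟨t₂, rfl⟩ := (yon S).map_surjective t₂'
  obtain ⟨R₁, s₁, t₁', kp₁⟩ := hU'.rep pU'
  obtain ⟨t₁, rfl⟩ := (yon S).map_surjective t₁'
  obtain ⟨R₀, s₀, t₀', kp₀⟩ := hU.rep pU
  obtain ⟨t₀, rfl⟩ := (yon S).map_surjective t₀'
  obtain ⟨i', hi'₁, hi'₂⟩ := kp₁.exists_lift ((yon S).map (t₀ ≫ u)) ((yon S).map (s₀ ≫ u)) (by
    rw [Functor.map_comp, Functor.map_comp, Category.assoc, Category.assoc, ← sqt.w, ← Category.assoc, kp₀.w,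
      Category.assoc])
  obtain ⟨i, rfl⟩ := (yon S).map_surjective i'
  obtain ⟨j', hj'₁, hj'₂⟩ := kp₂.exists_lift ((yon S).map (t₀ ≫ a)) ((yon S).map (s₀ ≫ a)) (by
    rw [Functor.map_comp, Functor.map_comp, Category.assoc, Category.assoc, ← sqf.w, ← Category.assoc, kp₀.w,
      Category.assoc])
  obtain ⟨j, rfl⟩ := (yon S).map_surjective j'
  have wi : i ≫ t₁ = t₀ ≫ u := (yon S).map_injective (by rw [Functor.map_comp, hi'₁])
  have wi' : i ≫ s₁ = s₀ ≫ u := (yon S).map_injective (by rw [Functor.map_comp, hi'₂])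
  have wj : j ≫ t₂ = t₀ ≫ a := (yon S).map_injective (by rw [Functor.map_comp, hj'₁])
  have wj' : j ≫ s₂ = s₀ ≫ a := (yon S).map_injective (by rw [Functor.map_comp, hj'₂])
  -- cartesian projections
  have cart : ∀ {W W' R' : Over S} {pW' : (yon S).obj W' ⟶ Y} {d : U ⟶ W'} {m : R₀ ⟶ R'} {s' t' : R' ⟶ W'}
      (_ : IsPullback ((yon S).map t') ((yon S).map s') pW' pW') {h : X ⟶ Y}
      (_ : IsPullback pU ((yon S).map d) h pW') (_ : m ≫ t' = t₀ ≫ d) (_ : m ≫ s' = s₀ ≫ d),
      IsPullback m s₀ s' d := fun {W W' R' pW' d m s' t'} kp {h} sq e₁ e₂ => by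
    refine IsPullback.of_map (yon S) e₂ ?_
    refine IsPullback.of_right ?_ (by rw [← Functor.map_comp, ← Functor.map_comp, e₂]) kp
    rw [← Functor.map_comp, e₁, Functor.map_comp, ← sq.w]
    exact kp₀.paste_horiz sq.flip
  have sqj : IsPullback j s₀ s₂ a := cart (W := V) kp₂ sqf wj wj'
  have sqi : IsPullback i s₀ s₁ u := by
    refine IsPullback.of_map (yon S) wi' ?_
    refine IsPullback.of_right ?_ (by rw [← Functor.map_comp, ← Functor.map_comp, wi']) kp₁
    rw [← Functor.map_comp, wi, Functor.map_comp, ← sqt.w]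
    exact kp₀.paste_horiz sqt.flip
  have : Etale s₁.left := hU'.2 _ _ _ kp₁
  have : Etale s₂.left := hV.2 _ _ _ kp₂
  -- the quotient
  obtain ⟨V', a', b, H⟩ := exists_isThickSq u a
  obtain ⟨R', sR, tR, m₁, m₂, hR, c₁, c₂, q₁, q₂, K⟩ := exists_eqvRel H (isEqvRel_of_kernelPair kp₀)
    (isEqvRel_of_kernelPair kp₁) (isEqvRel_of_kernelPair kp₂) sqi sqj wi wj
  have := hR.etale_left
  have := hR.etale_right
  let Q : Sp S := QuotSh.quot Scheme.fppfPrecoverage sR tR
  obtain ⟨p, hpdef⟩ : ∃ p : (yon S).obj V' ⟶ Q, p = quotMap sR tR := ⟨_, rfl⟩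
  have kp : IsPullback ((yon S).map tR) ((yon S).map sR) p p := hpdef ▸ isPullback_quotMap hR.toIsEqvRel
  have hQ : IsAlgSpace Q := isAlgSpace_quot hR.toIsEqvRel
  have hepi : Epi p := by
    subst hpdef
    have : Epi (QuotSh.quotπ Scheme.fppfPrecoverage sR tR) := by
      unfold QuotSh.quotπ
      infer_instance
    exact epi_comp _ _
  have : Sheaf.IsLocallySurjective p := (CategoryTheory.Sheaf.isLocallySurjective_iff_epi p).2 hepi
  have hr : Representable p := representable_of_kernelPair kp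
  have : Surjective sR.left := by
    obtain ⟨ρ, -, hρ⟩ := exists_refl hR.toIsEqvRel
    have h : ρ.left ≫ sR.left = 𝟙 V'.left := congrArg CommaMorphism.left hρ
    have : Surjective (ρ.left ≫ sR.left) := h ▸ inferInstance
    exact Surjective.of_comp ρ.left sR.left
  have := isLocalAtTarget_fppf (@Etale : MorphismProperty Scheme.{u})
  have := isLocalAtTarget_fppf (@Surjective : MorphismProperty Scheme.{u})
  have hpe : RepWith @Etale p :=
    repWith_of_locallySurjective hr _ kp @Etale ((repWith_yon_map_iff _ _).2 ‹Etale sR.left›)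
  have hps : RepWith @Surjective p :=
    repWith_of_locallySurjective hr _ kp @Surjective ((repWith_yon_map_iff _ _).2 ‹Surjective sR.left›)
  -- the maps to the quotient
  have hq₂ : Epi pV := epi_of_etale_surjective hV hVs
  have hq₁ : Epi pU' := epi_of_etale_surjective hU' hU's
  have hq₀ : Epi pU := epi_of_etale_surjective hU hUs
  obtain ⟨f', hf'⟩ := Cofork.IsColimit.desc' (EtLift.isColimitOfAtlas hU' hU's kp₁) ((yon S).map a' ≫ p) (by
    rw [← Category.assoc, ← Category.assoc, ← Functor.map_comp, ← Functor.map_comp, ← q₁, ← c₁.w,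
      Functor.map_comp, Functor.map_comp, Category.assoc, Category.assoc, kp.w])
  obtain ⟨t', ht'⟩ := Cofork.IsColimit.desc' (EtLift.isColimitOfAtlas hV hVs kp₂) ((yon S).map b ≫ p) (by
    rw [← Category.assoc, ← Category.assoc, ← Functor.map_comp, ← Functor.map_comp, ← q₂, ← c₂.w,
      Functor.map_comp, Functor.map_comp, Category.assoc, Category.assoc, kp.w])
  simp only [Cofork.π_ofπ] at hf' ht'
  have sqf' : IsPullback pU' ((yon S).map a') f' p :=
    isPullback_of_kernelPairs kp₁ kp (c₁.map (yon S))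
      (by rw [← Functor.map_comp, ← Functor.map_comp, q₁]) hf'
  have sqt' : IsPullback pV ((yon S).map b) t' p :=
    isPullback_of_kernelPairs kp₂ kp (c₂.map (yon S))
      (by rw [← Functor.map_comp, ← Functor.map_comp, q₂]) ht'
  have hw : t ≫ f' = f ≫ t' := by
    rw [← cancel_epi pU, ← Category.assoc, sqt.w, Category.assoc, hf', ← Category.assoc, ← Functor.map_comp,
      H.pushout.w, Functor.map_comp, Category.assoc, ← ht', reassoc_of% sqf.w]
  have ht'c : RepWith @IsClosedImmersion t' :=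
    (isLocalOnBase_fpqc_isClosedImmersion (fun _ : PUnit.{u + 1} => (yon S).obj V') (fun _ => p) hQ
      (fun _ => IsAlgSpace.yon_obj V')
      (isFpqcCover_of_isFppfCover hQ (fun _ => IsAlgSpace.yon_obj V') _ (isFppfCover_of_repWith_etale hpe hps))
      t' hY (fun _ => (yon S).obj V) (fun _ => (yon S).map b) (fun _ => pV) (fun _ => IsAlgSpace.yon_obj V)
      (fun _ => sqt')).2 fun _ => (repWith_yon_map_iff _ _).2 H.closed'
  have ht's : RepWith @Surjective t' :=
    repWith_of_locallySurjective ht'c.rep p sqt' @Surjective ((repWith_yon_map_iff _ _).2 H.surj')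
  have htk : IsThickMor t' := ⟨ht'c.rep, fun T W z fst snd sq => ⟨ht'c.2 _ _ _ sq, ht's.2 _ _ _ sq⟩⟩
  refine ⟨Q, f', t', hQ, hw, htk,
    ⟨⟨U, U', V, V', u, a, a', b, pU, pU', pV, p, H, hpe, hps, sqt, sqf, sqf', sqt'⟩⟩, fun T hT g₁ g₂ e => ?_⟩
  obtain ⟨g, hg₁, hg₂⟩ := H.exists_desc hT (pU' ≫ g₁) (pV ≫ g₂) (by
    rw [← Category.assoc, ← sqt.w, Category.assoc, e, ← Category.assoc, sqf.w, Category.assoc])
  have hg : (yon S).map tR ≫ g = (yon S).map sR ≫ g := K.hom_ext hT
    (by rw [← Category.assoc, ← Category.assoc, ← Functor.map_comp, ← Functor.map_comp, q₁, c₁.w,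
      Functor.map_comp, Functor.map_comp, Category.assoc, Category.assoc, hg₁, ← Category.assoc, kp₁.w,
      Category.assoc])
    (by rw [← Category.assoc, ← Category.assoc, ← Functor.map_comp, ← Functor.map_comp, q₂, c₂.w,
      Functor.map_comp, Functor.map_comp, Category.assoc, Category.assoc, hg₂, ← Category.assoc, kp₂.w,
      Category.assoc])
  obtain ⟨G, hG⟩ := Cofork.IsColimit.desc' (EtLift.isColimitOfAtlas hpe hps kp) g hg
  simp only [Cofork.π_ofπ] at hG
  refine ⟨G, ⟨?_, ?_⟩, fun G' hG' => ?_⟩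
  · rw [← cancel_epi pU', reassoc_of% hf', hG, hg₁]
  · rw [← cancel_epi pV, reassoc_of% ht', hG, hg₂]
  · rw [← cancel_epi p, hG]
    refine H.hom_ext hT ?_ ?_
    · rw [hg₁, ← reassoc_of% hf', hG'.1]
    · rw [hg₂, ← reassoc_of% ht', hG'.2]

/-- Pushouts of algebraic spaces along thickenings exist and have charts. -/
theorem exists_isPushout {X X' Y : Space S} (t : X ⟶ X') (ht : IsThickMor t.hom) (f : X ⟶ Y)
    (hf : IsAffineMor f.hom) : ∃ (Y' : Space S) (f' : X' ⟶ Y') (t' : Y ⟶ Y'), IsPushout t f f' t' ∧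
      IsThickMor t'.hom ∧ Nonempty (Chart t.hom f.hom f'.hom t'.hom) := by
  obtain ⟨Q, f', t', hQ, hw, htk, hC, huniv⟩ := exists_chart_pushout X.property X'.property Y.property ht hf
  let Y' : Space S := ⟨Q, hQ⟩
  let f₁ : X' ⟶ Y' := ObjectProperty.homMk f'
  let t₁ : Y ⟶ Y' := ObjectProperty.homMk t'
  refine ⟨Y', f₁, t₁, ?_, htk, hC⟩
  choose g hg huniq using fun s : PushoutCocone t f =>
    huniv s.pt.obj s.pt.property s.inl.hom s.inr.hom (congrArg InducedCategory.Hom.hom s.condition)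
  exact ⟨⟨ObjectProperty.hom_ext _ hw⟩, ⟨PushoutCocone.IsColimit.mk _ (fun s => ObjectProperty.homMk (g s))
    (fun s => ObjectProperty.hom_ext _ (hg s).1) (fun s => ObjectProperty.hom_ext _ (hg s).2)
    fun s m h₁ h₂ => ObjectProperty.hom_ext _ (huniq s m.hom
      ⟨congrArg InducedCategory.Hom.hom h₁, congrArg InducedCategory.Hom.hom h₂⟩)⟩⟩

/-- Every pushout along a thickening has charts. -/
theorem nonempty_chart {X X' Y Y' : Space S} {t : X ⟶ X'} (ht : IsThickMor t.hom) {f : X ⟶ Y}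
    (hf : IsAffineMor f.hom) {f' : X' ⟶ Y'} {t' : Y ⟶ Y'} (hpo : IsPushout t f f' t') :
    Nonempty (Chart t.hom f.hom f'.hom t'.hom) := by
  obtain ⟨Z, f₁, t₁, hZ, -, ⟨C⟩⟩ := exists_isPushout t ht f hf
  let e : Z.obj ≅ Y'.obj := (ObjectProperty.ι _).mapIso (hZ.isoIsPushout _ _ hpo)
  have h₁ : f₁.hom ≫ e.hom = f'.hom :=
    congrArg InducedCategory.Hom.hom (hZ.inl_isoIsPushout_hom _ _ hpo)
  have h₂ : t₁.hom ≫ e.hom = t'.hom :=
    congrArg InducedCategory.Hom.hom (hZ.inr_isoIsPushout_hom _ _ hpo)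
  exact ⟨h₁ ▸ h₂ ▸ C.mapIso e⟩

end Groth.Agent.AlgSpDec.ThickPush
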