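import Groth.Agent.AlgSpDec.ThickPushScheme

/-!
# Pushout squares of schemes along thickenings
-/

set_option linter.style.haveILetI false
set_option autoImplicit false
set_option backward.isDefEq.respectTransparency false
set_option backward.isDefEq.respectTransparency.types false

universe u v w

open CategoryTheory CategoryTheory.Limits AlgebraicGeometry AlgSp

namespace Groth.Agent.AlgSpDec.ThickPush

variable {S : Scheme.{u}} {X X' Y Y' : Over S} {t : X ⟶ X'} {a : X ⟶ Y} {a' : X' ⟶ Y'} {b : Y ⟶ Y'}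

/-- A pushout square of schemes over `S` along a thickening and an affine morphism. -/
structure IsThickSq (t : X ⟶ X') (a : X ⟶ Y) (a' : X' ⟶ Y') (b : Y ⟶ Y') : Prop where
  closed : IsClosedImmersion t.left
  surj : Surjective t.left
  affine : IsAffineHom a.left
  po : IsPushout t.left a.left a'.left b.left

/-- Pushouts along thickenings exist. -/
theorem exists_isThickSq (t : X ⟶ X') (a : X ⟶ Y) [IsClosedImmersion t.left] [Surjective t.left]
    [IsAffineHom a.left] : ∃ (Y' : Over S) (a' : X' ⟶ Y') (b : Y ⟶ Y'), IsThickSq t a a' b := by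
  obtain ⟨Q, a', b, hpo, -⟩ := Groth.Agent.S0431.result t.left t.left.surjective a.left
  exact ⟨Over.mk (hpo.desc X'.hom Y.hom (by rw [Over.w t, Over.w a])),
    Over.homMk a' (hpo.inl_desc _ _ _), Over.homMk b (hpo.inr_desc _ _ _),
    inferInstance, inferInstance, inferInstance, hpo⟩

namespace IsThickSq

variable (H : IsThickSq t a a' b)
include H

theorem chart (y : Y.left) : ∃ c : RingPO.Chart t.left a.left, y ∈ c.V :=
  have := H.closed
  have := H.affine
  RingPO.chart_of_thickening H.surj.surj y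

theorem pushout : IsPushout t a a' b :=
  IsPushout.of_map (Over.forget S) (Over.OverMorphism.ext H.po.w) H.po

theorem affine' : IsAffineHom a'.left :=
  have := H.closed
  RingPO.isAffineHom_inl H.po H.chart

theorem closed' : IsClosedImmersion b.left :=
  have := H.closed
  RingPO.isClosedImmersion_inr H.po H.chart

theorem surj' : Surjective b.left :=
  have := H.closed
  ⟨RingPO.surjective_inr H.po H.chart H.surj.surj⟩

theorem mono_inr : Mono b :=
  have := H.closed'
  have : Mono b.left := inferInstance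
  (Over.forget S).mono_of_mono_map ‹Mono b.left›

theorem mono_top : Mono t :=
  have := H.closed
  have : Mono t.left := inferInstance
  (Over.forget S).mono_of_mono_map ‹Mono t.left›

theorem isPullback : IsPullback t a a' b :=
  have := H.closed
  have sq : IsPullback t.left a.left a'.left b.left := RingPO.isPullback_of_isPushout H.po H.chart
  IsPullback.of_map (Over.forget S) (Over.OverMorphism.ext H.po.w) sq

/-- The square of schemes stays a pushout among algebraic spaces. -/
theorem space : IsPushout ((AlgSp.ofScheme S).map t) ((AlgSp.ofScheme S).map a) ((AlgSp.ofScheme S).map a')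
    ((AlgSp.ofScheme S).map b) :=
  have := H.closed
  have := H.surj
  have := H.affine
  ThickPushScheme.isPushout_ofScheme t a a' b H.pushout

/-- Maps to an algebraic space glue along the square. -/
theorem exists_desc {T : Sp S} (hT : IsAlgSpace T) (g₁ : (yon S).obj X' ⟶ T) (g₂ : (yon S).obj Y ⟶ T)
    (w : (yon S).map t ≫ g₁ = (yon S).map a ≫ g₂) :
    ∃ g : (yon S).obj Y' ⟶ T, (yon S).map a' ≫ g = g₁ ∧ (yon S).map b ≫ g = g₂ := by
  let T' : Space S := ⟨T, hT⟩
  let g₁' : (AlgSp.ofScheme S).obj X' ⟶ T' := ObjectProperty.homMk g₁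
  let g₂' : (AlgSp.ofScheme S).obj Y ⟶ T' := ObjectProperty.homMk g₂
  have w' : (AlgSp.ofScheme S).map t ≫ g₁' = (AlgSp.ofScheme S).map a ≫ g₂' := ObjectProperty.hom_ext _ w
  exact ⟨(H.space.desc g₁' g₂' w').hom,
    congrArg InducedCategory.Hom.hom (H.space.inl_desc g₁' g₂' w'),
    congrArg InducedCategory.Hom.hom (H.space.inr_desc g₁' g₂' w')⟩

theorem hom_ext {T : Sp S} (hT : IsAlgSpace T) {g g' : (yon S).obj Y' ⟶ T}
    (h₁ : (yon S).map a' ≫ g = (yon S).map a' ≫ g') (h₂ : (yon S).map b ≫ g = (yon S).map b ≫ g') : g = g' := by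
  let T' : Space S := ⟨T, hT⟩
  let G : (AlgSp.ofScheme S).obj Y' ⟶ T' := ObjectProperty.homMk g
  let G' : (AlgSp.ofScheme S).obj Y' ⟶ T' := ObjectProperty.homMk g'
  exact congrArg InducedCategory.Hom.hom
    (H.space.hom_ext (k := G) (l := G') (ObjectProperty.hom_ext _ h₁) (ObjectProperty.hom_ext _ h₂))

variable {W W₀ W₁ W₂ : Over S} {h : W ⟶ Y'} {g₀ : W₀ ⟶ X} {g₁ : W₁ ⟶ X'} {g₂ : W₂ ⟶ Y} {m₁ : W₁ ⟶ W}
  {m₂ : W₂ ⟶ W} {i : W₀ ⟶ W₁} {j : W₀ ⟶ W₂}

/-- The fourth side of a base change of the square is cartesian. -/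
theorem cart (s₁ : IsPullback m₁ g₁ h a') (s₂ : IsPullback m₂ g₂ h b) (s₀ : IsPullback i g₀ g₁ t)
    (hj : j ≫ g₂ = g₀ ≫ a) (hm : i ≫ m₁ = j ≫ m₂) : IsPullback j g₀ g₂ a := by
  refine IsPullback.of_right ?_ hj s₂
  rw [← hm, ← H.pushout.w]
  exact s₀.paste_horiz s₁

/-- The square is stable under flat base change. -/
theorem baseChange [Flat h.left] (s₁ : IsPullback m₁ g₁ h a') (s₂ : IsPullback m₂ g₂ h b) (s₀ : IsPullback i g₀ g₁ t)
    (hj : j ≫ g₂ = g₀ ≫ a) (hm : i ≫ m₁ = j ≫ m₂) : IsThickSq i j m₁ m₂ := by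
  have := H.closed
  have := H.affine'
  have sj := (H.cart s₁ s₂ s₀ hj hm).map (Over.forget S)
  have e₀ : IsPullback i.left g₀.left g₁.left t.left := s₀.map (Over.forget S)
  refine ⟨MorphismProperty.of_isPullback e₀.flip H.closed, MorphismProperty.of_isPullback e₀.flip H.surj,
    MorphismProperty.of_isPullback sj.flip H.affine, ?_⟩
  exact RingPO.isPushout_baseChange H.po H.chart (𝟙 Y'.left) h.left (Or.inr inferInstance)
    (pP := h.left) (sT := 𝟙 _) (IsPullback.of_vert_isIso ⟨by simp⟩) (s₁.map (Over.forget S)).flip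
    (s₂.map (Over.forget S)).flip e₀.flip (congrArg CommaMorphism.left hj) (congrArg CommaMorphism.left hm)

/-- Compatible étale schemes over the sides come from one over the pushout. -/
theorem exists_etale_glue (g₁ : W₁ ⟶ X') (g₂ : W₂ ⟶ Y) [Etale g₁.left] [Etale g₂.left] (s₀ : IsPullback i g₀ g₁ t)
    (s₀' : IsPullback j g₀ g₂ a) :
    ∃ (W : Over S) (h : W ⟶ Y') (m₁ : W₁ ⟶ W) (m₂ : W₂ ⟶ W),
      Etale h.left ∧ IsPullback m₁ g₁ h a' ∧ IsPullback m₂ g₂ h b ∧ IsThickSq i j m₁ m₂ := by
  have := H.closed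
  have := H.surj
  have := H.closed'
  have := H.surj'
  obtain ⟨W, h, mV, hh, sqV⟩ := ThickPushScheme.exists_etale_lift_of_thick b.left g₂.left
  have e₁ : IsPullback i.left g₀.left g₁.left t.left := s₀.map (Over.forget S)
  have e₂ : IsPullback j.left g₀.left g₂.left a.left := s₀'.map (Over.forget S)
  have big : IsPullback (j.left ≫ mV) g₀.left h (t.left ≫ a'.left) := by
    rw [H.po.w]
    exact e₂.paste_horiz sqV
  let p : pullback h a'.left ⟶ X'.left := pullback.snd h a'.left
  let m : W₀.left ⟶ pullback h a'.left := pullback.lift (j.left ≫ mV) (g₀.left ≫ t.left)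
    (by rw [big.w, Category.assoc])
  have sq₂ : IsPullback m g₀.left p t.left := by
    refine IsPullback.of_right ?_ (pullback.lift_snd _ _ _) (IsPullback.of_hasPullback h a'.left)
    rw [pullback.lift_fst]
    exact big
  obtain ⟨e, he, hm⟩ := ThickPushScheme.exists_iso_of_thick t.left g₁.left p e₁ sq₂
  let Wo : Over S := Over.mk (h ≫ Y'.hom)
  let hW : Wo ⟶ Y' := Over.homMk h rfl
  let mU : W₁.left ⟶ W := e.hom ≫ pullback.fst h a'.left
  have hU : IsPullback mU g₁.left h a'.left :=
    IsPullback.of_iso (IsPullback.of_hasPullback h a'.left) e.symm (Iso.refl _) (Iso.refl _) (Iso.refl _)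
      (by simp [mU]) (by simp [← he, p]) (by simp) (by simp)
  let m₁ : W₁ ⟶ Wo := Over.homMk mU (by
    change mU ≫ h ≫ Y'.hom = _
    rw [reassoc_of% hU.w, Over.w a', Over.w g₁])
  let m₂ : W₂ ⟶ Wo := Over.homMk mV (by
    change mV ≫ h ≫ Y'.hom = _
    rw [reassoc_of% sqV.w, Over.w b, Over.w g₂])
  have hm' : i ≫ m₁ = j ≫ m₂ := Over.OverMorphism.ext (by
    show i.left ≫ e.hom ≫ pullback.fst h a'.left = j.left ≫ mV
    rw [← Category.assoc, hm]
    exact pullback.lift_fst _ _ _)
  have s₁ : IsPullback m₁ g₁ hW a' := IsPullback.of_map (Over.forget S) (Over.OverMorphism.ext hU.w) hU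
  have s₂ : IsPullback m₂ g₂ hW b := IsPullback.of_map (Over.forget S) (Over.OverMorphism.ext sqV.w) sqV
  have : Flat hW.left := inferInstanceAs (Flat h)
  exact ⟨Wo, hW, m₁, m₂, hh, s₁, s₂, H.baseChange s₁ s₂ s₀ s₀'.w hm'⟩

end IsThickSq

end Groth.Agent.AlgSpDec.ThickPush
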