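import Groth.Agent.S10613
import Groth.Agent.GrpSchLib.UnramifiedFibre
import Groth.Agent.IsoNatLib.TrivLocus
import Groth.Agent.AlgSpDec.LqfSplitEZ

/-! # A space with a section and trivial fibres over field points is the base -/

set_option autoImplicit false
set_option backward.isDefEq.respectTransparency false
set_option backward.isDefEq.respectTransparency.types false

universe u

open CategoryTheory CategoryTheory.Limits AlgebraicGeometry Opposite AlgSp
  Groth.Agent.AlgSpLib Groth.Agent.IsoNatLib

namespace Groth.Agent.AlgSpDec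

variable {S : Scheme.{u}}

/-- Morphisms of sheaves agree when they agree on sections. -/
theorem hom_ext_sections {Z F : Sp S} {f g : Z ⟶ F}
    (h : ∀ (T : Over S) (z : (yon S).obj T ⟶ Z), z ≫ f = z ≫ g) : f = g := by
  apply ObjectProperty.hom_ext
  ext T z
  have := congrArg (J S).uliftYonedaEquiv (h T.unop ((J S).uliftYonedaEquiv.symm z))
  rw [GrothendieckTopology.uliftYonedaEquiv_comp, GrothendieckTopology.uliftYonedaEquiv_comp,
    Equiv.apply_symm_apply] at this
  exact this

/-- Over a field point where only the section is a point, the fibre is the field. -/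
theorem isPullback_of_triv {F : Sp S} {V W : Over S} {a : F ⟶ (yon S).obj V} {e : (yon S).obj V ⟶ F}
    (he : e ≫ a = 𝟙 _) {k : W ⟶ V} (h : Triv a e k) :
    IsPullback ((yon S).map k ≫ e) (𝟙 ((yon S).obj W)) a ((yon S).map k) := by
  refine ⟨⟨by rw [Category.assoc, he, Category.comp_id, Category.id_comp]⟩,
    ⟨PullbackCone.IsLimit.mk _ (fun s => s.snd) (fun s => ?_) (fun s => Category.comp_id _)
      (fun s m _ hm => ((Category.comp_id m).symm.trans hm))⟩⟩
  apply hom_ext_sections
  intro T z
  obtain ⟨g, hg⟩ := (yon S).map_surjective (z ≫ s.snd)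
  rw [h g (z ≫ s.fst) (by rw [Category.assoc, s.condition, ← Category.assoc, ← hg, Functor.map_comp]),
    Functor.map_comp, hg, Category.assoc, Category.assoc]

/-- A space locally of finite type with a section which is the only point over every algebraically closed
field is unramified. -/
theorem unramified_of_triv_geom {F : Sp S} (hF : IsAlgSpace F) {V : Over S} {a : F ⟶ (yon S).obj V}
    (hl : LocP @LocallyOfFiniteType a) {e : (yon S).obj V ⟶ F} (he : e ≫ a = 𝟙 _)
    (h : ∀ (K : Type u) [Field K] [IsAlgClosed K] (str : Spec (CommRingCat.of K) ⟶ S) (k : Over.mk str ⟶ V),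
      Triv a e k) :
    LocP (@LocallyOfFiniteType ⊓ @FormallyUnramified) a := by
  obtain ⟨U, q, hq, hq'⟩ := hF.atlas
  obtain ⟨p, hp⟩ := (yon S).map_surjective (q ≫ a)
  have hft : LocallyOfFiniteType p.left :=
    hl q (𝟙 _) p hq (repWith_id _ V) (by rw [Category.comp_id, hp])
  have hw : q ≫ a = (yon S).map p ≫ 𝟙 _ := by rw [Category.comp_id, hp]
  have hu : FormallyUnramified p.left := by
    refine Groth.Agent.GrpSchLib.formallyUnramified_of_fibres p.left fun y => ?_
    let κ : Type u := V.left.residueField y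
    let L : Type u := AlgebraicClosure κ
    let c : Spec (CommRingCat.of L) ⟶ Spec (V.left.residueField y) :=
      Spec.map (CommRingCat.ofHom (algebraMap κ L))
    let v : Spec (CommRingCat.of L) ⟶ V.left := c ≫ V.left.fromSpecResidueField y
    let W : Over S := Over.mk (v ≫ V.hom)
    let k : W ⟶ V := Over.homMk v rfl
    let Q : Over S := Over.mk (pullback.fst p.left v ≫ U.hom)
    let f₁ : Q ⟶ U := Over.homMk (pullback.fst p.left v) rfl
    let f₂ : Q ⟶ W := Over.homMk (pullback.snd p.left v) (by
      show _ ≫ v ≫ V.hom = pullback.fst _ _ ≫ U.hom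
      rw [← Category.assoc, ← pullback.condition, Category.assoc, Over.w p])
    have sq₀ : IsPullback f₁ f₂ p k :=
      IsPullback.of_map (Over.forget S) (Over.OverMorphism.ext pullback.condition)
        (IsPullback.of_hasPullback p.left v)
    have sq₁ := sq₀.map (yon S)
    rw [hp] at sq₁
    have sq₂ := isPullback_of_triv he (h L _ k)
    have htop : IsPullback ((yon S).map f₁) ((yon S).map f₂) q ((yon S).map k ≫ e) := by
      refine IsPullback.of_bot (v₂₁ := 𝟙 _) (v₂₂ := a) (h₃₁ := (yon S).map k)
        (by rw [Category.comp_id]; exact sq₁) ?_ sq₂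
      apply hom_ext_sections
      intro T z
      obtain ⟨g, hg⟩ := (yon S).map_surjective (z ≫ (yon S).map f₂)
      rw [h L _ k g (z ≫ (yon S).map f₁ ≫ q) (by
        simp only [Category.assoc]
        rw [sq₁.w, ← Category.assoc, ← hg, ← Functor.map_comp])]
      rw [Functor.map_comp, hg, Category.assoc, Category.assoc]
    have : RepWith @Etale ((yon S).map f₂) := repWith_of_isPullback htop hq
    have : Etale f₂.left := (repWith_yon_map_iff _ f₂).1 this
    have : Etale (pullback.snd p.left v) := this
    have sq₃ : IsPullback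
        (pullback.lift (pullback.fst p.left v) (pullback.snd p.left v ≫ c) (by
          rw [pullback.condition, Category.assoc]) : pullback p.left v ⟶ p.left.fiber y)
        (pullback.snd p.left v) (p.left.fiberToSpecResidueField y) c :=
      IsPullback.of_right (by
        rw [pullback.lift_fst]
        exact IsPullback.of_hasPullback p.left v)
        (pullback.lift_snd _ _ _) (IsPullback.of_hasPullback p.left (V.left.fromSpecResidueField y))
    have hc : (@Surjective ⊓ @Flat ⊓ @QuasiCompact : MorphismProperty Scheme.{u}) c := by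
      refine ⟨⟨⟨fun x => ⟨IsLocalRing.closedPoint L, Subsingleton.elim _ _⟩⟩, ?_⟩, inferInstance⟩
      exact HasRingHomProperty.Spec_iff.2 (RingHom.flat_algebraMap_iff.2 inferInstance)
    exact MorphismProperty.of_isPullback_of_descendsAlong (P := @FormallyUnramified) sq₃.flip hc
      (inferInstanceAs (FormallyUnramified (pullback.snd p.left v)))
  exact locP_of_chart hq hq' (repWith_id _ V) hw ⟨hft, hu⟩

/-- An unramified space with a section which is the only point over every algebraically closed field is the
base. -/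
theorem mono_of_triv_geom {F : Sp S} (hF : IsAlgSpace F) {V : Over S} {a : F ⟶ (yon S).obj V}
    (hu : LocP (@LocallyOfFiniteType ⊓ @FormallyUnramified) a) {e : (yon S).obj V ⟶ F}
    (h : ∀ (K : Type u) [Field K] [IsAlgClosed K] (str : Spec (CommRingCat.of K) ⟶ S) (k : Over.mk str ⟶ V)
      (τ : (yon S).obj (Over.mk str) ⟶ F), τ ≫ a = (yon S).map k → τ = (yon S).map k ≫ e) :
    Mono a := by
  let X : AlgSp.Space S := ⟨F, hF⟩
  let Y : AlgSp.Space S := ⟨(yon S).obj V, IsAlgSpace.yon_obj V⟩
  refine ((Groth.Agent.S10613.result (ObjectProperty.homMk a : X ⟶ Y)).1.2 ⟨hu, ?_⟩).2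
  intro Z P hZ g fst snd sq x₁ x₂ hx
  induction x₁ using Points.ind with
  | h p₁ =>
  induction x₂ using Points.ind with
  | h p₂ =>
  obtain ⟨Ω₀, _, w₀, j₁, j₂, hj⟩ := Points.mk_eq_mk_iff.1 hx
  let Ω : Type u := AlgebraicClosure Ω₀
  let c : Spec (CommRingCat.of Ω) ⟶ Spec (CommRingCat.of Ω₀) := Spec.map (CommRingCat.ofHom (algebraMap Ω₀ Ω))
  let w : Spec (CommRingCat.of Ω) ⟶ S := c ≫ w₀
  let d : Over.mk w ⟶ Over.mk w₀ := Over.homMk c rfl
  let i₁ := d ≫ j₁
  let i₂ := d ≫ j₂
  let s₁ : (yon S).obj (Over.mk w) ⟶ P := (J S).uliftYonedaEquiv.symm (P.obj.map i₁.op p₁.val)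
  let s₂ : (yon S).obj (Over.mk w) ⟶ P := (J S).uliftYonedaEquiv.symm (P.obj.map i₂.op p₂.val)
  have h₂ : s₁ ≫ snd = s₂ ≫ snd := by
    apply (J S).uliftYonedaEquiv.injective
    rw [GrothendieckTopology.uliftYonedaEquiv_comp, GrothendieckTopology.uliftYonedaEquiv_comp,
      Equiv.apply_symm_apply, Equiv.apply_symm_apply]
    refine (NatTrans.naturality_apply snd.hom i₁.op p₁.val).trans (Eq.trans ?_
      (NatTrans.naturality_apply snd.hom i₂.op p₂.val).symm)
    show Z.obj.map (d ≫ j₁).op _ = Z.obj.map (d ≫ j₂).op _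
    rw [op_comp, op_comp, Functor.map_comp_apply, Functor.map_comp_apply]
    exact congrArg _ hj
  have h₁ : s₁ ≫ fst = s₂ ≫ fst := by
    obtain ⟨k, hk⟩ := (yon S).map_surjective ((s₁ ≫ fst) ≫ a)
    have hk' : (s₂ ≫ fst) ≫ a = (yon S).map k := by
      have hw : fst ≫ a = snd ≫ g := sq.w
      rw [hk, Category.assoc, Category.assoc, hw, ← Category.assoc, ← h₂, Category.assoc]
    rw [h Ω w k (s₁ ≫ fst) hk.symm, h Ω w k (s₂ ≫ fst) hk']
  have hs : s₁ = s₂ := sq.hom_ext h₁ h₂
  exact Points.sound ⟨Ω, inferInstance, w, i₁, i₂, (J S).uliftYonedaEquiv.symm.injective hs⟩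

/-- A space locally of finite type with a section which is the only point over every algebraically closed
field is the base. -/
theorem mono_of_triv_fields {F : Sp S} (hF : IsAlgSpace F) {V : Over S} {a : F ⟶ (yon S).obj V}
    (hl : LocP @LocallyOfFiniteType a) {e : (yon S).obj V ⟶ F} (he : e ≫ a = 𝟙 _)
    (h : ∀ (K : Type u) [Field K] [IsAlgClosed K] (str : Spec (CommRingCat.of K) ⟶ S) (k : Over.mk str ⟶ V),
      Triv a e k) :
    Mono a :=
  mono_of_triv_geom hF (unramified_of_triv_geom hF hl he h) fun K _ _ str k τ hτ => by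
    simpa using h K str k (𝟙 _) τ (by rw [Category.id_comp, hτ])

/-- A space locally of finite type with a section which is the only point over every algebraically closed
field is the base. -/
theorem triv_of_triv_fields {F : Sp S} (hF : IsAlgSpace F) {V : Over S} {a : F ⟶ (yon S).obj V}
    (hl : LocP @LocallyOfFiniteType a) {e : (yon S).obj V ⟶ F} (he : e ≫ a = 𝟙 _)
    (h : ∀ (K : Type u) [Field K] [IsAlgClosed K] (str : Spec (CommRingCat.of K) ⟶ S) (k : Over.mk str ⟶ V),
      Triv a e k)
    {T : Over S} (g : T ⟶ V) : Triv a e g := by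
  intro T' f τ hτ
  have := mono_of_triv_fields hF hl he h
  rw [← cancel_mono a, hτ, Category.assoc, he, Category.comp_id]

/-- Two points of an unramified space which agree at every geometric point are equal. -/
theorem eq_of_eq_geom {F : Sp S} (hF : IsAlgSpace F) {V V' : Over S} {a : F ⟶ (yon S).obj V}
    (hu : LocP (@LocallyOfFiniteType ⊓ @FormallyUnramified) a) {τ σ : (yon S).obj V' ⟶ F} (w : τ ≫ a = σ ≫ a)
    (h : ∀ (K : Type u) [Field K] [IsAlgClosed K] (str : Spec (CommRingCat.of K) ⟶ S) (k : Over.mk str ⟶ V'),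
      (yon S).map k ≫ τ = (yon S).map k ≫ σ) : τ = σ := by
  have hY := IsAlgSpace.yon_obj (S := S) V
  obtain ⟨hr, -⟩ := Groth.Agent.AlgSpPts.diagonal_package hF hY a
  have hP := isAlgSpace_pullback hF hF hY a a
  have hde : RepWith @Etale (pullback.diagonal a) := by
    refine repWith_of_locP hP hr (Groth.Agent.AlgSpPts.locP_of_comp'
      (Q := (@LocallyOfFiniteType ⊓ @FormallyUnramified : MorphismProperty Scheme.{u})) (fun b₁ b₂ hab hb => ?_) hF
      (g := pullback.fst a a) (by rw [pullback.diagonal_fst]; exact locP_of_repWith (repWith_of_isIso _ _))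
      (locP_of_isPullback (IsPullback.of_hasPullback a a).flip hF hY hF hu))
    obtain ⟨_, _⟩ := hb
    have h1 : Etale (pullback.lift (𝟙 _) b₁ (by simp) : _ ⟶ pullback (b₁ ≫ b₂) b₂) :=
      MorphismProperty.of_isPullback (pullback_lift_diagonal_isPullback b₁ b₂)
        (inferInstanceAs (Etale (pullback.diagonal b₂)))
    have h2 : Etale (pullback.snd (b₁ ≫ b₂) b₂) := MorphismProperty.pullback_snd _ _ hab
    have h3 := MorphismProperty.comp_mem (@Etale) _ _ h1 h2
    rwa [pullback.lift_snd] at h3
  let l : (yon S).obj V' ⟶ pullback a a := pullback.lift τ σ w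
  let W := hde.rep.pullback l
  let q : W ⟶ V' := hde.rep.snd l
  let r : (yon S).obj W ⟶ F := hde.rep.fst l
  have sq : IsPullback r ((yon S).map q) (pullback.diagonal a) l := hde.rep.isPullback l
  have hq : Etale q.left := hde.property_snd l
  have hm : Mono q := by
    have : Mono ((yon S).map q) :=
      MorphismProperty.of_isPullback (P := MorphismProperty.monomorphisms _) sq
        (MorphismProperty.monomorphisms.infer_property _)
    exact (yon S).mono_of_mono_map this
  have hs : Surjective q.left := ⟨fun v => by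
    let L : Type u := AlgebraicClosure (V'.left.residueField v)
    let c : Spec (CommRingCat.of L) ⟶ V'.left :=
      Spec.map (CommRingCat.ofHom (algebraMap (V'.left.residueField v) L)) ≫ V'.left.fromSpecResidueField v
    let k : Over.mk (c ≫ V'.hom) ⟶ V' := Over.homMk c rfl
    obtain ⟨k', hk'⟩ := (yon S).map_surjective (sq.lift ((yon S).map k ≫ τ) ((yon S).map k) (by
      apply pullback.hom_ext
      · simp [l]
      · simp [l, h L _ k]))
    have hkk : k' ≫ q = k := (yon S).map_injective (by rw [Functor.map_comp, hk', sq.lift_snd])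
    refine ⟨k'.left (IsLocalRing.closedPoint L), ?_⟩
    have h1 : q.left (k'.left (IsLocalRing.closedPoint L)) = c (IsLocalRing.closedPoint L) :=
      congrArg (fun (f : Over.mk (c ≫ V'.hom) ⟶ V') => f.left (IsLocalRing.closedPoint L)) hkk
    rw [h1]
    exact Set.mem_singleton_iff.1 ((Scheme.range_fromSpecResidueField v).subset ⟨_, rfl⟩)⟩
  have : IsIso q := isIso_of_etale_mono_surjective q hs.surj
  have hl : l = inv ((yon S).map q) ≫ r ≫ pullback.diagonal a := by
    rw [IsIso.eq_inv_comp]; exact sq.w.symm
  calc τ = l ≫ pullback.fst a a := (pullback.lift_fst _ _ _).symm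
    _ = inv ((yon S).map q) ≫ r := by rw [hl]; simp
    _ = l ≫ pullback.snd a a := by rw [hl]; simp
    _ = σ := pullback.lift_snd _ _ _

/-- Two points of an unramified separated space which agree at field points lying densely are equal. -/
theorem eq_of_eq_dense {F : Sp S} (hF : IsAlgSpace F) {V V' : Over S} {a : F ⟶ (yon S).obj V}
    (hu : LocP (@LocallyOfFiniteType ⊓ @FormallyUnramified) a) (hsep : IsSeparatedMor a)
    {τ σ : (yon S).obj V' ⟶ F} (w : τ ≫ a = σ ≫ a) {D : Set ↥V'.left} (hD : Dense D)
    (h : ∀ v ∈ D, ∃ (K : Type u) (_ : Field K) (str : Spec (CommRingCat.of K) ⟶ S) (k : Over.mk str ⟶ V'),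
      k.left (IsLocalRing.closedPoint K) = v ∧ (yon S).map k ≫ τ = (yon S).map k ≫ σ) : τ = σ := by
  have hY := IsAlgSpace.yon_obj (S := S) V
  obtain ⟨hr, -⟩ := Groth.Agent.AlgSpPts.diagonal_package hF hY a
  have hP := isAlgSpace_pullback hF hF hY a a
  have hde : RepWith @Etale (pullback.diagonal a) := by
    refine repWith_of_locP hP hr (Groth.Agent.AlgSpPts.locP_of_comp'
      (Q := (@LocallyOfFiniteType ⊓ @FormallyUnramified : MorphismProperty Scheme.{u})) (fun b₁ b₂ hab hb => ?_) hF
      (g := pullback.fst a a) (by rw [pullback.diagonal_fst]; exact locP_of_repWith (repWith_of_isIso _ _))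
      (locP_of_isPullback (IsPullback.of_hasPullback a a).flip hF hY hF hu))
    obtain ⟨_, _⟩ := hb
    have h1 : Etale (pullback.lift (𝟙 _) b₁ (by simp) : _ ⟶ pullback (b₁ ≫ b₂) b₂) :=
      MorphismProperty.of_isPullback (pullback_lift_diagonal_isPullback b₁ b₂)
        (inferInstanceAs (Etale (pullback.diagonal b₂)))
    have h2 : Etale (pullback.snd (b₁ ≫ b₂) b₂) := MorphismProperty.pullback_snd _ _ hab
    have h3 := MorphismProperty.comp_mem (@Etale) _ _ h1 h2
    rwa [pullback.lift_snd] at h3
  let l : (yon S).obj V' ⟶ pullback a a := pullback.lift τ σ w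
  let W := hde.rep.pullback l
  let q : W ⟶ V' := hde.rep.snd l
  let r : (yon S).obj W ⟶ F := hde.rep.fst l
  have sq : IsPullback r ((yon S).map q) (pullback.diagonal a) l := hde.rep.isPullback l
  have hq : Etale q.left := hde.property_snd l
  have hqc : IsClosedImmersion q.left :=
    (repWith_yon_map_iff _ q).1 (repWith_of_isPullback sq hsep)
  have hm : Mono q := by
    have : Mono ((yon S).map q) :=
      MorphismProperty.of_isPullback (P := MorphismProperty.monomorphisms _) sq
        (MorphismProperty.monomorphisms.infer_property _)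
    exact (yon S).mono_of_mono_map this
  have hsub : D ⊆ Set.range q.left := by
    intro v hv
    obtain ⟨K, _, str, k, rfl, hk⟩ := h v hv
    obtain ⟨k', hk'⟩ := (yon S).map_surjective (sq.lift ((yon S).map k ≫ τ) ((yon S).map k) (by
      apply pullback.hom_ext
      · simp [l]
      · simp [l, hk]))
    have hkk : k' ≫ q = k := (yon S).map_injective (by rw [Functor.map_comp, hk', sq.lift_snd])
    exact ⟨k'.left (IsLocalRing.closedPoint K),
      congrArg (fun (f : Over.mk str ⟶ V') => f.left (IsLocalRing.closedPoint K)) hkk⟩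
  have hcl : IsClosed (Set.range q.left) := q.left.isClosedEmbedding.isClosed_range
  have : IsIso q := isIso_of_etale_mono_surjective q fun v =>
    (hD.mono hsub).closure_eq ▸ (closure_minimal subset_rfl hcl) |> fun hh => hh (Set.mem_univ v)
  have hl : l = inv ((yon S).map q) ≫ r ≫ pullback.diagonal a := by
    rw [IsIso.eq_inv_comp]; exact sq.w.symm
  calc τ = l ≫ pullback.fst a a := (pullback.lift_fst _ _ _).symm
    _ = inv ((yon S).map q) ≫ r := by rw [hl]; simp
    _ = l ≫ pullback.snd a a := by rw [hl]; simp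
    _ = σ := pullback.lift_snd _ _ _

end Groth.Agent.AlgSpDec
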