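import Groth.Agent.AlgSpDec.UHExtend

/-!
# Spaces etale over the source of a universal homeomorphism descend
-/

set_option backward.isDefEq.respectTransparency false
set_option backward.isDefEq.respectTransparency.types false

universe u

open CategoryTheory CategoryTheory.Limits AlgebraicGeometry Opposite AlgSp
open Groth.Agent.AlgSpLib Groth.Agent.AlgSpLib.EtLift

namespace Groth.Agent.AlgSpDec.UHEquiv

variable {S : Scheme.{u}} {X Y V : Sp S} {f : X ⟶ Y}

section rel

variable {W W' : Over S} (a' : (yon S).obj W' ⟶ Y) (γ : W ⟶ W') (pW : (yon S).obj W ⟶ X)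
  (w : (yon S).obj W ⟶ V)

/-- two points of the descended chart give the same point of the descended space -/
structure Rel {T : Over S} (x y : T ⟶ W') : Prop where
  base : (yon S).map x ≫ a' = (yon S).map y ≫ a'
  eqv : ∀ {Z : Over S} (c : Z ⟶ T) (zx zy : Z ⟶ W), zx ≫ γ = c ≫ x → zy ≫ γ = c ≫ y →
    (yon S).map zx ≫ pW = (yon S).map zy ≫ pW → (yon S).map zx ≫ w = (yon S).map zy ≫ w

variable {a' γ pW w}

theorem rel_equivalence (sq : IsPullback pW ((yon S).map γ) f a') (T : Over S) :
    _root_.Equivalence (fun x y : T ⟶ W' => Rel a' γ pW w x y) := by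
  refine ⟨fun x => ⟨rfl, fun c zx zy hx hy h => ?_⟩,
    fun h => ⟨h.base.symm, fun c zx zy hx hy e => (h.eqv c zy zx hy hx e.symm).symm⟩, fun {x y z} h h' => ?_⟩
  · rw [(yon S).map_injective (show (yon S).map zx = (yon S).map zy from
      sq.hom_ext h (by rw [← Functor.map_comp, ← Functor.map_comp, hx, hy]))]
  · refine ⟨h.base.trans h'.base, fun {Z} c zx zz hx hz e => ?_⟩
    obtain ⟨zy, hy₁, hy₂⟩ := sq.exists_lift ((yon S).map zx ≫ pW) ((yon S).map (c ≫ y)) (by
      rw [Category.assoc, sq.w, ← Category.assoc, ← Functor.map_comp, hx, Functor.map_comp, Functor.map_comp,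
        Category.assoc, Category.assoc, h.base])
    obtain ⟨zy, rfl⟩ := (yon S).map_surjective zy
    have hy : zy ≫ γ = c ≫ y := (yon S).map_injective (by rw [Functor.map_comp, hy₂])
    exact (h.eqv c zx zy hx hy hy₁.symm).trans (h'.eqv c zy zz hy hz (hy₁.trans e))

end rel

/-- A space etale over the source of a universal homeomorphism is a base change. -/
theorem exists_descend (hX : IsAlgSpace X) (hY : IsAlgSpace Y) (hV : IsAlgSpace V)
    (hi : RepWith @IsIntegralHom f) (hu : RepWith @UniversallyInjective f) (hs : RepWith @Surjective f)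
    {b : V ⟶ X} (hb : IsEtaleMor b) :
    ∃ (V' : Sp S) (_ : IsAlgSpace V') (b' : V' ⟶ Y) (c : V ⟶ V'), IsEtaleMor b' ∧ IsPullback b c f b' := by
  obtain ⟨V₀', a, ha, has⟩ := hY.atlas
  let V₀ := hi.rep.pullback a
  let c₀ : V₀ ⟶ V₀' := hi.rep.snd a
  let aX : (yon S).obj V₀ ⟶ X := hi.rep.fst a
  have sqV : IsPullback aX ((yon S).map c₀) f a := hi.rep.isPullback a
  have hc₀ : IsUH c₀ := isUH_snd hi hu hs a
  let Vb := pullback b aX
  have hVb : IsAlgSpace Vb := isAlgSpace_pullback hV (IsAlgSpace.yon_obj V₀) hX b aX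
  obtain ⟨W, al, hal, hals⟩ := hVb.atlas
  obtain ⟨wV₀, hwV₀⟩ := (yon S).map_surjective (al ≫ pullback.snd b aX)
  have hwe₀ : Etale wV₀.left := (repWith_yon_map_iff _ _).1 (hwV₀ ▸
    isEtaleMor_of_isPullback (IsPullback.of_hasPullback b aX) hV hX (IsAlgSpace.yon_obj V₀) hb al hal)
  let w : (yon S).obj W ⟶ V := al ≫ pullback.fst b aX
  have hwe : RepWith @Etale w :=
    repWith_comp hal (repWith_of_isPullback (IsPullback.of_hasPullback b aX).flip (repWith_of_isPullback sqV.flip ha))
  have hws : RepWith @Surjective w :=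
    repWith_comp hals (repWith_of_isPullback (IsPullback.of_hasPullback b aX).flip (repWith_of_isPullback sqV.flip has))
  let pW : (yon S).obj W ⟶ X := w ≫ b
  have hpW : pW = (yon S).map wV₀ ≫ aX := by
    rw [hwV₀]; simp only [pW, w, Category.assoc, pullback.condition]
  obtain ⟨W', w', γ, hw'e, sqγ, sqγ0, hγ⟩ := exists_etale_ext c₀ hc₀ wV₀ hwe₀
  let a' : (yon S).obj W' ⟶ Y := (yon S).map w' ≫ a
  have ha' : RepWith @Etale a' := repWith_comp ((repWith_yon_map_iff _ _).2 hw'e) ha
  have sqW : IsPullback pW ((yon S).map γ) f a' := by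
    rw [hpW]
    exact (sqγ.map (yon S)).flip.paste_horiz sqV
  -- the kernel pair upstairs
  let R := hwe.rep.pullback w
  let r₁ : R ⟶ W := hwe.rep.fst' w
  let r₂ : R ⟶ W := hwe.rep.snd w
  have sqR : IsPullback ((yon S).map r₁) ((yon S).map r₂) w w := hwe.rep.isPullback' w
  -- the kernel pair downstairs
  let P := ha'.rep.pullback a'
  let t' : P ⟶ W' := ha'.rep.fst' a'
  let s' : P ⟶ W' := ha'.rep.snd a'
  have sqP : IsPullback ((yon S).map t') ((yon S).map s') a' a' := ha'.rep.isPullback' a'
  have : Etale s'.left := ha'.property _ _ _ sqP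
  have : Etale t'.left := ha'.property _ _ _ sqP.flip
  -- the locus upstairs where the two projections agree in `V`
  let gP : (yon S).obj P ⟶ Y := (yon S).map t' ≫ a'
  have sqZ := hi.rep.isPullback gP
  let cP := hi.rep.snd gP
  have hcP : IsUH cP := isUH_snd hi hu hs gP
  obtain ⟨zt, hzt₁, hzt₂⟩ := sqW.exists_lift (hi.rep.fst gP) ((yon S).map (cP ≫ t')) (by
    rw [sqZ.w, Functor.map_comp, Category.assoc])
  obtain ⟨zs, hzs₁, hzs₂⟩ := sqW.exists_lift (hi.rep.fst gP) ((yon S).map (cP ≫ s')) (by
    rw [sqZ.w, Functor.map_comp, Category.assoc, ← sqP.w])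
  obtain ⟨zt, rfl⟩ := (yon S).map_surjective zt
  obtain ⟨zs, rfl⟩ := (yon S).map_surjective zs
  obtain ⟨E, e, he, he', hlift⟩ := exists_equalizer hV hX hb ((yon S).map zt ≫ w) ((yon S).map zs ≫ w)
    (by rw [Category.assoc, Category.assoc]; exact hzt₁.trans hzs₁.symm)
  have hbij : Function.Bijective cP.left := by
    have := hcP.inj
    have := hcP.surj
    exact ⟨cP.left.injective, cP.left.surjective⟩
  let O : P.left.Opens := ⟨cP.left '' Set.range e.left, by
    have := hcP.integral
    rw [← isClosed_compl_iff, ← Set.image_compl_eq hbij]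
    exact cP.left.isClosedMap _ he.isOpen_range.isClosed_compl⟩
  have hO : ∀ {T : Over S} (m : T ⟶ P), (∀ τ, m.left τ ∈ O) ↔ Rel a' γ pW w (m ≫ t') (m ≫ s') := by
    intro T m
    have hbase : (yon S).map (m ≫ t') ≫ a' = (yon S).map (m ≫ s') ≫ a' := by
      rw [Functor.map_comp, Functor.map_comp, Category.assoc, Category.assoc, sqP.w]
    constructor
    · refine fun hm => ⟨hbase, fun {Z} c zx zy hx hy h => ?_⟩
      obtain ⟨q, hq₁, hq₂⟩ := sqZ.exists_lift ((yon S).map zx ≫ pW) ((yon S).map (c ≫ m)) (by
        rw [Category.assoc, sqW.w, ← Category.assoc, ← Functor.map_comp, hx]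
        simp only [gP, Functor.map_comp, Category.assoc])
      obtain ⟨q, rfl⟩ := (yon S).map_surjective q
      have hq₂' : q ≫ cP = c ≫ m := (yon S).map_injective (by rw [Functor.map_comp]; exact hq₂)
      have hqx : q ≫ zt = zx := (yon S).map_injective (sqW.hom_ext
        (by rw [Functor.map_comp, Category.assoc, hzt₁, hq₁])
        (by rw [Functor.map_comp, Category.assoc, hzt₂, ← Functor.map_comp, ← Functor.map_comp, ← Category.assoc q,
          hq₂', Category.assoc, hx]))
      have hqy : q ≫ zs = zy := (yon S).map_injective (sqW.hom_ext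
        (by rw [Functor.map_comp, Category.assoc, hzs₁, hq₁, h])
        (by rw [Functor.map_comp, Category.assoc, hzs₂, ← Functor.map_comp, ← Functor.map_comp, ← Category.assoc q,
          hq₂', Category.assoc, hy]))
      have hr : Set.range q.left ⊆ Set.range e.left := by
        rintro _ ⟨ζ, rfl⟩
        obtain ⟨y, hy, hye⟩ := hm (c.left ζ)
        rw [← Scheme.Hom.comp_apply, ← Over.comp_left, ← hq₂', Over.comp_left, Scheme.Hom.comp_apply] at hye
        exact hbij.1 hye ▸ hy
      let q' : Z ⟶ E := CategoryTheory.Over.homMk (IsOpenImmersion.lift e.left q.left hr) (by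
        rw [← Over.w e, IsOpenImmersion.lift_fac_assoc]
        exact Over.w q)
      have hq' : q' ≫ e = q := Over.OverMorphism.ext (IsOpenImmersion.lift_fac _ _ _)
      simp only [← hqx, ← hqy, ← hq', Functor.map_comp, Category.assoc]
      exact congrArg (_ ≫ ·) he'
    · intro hm τ
      let gT : (yon S).obj T ⟶ Y := (yon S).map m ≫ gP
      have hcT := isUH_snd hi hu hs gT
      obtain ⟨q, hq₁, hq₂⟩ := sqZ.exists_lift (hi.rep.fst gT) ((yon S).map (hi.rep.snd gT ≫ m)) (by
        rw [(hi.rep.isPullback gT).w, Functor.map_comp, Category.assoc])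
      obtain ⟨q, rfl⟩ := (yon S).map_surjective q
      have hq₂' : q ≫ cP = hi.rep.snd gT ≫ m := (yon S).map_injective (by rw [Functor.map_comp]; exact hq₂)
      have key := hm.eqv (hi.rep.snd gT) (q ≫ zt) (q ≫ zs)
        (by
          refine (yon S).map_injective ?_
          rw [Functor.map_comp, Functor.map_comp, Category.assoc, hzt₂, ← Functor.map_comp, ← Category.assoc q,
            hq₂', Category.assoc])
        (by
          refine (yon S).map_injective ?_
          rw [Functor.map_comp, Functor.map_comp, Category.assoc, hzs₂, ← Functor.map_comp, ← Category.assoc q,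
            hq₂', Category.assoc])
        (by rw [Functor.map_comp, Functor.map_comp, Category.assoc, Category.assoc, hzt₁, hzs₁])
      rw [Functor.map_comp, Functor.map_comp, Category.assoc, Category.assoc] at key
      obtain ⟨z', hz'⟩ := hlift q key
      obtain ⟨ζ, hζ⟩ := hcT.surj.surj τ
      refine ⟨q.left ζ, ⟨z'.left ζ, by rw [← Scheme.Hom.comp_apply, ← Over.comp_left, hz']⟩, ?_⟩
      rw [← hζ, ← Scheme.Hom.comp_apply, ← Scheme.Hom.comp_apply, ← Over.comp_left, ← Over.comp_left, hq₂']
  -- the equivalence relation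
  let R' : Over S := CategoryTheory.Over.mk (O.ι ≫ P.hom)
  let ι : R' ⟶ P := CategoryTheory.Over.homMk O.ι rfl
  let t : R' ⟶ W' := ι ≫ t'
  let s : R' ⟶ W' := ι ≫ s'
  have hιmem : ∀ {T : Over S} (y : T ⟶ R') v, (y ≫ ι).left v ∈ O := fun y v => by
    rw [Over.comp_left, Scheme.Hom.comp_apply]
    exact (y.left v).2
  have hrel : ∀ {T : Over S} (x y : T ⟶ W'), (∃ r : T ⟶ R', r ≫ t = x ∧ r ≫ s = y) ↔ Rel a' γ pW w x y := by
    intro T x y
    constructor
    · rintro ⟨r, rfl, rfl⟩
      have := (hO (r ≫ ι)).1 (hιmem r)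
      simpa only [t, s, Category.assoc] using this
    · intro h
      obtain ⟨m, hm₁, hm₂⟩ := exists_pair_lift sqP x y h.base
      obtain ⟨r, hr⟩ := EtLift.exists_factor_open O m ((hO m).2 (by rw [hm₁, hm₂]; exact h))
      exact ⟨r, by rw [← Category.assoc, hr, hm₁], by rw [← Category.assoc, hr, hm₂]⟩
  have hR : IsEqvRel s t := by
    refine { injective := fun T x y h1 h2 => ?_, equivalence := fun T => ?_ }
    · have e : x ≫ ι = y ≫ ι := (yon S).map_injective (sqP.hom_ext
        (by rw [← Functor.map_comp, ← Functor.map_comp]; exact congrArg (yon S).map (by simpa [t] using h1))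
        (by rw [← Functor.map_comp, ← Functor.map_comp]; exact congrArg (yon S).map (by simpa [s] using h2)))
      exact Over.OverMorphism.ext ((cancel_mono O.ι).1 (congrArg (fun k => k.left) e))
    · have h := rel_equivalence (w := w) sqW T
      exact ⟨fun x => (hrel x x).2 (h.refl x), fun hxy => (hrel _ _).2 (h.symm ((hrel _ _).1 hxy)),
        fun hxy hyz => (hrel _ _).2 (h.trans ((hrel _ _).1 hxy) ((hrel _ _).1 hyz))⟩
  have : Etale s.left := inferInstanceAs (Etale (O.ι ≫ s'.left))
  have : Etale t.left := inferInstanceAs (Etale (O.ι ≫ t'.left))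
  -- the quotient
  obtain ⟨π, hπdef⟩ : ∃ π : (yon S).obj W' ⟶ QuotSh.quot Scheme.fppfPrecoverage s t,
      π = AlgSpPts.quotMap s t := ⟨_, rfl⟩
  have sqπ : IsPullback ((yon S).map t) ((yon S).map s) π π := by
    rw [hπdef]
    exact AlgSpPts.isPullback_quotMap hR
  have : Sheaf.IsLocallySurjective π := by
    rw [hπdef]
    have : Epi (QuotSh.quotπ Scheme.fppfPrecoverage s t) := by
      unfold QuotSh.quotπ
      infer_instance
    exact (CategoryTheory.Sheaf.isLocallySurjective_iff_epi _).2 (epi_comp _ _)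
  have hV' : IsAlgSpace (QuotSh.quot Scheme.fppfPrecoverage s t) := AlgSpDec.isAlgSpace_quot hR
  have hπr : Representable π := AlgSpDec.representable_of_kernelPair sqπ
  have hss : Surjective s.left := ⟨fun v => by
    obtain ⟨r, -, hr⟩ := (hR.equivalence W').refl (𝟙 W')
    exact ⟨r.left v, by rw [← Scheme.Hom.comp_apply, ← Over.comp_left, hr]; simp⟩⟩
  have := AlgSpPts.isLocalAtTarget_fppf (@Etale : MorphismProperty Scheme.{u})
  have := AlgSpPts.isLocalAtTarget_fppf (@Surjective : MorphismProperty Scheme.{u})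
  have hπe : RepWith @Etale π :=
    AlgSpPts.repWith_of_locallySurjective hπr _ sqπ @Etale ((repWith_yon_map_iff _ _).2 ‹Etale s.left›)
  have hπs : RepWith @Surjective π :=
    AlgSpPts.repWith_of_locallySurjective hπr _ sqπ @Surjective ((repWith_yon_map_iff _ _).2 hss)
  obtain ⟨b', hb'⟩ : ∃ b' : QuotSh.quot Scheme.fppfPrecoverage s t ⟶ Y, π ≫ b' = a' :=
    let r := Cofork.IsColimit.desc' (isColimitOfAtlas hπe hπs sqπ) a' (by
      simp only [t, s, Functor.map_comp, Category.assoc, sqP.w])
    ⟨r.1, r.2⟩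
  have hb'e : IsEtaleMor b' := (isEtaleMor_iff_locP hV' hY b').2 (locP_of_chart hπe hπs ha'
    (show π ≫ b' = (yon S).map (𝟙 W') ≫ a' by rw [hb', CategoryTheory.Functor.map_id, Category.id_comp])
    (inferInstanceAs (Etale (𝟙 W'.left))))
  -- comparison with `V`
  let Q := pullback f b'
  let j : (yon S).obj W ⟶ Q := pullback.lift pW ((yon S).map γ ≫ π) (by rw [sqW.w, Category.assoc, hb'])
  have sqj : IsPullback ((yon S).map γ) j π (pullback.snd f b') := by
    refine IsPullback.of_bot (v₂₁ := pullback.fst f b') (v₂₂ := b') (h₃₁ := f) ?_ (pullback.lift_snd _ _ _).symm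
      (IsPullback.of_hasPullback f b').flip
    rw [pullback.lift_fst, hb']
    exact sqW.flip
  have hje : RepWith @Etale j := repWith_of_isPullback sqj hπe
  have hjs : RepWith @Surjective j := repWith_of_isPullback sqj hπs
  -- one relation is the other
  have hk : ∀ {T : Over S} (x y : T ⟶ W),
      (yon S).map x ≫ j = (yon S).map y ≫ j ↔ (yon S).map x ≫ w = (yon S).map y ≫ w := by
    intro T x y
    constructor
    · intro h
      have h1 : (yon S).map x ≫ pW = (yon S).map y ≫ pW := by simpa [j] using h =≫ pullback.fst f b'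
      have h2 : (yon S).map (x ≫ γ) ≫ π = (yon S).map (y ≫ γ) ≫ π := by
        simpa [j] using h =≫ pullback.snd f b'
      exact ((hrel _ _).1 (exists_pair_lift sqπ _ _ h2)).eqv (𝟙 T) x y (Category.id_comp _).symm
        (Category.id_comp _).symm h1
    · intro h
      have hp : (yon S).map x ≫ pW = (yon S).map y ≫ pW := by
        simp only [pW, ← Category.assoc, h]
      have hbase : (yon S).map (x ≫ γ) ≫ a' = (yon S).map (y ≫ γ) ≫ a' := by
        simpa only [Functor.map_comp, Category.assoc, ← sqW.w] using congrArg (· ≫ f) hp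
      obtain ⟨r, hr₁, hr₂⟩ := (hrel (x ≫ γ) (y ≫ γ)).2 ⟨hbase, fun {Z} c zx zy hx hy e => by
        -- pull back along the section given by the point of `X`
        let gT : (yon S).obj T ⟶ Y := (yon S).map (x ≫ γ) ≫ a'
        obtain ⟨δ, hδ₁, hδ₂⟩ := (hi.rep.isPullback gT).exists_lift ((yon S).map x ≫ pW) ((yon S).map (𝟙 T)) (by
          simp only [gT, Category.assoc, sqW.w, Functor.map_comp, CategoryTheory.Functor.map_id, Category.id_comp])
        obtain ⟨δ, rfl⟩ := (yon S).map_surjective δ
        have hδ₂' : δ ≫ hi.rep.snd gT = 𝟙 T := (yon S).map_injective (by rw [Functor.map_comp]; exact hδ₂)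
        obtain ⟨q, hq₁, hq₂⟩ := (hi.rep.isPullback gT).exists_lift ((yon S).map zx ≫ pW) ((yon S).map c) (by
          rw [Category.assoc, sqW.w, ← Category.assoc, ← Functor.map_comp, hx]
          simp only [gT, Functor.map_comp, Category.assoc])
        obtain ⟨q, rfl⟩ := (yon S).map_surjective q
        have hq₂' : q ≫ hi.rep.snd gT = c := (yon S).map_injective (by rw [Functor.map_comp]; exact hq₂)
        have hδs : Surjective δ.left := ⟨fun z => by
          have := (isUH_snd hi hu hs gT).inj
          refine ⟨(hi.rep.snd gT).left z, (hi.rep.snd gT).left.injective ?_⟩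
          rw [← Scheme.Hom.comp_apply, ← Over.comp_left, hδ₂']
          simp⟩
        have sqd : IsPullback (pullback.fst q δ).left (pullback.snd q δ).left q.left δ.left :=
          (IsPullback.of_hasPullback q δ).map (Over.forget S)
        let k := pullback.snd q δ
        have hd : pullback.fst q δ ≫ c = k := by
          rw [← hq₂', ← Category.assoc, pullback.condition, Category.assoc, hδ₂', Category.comp_id]
        have hdx : (yon S).map (pullback.fst q δ ≫ zx) ≫ pW = (yon S).map (k ≫ x) ≫ pW := by
          rw [Functor.map_comp, Category.assoc, ← hq₁, ← Category.assoc, ← Functor.map_comp, pullback.condition,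
            Functor.map_comp, Category.assoc, hδ₁, ← Category.assoc, ← Functor.map_comp]
        have e₁ : pullback.fst q δ ≫ zx = k ≫ x := (yon S).map_injective (sqW.hom_ext hdx
          (by rw [← Functor.map_comp, ← Functor.map_comp, Category.assoc, hx, ← Category.assoc, hd, Category.assoc]))
        have e₂ : pullback.fst q δ ≫ zy = k ≫ y := (yon S).map_injective (sqW.hom_ext
          (by
            have hz : (yon S).map (pullback.fst q δ ≫ zy) ≫ pW = (yon S).map (pullback.fst q δ ≫ zx) ≫ pW := by
              rw [Functor.map_comp, Functor.map_comp, Category.assoc, Category.assoc, e]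
            rw [hz, hdx, Functor.map_comp, Functor.map_comp, Category.assoc, Category.assoc, hp])
          (by rw [← Functor.map_comp, ← Functor.map_comp, Category.assoc, hy, ← Category.assoc, hd, Category.assoc]))
        refine hom_ext_of_surjective hV hX hb (pullback.fst q δ)
          (MorphismProperty.of_isPullback (P := @Surjective) sqd.flip hδs) (by simpa [pW] using e) ?_
        rw [← Functor.map_comp_assoc, ← Functor.map_comp_assoc, e₁, e₂, Functor.map_comp, Functor.map_comp,
          Category.assoc, Category.assoc, h]⟩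
      apply pullback.hom_ext
      · simpa [j] using hp
      · simp only [j, Category.assoc, pullback.lift_snd]
        rw [← Functor.map_comp_assoc, ← Functor.map_comp_assoc, ← hr₁, ← hr₂, Functor.map_comp _ r t,
          Functor.map_comp _ r s, Category.assoc, Category.assoc, sqπ.w]
  let R₂ := hje.rep.pullback j
  let u₁ : R₂ ⟶ W := hje.rep.fst' j
  let u₂ : R₂ ⟶ W := hje.rep.snd j
  have sqR₂ : IsPullback ((yon S).map u₁) ((yon S).map u₂) j j := hje.rep.isPullback' j
  obtain ⟨l, hl₁, hl₂⟩ := exists_pair_lift sqR₂ r₁ r₂ ((hk r₁ r₂).2 sqR.w)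
  obtain ⟨l', hl₁', hl₂'⟩ := exists_pair_lift sqR u₁ u₂ ((hk u₁ u₂).1 sqR₂.w)
  have e₁ : l ≫ l' = 𝟙 R := (yon S).map_injective (sqR.hom_ext
    (by rw [← Functor.map_comp, ← Functor.map_comp, Category.assoc, hl₁', hl₁, Category.id_comp])
    (by rw [← Functor.map_comp, ← Functor.map_comp, Category.assoc, hl₂', hl₂, Category.id_comp]))
  have e₂ : l' ≫ l = 𝟙 R₂ := (yon S).map_injective (sqR₂.hom_ext
    (by rw [← Functor.map_comp, ← Functor.map_comp, Category.assoc, hl₁, hl₁', Category.id_comp])
    (by rw [← Functor.map_comp, ← Functor.map_comp, Category.assoc, hl₂, hl₂', Category.id_comp]))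
  have sqj' : IsPullback ((yon S).map r₁) ((yon S).map r₂) j j :=
    sqR₂.of_iso ((yon S).mapIso ⟨l', l, e₂, e₁⟩) (Iso.refl _) (Iso.refl _) (Iso.refl _)
      (by simp [← Functor.map_comp, hl₁']) (by simp [← Functor.map_comp, hl₂']) (by simp) (by simp)
  let c₁ := isColimitOfAtlas hwe hws sqR
  let ε : V ≅ Q := c₁.coconePointUniqueUpToIso (isColimitOfAtlas hje hjs sqj')
  have hε : w ≫ ε.hom = j :=
    c₁.comp_coconePointUniqueUpToIso_hom (isColimitOfAtlas hje hjs sqj') WalkingParallelPair.one
  have : Epi w := AlgSpLib.epi_of_etale_surjective hwe hws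
  have hεb : ε.hom ≫ pullback.fst f b' = b := by
    rw [← cancel_epi w, ← Category.assoc, hε, pullback.lift_fst]
  refine ⟨_, hV', b', ε.hom ≫ pullback.snd f b', hb'e, ?_⟩
  exact (IsPullback.of_hasPullback f b').of_iso ε.symm (Iso.refl _) (Iso.refl _) (Iso.refl _)
    (by simp [← hεb]) (by simp) (by simp) (by simp)

end Groth.Agent.AlgSpDec.UHEquiv
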