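import Groth.Agent.AlgSpLib.EtTopInv
import Groth.Agent.AlgSpLib.EtLift
import Groth.Agent.AlgSpLib.EtaleSmoothLocal
import Groth.Agent.S0075

/-!
# Sections of etale spaces extend along universal homeomorphisms
-/

set_option backward.isDefEq.respectTransparency false
set_option backward.isDefEq.respectTransparency.types false

universe u

open CategoryTheory CategoryTheory.Limits AlgebraicGeometry Opposite AlgSp
open Groth.Agent.AlgSpLib Groth.Agent.AlgSpLib.EtLift

namespace Groth.Agent.AlgSpDec.UHEquiv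

variable {S : Scheme.{u}}

/-- an integral universally injective surjective morphism -/
structure IsUH {Z T : Over S} (c : Z ⟶ T) : Prop where
  integral : IsIntegralHom c.left
  inj : UniversallyInjective c.left
  surj : Surjective c.left

theorem IsUH.of_isPullback {Z T Z' T' : Over S} {c : Z ⟶ T} {a : Z' ⟶ Z} {c' : Z' ⟶ T'} {b : T' ⟶ T}
    (sq : IsPullback a.left c'.left c.left b.left) (hc : IsUH c) : IsUH c' :=
  ⟨MorphismProperty.of_isPullback (P := @IsIntegralHom) sq hc.integral,
    MorphismProperty.of_isPullback (P := @UniversallyInjective) sq hc.inj,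
    MorphismProperty.of_isPullback (P := @Surjective) sq hc.surj⟩

theorem isUH_snd {X Y : Sp S} {f : X ⟶ Y} (hi : RepWith @IsIntegralHom f) (hu : RepWith @UniversallyInjective f)
    (hs : RepWith @Surjective f) {T : Over S} (g : (yon S).obj T ⟶ Y) : IsUH (hi.rep.snd g) :=
  ⟨hi.property_snd g, hu.property _ _ _ (hi.rep.isPullback g), hs.property _ _ _ (hi.rep.isPullback g)⟩

theorem isEtaleMor_id {F : Sp S} : IsEtaleMor (𝟙 F) := fun _ φ h => by simpa using h

/-- Two maps into a space etale over `G`, equal over `G`, agree on an open subscheme through which the maps on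
which they agree factor. -/
theorem exists_equalizer {P G : Sp S} (hP : IsAlgSpace P) (hG : IsAlgSpace G) {π : P ⟶ G} (hπ : IsEtaleMor π)
    {T : Over S} (g₁ g₂ : (yon S).obj T ⟶ P) (hg : g₁ ≫ π = g₂ ≫ π) :
    ∃ (E : Over S) (e : E ⟶ T), IsOpenImmersion e.left ∧ (yon S).map e ≫ g₁ = (yon S).map e ≫ g₂ ∧
      ∀ {Z : Over S} (z : Z ⟶ T), (yon S).map z ≫ g₁ = (yon S).map z ≫ g₂ → ∃ z' : Z ⟶ E, z' ≫ e = z := by
  have hQ : IsAlgSpace (pullback π π) := isAlgSpace_pullback hP hP hG π π
  have hfst : IsEtaleMor (pullback.fst π π) :=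
    isEtaleMor_of_isPullback (IsPullback.of_hasPullback π π).flip hP hG hP hπ
  have hδ : IsEtaleMor (pullback.diagonal π) :=
    isEtaleMor_of_comp hP hQ hP (by rw [pullback.diagonal_fst]; exact isEtaleMor_id) hfst
  have hr : Representable (pullback.diagonal π) := representable_diagonal hP π
  let l : (yon S).obj T ⟶ pullback π π := pullback.lift g₁ g₂ hg
  have sq := hr.isPullback l
  have he : Etale (hr.snd l).left :=
    (isEtaleMor_yon_map_iff _).1 (isEtaleMor_of_isPullback sq hP hQ (IsAlgSpace.yon_obj T) hδ)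
  have hm : Mono ((yon S).map (hr.snd l)) :=
    MorphismProperty.of_isPullback (P := MorphismProperty.monomorphisms (Sp S)) sq
      (inferInstanceAs (Mono (pullback.diagonal π)))
  have : Mono (hr.snd l) := (yon S).mono_of_mono_map hm
  have : Mono (hr.snd l).left := inferInstance
  have h1 : (yon S).map (hr.snd l) ≫ g₁ = hr.fst l := by
    have := sq.w.symm =≫ pullback.fst π π
    simpa [l, Category.assoc] using this
  have h2 : (yon S).map (hr.snd l) ≫ g₂ = hr.fst l := by
    have := sq.w.symm =≫ pullback.snd π π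
    simpa [l, Category.assoc] using this
  refine ⟨_, hr.snd l, IsOpenImmersion.of_flat_of_mono _, h1.trans h2.symm, fun {Z} z hz => ?_⟩
  obtain ⟨z', -, hz'⟩ := sq.exists_lift ((yon S).map z ≫ g₁) ((yon S).map z) (by
    apply pullback.hom_ext
    · simp [l]
    · simp only [Category.assoc, pullback.diagonal_snd, Category.comp_id, l, pullback.lift_snd]
      exact hz)
  obtain ⟨z', rfl⟩ := (yon S).map_surjective z'
  exact ⟨z', (yon S).map_injective (by rw [Functor.map_comp, hz'])⟩

/-- maps into an etale space are determined by a surjection -/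
theorem hom_ext_of_surjective {P G : Sp S} (hP : IsAlgSpace P) (hG : IsAlgSpace G) {π : P ⟶ G}
    (hπ : IsEtaleMor π) {Z T : Over S} (c : Z ⟶ T) (hc : Surjective c.left)
    {g₁ g₂ : (yon S).obj T ⟶ P} (hg : g₁ ≫ π = g₂ ≫ π)
    (h : (yon S).map c ≫ g₁ = (yon S).map c ≫ g₂) : g₁ = g₂ := by
  obtain ⟨E, e, he, h12, hlift⟩ := exists_equalizer hP hG hπ g₁ g₂ hg
  obtain ⟨z', hz'⟩ := hlift c h
  have : Surjective e.left := ⟨fun t => by
    obtain ⟨z, rfl⟩ := hc.surj t
    exact ⟨z'.left z, by rw [← Scheme.Hom.comp_apply, ← Over.comp_left, hz']⟩⟩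
  have : IsIso e.left := (isIso_iff_isOpenImmersion_and_surjective _).2 ⟨he, ‹_›⟩
  have : IsIso ((CategoryTheory.Over.forget S).map e) := ‹IsIso e.left›
  have : IsIso e := isIso_of_reflects_iso e (CategoryTheory.Over.forget S)
  exact (cancel_epi ((yon S).map e)).1 h12

/-- etale schemes extend along universal homeomorphisms -/
theorem exists_etale_ext {Z T : Over S} (c : Z ⟶ T) (hc : IsUH c) {W : Over S} (q : W ⟶ Z) (hq : Etale q.left) :
    ∃ (B : Over S) (v : B ⟶ T) (cB : W ⟶ B),
      Etale v.left ∧ IsPullback cB q v c ∧ IsPullback cB.left q.left v.left c.left ∧ IsUH cB := by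
  haveI := hc.integral
  haveI := hc.inj
  haveI := hc.surj
  have := Groth.Agent.S0075.result c.left
  let Wet : Z.left.Etale := { toComma := CategoryTheory.Over.mk q.left, prop := hq }
  let Bet := (EtCoh.bc c.left).objPreimage Wet
  let θ : (EtCoh.bc c.left).obj Bet ≅ Wet := (EtCoh.bc c.left).objObjPreimageIso Wet
  let θi := θ.inv.left
  have : IsIso θi := ⟨θ.hom.left, congrArg (fun k => k.left) θ.inv_hom_id, congrArg (fun k => k.left) θ.hom_inv_id⟩
  have hθw : θi ≫ pullback.snd Bet.hom c.left = q.left := MorphismProperty.Over.w θ.inv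
  let B : Over S := CategoryTheory.Over.mk (Bet.hom ≫ T.hom)
  let v : B ⟶ T := CategoryTheory.Over.homMk Bet.hom rfl
  let cB : W ⟶ B := CategoryTheory.Over.homMk (θi ≫ pullback.fst Bet.hom c.left) (by
    show (θi ≫ _) ≫ Bet.hom ≫ T.hom = W.hom
    rw [Category.assoc, pullback.condition_assoc, ← Category.assoc, hθw, ← Over.w q, ← Over.w c])
  have sq0 : IsPullback cB.left q.left v.left c.left :=
    (IsPullback.of_hasPullback Bet.hom c.left).of_iso (asIso θi).symm (Iso.refl _) (Iso.refl _) (Iso.refl _)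
      (by simp [cB]) (by simp [← hθw]) (by simp [v]) (by simp)
  exact ⟨B, v, cB, Bet.prop, IsPullback.of_map (Over.forget S) (Over.OverMorphism.ext sq0.w) sq0, sq0,
    hc.of_isPullback sq0.flip⟩

/-- maps into etale schemes extend along universal homeomorphisms -/
theorem exists_extend_sch {A B T Zb : Over S} (m : A ⟶ T) (hm : Etale m.left) (v : B ⟶ T) (cB : Zb ⟶ B)
    (hc : IsUH cB) (k : Zb ⟶ A) (hk : k ≫ m = cB ≫ v) : ∃ φ : B ⟶ A, φ ≫ m = v ∧ cB ≫ φ = k := by
  haveI := hc.integral
  haveI := hc.inj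
  haveI := hc.surj
  have sq : IsPullback (pullback.fst m v).left (pullback.snd m v).left m.left v.left :=
    (IsPullback.of_hasPullback m v).map (Over.forget S)
  haveI : Etale (pullback.snd m v).left := MorphismProperty.of_isPullback (P := @Etale) sq hm
  obtain ⟨σ, ⟨h₁, h₂⟩, -⟩ := EtTopInv.existsUnique_extend (pullback.snd m v).left cB.left
    (pullback.lift k cB hk).left (by rw [← Over.comp_left, pullback.lift_snd])
  let σO : B ⟶ pullback m v := CategoryTheory.Over.homMk σ (by
    rw [← Over.w (pullback.snd m v), ← Category.assoc, h₁, Category.id_comp])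
  have hσ : σO ≫ pullback.snd m v = 𝟙 B := Over.OverMorphism.ext h₁
  have hσ' : cB ≫ σO = pullback.lift k cB hk := Over.OverMorphism.ext h₂
  refine ⟨σO ≫ pullback.fst m v, ?_, ?_⟩
  · rw [Category.assoc, pullback.condition, ← Category.assoc, hσ, Category.id_comp]
  · rw [← Category.assoc, hσ', pullback.lift_fst]

/-- maps into etale spaces extend along universal homeomorphisms -/
theorem exists_extend {P G : Sp S} (hP : IsAlgSpace P) (hG : IsAlgSpace G) {π : P ⟶ G} (hπ : IsEtaleMor π)
    {Z T : Over S} (c : Z ⟶ T) (hc : IsUH c) (g : (yon S).obj T ⟶ G) (k : (yon S).obj Z ⟶ P)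
    (hk : k ≫ π = (yon S).map c ≫ g) : ∃ τ : (yon S).obj T ⟶ P, τ ≫ π = g ∧ (yon S).map c ≫ τ = k := by
  have hQ : IsAlgSpace (pullback π g) := isAlgSpace_pullback hP (IsAlgSpace.yon_obj T) hG π g
  have hq₂ : IsEtaleMor (pullback.snd π g) :=
    isEtaleMor_of_isPullback (IsPullback.of_hasPullback π g) hP hG (IsAlgSpace.yon_obj T) hπ
  obtain ⟨A, a, ha, has⟩ := hQ.atlas
  obtain ⟨m, hm⟩ := (yon S).map_surjective (a ≫ pullback.snd π g)
  have hme : Etale m.left := (repWith_yon_map_iff _ _).1 (hm ▸ hq₂ a ha)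
  let k' : (yon S).obj Z ⟶ pullback π g := pullback.lift k ((yon S).map c) hk
  let Ak := ha.rep.pullback k'
  let pZ : Ak ⟶ Z := ha.rep.snd k'
  let qA : Ak ⟶ A := ha.rep.fst' k'
  have sqA : IsPullback ((yon S).map qA) ((yon S).map pZ) a k' := ha.rep.isPullback' k'
  have hpe : Etale pZ.left := ha.property _ _ _ sqA
  have hps : Surjective pZ.left := has.property _ _ _ sqA
  have hqm : qA ≫ m = pZ ≫ c := (yon S).map_injective (by
    rw [Functor.map_comp, hm, ← Category.assoc, sqA.w, Category.assoc, Functor.map_comp, pullback.lift_snd])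
  obtain ⟨B, v, cB, hve, sqB, sqB0, hcB⟩ := exists_etale_ext c hc pZ hpe
  haveI := hc.surj
  have hvs : Surjective v.left := by
    have : Surjective (cB.left ≫ v.left) := by rw [sqB0.w]; infer_instance
    exact Surjective.of_comp cB.left v.left
  obtain ⟨φ, hφm, hφc⟩ := exists_extend_sch m hme v cB hcB qA (hqm.trans sqB.w.symm)
  let τ₀ : (yon S).obj B ⟶ P := (yon S).map φ ≫ a ≫ pullback.fst π g
  have hτ₀ : τ₀ ≫ π = (yon S).map v ≫ g := by
    simp only [τ₀, Category.assoc, pullback.condition]
    rw [← hφm, Functor.map_comp, hm, Category.assoc, Category.assoc]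
  have hτ₀c : (yon S).map cB ≫ τ₀ = (yon S).map pZ ≫ k := by
    simp only [τ₀]
    rw [← Functor.map_comp_assoc, hφc, ← Category.assoc, sqA.w, Category.assoc, pullback.lift_fst]
  have sqR : IsPullback ((yon S).map (pullback.fst v v)) ((yon S).map (pullback.snd v v)) ((yon S).map v)
      ((yon S).map v) := (IsPullback.of_hasPullback v v).map (yon S)
  let r := pullback.fst v v ≫ v
  have sqr : IsPullback (pullback.fst r c).left (pullback.snd r c).left r.left c.left :=
    (IsPullback.of_hasPullback r c).map (Over.forget S)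
  have aux : ∀ (u : pullback r c ⟶ Ak) (w : pullback r c ⟶ B), u ≫ cB = w → u ≫ pZ = pullback.snd r c →
      (yon S).map w ≫ τ₀ = (yon S).map (pullback.snd r c) ≫ k := by
    intro u w hu hu'
    rw [← hu, ← hu', Functor.map_comp, Functor.map_comp, Category.assoc, Category.assoc, hτ₀c]
  have hagree : (yon S).map (pullback.fst v v) ≫ τ₀ = (yon S).map (pullback.snd v v) ≫ τ₀ := by
    refine hom_ext_of_surjective hP hG hπ (pullback.fst r c)
      (MorphismProperty.of_isPullback (P := @Surjective) sqr.flip hc.surj) ?_ ?_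
    · rw [Category.assoc, hτ₀, Category.assoc, hτ₀, ← Category.assoc, ← Category.assoc, sqR.w]
    · obtain ⟨u₁, h₁, h₁'⟩ := sqB.exists_lift (pullback.fst r c ≫ pullback.fst v v) (pullback.snd r c)
        (by rw [Category.assoc]; exact pullback.condition)
      obtain ⟨u₂, h₂, h₂'⟩ := sqB.exists_lift (pullback.fst r c ≫ pullback.snd v v) (pullback.snd r c)
        (by rw [Category.assoc, ← pullback.condition (f := v) (g := v)]; exact pullback.condition)
      rw [← Functor.map_comp_assoc, ← Functor.map_comp_assoc]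
      exact (aux _ _ h₁ h₁').trans (aux _ _ h₂ h₂').symm
  have hve' : RepWith @Etale ((yon S).map v) := (repWith_yon_map_iff _ _).2 hve
  have hvs' : RepWith @Surjective ((yon S).map v) := (repWith_yon_map_iff _ _).2 hvs
  obtain ⟨τ, hτ⟩ := Cofork.IsColimit.desc' (isColimitOfAtlas hve' hvs' sqR) τ₀ hagree
  haveI : Epi ((yon S).map v) := AlgSpLib.epi_of_etale_surjective hve' hvs'
  have hτ' : (yon S).map v ≫ τ = τ₀ := hτ
  haveI : Epi ((yon S).map pZ) := AlgSpLib.epi_of_etale_surjective ((repWith_yon_map_iff _ _).2 hpe)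
    ((repWith_yon_map_iff _ _).2 hps)
  refine ⟨τ, ?_, ?_⟩
  · rw [← cancel_epi ((yon S).map v), ← Category.assoc, hτ', hτ₀]
  · rw [← cancel_epi ((yon S).map pZ), ← Functor.map_comp_assoc, ← sqB.w, Functor.map_comp, Category.assoc, hτ',
      hτ₀c]

end Groth.Agent.AlgSpDec.UHEquiv
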