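import Groth.Agent.AlgSpLib.ThickTop
import Groth.Agent.AlgSpDec.OpenGlue
import Groth.Agent.AlgSpDec.UHDescend
import Groth.Agent.AlgSpDec.AffineProps
import Groth.Agent.AlgSpPts.Univ
import Groth.Agent.ChevSp.Geo

/-!
# A space receiving a universal homeomorphism from a scheme is a scheme
-/

set_option backward.isDefEq.respectTransparency false
set_option backward.isDefEq.respectTransparency.types false

universe u

open CategoryTheory CategoryTheory.Limits AlgebraicGeometry Opposite AlgSp Topology
open Groth.Agent.AlgSpLib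

namespace Groth.Agent.AlgSpDec.UHScheme

variable {S : Scheme.{u}}

/-- An integral, universally injective surjection is a homeomorphism on points. -/
theorem isHomeomorph_map {X X' : Sp S} {i : X ⟶ X'} (hi : RepWith @IsIntegralHom i)
    (hu : RepWith @UniversallyInjective i) (hs : RepWith @Surjective i) : IsHomeomorph (Points.map i) := by
  have hc := AlgSpPts.isClosedMap_map
    (repWith_mono (fun _ _ e (_ : IsIntegralHom e) => inferInstanceAs (UniversallyClosed e)) _ hi)
  have hb : Function.Bijective (Points.map i) :=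
    ⟨AlgSpPts.injective_map (repWith_mono (fun _ _ e (_ : UniversallyInjective e) => e.injective) _ hu),
      surjective_map_of_repWith hs⟩
  refine ⟨Points.continuous_map i, fun A hA => ?_, hb⟩
  rw [← isClosed_compl_iff, ← Set.image_compl_eq hb]
  exact hc _ hA.isClosed_compl

/-- Open subspaces of the source come from open subspaces of the target of a homeomorphism. -/
theorem exists_open_of_homeomorph {X X' U : Sp S} (hX : IsAlgSpace X) (hX' : IsAlgSpace X') (hU : IsAlgSpace U)
    {i : X ⟶ X'} (h : IsHomeomorph (Points.map i)) {u : U ⟶ X} (hu : RepWith @IsOpenImmersion u) :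
    ∃ (U' : Sp S) (u' : U' ⟶ X') (k : U ⟶ U'), IsAlgSpace U' ∧
      RepWith @IsOpenImmersion u' ∧ IsPullback u k i u' := by
  have hWo : IsOpen (Set.range (Points.map u)) :=
    (AlgSpPts.isOpenMap_map (repWith_mono (fun _ _ e (_ : IsOpenImmersion e) =>
      inferInstanceAs (UniversallyOpen e)) _ hu)).isOpen_range
  obtain ⟨U', u', hU', hu', hr⟩ := AlgSpPts.exists_open_subspace hX' (h.isOpenMap _ hWo)
  obtain ⟨k, hk⟩ := exists_lift_openImmersion hU hU' hX' hu' (u ≫ i) (by
    rintro _ ⟨z, rfl⟩
    rw [hr, Points.map_comp]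
    exact ⟨_, ⟨z, rfl⟩, rfl⟩)
  refine ⟨U', u', k, hU', hu', ?_⟩
  have hp : RepWith @IsOpenImmersion (pullback.fst i u') := repWith_fst i hu'
  have hP : IsAlgSpace (pullback i u') := isAlgSpace_pullback hX hU' hX' i u'
  have := AlgSpDec.mono_of_openImmersion hp
  have := AlgSpDec.mono_of_openImmersion hu
  obtain ⟨l, hl⟩ := exists_lift_openImmersion hP hU hX hu (pullback.fst i u') (by
    rw [range_map_snd_of_isPullback (IsPullback.of_hasPullback i u').flip, hr,
      Set.preimage_image_eq _ h.bijective.1])
  let l' : U ⟶ pullback i u' := pullback.lift u k hk.symm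
  have h1 : l' ≫ pullback.fst i u' = u := pullback.lift_fst _ _ _
  let e : pullback i u' ≅ U := ⟨l, l',
    by rw [← cancel_mono (pullback.fst i u'), Category.assoc, h1, hl, Category.id_comp],
    by rw [← cancel_mono u, Category.assoc, hl, h1, Category.id_comp]⟩
  refine (IsPullback.of_hasPullback i u').of_iso e (Iso.refl _) (Iso.refl _) (Iso.refl _) ?_ ?_ (by simp) (by simp)
  · rw [Iso.refl_hom, Category.comp_id]; exact hl.symm
  · rw [Iso.refl_hom, Category.comp_id]
    have := AlgSpDec.mono_of_openImmersion hu'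
    rw [← cancel_mono u', Category.assoc, hk, ← pullback.condition, ← Category.assoc, hl]

/-- A space receiving a universal homeomorphism from a scheme is a scheme. -/
theorem exists_scheme {X X' : Sp S} (hX : IsAlgSpace X) (hX' : IsAlgSpace X') {i : X ⟶ X'}
    (hi : RepWith @IsIntegralHom i) (hu : RepWith @UniversallyInjective i) (hs : RepWith @Surjective i)
    {T : Over S} (e : (yon S).obj T ≅ X) : ∃ Q : Over S, Nonempty ((yon S).obj Q ≅ X') := by
  have h := isHomeomorph_map hi hu hs
  let TV : T.left.affineOpens → Over S := fun V => Over.mk (V.1.ι ≫ T.hom)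
  let inc : ∀ V, TV V ⟶ T := fun V => CategoryTheory.Over.homMk V.1.ι rfl
  have huV : ∀ V, RepWith @IsOpenImmersion ((yon S).map (inc V) ≫ e.hom) := fun V =>
    (MorphismProperty.cancel_right_of_respectsIso (RepWith @IsOpenImmersion) _ e.hom).2
      ((repWith_yon_map_iff _ _).2 (inferInstanceAs (IsOpenImmersion V.1.ι)))
  choose U' u' k hU' hu' sq using fun V => exists_open_of_homeomorph hX hX' (IsAlgSpace.yon_obj (TV V)) h (huV V)
  have hA : ∀ V, ∃ Q : Over S, Nonempty ((yon S).obj Q ≅ U' V) := fun V => by
    have : IsAffine (TV V).left := V.2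
    have huc : IsUnivClosedMor (k V) := isUnivClosedMor_of_repWith_universallyClosed
      (repWith_mono (fun _ _ e (_ : IsIntegralHom e) => inferInstanceAs (UniversallyClosed e)) _
        (repWith_of_isPullback (sq V) hi))
    obtain ⟨Q, -, hQ⟩ := ChevSp.exists_affine_of_univClosed (hU' V) (k V) huc
      (surjective_map_of_repWith (repWith_of_isPullback (sq V) hs))
    exact ⟨Q, hQ⟩
  choose Q hQ using hA
  have eQ : ∀ V, (yon S).obj (Q V) ≅ U' V := fun V => (hQ V).some
  let j : ∀ V, (yon S).obj (Q V) ⟶ X' := fun V => (eQ V).hom ≫ u' V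
  have hj : ∀ V, RepWith @IsOpenImmersion (j V) := fun V =>
    (MorphismProperty.cancel_left_of_respectsIso (RepWith @IsOpenImmersion) (eQ V).hom (u' V)).2 (hu' V)
  have hc : ∀ x, ∃ V v, Points.ofPt (j V) v = x := by
    intro x
    obtain ⟨z, rfl⟩ := h.bijective.2 x
    obtain ⟨τ, hτ⟩ := (Points.schemeHomeo T).surjective (Points.map e.inv z)
    obtain ⟨V, hV, hτV, -⟩ := exists_isAffineOpen_mem_and_subset (U := (⊤ : T.left.Opens)) (x := τ) trivial
    let V' : T.left.affineOpens := ⟨V, hV⟩
    obtain ⟨v, hv⟩ := (Points.schemeHomeo (Q V')).surjective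
      (Points.map (eQ V').inv (Points.map (k V') (Points.ofScheme (TV V') ⟨τ, hτV⟩)))
    refine ⟨V', v, ?_⟩
    rw [Points.ofPt_eq_map_ofScheme, show Points.ofScheme (Q V') v = _ from hv, Points.map_comp,
      ← Points.map_comp (eQ V').inv (eQ V').hom, Iso.inv_hom_id, Points.map_id, ← Points.map_comp,
      ← (sq V').w, Points.map_comp, Points.map_comp]
    congr 1
    erw [Points.map_yon_map_apply]
    show Points.map e.hom (Points.schemeHomeo T τ) = z
    rw [hτ, ← Points.map_comp, Iso.inv_hom_id, Points.map_id]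
  obtain ⟨W, hW, -⟩ := AlgSpDec.exists_iso_of_open_cover Q j hj hc
  exact ⟨W, hW⟩

/-- Schemes etale over the source of a universal homeomorphism are base changes. -/
theorem bc_essSurj {X Y : Sp S} (hX : IsAlgSpace X) (hY : IsAlgSpace Y) {f : X ⟶ Y} (hf : Representable f)
    (hi : RepWith @IsIntegralHom f) (hu : RepWith @UniversallyInjective f) (hs : RepWith @Surjective f) :
    (EtOver.bc hf).EssSurj where
  mem_essImage E := by
    have hV : IsAlgSpace ((yon S).obj E.obj.left) := IsAlgSpace.yon_obj _
    obtain ⟨V', hV', b', c, hb', sq⟩ := UHEquiv.exists_descend hX hY hV hi hu hs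
      (AlgSpLib.isEtaleMor_of_repWith E.property)
    obtain ⟨Q, ⟨eQ⟩⟩ := exists_scheme hV hV' (repWith_of_isPullback sq hi) (repWith_of_isPullback sq hu)
      (repWith_of_isPullback sq hs) (Iso.refl _)
    let E' : EtOver Y := EtOver.mk (eQ.hom ≫ b') (hb' eQ.hom (repWith_of_isIso _ _))
    have sq' : IsPullback E.obj.hom (c ≫ eQ.inv) f (eQ.hom ≫ b') :=
      sq.of_iso (Iso.refl _) (Iso.refl _) eQ.symm (Iso.refl _) (by simp) (by simp) (by simp) (by simp)
    let e := (hf.isPullback (eQ.hom ≫ b')).isoIsPullback _ _ sq'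
    refine ⟨E', ⟨(ObjectProperty.fullyFaithfulι _).preimageIso
      (CostructuredArrow.isoMk ((yon S).preimageIso e) ?_)⟩⟩
    change (yon S).map _ ≫ E.obj.hom = hf.fst (eQ.hom ≫ b')
    rw [Functor.preimageIso_hom, Functor.map_preimage]
    exact IsPullback.isoIsPullback_hom_fst _ _ _ _

/-- A scheme is affine as soon as its image under an integral universally injective surjection is. -/
theorem isAffine_of_univClosed {T Z : Over S} [IsAffine T.left] (g : T ⟶ Z) (hi : IsIntegralHom g.left)
    (hs : Surjective g.left) : IsAffine Z.left := by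
  have hi' : RepWith @IsIntegralHom ((yon S).map g) := (repWith_yon_map_iff _ _).2 hi
  obtain ⟨Q, hQ, ⟨e⟩⟩ := ChevSp.exists_affine_of_univClosed (IsAlgSpace.yon_obj Z) ((yon S).map g)
    (isUnivClosedMor_of_repWith_universallyClosed
      (repWith_mono (fun _ _ e (_ : IsIntegralHom e) => inferInstanceAs (UniversallyClosed e)) _ hi'))
    (surjective_map_of_repWith ((repWith_yon_map_iff _ _).2 hs))
  have : IsIso ((yon S).preimageIso e).inv.left :=
    ((Over.forget S).mapIso ((yon S).preimageIso e)).isIso_inv
  exact IsAffine.of_isIso ((yon S).preimageIso e).inv.left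

end Groth.Agent.AlgSpDec.UHScheme
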