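import Groth.Agent.AlgSpDec.EtSite
import Groth.Prelude.Def_AlgSpModX
import Mathlib.RingTheory.Ideal.MinimalPrime.Basic
import Mathlib.CategoryTheory.Sites.Whiskering

/-!
# A module without weakly associated points is zero
-/

set_option backward.isDefEq.respectTransparency false
set_option backward.isDefEq.respectTransparency.types false

universe u

open CategoryTheory CategoryTheory.Limits AlgebraicGeometry Opposite AlgSp

namespace Groth.Agent.AlgSpDec.WeakAssEmpty

variable {S : Scheme.{u}} {X : Sp S}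

theorem primeAtPt_eq (U : Scheme.{u}) (u : U) :
    primeAtPt U u = (U.toSpecΓ u : PrimeSpectrum Γ(U, ⊤)).asIdeal := rfl

/-- Every prime of the functions on an affine scheme comes from a point. -/
theorem exists_primeAtPt_eq {U : Scheme.{u}} [IsAffine U] (p : Ideal Γ(U, ⊤)) [hp : p.IsPrime] :
    ∃ u : U, primeAtPt U u = p := by
  obtain ⟨u, hu⟩ := U.isoSpec.hom.homeomorph.surjective (⟨p, hp⟩ : PrimeSpectrum Γ(U, ⊤))
  exact ⟨u, by rw [primeAtPt_eq]; exact congrArg PrimeSpectrum.asIdeal hu⟩

variable {M : ModEt X}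

theorem eq_zero_of_affine (h : WeakAssEt M = ∅) (E : EtOver X) [IsAffine E.obj.left.left] (s : sectModEt M E) :
    s = 0 := by
  by_contra hs
  have h1 : annSect s ≠ ⊤ := by
    rw [Ideal.ne_top_iff_one, mem_annSect_iff]
    simpa using hs
  obtain ⟨m, hm, hle⟩ := Ideal.exists_le_maximal _ h1
  obtain ⟨p, hp, -⟩ := Ideal.exists_minimalPrimes_le hle
  have := hp.1.1
  obtain ⟨u, hu⟩ := exists_primeAtPt_eq p
  have : Points.ofPt E.obj.hom u ∈ WeakAssEt M := ⟨E, inferInstance, u, rfl, s, hu ▸ hp⟩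
  rw [h] at this
  exact this

theorem eq_zero (h : WeakAssEt M = ∅) (E : EtOver X) (s : sectModEt M E) : s = 0 := by
  choose W hW hxW _ using fun x : ↥E.obj.left.left => exists_isAffineOpen_mem_and_subset
    (U := (⊤ : E.obj.left.left.Opens)) (x := x) trivial
  have hR := ofArrows_mem_etTop (fun x => etOpen E (W x)) (fun x => etOpenι E (W x))
    (fun x => ⟨x, by rw [range_etOpenι]; exact hxW x⟩)
  have hM := ((isSheaf_iff_isSheaf_of_type _ _).1
    ((sheafCompose (etTop X) (CategoryTheory.forget AddCommGrpCat.{u + 1})).obj ⟨M.val.presheaf, M.isSheaf⟩).property _ hR).isSeparatedFor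
  refine hM.ext ?_
  intro Y f hf
  obtain ⟨_, g, _, ⟨x⟩, rfl⟩ := hf
  have : IsAffine (etOpen E (W x)).obj.left.left := hW x
  rw [op_comp, Functor.map_comp_apply, Functor.map_comp_apply]
  congr 1
  exact (eq_zero_of_affine h (etOpen E (W x)) (M.val.presheaf.map (etOpenι E (W x)).op s)).trans
    (eq_zero_of_affine h (etOpen E (W x)) (M.val.presheaf.map (etOpenι E (W x)).op (0 : sectModEt M E))).symm

theorem isZero_of_empty (h : WeakAssEt M = ∅) : IsZero M := by
  rw [IsZero.iff_id_eq_zero]
  ext E s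
  exact (eq_zero h E.unop s).trans (eq_zero h E.unop _).symm

theorem empty_of_isZero (h : IsZero M) : WeakAssEt M = ∅ := by
  rw [Set.eq_empty_iff_forall_notMem]
  rintro x ⟨E, hE, u, -, s, hs⟩
  have hs0 : s = 0 := by
    exact congrArg (fun φ : M ⟶ M => φ.val.app (op E) s) ((IsZero.iff_id_eq_zero M).1 h)
  have e : annSect s = ⊤ := by
    rw [Ideal.eq_top_iff_one, mem_annSect_iff, hs0, smul_zero]
  rw [e] at hs
  exact (isPrime_primeAtPt _ u).ne_top (top_le_iff.1 hs.1.2)

end Groth.Agent.AlgSpDec.WeakAssEmpty
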